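import Mathlib
import Cfsg.Agent.Lib.NormalAbelian

/-!
Finite 2-groups in which every normal abelian subgroup is cyclic: they have a cyclic subgroup of
index at most 2.
-/

set_option autoImplicit false

namespace Cfsg.Agent.Classification.NormalCyclic

/-- Powers of an integer congruent to `1` modulo `4`. -/
theorem pow_two_pow_eq (s : ℕ) (hs : 2 ≤ s) (u : ℤ) (hu : Odd u) (t : ℕ) :
    ∃ u' : ℤ, Odd u' ∧ (1 + 2 ^ s * u) ^ (2 ^ t) = 1 + 2 ^ (s + t) * u' := by
  induction t with
  | zero => exact ⟨u, hu, by simp⟩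
  | succ t ih =>
    obtain ⟨u', hu', h⟩ := ih
    obtain ⟨s', rfl⟩ : ∃ s', s = s' + 2 := ⟨s - 2, by omega⟩
    refine ⟨u' + 2 ^ (s' + t + 1) * u' ^ 2, ?_, ?_⟩
    · refine hu'.add_even ?_
      refine Even.mul_right ?_ _
      exact (even_two).pow_of_ne_zero (by omega)
    · rw [pow_succ 2 t, pow_mul (1 + 2 ^ (s' + 2) * u), h]
      ring

/-- If `h ≡ 1 mod 4` and `h ≢ 1 mod 2^k` then some power of `h` is `1 + 2^(k-1) * odd`. -/
theorem exists_pow_eq (k : ℕ) (h : ℤ) (h4 : (4 : ℤ) ∣ h - 1) (hk : ¬ ((2 ^ k : ℤ) ∣ h - 1)) :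
    3 ≤ k ∧ ∃ m : ℕ, ∃ u : ℤ, Odd u ∧ h ^ m = 1 + 2 ^ (k - 1) * u := by
  have hne : h - 1 ≠ 0 := by
    intro h0; rw [h0] at hk; exact hk (dvd_zero _)
  obtain ⟨s, u, hu, hsu⟩ : ∃ (s : ℕ) (u : ℤ), Odd u ∧ h - 1 = 2 ^ s * u := by
    obtain ⟨u, hs, hu⟩ := FiniteMultiplicity.exists_eq_pow_mul_and_not_dvd
      (a := (2 : ℤ)) (b := h - 1)
      (by rw [Int.finiteMultiplicity_iff]; exact ⟨by decide, hne⟩)
    refine ⟨_, u, ?_, hs⟩
    exact Int.not_even_iff_odd.mp (fun he => hu he.two_dvd)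
  have hs2 : 2 ≤ s := by
    by_contra hlt
    rw [hsu] at h4
    obtain ⟨v, hv⟩ := hu
    have : s = 0 ∨ s = 1 := by omega
    rcases this with rfl | rfl
    · simp at h4; omega
    · simp at h4; omega
  have hsk : s < k := by
    by_contra hle
    apply hk
    rw [hsu]
    exact Dvd.dvd.mul_right (pow_dvd_pow 2 (by omega)) u
  refine ⟨by omega, ?_⟩
  obtain ⟨u', hu', hpow⟩ := pow_two_pow_eq s hs2 u hu (k - 1 - s)
  refine ⟨2 ^ (k - 1 - s), u', hu', ?_⟩
  have : h = 1 + 2 ^ s * u := by linarith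
  rw [this, hpow]
  congr 3
  omega

variable {P : Type*} [Group P] [Finite P]

/-- Core configuration: `g` acts on the cyclic self-centralizing normal subgroup `⟨a⟩` of order
`2^k`, `k ≥ 3`, as `a ↦ a * a^(2^(k-1))`. Then there is a noncyclic abelian normal subgroup. -/
theorem exists_klein_of_modular (k : ℕ) (hk : 3 ≤ k) (a g : P) (ha : orderOf a = 2 ^ k)
    (hnorm : (Subgroup.zpowers a).Normal)
    (hcen : ∀ x : P, x * a = a * x → x ∈ Subgroup.zpowers a)
    (hg : g * a * g⁻¹ = a * a ^ (2 ^ (k - 1))) :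
    ∃ W : Subgroup P, W.Normal ∧ IsMulCommutative W ∧ ¬ IsCyclic W := by
  set z := a ^ (2 ^ (k - 1)) with hz
  have hk1 : 2 ^ k = 2 * 2 ^ (k - 1) := by
    rw [← pow_succ']; congr 1; omega
  have hk2 : 2 ^ (k - 1) = 2 * 2 ^ (k - 2) := by
    rw [← pow_succ']; congr 1; omega
  have hk3 : 2 ^ (k - 2) = 2 * 2 ^ (k - 3) := by
    rw [← pow_succ']; congr 1; omega
  have ha1 : a ^ (2 ^ k) = 1 := ha ▸ pow_orderOf_eq_one a
  have hz2 : z * z = 1 := by
    rw [hz, ← pow_add, ← two_mul, ← hk1, ha1]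
  have hz1 : z ≠ 1 := by
    intro h
    have := orderOf_dvd_of_pow_eq_one h
    rw [ha] at this
    have h2 := Nat.le_of_dvd (by positivity) this
    have : 2 ^ (k - 1) < 2 ^ k := by rw [hk1]; have : 0 < 2 ^ (k - 1) := by positivity
                                     omega
    omega
  -- powers of a conj
  have hodd : ∀ x : P, ∃ r : ℤ, Odd r ∧ x * a * x⁻¹ = a ^ r := by
    intro x
    obtain ⟨r, hr⟩ := Subgroup.mem_zpowers_iff.mp (hnorm.conj_mem a (Subgroup.mem_zpowers a) x)
    refine ⟨r, ?_, hr.symm⟩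
    by_contra hne
    rw [Int.not_odd_iff_even] at hne
    obtain ⟨t, rfl⟩ := hne
    have h1 : (x * a * x⁻¹) ^ (2 ^ (k - 1)) = 1 := by
      rw [← hr, ← zpow_natCast, ← zpow_mul]
      have : (t + t) * ((2 ^ (k - 1) : ℕ) : ℤ) = ((2 ^ k : ℕ) : ℤ) * t := by
        rw [hk1]; push_cast; ring
      rw [this, zpow_mul, zpow_natCast, ha1, one_zpow]
    rw [conj_pow] at h1
    have h2 : a ^ (2 ^ (k - 1)) = 1 := by
      have := congrArg (fun y => x⁻¹ * y * x) h1
      simpa [mul_assoc] using this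
    exact hz1 h2
  have hzz : ∀ r : ℤ, Odd r → z ^ r = z := by
    rintro r ⟨t, rfl⟩
    rw [zpow_add, zpow_mul, zpow_one]
    have : z ^ (2 : ℤ) = 1 := by
      rw [zpow_two]; exact hz2
    rw [this, one_zpow, one_mul]
  have hzz0 : ∀ r : ℤ, Even r → z ^ r = 1 := by
    rintro r ⟨t, rfl⟩
    rw [← two_mul, zpow_mul]
    have : z ^ (2 : ℤ) = 1 := by
      rw [zpow_two]; exact hz2
    rw [this, one_zpow]
  have hzcen : ∀ x : P, x * z * x⁻¹ = z := by
    intro x
    obtain ⟨r, hr, h⟩ := hodd x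
    rw [hz, ← conj_pow, h, ← zpow_natCast, ← zpow_mul, mul_comm, zpow_mul, zpow_natCast, ← hz]
    exact hzz r hr
  have hzc : ∀ x : P, x * z = z * x := by
    intro x
    have := hzcen x
    exact mul_inv_eq_iff_eq_mul.mp this
  have haz : a * z = z * a := hzc a
  -- elements acting like g
  have act : ∀ y : P, y * a * y⁻¹ = a * z → ∀ i : ℤ, y * a ^ i * y⁻¹ = a ^ i * z ^ i := by
    intro y hy i
    rw [← conj_zpow, hy, (show Commute a z from haz).mul_zpow]
  -- relation a^(2l) = z^l forces a^l in {1,z}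
  have key : ∀ l : ℤ, a ^ (2 * l) * z ^ l = 1 → a ^ l = 1 ∨ a ^ l = z := by
    intro l hl
    have h1 : a ^ (2 * l + (2 ^ (k - 1) : ℕ) * l) = 1 := by
      rw [zpow_add, zpow_mul a ((2 ^ (k - 1) : ℕ) : ℤ) l, zpow_natCast, ← hz]
      exact hl
    rw [← orderOf_dvd_iff_zpow_eq_one, ha] at h1
    -- 2^k ∣ 2 * l * (1 + 2^(k-2))
    have h2 : (2 * l + ((2 ^ (k - 1) : ℕ) : ℤ) * l) = 2 * (l * (1 + 2 * ((2 ^ (k - 3) : ℕ) : ℤ))) := by
      rw [hk2, hk3]; push_cast; ring
    rw [h2, hk1] at h1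
    push_cast at h1
    have h3 : (2 ^ (k - 1) : ℤ) ∣ l * (1 + 2 * 2 ^ (k - 3)) := by
      exact (mul_dvd_mul_iff_left (by norm_num : (2 : ℤ) ≠ 0)).mp h1
    have h4 : IsCoprime (2 ^ (k - 1) : ℤ) (1 + 2 * 2 ^ (k - 3)) := by
      apply IsCoprime.pow_left
      exact ⟨-(2 ^ (k - 3)), 1, by ring⟩
    obtain ⟨m, hm⟩ := h4.dvd_of_dvd_mul_right h3
    have h5 : a ^ l = z ^ m := by
      rw [hm, zpow_mul, hz]
      congr 1
      have : ((2 : ℤ) ^ (k - 1)) = ((2 ^ (k - 1) : ℕ) : ℤ) := by push_cast; rfl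
      rw [this, zpow_natCast]
    rcases Int.even_or_odd m with he | ho
    · left; rw [h5, hzz0 m he]
    · right; rw [h5, hzz m ho]
  -- g² is a power of a
  have hg2 : (g * g) * a = a * (g * g) := by
    have h1 : g * a = a * z * g := by
      rw [← hg]; group
    calc (g * g) * a = g * (g * a) := by group
      _ = g * (a * z * g) := by rw [h1]
      _ = (g * a) * z * g := by group
      _ = a * z * g * z * g := by rw [h1]
      _ = a * z * (g * z) * g := by group
      _ = a * z * (z * g) * g := by rw [hzc g]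
      _ = a * (z * z) * (g * g) := by group
      _ = a * (g * g) := by rw [hz2, mul_one]
  obtain ⟨j, hj⟩ := Subgroup.mem_zpowers_iff.mp (hcen _ hg2)
  -- z^j = 1
  have hzj : z ^ j = 1 := by
    have h1 := act g hg j
    have h2 : g * a ^ j * g⁻¹ = a ^ j := by
      rw [hj]; group
    rw [h2] at h1
    have h3 : a ^ j * 1 = a ^ j * z ^ j := by rw [mul_one]; exact h1
    exact (mul_left_cancel h3).symm
  have hjeven : Even j := by
    by_contra hne
    rw [Int.not_even_iff_odd] at hne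
    rw [hzz j hne] at hzj
    exact hz1 hzj
  obtain ⟨j', hj'⟩ := hjeven
  -- choose i
  obtain ⟨i, hi⟩ : ∃ i : ℤ, (g * a ^ i) * (g * a ^ i) = 1 := by
    have hform : ∀ i : ℤ, (g * a ^ i) * (g * a ^ i) = a ^ (2 * i + j) * z ^ i := by
      intro i
      calc (g * a ^ i) * (g * a ^ i) = (g * a ^ i * g⁻¹) * (g * g) * a ^ i := by group
        _ = (a ^ i * z ^ i) * a ^ j * a ^ i := by rw [act g hg i, hj]
        _ = a ^ i * (z ^ i * a ^ (j + i)) := by rw [zpow_add]; group
        _ = a ^ i * (a ^ (j + i) * z ^ i) := by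
            rw [((show Commute z a from haz.symm).zpow_zpow i (j + i)).eq]
        _ = a ^ (2 * i + j) * z ^ i := by
            rw [← mul_assoc, ← zpow_add]; congr 2; ring
    rcases Int.even_or_odd j' with he | ho
    · refine ⟨-j', ?_⟩
      rw [hform, hzz0 _ he.neg, mul_one]
      have : 2 * -j' + j = 0 := by omega
      rw [this, zpow_zero]
    · refine ⟨-j' + (2 ^ (k - 2) : ℕ), ?_⟩
      have hev : Even (((2 ^ (k - 2) : ℕ) : ℤ)) := by
        rw [hk3]; push_cast; exact even_two_mul _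
      rw [hform, hzz _ (ho.neg.add_even hev)]
      have : 2 * (-j' + ((2 ^ (k - 2) : ℕ) : ℤ)) + j = ((2 ^ (k - 1) : ℕ) : ℤ) := by
        rw [hk2]; push_cast; omega
      rw [this, zpow_natCast, ← hz, hz2]
  set w := g * a ^ i with hw
  have hwa : w * a * w⁻¹ = a * z := by
    rw [hw]
    calc g * a ^ i * a * (g * a ^ i)⁻¹ = g * a * g⁻¹ := by group
      _ = a * z := hg
  have hwz : w * z = z * w := hzc w
  have hw1 : w ≠ 1 := by
    intro h
    rw [h] at hwa
    simp at hwa
    exact hz1 hwa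
  have hwzne : w ≠ z := by
    intro h
    rw [h] at hwa
    have : z * a * z⁻¹ = a := by rw [← haz]; group
    rw [this] at hwa
    have h3 : a * 1 = a * z := by rw [mul_one]; exact hwa
    exact hz1 (mul_left_cancel h3).symm
  -- conjugates of w
  have hconj : ∀ x : P, x * w * x⁻¹ = w ∨ x * w * x⁻¹ = z * w := by
    intro x
    set y := x * w * x⁻¹ with hy
    have hyy : y * y = 1 := by
      rw [hy]
      calc x * w * x⁻¹ * (x * w * x⁻¹) = x * (w * w) * x⁻¹ := by group
        _ = 1 := by rw [hi]; group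
    have hya : y * a * y⁻¹ = a * z := by
      obtain ⟨r, hr, hxr⟩ := hodd x⁻¹
      rw [inv_inv] at hxr
      have h1 : x * a ^ r * x⁻¹ = a := by
        rw [← hxr]; group
      rw [hy]
      calc x * w * x⁻¹ * a * (x * w * x⁻¹)⁻¹ = x * (w * (x⁻¹ * a * x) * w⁻¹) * x⁻¹ := by group
        _ = x * (a ^ r * z ^ r) * x⁻¹ := by rw [hxr, act w hwa r]
        _ = (x * a ^ r * x⁻¹) * (x * z ^ r * x⁻¹) := by group
        _ = a * z := by rw [h1, hzz r hr, hzcen x]
    -- y * w⁻¹ centralizes a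
    have hyw : (y * w⁻¹) * a = a * (y * w⁻¹) := by
      have hw' : w⁻¹ * (a * z) * w = a := by rw [← hwa]; group
      have hw3 : w⁻¹ * a * w = a * z := by
        have h6 : w⁻¹ * (a * z) * w = (w⁻¹ * a * w) * (w⁻¹ * z * w) := by group
        have h7 : w⁻¹ * z * w = z := by
          have := hzcen w⁻¹
          rwa [inv_inv] at this
        rw [h7, hw'] at h6
        calc w⁻¹ * a * w = (w⁻¹ * a * w) * (z * z) := by rw [hz2, mul_one]
          _ = ((w⁻¹ * a * w) * z) * z := by group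
          _ = a * z := by rw [← h6]
      calc (y * w⁻¹) * a = y * (w⁻¹ * a * w) * w⁻¹ := by group
        _ = y * (a * z) * w⁻¹ := by rw [hw3]
        _ = (y * a * y⁻¹) * (y * z * y⁻¹) * y * w⁻¹ := by group
        _ = (a * z) * z * y * w⁻¹ := by rw [hya, hzcen y]
        _ = a * (z * z) * (y * w⁻¹) := by group
        _ = a * (y * w⁻¹) := by rw [hz2, mul_one]
    obtain ⟨l, hl⟩ := Subgroup.mem_zpowers_iff.mp (hcen _ hyw)
    have hyl : y = a ^ l * w := by rw [hl]; group
    have h9 : a ^ (2 * l) * z ^ l = 1 := by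
      have : y * y = a ^ (2 * l) * z ^ l := by
        rw [hyl]
        calc a ^ l * w * (a ^ l * w) = a ^ l * (w * a ^ l * w⁻¹) * (w * w) := by group
          _ = a ^ l * (a ^ l * z ^ l) := by rw [act w hwa l, hi, mul_one]
          _ = a ^ (2 * l) * z ^ l := by rw [← mul_assoc, ← zpow_add]; congr 2; ring
      rw [← this]; exact hyy
    rcases key l h9 with h | h
    · left; rw [hyl, h, one_mul]
    · right; rw [hyl, h]
  -- build W
  have hww : w * w = 1 := hi
  let W : Subgroup P :=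
    { carrier := {x | x = 1 ∨ x = z ∨ x = w ∨ x = z * w}
      one_mem' := Or.inl rfl
      mul_mem' := by
        have e1 : z * (z * w) = w := by rw [← mul_assoc, hz2, one_mul]
        have e2 : w * (z * w) = z := by rw [← hwz, ← mul_assoc, hww, one_mul]
        have e3 : z * w * z = w := by rw [mul_assoc, hwz, e1]
        have e4 : z * w * w = z := by rw [mul_assoc, hww, mul_one]
        have e5 : z * w * (z * w) = 1 := by rw [mul_assoc, e2, hz2]
        rintro x y (rfl | rfl | rfl | rfl) (rfl | rfl | rfl | rfl) <;>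
          simp only [Set.mem_ofPred_eq, one_mul, mul_one, hz2, hww, hwz, e1, e2, e3, e4, e5,
            true_or, or_true]
      inv_mem' := by
        have e0 : z⁻¹ = z := inv_eq_of_mul_eq_one_left hz2
        have e1 : w⁻¹ = w := inv_eq_of_mul_eq_one_left hww
        rintro x (rfl | rfl | rfl | rfl)
        · left; simp
        · right; left; exact e0
        · right; right; left; exact e1
        · right; right; right; rw [mul_inv_rev, e0, e1, hwz] }
  have hWmem : ∀ x, x ∈ W ↔ (x = 1 ∨ x = z ∨ x = w ∨ x = z * w) := fun x => Iff.rfl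
  have hWsq : ∀ x ∈ W, x * x = 1 := by
    intro x hx
    rcases (hWmem x).mp hx with rfl | rfl | rfl | rfl
    · simp
    · exact hz2
    · exact hww
    · calc z * w * (z * w) = z * (w * z) * w := by group
        _ = z * (z * w) * w := by rw [hwz]
        _ = (z * z) * (w * w) := by group
        _ = 1 := by rw [hz2, hww, one_mul]
  refine ⟨W, ⟨?_⟩, ?_, ?_⟩
  · intro x hx y
    rcases (hWmem x).mp hx with rfl | rfl | rfl | rfl
    · simpa using W.one_mem
    · rw [hzcen y]; exact hx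
    · rcases hconj y with h | h
      · rw [h]; exact hx
      · rw [h]; exact (hWmem _).mpr (Or.inr (Or.inr (Or.inr rfl)))
    · have h1 : y * (z * w) * y⁻¹ = z * (y * w * y⁻¹) := by
        calc y * (z * w) * y⁻¹ = (y * z * y⁻¹) * (y * w * y⁻¹) := by group
          _ = z * (y * w * y⁻¹) := by rw [hzcen y]
      rw [h1]
      rcases hconj y with h | h
      · rw [h]; exact hx
      · rw [h, ← mul_assoc, hz2, one_mul]; exact (hWmem _).mpr (Or.inr (Or.inr (Or.inl rfl)))
  · refine IsMulCommutative.of_comm ?_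
    intro x y
    apply Subtype.ext
    show x.1 * y.1 = y.1 * x.1
    have h1 := hWsq _ (W.mul_mem x.2 y.2)
    have hx := hWsq _ x.2
    have hy := hWsq _ y.2
    have hxi : (x.1)⁻¹ = x.1 := inv_eq_of_mul_eq_one_left hx
    have hyi : (y.1)⁻¹ = y.1 := inv_eq_of_mul_eq_one_left hy
    have := inv_eq_of_mul_eq_one_left h1
    rw [mul_inv_rev, hxi, hyi] at this
    exact this.symm
  · intro hcyc
    obtain ⟨c, hc⟩ := hcyc.exists_generator
    have hcc : c * c = 1 := Subtype.ext (hWsq _ c.2)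
    have hall : ∀ x : W, x = 1 ∨ x = c := by
      intro x
      obtain ⟨n, rfl⟩ := Subgroup.mem_zpowers_iff.mp (hc x)
      rcases Int.even_or_odd n with ⟨t, rfl⟩ | ⟨t, rfl⟩
      · left
        rw [← two_mul, zpow_mul, zpow_two, hcc, one_zpow]
      · right
        rw [zpow_add, zpow_mul, zpow_two, hcc, one_zpow, one_mul, zpow_one]
    have hzW : z ∈ W := (hWmem z).mpr (Or.inr (Or.inl rfl))
    have hwW : w ∈ W := (hWmem w).mpr (Or.inr (Or.inr (Or.inl rfl)))
    have e1 : (⟨z, hzW⟩ : W) = c := by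
      rcases hall ⟨z, hzW⟩ with h | h
      · exact absurd (congrArg Subtype.val h) hz1
      · exact h
    have e2 : (⟨w, hwW⟩ : W) = c := by
      rcases hall ⟨w, hwW⟩ with h | h
      · exact absurd (congrArg Subtype.val h) hw1
      · exact h
    have : (⟨w, hwW⟩ : W) = ⟨z, hzW⟩ := e2.trans e1.symm
    exact hwzne (congrArg Subtype.val this)

/-- A finite 2-group all of whose normal abelian subgroups are cyclic is cyclic or has a cyclic
subgroup of index 2 which is self-centralizing. -/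
theorem exists_cyclic_index_two (hP : IsPGroup 2 P)
    (hn : ∀ A : Subgroup P, A.Normal → IsMulCommutative A → IsCyclic A) :
    IsCyclic P ∨ ∃ A : Subgroup P, IsCyclic A ∧ A.index = 2 := by
  have : Group.IsNilpotent P := hP.isNilpotent
  obtain ⟨A, hAn, hAc, hAA⟩ := Cfsg.Agent.Lib.NormalAbelian.exists_normal_abelian_selfCentralizing (G := P)
  have hcyc := hn A hAn hAc
  obtain ⟨⟨a, haA⟩, hgen⟩ := hcyc.exists_generator
  have hAa : A = Subgroup.zpowers a := by
    apply le_antisymm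
    · intro x hx
      obtain ⟨k, hk⟩ := Subgroup.mem_zpowers_iff.1 (hgen ⟨x, hx⟩)
      refine Subgroup.mem_zpowers_iff.2 ⟨k, ?_⟩
      exact congrArg Subtype.val hk
    · exact Subgroup.zpowers_le.2 haA
  obtain ⟨k, hk⟩ := IsPGroup.iff_orderOf.mp hP a
  have hnorm : (Subgroup.zpowers a).Normal := hAa ▸ hAn
  have hcen : ∀ x : P, x * a = a * x → x ∈ Subgroup.zpowers a := by
    intro x hx
    rw [← hAa, ← hAA, Subgroup.mem_centralizer_iff]
    intro y hy
    rw [SetLike.mem_coe, hAa] at hy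
    obtain ⟨n, rfl⟩ := Subgroup.mem_zpowers_iff.mp hy
    exact ((show Commute x a from hx).zpow_right n).symm.eq
  have hact : ∀ x : P, ∃ r : ℤ, x * a * x⁻¹ = a ^ r := by
    intro x
    obtain ⟨r, hr⟩ := Subgroup.mem_zpowers_iff.mp (hnorm.conj_mem a (Subgroup.mem_zpowers a) x)
    exact ⟨r, hr.symm⟩
  by_cases hone : (∀ x : P, x ∈ Subgroup.zpowers a)
  · left
    exact ⟨⟨a, hone⟩⟩
  · push Not at hone
    obtain ⟨b, hb⟩ := hone
    right
    refine ⟨A, hcyc, ?_⟩
    -- every element outside A acts with exponent ≡ 3 mod 4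
    have hk2 : 2 ≤ k := by
      by_contra hlt
      -- a ^ 2 = 1, then a is central
      have ha2 : a * a = 1 := by
        have h1 : a ^ (2 ^ k) = 1 := hk ▸ pow_orderOf_eq_one a
        have : k = 0 ∨ k = 1 := by omega
        rcases this with rfl | rfl
        · simp at h1; rw [h1, one_mul]
        · simpa [sq] using h1
      apply hb
      apply hcen
      obtain ⟨r, hr⟩ := hact b
      rcases Int.even_or_odd r with ⟨t, rfl⟩ | ⟨t, rfl⟩
      · rw [← two_mul, zpow_mul, zpow_two, ha2, one_zpow] at hr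
        have : a = 1 := by
          have := congrArg (fun y => b⁻¹ * y * b) hr
          simpa [mul_assoc] using this
        rw [this]; simp
      · rw [zpow_add, zpow_mul, zpow_two, ha2, one_zpow, one_mul, zpow_one] at hr
        exact mul_inv_eq_iff_eq_mul.mp hr
    have hodd : ∀ x : P, ∀ r : ℤ, x * a * x⁻¹ = a ^ r → Odd r := by
      intro x r hr
      by_contra hne
      rw [Int.not_odd_iff_even] at hne
      obtain ⟨t, rfl⟩ := hne
      have hk1 : 2 ^ k = 2 * 2 ^ (k - 1) := by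
        rw [← pow_succ']; congr 1; omega
      have ha1 : a ^ (2 ^ k) = 1 := hk ▸ pow_orderOf_eq_one a
      have h1 : (x * a * x⁻¹) ^ (2 ^ (k - 1)) = 1 := by
        rw [hr, ← zpow_natCast, ← zpow_mul]
        have : (t + t) * ((2 ^ (k - 1) : ℕ) : ℤ) = ((2 ^ k : ℕ) : ℤ) * t := by
          rw [hk1]; push_cast; ring
        rw [this, zpow_mul, zpow_natCast, ha1, one_zpow]
      rw [conj_pow] at h1
      have h2 : a ^ (2 ^ (k - 1)) = 1 := by
        have := congrArg (fun y => x⁻¹ * y * x) h1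
        simpa [mul_assoc] using this
      have := orderOf_dvd_of_pow_eq_one h2
      rw [hk] at this
      have h3 := Nat.le_of_dvd (by positivity) this
      have : 0 < 2 ^ (k - 1) := by positivity
      omega
    have hmain : ∀ x : P, x ∉ Subgroup.zpowers a → ∀ r : ℤ, x * a * x⁻¹ = a ^ r →
        ¬ (4 : ℤ) ∣ r - 1 := by
      intro x hx r hr h4
      have hrk : ¬ ((2 ^ k : ℤ) ∣ r - 1) := by
        intro hd
        apply hx
        apply hcen
        have h1 : a ^ r = a := by
          obtain ⟨t, ht⟩ := hd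
          have : r = ((2 ^ k : ℕ) : ℤ) * t + 1 := by push_cast; linarith
          rw [this, zpow_add, zpow_mul, zpow_natCast, ← hk, pow_orderOf_eq_one, one_zpow, one_mul,
            zpow_one]
        rw [h1] at hr
        exact mul_inv_eq_iff_eq_mul.mp hr
      obtain ⟨hk3, m, u, hu, hm⟩ := exists_pow_eq k r h4 hrk
      have hpow : ∀ m : ℕ, x ^ m * a * (x ^ m)⁻¹ = a ^ (r ^ m) := by
        intro m
        induction m with
        | zero => simp
        | succ m ih =>
          calc x ^ (m + 1) * a * (x ^ (m + 1))⁻¹ = x * (x ^ m * a * (x ^ m)⁻¹) * x⁻¹ := by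
                rw [pow_succ']; group
            _ = x * a ^ (r ^ m) * x⁻¹ := by rw [ih]
            _ = (x * a * x⁻¹) ^ (r ^ m) := by rw [conj_zpow]
            _ = a ^ (r ^ (m + 1)) := by rw [hr, ← zpow_mul, pow_succ']
      have hgm := hpow m
      rw [hm, zpow_add, zpow_one] at hgm
      have hz : a ^ ((2 : ℤ) ^ (k - 1) * u) = a ^ (2 ^ (k - 1)) := by
        obtain ⟨v, rfl⟩ := hu
        have e : ((2 : ℤ) ^ (k - 1) * (2 * v + 1)) = ((2 ^ k : ℕ) : ℤ) * v + ((2 ^ (k - 1) : ℕ) : ℤ) := by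
          have hk1 : 2 ^ k = 2 * 2 ^ (k - 1) := by
            rw [← pow_succ']; congr 1; omega
          rw [hk1]; push_cast; ring
        rw [e, zpow_add, zpow_mul, zpow_natCast, zpow_natCast]
        rw [← hk, pow_orderOf_eq_one, one_zpow, one_mul]
      rw [hz] at hgm
      obtain ⟨W, hWn, hWc, hWnc⟩ := exists_klein_of_modular k hk3 a (x ^ m) hk hnorm hcen hgm
      exact hWnc (hn W hWn hWc)
    rw [Subgroup.index_eq_two_iff]
    refine ⟨b, fun x => ?_⟩
    rw [hAa]
    by_cases hx : x ∈ Subgroup.zpowers a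
    · right
      refine ⟨hx, fun hxb => hb ?_⟩
      exact (Subgroup.mul_mem_cancel_left _ hx).mp hxb
    · left
      refine ⟨?_, hx⟩
      by_contra hxb
      obtain ⟨r, hr⟩ := hact x
      obtain ⟨s, hs⟩ := hact b
      have hrs : (x * b) * a * (x * b)⁻¹ = a ^ (r * s) := by
        calc (x * b) * a * (x * b)⁻¹ = x * (b * a * b⁻¹) * x⁻¹ := by group
          _ = (x * a * x⁻¹) ^ s := by rw [hs, conj_zpow]
          _ = a ^ (r * s) := by rw [hr, ← zpow_mul]
      have h1 := hmain x hx r hr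
      have h2 := hmain b hb s hs
      have h3 := hmain (x * b) hxb (r * s) hrs
      obtain ⟨r', hr'⟩ := hodd x r hr
      obtain ⟨s', hs'⟩ := hodd b s hs
      apply h3
      have hr4 : (4 : ℤ) ∣ r + 1 := by omega
      have hs4 : (4 : ℤ) ∣ s + 1 := by omega
      obtain ⟨c, hc⟩ := hr4
      obtain ⟨d, hd⟩ := hs4
      have e1 : r = 4 * c - 1 := by linarith
      have e2 : s = 4 * d - 1 := by linarith
      rw [e1, e2]
      exact ⟨4 * c * d - c - d, by ring⟩

end Cfsg.Agent.Classification.NormalCyclic
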