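import Mathlib
import Cfsg.Agent.S0243

set_option autoImplicit false

/-! Sylow 2-subgroups of `PSL(2,F)`, `F` of characteristic two, are commutative of order `|F|`. -/

namespace Cfsg.Agent.Classification.PSLTwoEvenSylow

open Matrix

variable {F : Type*} [Field F]

/-- The unipotent upper triangular matrices. -/
def uni : Multiplicative F →* SpecialLinearGroup (Fin 2) F where
  toFun a := ⟨!![1, Multiplicative.toAdd a; 0, 1], by simp [Matrix.det_fin_two]⟩
  map_one' := by
    ext i j
    fin_cases i <;> fin_cases j <;> simp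
  map_mul' a b := Subtype.ext (by
    show (!![1, Multiplicative.toAdd (a * b); 0, 1] : Matrix (Fin 2) (Fin 2) F) =
      !![1, Multiplicative.toAdd a; 0, 1] * !![1, Multiplicative.toAdd b; 0, 1]
    rw [Matrix.mul_fin_two]
    simp [add_comm])

theorem uni_mem_center {a : Multiplicative F}
    (h : uni a ∈ Subgroup.center (SpecialLinearGroup (Fin 2) F)) : a = 1 := by
  rw [Matrix.SpecialLinearGroup.mem_center_iff] at h
  obtain ⟨r, -, hr⟩ := h
  have h1 := congrFun (congrFun hr 0) 1
  have h2 : (0 : F) = Multiplicative.toAdd a := by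
    have h3 : (uni a).1 0 1 = Multiplicative.toAdd a := rfl
    rw [← h3, ← h1]
    simp [Matrix.scalar_apply]
  exact (Multiplicative.toAdd.injective (by simpa using h2.symm))

/-- the unipotent subgroup in `PSL`. -/
def uniP : Multiplicative F →* ProjectiveSpecialLinearGroup (Fin 2) F :=
  (QuotientGroup.mk' _).comp uni

theorem uniP_injective : Function.Injective (uniP (F := F)) := by
  rw [injective_iff_map_eq_one]
  intro a ha
  have h : (QuotientGroup.mk' (Subgroup.center (SpecialLinearGroup (Fin 2) F))) (uni a) = 1 := ha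
  rw [QuotientGroup.mk'_apply, QuotientGroup.eq_one_iff] at h
  exact uni_mem_center h

theorem card_psl [Fintype F] [CharP F 2] :
    Nat.card (ProjectiveSpecialLinearGroup (Fin 2) F) =
      Fintype.card F * (Fintype.card F ^ 2 - 1) := by
  have h := Cfsg.Agent.S0243.result (F := F) (q := Fintype.card F) rfl 2 le_rfl
  have hq : 2 ≤ Fintype.card F := Fintype.one_lt_card
  have hg : Nat.gcd 2 (Fintype.card F - 1) = 1 := by
    obtain ⟨n, _, hn⟩ := FiniteField.card F 2
    rw [hn]
    have : ¬ 2 ∣ 2 ^ (n : ℕ) - 1 := by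
      have h2 : 2 ∣ 2 ^ (n : ℕ) := dvd_pow_self 2 n.ne_zero
      have h3 : 1 ≤ 2 ^ (n : ℕ) := Nat.one_le_two_pow
      omega
    exact (Nat.Prime.coprime_iff_not_dvd Nat.prime_two).mpr this
  rw [hg, one_mul] at h
  rw [Fin.prod_univ_two] at h
  simp only [Fin.val_zero, pow_zero, Fin.val_one, pow_one] at h
  obtain ⟨k, hk⟩ := Nat.exists_eq_add_of_le hq
  set q := Fintype.card F with hqdef
  have h1 : (q - 1) * Nat.card (ProjectiveSpecialLinearGroup (Fin 2) F)
      = (q - 1) * (q * (q ^ 2 - 1)) := by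
    rw [h]
    have : q ^ 2 - q = (q - 1) * q := by
      rw [hk]
      have e1 : (2 + k) ^ 2 - (2 + k) = (2 + k - 1) * (2 + k) := by
        have : (2 + k - 1) = k + 1 := by omega
        rw [this]
        have : (2 + k) ^ 2 = (k + 1) * (2 + k) + (2 + k) := by ring
        rw [this]; simp
      exact e1
    rw [this]; ring
  exact Nat.eq_of_mul_eq_mul_left (by omega) h1

/-- In a group isomorphic to `PSL(2,F)`, char `F = 2`, a Sylow 2-subgroup is commutative. -/
theorem sylow_comm [Fintype F] [CharP F 2] {G : Type*} [Group G] [Finite G]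
    (e : G ≃* ProjectiveSpecialLinearGroup (Fin 2) F) (S : Sylow 2 G) :
    IsMulCommutative (S : Subgroup G) := by
  have : Fact (Nat.Prime 2) := ⟨Nat.prime_two⟩
  let f : Multiplicative F →* G := e.symm.toMonoidHom.comp uniP
  have hf : Function.Injective f := e.symm.injective.comp uniP_injective
  obtain ⟨n, _, hn⟩ := FiniteField.card F 2
  have hcardU : Nat.card f.range = 2 ^ (n : ℕ) := by
    rw [← Nat.card_congr (MonoidHom.ofInjective hf).toEquiv]
    rw [← hn, ← Nat.card_eq_fintype_card]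
    exact Nat.card_congr Multiplicative.toAdd
  have hU : IsPGroup 2 f.range := IsPGroup.of_card hcardU
  obtain ⟨Q, hQ⟩ := hU.exists_le_sylow
  have hcardG : Nat.card G = 2 ^ (n : ℕ) * ((2 ^ (n : ℕ)) ^ 2 - 1) := by
    rw [Nat.card_congr e.toEquiv, card_psl, hn]
  have hQcard : Nat.card Q = 2 ^ (n : ℕ) := by
    obtain ⟨m, hm⟩ := IsPGroup.iff_card.mp Q.isPGroup'
    have h1 : 2 ^ m ∣ 2 ^ (n : ℕ) * ((2 ^ (n : ℕ)) ^ 2 - 1) := by
      rw [← hm, ← hcardG]; exact Subgroup.card_subgroup_dvd_card _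
    have h2 : Nat.Coprime (2 ^ m) ((2 ^ (n : ℕ)) ^ 2 - 1) := by
      apply Nat.Coprime.pow_left
      rw [Nat.Prime.coprime_iff_not_dvd Nat.prime_two]
      have h2 : 2 ∣ (2 ^ (n : ℕ)) ^ 2 := by
        rw [← pow_mul]; exact dvd_pow_self 2 (by have := n.pos; positivity)
      have h3 : 1 ≤ (2 ^ (n : ℕ)) ^ 2 := Nat.one_le_iff_ne_zero.mpr (by positivity)
      omega
    have h3 := h2.dvd_of_dvd_mul_right h1
    have h4 : 2 ^ (n : ℕ) ∣ 2 ^ m := by
      rw [← hm, ← hcardU]; exact Subgroup.card_dvd_of_le hQ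
    rw [hm]; exact Nat.dvd_antisymm h3 h4
  have hEq : f.range = (Q : Subgroup G) :=
    Subgroup.eq_of_le_of_card_ge hQ (by rw [hcardU]; exact hQcard.le)
  have hcomm : ∀ a b : (Q : Subgroup G), a * b = b * a := by
    rintro ⟨a, ha⟩ ⟨b, hb⟩
    rw [← hEq] at ha hb
    obtain ⟨x, rfl⟩ := ha
    obtain ⟨y, rfl⟩ := hb
    apply Subtype.ext
    show f x * f y = f y * f x
    rw [← map_mul, ← map_mul, mul_comm]
  let e' : S ≃* Q := Sylow.equiv S Q
  refine ⟨⟨fun a b => ?_⟩⟩
  apply e'.injective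
  rw [map_mul, map_mul]
  exact hcomm _ _

end Cfsg.Agent.Classification.PSLTwoEvenSylow
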