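import Mathlib
import Cfsg.Agent.LieClassical.SLGen
import Cfsg.Agent.Lib.SL2Hom

/-!
# Recognition of `SL₃(F)` and `PSL₃(F)` from six root subgroups

`Data π₁ π₂ x13 x31`: two homomorphisms `π₁ π₂ : SL₂(F) →* G` (roots `±(1,2)` and `±(2,3)`) and elements
`x13 a`, `x31 a` satisfying the commutator relations of type `A₂`. If these generate `G` and `P` is a core-free
subgroup containing `π₂(SL₂)`, the upper triangular part of `π₁(SL₂)` and the `x13 a`, then there is a surjective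
homomorphism `SL₃(F) →* G` sending elementary matrices to root elements (no presentation of `SL₃` is needed: the action
on the orbit of the coset `P` is compared with the action on the points of the projective plane).
-/

set_option autoImplicit false
set_option linter.unusedSimpArgs false
set_option linter.unusedSectionVars false

namespace Cfsg.Agent.Classification.SLThreeRec

open Matrix Cfsg.Agent.Lib.SL2Hom

variable {F G : Type*} [Field F] [Group G]

/-! ### identities in `SL₂(F)` -/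

/-- `!![0, -1; 1, 0]` -/
def wi (F : Type*) [Field F] : SpecialLinearGroup (Fin 2) F := ⟨!![0, -1; 1, 0], by simp [Matrix.det_fin_two]⟩

theorem up_mul_lo {a b : F} (h : 1 + a * b ≠ 0) :
    (up a * lo b : SpecialLinearGroup (Fin 2) F) =
      lo (b / (1 + a * b)) * dg (1 + a * b) h * up (a / (1 + a * b)) := by
  ext i j
  change ((up a).1 * (lo b).1) i j = ((lo (b / (1 + a * b))).1 * (dg (1 + a * b) h).1 * (up (a / (1 + a * b))).1) i j
  have h' : 1 + b * a ≠ 0 := by rwa [mul_comm b a]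
  fin_cases i <;> fin_cases j <;> simp [up, dg, lo, Matrix.mul_apply, Fin.sum_univ_two] <;> field_simp
  ring

theorem up_mul_lo' {a b : F} (hb : b ≠ 0) (h : 1 + a * b = 0) :
    (up a * lo b : SpecialLinearGroup (Fin 2) F) = wi F * up b * dg b hb := by
  have ha : a = -b⁻¹ := by
    field_simp
    linear_combination h
  subst ha
  ext i j
  change ((up (-b⁻¹)).1 * (lo b).1) i j = ((wi F).1 * (up b).1 * (dg b hb).1) i j
  fin_cases i <;> fin_cases j <;> simp [up, dg, lo, wi, Matrix.mul_apply, Fin.sum_univ_two, hb]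

theorem up_mul_wi {a : F} (ha : a ≠ 0) :
    (up a * wi F : SpecialLinearGroup (Fin 2) F) = lo a⁻¹ * dg a ha * up (-a⁻¹) := by
  ext i j
  change ((up a).1 * (wi F).1) i j = ((lo a⁻¹).1 * (dg a ha).1 * (up (-a⁻¹)).1) i j
  fin_cases i <;> fin_cases j <;> simp [up, dg, lo, wi, Matrix.mul_apply, Fin.sum_univ_two, ha]

theorem lo_mul_wi (a : F) :
    (lo a * wi F : SpecialLinearGroup (Fin 2) F) = wi F * up (-a) := by
  ext i j
  change ((lo a).1 * (wi F).1) i j = ((wi F).1 * (up (-a)).1) i j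
  fin_cases i <;> fin_cases j <;> simp [up, dg, lo, wi, Matrix.mul_apply, Fin.sum_univ_two]

theorem wi_eq : wi F = up (-1) * lo 1 * up (-1) := by
  ext i j
  change ((wi F).1) i j = ((up (-1 : F)).1 * (lo (1 : F)).1 * (up (-1 : F)).1) i j
  fin_cases i <;> fin_cases j <;> simp [up, dg, lo, wi, Matrix.mul_apply, Fin.sum_univ_two]

theorem wi_dg {s : F} (hs : s ≠ 0) :
    up (-s⁻¹) * lo s * up (-s⁻¹) = wi F * dg s hs := by
  ext i j
  change ((up (-s⁻¹)).1 * (lo s).1 * (up (-s⁻¹)).1) i j = ((wi F).1 * (dg s hs).1) i j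
  fin_cases i <;> fin_cases j <;> simp [up, dg, lo, wi, Matrix.mul_apply, Fin.sum_univ_two, hs]

theorem up_add (a b : F) : (up (a + b) : SpecialLinearGroup (Fin 2) F) = up a * up b := by
  ext i j
  change (up (a + b)).1 i j = ((up a).1 * (up b).1) i j
  fin_cases i <;> fin_cases j <;> simp [up, Matrix.mul_apply, Fin.sum_univ_two, add_comm]

theorem lo_add (a b : F) : (lo (a + b) : SpecialLinearGroup (Fin 2) F) = lo a * lo b := by
  ext i j
  change (lo (a + b)).1 i j = ((lo a).1 * (lo b).1) i j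
  fin_cases i <;> fin_cases j <;> simp [lo, Matrix.mul_apply, Fin.sum_univ_two]

theorem up_zero : (up 0 : SpecialLinearGroup (Fin 2) F) = 1 := by
  have := up_add (0 : F) 0
  rw [add_zero] at this
  exact left_eq_mul.1 this

theorem lo_zero : (lo 0 : SpecialLinearGroup (Fin 2) F) = 1 := by
  have := lo_add (0 : F) 0
  rw [add_zero] at this
  exact left_eq_mul.1 this

theorem up_neg (a : F) : (up (-a) : SpecialLinearGroup (Fin 2) F) = (up a)⁻¹ := by
  rw [eq_inv_iff_mul_eq_one, ← up_add, neg_add_cancel, up_zero]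

theorem lo_neg (a : F) : (lo (-a) : SpecialLinearGroup (Fin 2) F) = (lo a)⁻¹ := by
  rw [eq_inv_iff_mul_eq_one, ← lo_add, neg_add_cancel, lo_zero]

theorem sl2_induction (P : SpecialLinearGroup (Fin 2) F → Prop) (hu : ∀ a, P (up a)) (hl : ∀ a, P (lo a))
    (hm : ∀ A B, P A → P B → P (A * B)) (A : SpecialLinearGroup (Fin 2) F) : P A := by
  refine Cfsg.Agent.LieClassical.SLGen.transvection_induction P ?_ hm A
  intro i j h c
  have e1 : ∀ h : (0 : Fin 2) ≠ 1, SpecialLinearGroup.transvection h c = up c := by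
    intro h
    ext i j
    fin_cases i <;> fin_cases j <;> simp [SpecialLinearGroup.transvection, Matrix.transvection, up, Matrix.single]
  have e2 : ∀ h : (1 : Fin 2) ≠ 0, SpecialLinearGroup.transvection h c = lo c := by
    intro h
    ext i j
    fin_cases i <;> fin_cases j <;> simp [SpecialLinearGroup.transvection, Matrix.transvection, lo, Matrix.single]
  fin_cases i <;> fin_cases j
  · exact absurd rfl h
  · have := hu c
    rw [← e1 h] at this
    exact this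
  · have := hl c
    rw [← e2 h] at this
    exact this
  · exact absurd rfl h

/-! ### the data -/

/-- Root subgroups of type `A₂`: `x12 = π₁ ∘ up`, `x21 = π₁ ∘ lo`, `x23 = π₂ ∘ up`, `x32 = π₂ ∘ lo`. -/
structure Data (π₁ π₂ : SpecialLinearGroup (Fin 2) F →* G) (x13 x31 : F → G) : Prop where
  add13 : ∀ a b, x13 (a + b) = x13 a * x13 b
  add31 : ∀ a b, x31 (a + b) = x31 a * x31 b
  r1 : ∀ a b, π₁ (up a) * π₂ (up b) = x13 (a * b) * (π₂ (up b) * π₁ (up a))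
  r2 : ∀ a b, x13 a * π₂ (lo b) = π₁ (up (a * b)) * (π₂ (lo b) * x13 a)
  r3 : ∀ a b, π₁ (lo a) * x13 b = π₂ (up (a * b)) * (x13 b * π₁ (lo a))
  r4 : ∀ a b, π₂ (lo a) * π₁ (lo b) = x31 (a * b) * (π₁ (lo b) * π₂ (lo a))
  r5 : ∀ a b, x31 a * π₁ (up b) = π₂ (lo (a * b)) * (π₁ (up b) * x31 a)
  r6 : ∀ a b, π₂ (up a) * x31 b = π₁ (lo (a * b)) * (x31 b * π₂ (up a))
  c1 : ∀ a b, Commute (π₁ (up a)) (x13 b)
  c2 : ∀ a b, Commute (x13 a) (π₂ (up b))
  c3 : ∀ a b, Commute (π₂ (up a)) (π₁ (lo b))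
  c4 : ∀ a b, Commute (π₁ (lo a)) (x31 b)
  c5 : ∀ a b, Commute (x31 a) (π₂ (lo b))
  c6 : ∀ a b, Commute (π₂ (lo a)) (π₁ (up b))
  h1 : ∀ (s : F) (hs : s ≠ 0) (a : F), π₂ (dg s hs) * π₁ (up a) = π₁ (up (s⁻¹ * a)) * π₂ (dg s hs)
  h2 : ∀ (s : F) (hs : s ≠ 0) (a : F), π₂ (dg s hs) * π₁ (lo a) = π₁ (lo (s * a)) * π₂ (dg s hs)

namespace Data

variable {π₁ π₂ : SpecialLinearGroup (Fin 2) F →* G} {x13 x31 : F → G} (D : Data π₁ π₂ x13 x31)

include D

theorem x13_zero : x13 0 = 1 := by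
  have := D.add13 0 0
  rw [add_zero] at this
  exact left_eq_mul.1 this

theorem x31_zero : x31 0 = 1 := by
  have := D.add31 0 0
  rw [add_zero] at this
  exact left_eq_mul.1 this

theorem x13_neg (a : F) : x13 (-a) = (x13 a)⁻¹ := by
  rw [eq_inv_iff_mul_eq_one, ← D.add13, neg_add_cancel, D.x13_zero]

theorem x31_neg (a : F) : x31 (-a) = (x31 a)⁻¹ := by
  rw [eq_inv_iff_mul_eq_one, ← D.add31, neg_add_cancel, D.x31_zero]

/-- (A) -/
theorem w1_x32 (c : F) : π₁ (wi F) * π₂ (lo c) = x31 (-c) * π₁ (wi F) := by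
  have e1 : π₁ (lo 1) * π₂ (lo c) = x31 (-c) * (π₂ (lo c) * π₁ (lo 1)) := by
    have h := D.r4 c 1
    rw [mul_one] at h
    rw [h, D.x31_neg, inv_mul_cancel_left]
  have e2 : π₁ (up (-1)) * x31 (-c) = π₂ (lo (-c)) * (x31 (-c) * π₁ (up (-1))) := by
    have h := D.r5 (-c) (-1)
    rw [h, neg_mul_neg, mul_one, lo_neg, map_inv, inv_mul_cancel_left]
  have e3 := (D.c6 c (-1)).eq
  have e4 := (D.c5 (-c) c).eq
  have e5 : (π₂ (lo (-c)) : G) * π₂ (lo c) = 1 := by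
    rw [← map_mul, ← lo_add, neg_add_cancel, lo_zero, map_one]
  rw [wi_eq, map_mul, map_mul]
  calc π₁ (up (-1)) * π₁ (lo 1) * π₁ (up (-1)) * π₂ (lo c)
      = π₁ (up (-1)) * π₁ (lo 1) * (π₁ (up (-1)) * π₂ (lo c)) := by group
    _ = π₁ (up (-1)) * (π₁ (lo 1) * π₂ (lo c)) * π₁ (up (-1)) := by rw [← e3]; group
    _ = (π₁ (up (-1)) * x31 (-c)) * π₂ (lo c) * π₁ (lo 1) * π₁ (up (-1)) := by rw [e1]; group
    _ = π₂ (lo (-c)) * x31 (-c) * (π₁ (up (-1)) * π₂ (lo c)) * π₁ (lo 1) * π₁ (up (-1)) := by rw [e2]; group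
    _ = π₂ (lo (-c)) * (x31 (-c) * π₂ (lo c)) * π₁ (up (-1)) * π₁ (lo 1) * π₁ (up (-1)) := by rw [← e3]; group
    _ = (π₂ (lo (-c)) * π₂ (lo c)) * x31 (-c) * π₁ (up (-1)) * π₁ (lo 1) * π₁ (up (-1)) := by rw [e4]; group
    _ = _ := by rw [e5]; group

/-- (C) -/
theorem w1_x23 (c : F) : π₁ (wi F) * π₂ (up c) = x13 (-c) * π₁ (wi F) := by
  -- `x12(-1) x21(1) x12(-1) x23(c)`
  have e1 : π₁ (up (-1)) * π₂ (up c) = x13 (-c) * (π₂ (up c) * π₁ (up (-1))) := by
    have h := D.r1 (-1) c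
    rwa [neg_one_mul] at h
  have e2 : π₁ (lo 1) * x13 (-c) = π₂ (up (-c)) * (x13 (-c) * π₁ (lo 1)) := by
    have h := D.r3 1 (-c)
    rwa [one_mul] at h
  have e3 := (D.c3 c 1).eq
  have e4 : Commute (x13 (-c)) (π₂ (up c)) := D.c2 _ _
  have e5 : (π₂ (up (-c)) : G) * π₂ (up c) = 1 := by
    rw [← map_mul, ← up_add, neg_add_cancel, up_zero, map_one]
  have e6 := (D.c1 (-1) (-c)).eq
  rw [wi_eq, map_mul, map_mul]
  calc π₁ (up (-1)) * π₁ (lo 1) * π₁ (up (-1)) * π₂ (up c)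
      = π₁ (up (-1)) * π₁ (lo 1) * (π₁ (up (-1)) * π₂ (up c)) := by group
    _ = π₁ (up (-1)) * (π₁ (lo 1) * x13 (-c)) * π₂ (up c) * π₁ (up (-1)) := by rw [e1]; group
    _ = π₁ (up (-1)) * π₂ (up (-c)) * x13 (-c) * (π₁ (lo 1) * π₂ (up c)) * π₁ (up (-1)) := by rw [e2]; group
    _ = π₁ (up (-1)) * π₂ (up (-c)) * (x13 (-c) * π₂ (up c)) * π₁ (lo 1) * π₁ (up (-1)) := by rw [← e3]; group
    _ = π₁ (up (-1)) * (π₂ (up (-c)) * π₂ (up c)) * x13 (-c) * π₁ (lo 1) * π₁ (up (-1)) := by rw [e4.eq]; group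
    _ = (π₁ (up (-1)) * x13 (-c)) * π₁ (lo 1) * π₁ (up (-1)) := by rw [e5]; group
    _ = _ := by rw [e6]; group

/-- (D) -/
theorem w1_x13 (c : F) : π₁ (wi F) * x13 c = π₂ (up c) * π₁ (wi F) := by
  have e1 := (D.c1 (-1) c).eq
  have e2 : π₁ (lo 1) * x13 c = π₂ (up c) * (x13 c * π₁ (lo 1)) := by
    have h := D.r3 1 c
    rwa [one_mul] at h
  have e3 : π₁ (up (-1)) * π₂ (up c) = x13 (-c) * (π₂ (up c) * π₁ (up (-1))) := by
    have h := D.r1 (-1) c
    rwa [neg_one_mul] at h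
  have e4 : (x13 (-c) : G) * π₂ (up c) = π₂ (up c) * x13 (-c) := (D.c2 _ _).eq
  have e5 : x13 (-c) * x13 c = 1 := by rw [← D.add13, neg_add_cancel, D.x13_zero]
  rw [wi_eq, map_mul, map_mul]
  calc π₁ (up (-1)) * π₁ (lo 1) * π₁ (up (-1)) * x13 c
      = π₁ (up (-1)) * π₁ (lo 1) * (π₁ (up (-1)) * x13 c) := by group
    _ = π₁ (up (-1)) * (π₁ (lo 1) * x13 c) * π₁ (up (-1)) := by rw [e1]; group
    _ = (π₁ (up (-1)) * π₂ (up c)) * x13 c * π₁ (lo 1) * π₁ (up (-1)) := by rw [e2]; group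
    _ = x13 (-c) * π₂ (up c) * (π₁ (up (-1)) * x13 c) * π₁ (lo 1) * π₁ (up (-1)) := by rw [e3]; group
    _ = (x13 (-c) * π₂ (up c)) * x13 c * π₁ (up (-1)) * π₁ (lo 1) * π₁ (up (-1)) := by rw [e1]; group
    _ = π₂ (up c) * (x13 (-c) * x13 c) * π₁ (up (-1)) * π₁ (lo 1) * π₁ (up (-1)) := by rw [e4]; group
    _ = _ := by rw [e5]; group

/-- (E) -/
theorem w2_x31 (c : F) : π₂ (wi F) * x31 c = π₁ (lo (-c)) * π₂ (wi F) := by
  have e1 : π₂ (up (-1)) * x31 c = π₁ (lo (-c)) * (x31 c * π₂ (up (-1))) := by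
    have h := D.r6 (-1) c
    rwa [neg_one_mul] at h
  have e2 : π₂ (lo 1) * π₁ (lo (-c)) = x31 (-c) * (π₁ (lo (-c)) * π₂ (lo 1)) := by
    have h := D.r4 1 (-c)
    rwa [one_mul] at h
  have e3 := (D.c5 c 1).eq
  have e4 : Commute (π₁ (lo (-c))) (x31 c) := D.c4 _ _
  have e5 : x31 (-c) * x31 c = 1 := by rw [← D.add31, neg_add_cancel, D.x31_zero]
  have e6 := (D.c3 (-1) (-c)).eq
  rw [wi_eq, map_mul, map_mul]
  calc π₂ (up (-1)) * π₂ (lo 1) * π₂ (up (-1)) * x31 c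
      = π₂ (up (-1)) * π₂ (lo 1) * (π₂ (up (-1)) * x31 c) := by group
    _ = π₂ (up (-1)) * (π₂ (lo 1) * π₁ (lo (-c))) * x31 c * π₂ (up (-1)) := by rw [e1]; group
    _ = π₂ (up (-1)) * x31 (-c) * π₁ (lo (-c)) * (π₂ (lo 1) * x31 c) * π₂ (up (-1)) := by rw [e2]; group
    _ = π₂ (up (-1)) * x31 (-c) * (π₁ (lo (-c)) * x31 c) * π₂ (lo 1) * π₂ (up (-1)) := by rw [← e3]; group
    _ = π₂ (up (-1)) * (x31 (-c) * x31 c) * π₁ (lo (-c)) * π₂ (lo 1) * π₂ (up (-1)) := by rw [e4.eq]; group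
    _ = (π₂ (up (-1)) * π₁ (lo (-c))) * π₂ (lo 1) * π₂ (up (-1)) := by rw [e5]; group
    _ = _ := by rw [e6]; group

/-- (F) -/
theorem w2_x21 (c : F) : π₂ (wi F) * π₁ (lo c) = x31 c * π₂ (wi F) := by
  have e1 := (D.c3 (-1) c).eq
  have e2 : π₂ (lo 1) * π₁ (lo c) = x31 c * (π₁ (lo c) * π₂ (lo 1)) := by
    have h := D.r4 1 c
    rwa [one_mul] at h
  have e3 : π₂ (up (-1)) * x31 c = π₁ (lo (-c)) * (x31 c * π₂ (up (-1))) := by
    have h := D.r6 (-1) c
    rwa [neg_one_mul] at h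
  have e4 : (π₁ (lo (-c)) : G) * x31 c = x31 c * π₁ (lo (-c)) := (D.c4 _ _).eq
  have e5 : (π₁ (lo (-c)) : G) * π₁ (lo c) = 1 := by
    rw [← map_mul, ← lo_add, neg_add_cancel, lo_zero, map_one]
  rw [wi_eq, map_mul, map_mul]
  calc π₂ (up (-1)) * π₂ (lo 1) * π₂ (up (-1)) * π₁ (lo c)
      = π₂ (up (-1)) * π₂ (lo 1) * (π₂ (up (-1)) * π₁ (lo c)) := by group
    _ = π₂ (up (-1)) * (π₂ (lo 1) * π₁ (lo c)) * π₂ (up (-1)) := by rw [e1]; group
    _ = (π₂ (up (-1)) * x31 c) * π₁ (lo c) * π₂ (lo 1) * π₂ (up (-1)) := by rw [e2]; group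
    _ = π₁ (lo (-c)) * x31 c * (π₂ (up (-1)) * π₁ (lo c)) * π₂ (lo 1) * π₂ (up (-1)) := by rw [e3]; group
    _ = (π₁ (lo (-c)) * x31 c) * π₁ (lo c) * π₂ (up (-1)) * π₂ (lo 1) * π₂ (up (-1)) := by rw [e1]; group
    _ = x31 c * (π₁ (lo (-c)) * π₁ (lo c)) * π₂ (up (-1)) * π₂ (lo 1) * π₂ (up (-1)) := by rw [e4]; group
    _ = _ := by rw [e5]; group

/-- (H) -/
theorem w2_x13 (c : F) : π₂ (wi F) * x13 c = π₁ (up (-c)) * π₂ (wi F) := by
  have e1 := (D.c2 c (-1)).eq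
  have e2 : π₂ (lo 1) * x13 c = π₁ (up (-c)) * (x13 c * π₂ (lo 1)) := by
    have h := D.r2 c 1
    rw [mul_one] at h
    rw [h, up_neg, map_inv, inv_mul_cancel_left]
  have e3 : π₂ (up (-1)) * π₁ (up (-c)) = x13 (-c) * (π₁ (up (-c)) * π₂ (up (-1))) := by
    have h := D.r1 (-c) (-1)
    rw [h, neg_mul_neg, mul_one, D.x13_neg, inv_mul_cancel_left]
  have e4 : (x13 (-c) : G) * π₁ (up (-c)) = π₁ (up (-c)) * x13 (-c) := (D.c1 _ _).symm.eq
  have e5 : x13 (-c) * x13 c = 1 := by rw [← D.add13, neg_add_cancel, D.x13_zero]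
  rw [wi_eq, map_mul, map_mul]
  calc π₂ (up (-1)) * π₂ (lo 1) * π₂ (up (-1)) * x13 c
      = π₂ (up (-1)) * π₂ (lo 1) * (π₂ (up (-1)) * x13 c) := by group
    _ = π₂ (up (-1)) * (π₂ (lo 1) * x13 c) * π₂ (up (-1)) := by rw [← e1]; group
    _ = (π₂ (up (-1)) * π₁ (up (-c))) * x13 c * π₂ (lo 1) * π₂ (up (-1)) := by rw [e2]; group
    _ = x13 (-c) * π₁ (up (-c)) * (π₂ (up (-1)) * x13 c) * π₂ (lo 1) * π₂ (up (-1)) := by rw [e3]; group
    _ = (x13 (-c) * π₁ (up (-c))) * x13 c * π₂ (up (-1)) * π₂ (lo 1) * π₂ (up (-1)) := by rw [← e1]; group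
    _ = π₁ (up (-c)) * (x13 (-c) * x13 c) * π₂ (up (-1)) * π₂ (lo 1) * π₂ (up (-1)) := by rw [e4]; group
    _ = _ := by rw [e5]; group

theorem s4 (a c : F) : π₁ (lo a) * π₂ (lo c) = π₂ (lo c) * (x31 (-(c * a)) * π₁ (lo a)) := by
  have h := D.r4 c a
  have e := (D.c5 (c * a) c).inv_left.eq
  rw [D.x31_neg, ← mul_assoc, ← e, mul_assoc, h, inv_mul_cancel_left]

theorem s4' (a b : F) : π₂ (lo a) * π₁ (lo b) = π₁ (lo b) * (x31 (a * b) * π₂ (lo a)) := by
  rw [D.r4, ← mul_assoc, ← mul_assoc, (D.c4 b (a * b)).eq]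

theorem s5 (a c : F) : π₁ (up a) * x31 c = π₂ (lo (-(c * a))) * (x31 c * π₁ (up a)) := by
  rw [D.r5, ← mul_assoc, ← map_mul, ← lo_add, neg_add_cancel, lo_zero, map_one, one_mul]

theorem h_w1 {s : F} (hs : s ≠ 0) :
    π₂ (dg s hs) * π₁ (wi F) = π₁ (wi F) * (π₁ (dg s hs) * π₂ (dg s hs)) := by
  have e1 := D.h1 s hs (-1)
  have e2 := D.h2 s hs 1
  rw [mul_one] at e2
  rw [mul_neg_one] at e1
  have e3 : π₁ (up (-s⁻¹)) * π₁ (lo s) * π₁ (up (-s⁻¹)) = π₁ (wi F) * π₁ (dg s hs) := by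
    rw [← map_mul, ← map_mul, wi_dg hs, map_mul]
  calc π₂ (dg s hs) * π₁ (wi F) = (π₂ (dg s hs) * π₁ (up (-1))) * π₁ (lo 1) * π₁ (up (-1)) := by
        rw [wi_eq, map_mul, map_mul]; group
    _ = π₁ (up (-s⁻¹)) * (π₂ (dg s hs) * π₁ (lo 1)) * π₁ (up (-1)) := by rw [e1]; group
    _ = π₁ (up (-s⁻¹)) * π₁ (lo s) * (π₂ (dg s hs) * π₁ (up (-1))) := by rw [e2]; group
    _ = (π₁ (up (-s⁻¹)) * π₁ (lo s) * π₁ (up (-s⁻¹))) * π₂ (dg s hs) := by rw [e1]; group
    _ = _ := by rw [e3]; group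

end Data

/-! ### the action on the orbit of a point -/

section action

variable {Ω : Type*} [MulAction G Ω]

/-- The point of `Ω` attached to a non-zero vector. -/
noncomputable def pt (π₁ π₂ : SpecialLinearGroup (Fin 2) F →* G) (x31 : F → G) (o : Ω) (v : Fin 3 → F) : Ω :=
  open Classical in
  if v 0 ≠ 0 then (π₁ (lo (v 1 / v 0)) * x31 (v 2 / v 0)) • o
  else if v 1 ≠ 0 then (π₂ (lo (v 2 / v 1)) * π₁ (wi F)) • o
  else (π₂ (wi F) * π₁ (wi F)) • o

/-- The point `o` behaves like `⟨e₁⟩`. -/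
structure Fixed (π₁ π₂ : SpecialLinearGroup (Fin 2) F →* G) (x13 : F → G) (o : Ω) : Prop where
  f2 : ∀ A, π₂ A • o = o
  fu : ∀ a, π₁ (up a) • o = o
  fd : ∀ (s : F) (hs : s ≠ 0), π₁ (dg s hs) • o = o
  f13 : ∀ a, x13 a • o = o

variable {π₁ π₂ : SpecialLinearGroup (Fin 2) F →* G} {x13 x31 : F → G} (D : Data π₁ π₂ x13 x31) {o : Ω}
  (H : Fixed π₁ π₂ x13 o)

include D H

theorem x31_o2 (c : F) : (x31 c * π₁ (wi F)) • o = π₁ (wi F) • o := by
  have h := D.w1_x32 (-c)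
  rw [neg_neg] at h
  rw [← h, mul_smul, H.f2]

theorem x13_o2 (c : F) : (x13 c * π₁ (wi F)) • o = π₁ (wi F) • o := by
  have h := D.w1_x23 (-c)
  rw [neg_neg] at h
  rw [← h, mul_smul, H.f2]

theorem x23_o2 (c : F) : (π₂ (up c) * π₁ (wi F)) • o = π₁ (wi F) • o := by
  rw [← D.w1_x13, mul_smul, H.f13]

theorem x21_o2 (c : F) : (π₁ (lo c) * π₁ (wi F)) • o = π₁ (wi F) • o := by
  rw [← map_mul, lo_mul_wi, map_mul, mul_smul, H.fu]

theorem h23_o2 {s : F} (hs : s ≠ 0) : (π₂ (dg s hs) * π₁ (wi F)) • o = π₁ (wi F) • o := by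
  rw [D.h_w1 hs, mul_smul, mul_smul, H.f2, H.fd]

theorem x31_o3 (c : F) : (x31 c * (π₂ (wi F) * π₁ (wi F))) • o = (π₂ (wi F) * π₁ (wi F)) • o := by
  rw [← mul_assoc, ← D.w2_x21, mul_assoc, mul_smul, x21_o2 D H, mul_smul]

theorem x21_o3 (c : F) : (π₁ (lo c) * (π₂ (wi F) * π₁ (wi F))) • o = (π₂ (wi F) * π₁ (wi F)) • o := by
  have h := D.w2_x31 (-c)
  rw [neg_neg] at h
  rw [← mul_assoc, ← h, mul_assoc, mul_smul, x31_o2 D H, mul_smul]

theorem x12_o3 (c : F) : (π₁ (up c) * (π₂ (wi F) * π₁ (wi F))) • o = (π₂ (wi F) * π₁ (wi F)) • o := by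
  have h := D.w2_x13 (-c)
  rw [neg_neg] at h
  rw [← mul_assoc, ← h, mul_assoc, mul_smul, x13_o2 D H, mul_smul]

theorem x32_o3 (c : F) : (π₂ (lo c) * (π₂ (wi F) * π₁ (wi F))) • o = (π₂ (wi F) * π₁ (wi F)) • o := by
  rw [← mul_assoc, ← map_mul, lo_mul_wi, map_mul, mul_assoc, mul_smul, x23_o2 D H, mul_smul]

theorem x12_x21_o {a b : F} (h : 1 + a * b ≠ 0) :
    (π₁ (up a) * π₁ (lo b)) • o = π₁ (lo (b / (1 + a * b))) • o := by
  rw [← map_mul, up_mul_lo h, map_mul, map_mul, mul_smul, mul_smul, H.fu, H.fd]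

theorem x12_x21_o' {a b : F} (hb : b ≠ 0) (h : 1 + a * b = 0) :
    (π₁ (up a) * π₁ (lo b)) • o = π₁ (wi F) • o := by
  rw [← map_mul, up_mul_lo' hb h, map_mul, map_mul, mul_smul, mul_smul, H.fd, H.fu]

theorem x12_o2 {a : F} (ha : a ≠ 0) : (π₁ (up a) * π₁ (wi F)) • o = π₁ (lo a⁻¹) • o := by
  rw [← map_mul, up_mul_wi ha, map_mul, map_mul, mul_smul, mul_smul, H.fu, H.fd]

theorem x23_x32_o2 {a b : F} (h : 1 + a * b ≠ 0) :
    (π₂ (up a) * π₂ (lo b) * π₁ (wi F)) • o = (π₂ (lo (b / (1 + a * b))) * π₁ (wi F)) • o := by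
  rw [← map_mul, up_mul_lo h, map_mul, map_mul, mul_assoc, mul_smul, x23_o2 D H, mul_smul, ← mul_smul (π₂ (dg _ _)),
    h23_o2 D H, mul_smul]

theorem x23_x32_o2' {a b : F} (hb : b ≠ 0) (h : 1 + a * b = 0) :
    (π₂ (up a) * π₂ (lo b) * π₁ (wi F)) • o = (π₂ (wi F) * π₁ (wi F)) • o := by
  rw [← map_mul, up_mul_lo' hb h, map_mul, map_mul, mul_assoc, mul_smul, h23_o2 D H, mul_smul,
    ← mul_smul (π₂ (up _)), x23_o2 D H, mul_smul]

theorem x23_o3 {a : F} (ha : a ≠ 0) :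
    (π₂ (up a) * (π₂ (wi F) * π₁ (wi F))) • o = (π₂ (lo a⁻¹) * π₁ (wi F)) • o := by
  rw [← mul_assoc, ← map_mul, up_mul_wi ha, map_mul, map_mul, mul_assoc, mul_smul, x23_o2 D H, mul_smul,
    ← mul_smul (π₂ (dg _ _)), h23_o2 D H, mul_smul]

omit D H in
theorem pt_zero {v : Fin 3 → F} (h : v 0 ≠ 0) :
    pt π₁ π₂ x31 o v = (π₁ (lo (v 1 / v 0)) * x31 (v 2 / v 0)) • o := by
  unfold pt
  rw [if_pos h]

omit D H in
theorem pt_one {v : Fin 3 → F} (h : v 0 = 0) (h1 : v 1 ≠ 0) :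
    pt π₁ π₂ x31 o v = (π₂ (lo (v 2 / v 1)) * π₁ (wi F)) • o := by
  unfold pt
  rw [if_neg (not_not.2 h), if_pos h1]

omit D H in
theorem pt_two {v : Fin 3 → F} (h : v 0 = 0) (h1 : v 1 = 0) :
    pt π₁ π₂ x31 o v = (π₂ (wi F) * π₁ (wi F)) • o := by
  unfold pt
  rw [if_neg (not_not.2 h), if_neg (not_not.2 h1)]

/-- `x21 a` -/
theorem eq21 (a : F) {v w : Fin 3 → F} (h0 : w 0 = v 0) (h1 : w 1 = v 1 + a * v 0) (h2 : w 2 = v 2) :
    π₁ (lo a) • pt π₁ π₂ x31 o v = pt π₁ π₂ x31 o w := by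
  by_cases hv0 : v 0 = 0
  · rw [hv0] at h0
    rw [hv0, mul_zero, add_zero] at h1
    by_cases hv1 : v 1 = 0
    · rw [pt_two hv0 hv1, pt_two h0 (h1.trans hv1), ← mul_smul, x21_o3 D H]
    · rw [pt_one hv0 hv1, pt_one h0 (by rwa [h1]), h1, h2, ← mul_smul, ← mul_assoc, D.s4, mul_assoc, mul_assoc,
        mul_smul, mul_smul, x21_o2 D H, ← mul_smul (x31 _), x31_o2 D H, mul_smul]
  · rw [pt_zero hv0, pt_zero (by rwa [h0]), h0, h1, h2, ← mul_smul, ← mul_assoc, ← map_mul, ← lo_add]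
    congr 5
    field_simp
    ring

/-- `x32 a` -/
theorem eq32 (a : F) {v w : Fin 3 → F} (h0 : w 0 = v 0) (h1 : w 1 = v 1) (h2 : w 2 = v 2 + a * v 1) :
    π₂ (lo a) • pt π₁ π₂ x31 o v = pt π₁ π₂ x31 o w := by
  by_cases hv0 : v 0 = 0
  · rw [hv0] at h0
    by_cases hv1 : v 1 = 0
    · rw [pt_two hv0 hv1, pt_two h0 (h1.trans hv1), ← mul_smul, x32_o3 D H]
    · rw [pt_one hv0 hv1, pt_one h0 (by rwa [h1]), h1, h2, ← mul_smul, ← mul_assoc, ← map_mul, ← lo_add]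
      congr 5
      field_simp
      ring
  · rw [pt_zero hv0, pt_zero (by rwa [h0]), h0, h1, h2, ← mul_smul, ← mul_assoc, D.s4', mul_assoc, mul_assoc,
      ← (D.c5 _ _).eq, ← mul_assoc (x31 _), ← D.add31, ← mul_assoc, mul_smul, H.f2]
    congr 3
    field_simp
    ring

/-- `x12 a` -/
theorem eq12 (a : F) {v w : Fin 3 → F} (h0 : w 0 = v 0 + a * v 1) (h1 : w 1 = v 1) (h2 : w 2 = v 2) :
    π₁ (up a) • pt π₁ π₂ x31 o v = pt π₁ π₂ x31 o w := by
  by_cases hv0 : v 0 = 0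
  · rw [hv0, zero_add] at h0
    by_cases hv1 : v 1 = 0
    · rw [hv1, mul_zero] at h0
      rw [pt_two hv0 hv1, pt_two h0 (h1.trans hv1), ← mul_smul, x12_o3 D H]
    · rw [pt_one hv0 hv1, ← mul_smul, ← mul_assoc, ← (D.c6 _ _).eq, mul_assoc, mul_smul]
      by_cases ha : a = 0
      · subst ha
        rw [zero_mul] at h0
        rw [pt_one h0 (by rwa [h1]), h1, h2, up_zero, map_one, one_mul, mul_smul]
      · rw [x12_o2 D H ha, ← mul_smul, D.s4', ← mul_assoc, mul_smul, H.f2,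
          pt_zero (by rw [h0]; exact mul_ne_zero ha hv1), h0, h1, h2]
        congr 4
        · field_simp
        · field_simp
  · by_cases hw0 : w 0 = 0
    · have hv1 : v 1 ≠ 0 := by
        intro h
        rw [h, mul_zero, add_zero] at h0
        exact hv0 (h0.symm.trans hw0)
      have hab : 1 + a * (v 1 / v 0) = 0 := by
        rw [hw0] at h0
        field_simp
        rw [mul_zero]
        exact h0.symm
      rw [pt_zero hv0, pt_one hw0 (by rwa [h1]), h1, h2, (D.c4 _ _).eq, ← mul_smul, ← mul_assoc, D.s5, mul_assoc,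
        mul_assoc, mul_smul, mul_smul, x12_x21_o' D H (div_ne_zero hv1 hv0) hab, ← mul_smul (x31 _), x31_o2 D H,
        mul_smul]
      congr 3
      field_simp
      have h3 : v 0 = - (a * v 1) := by
        rw [hw0] at h0
        linear_combination -h0
      rw [h3]
      ring
    · have hab : 1 + a * (v 1 / v 0) ≠ 0 := by
        intro h
        apply hw0
        rw [h0]
        field_simp at h
        rwa [mul_zero] at h
      have hv : v 0 + a * v 1 ≠ 0 := by rwa [← h0]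
      rw [pt_zero hv0, pt_zero hw0, h0, h1, h2, (D.c4 _ _).eq, ← mul_smul, ← mul_assoc, D.s5, mul_assoc,
        mul_assoc, mul_smul, mul_smul, x12_x21_o D H hab, ← mul_smul (x31 _), ← mul_smul, ← (D.c4 _ _).eq,
        ← mul_assoc, D.s4', mul_assoc, mul_assoc, ← (D.c5 _ _).eq, ← mul_assoc (x31 _), ← D.add31, ← mul_assoc,
        mul_smul, H.f2]
      congr 4
      · field_simp
      · field_simp
        ring

/-- `x23 a` -/
theorem eq23 (a : F) {v w : Fin 3 → F} (h0 : w 0 = v 0) (h1 : w 1 = v 1 + a * v 2) (h2 : w 2 = v 2)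
    (hv : v ≠ 0) :
    π₂ (up a) • pt π₁ π₂ x31 o v = pt π₁ π₂ x31 o w := by
  by_cases hv0 : v 0 = 0
  · rw [hv0] at h0
    by_cases hv1 : v 1 = 0
    · have hv2 : v 2 ≠ 0 := by
        intro h
        apply hv
        ext i
        fin_cases i
        · exact hv0
        · exact hv1
        · exact h
      rw [hv1, zero_add] at h1
      by_cases ha : a = 0
      · subst ha
        rw [zero_mul] at h1
        rw [pt_two hv0 hv1, pt_two h0 h1, up_zero, map_one, one_smul]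
      · rw [pt_two hv0 hv1, ← mul_smul, x23_o3 D H ha, pt_one h0 (by rw [h1]; exact mul_ne_zero ha hv2), h1, h2]
        congr 4
        field_simp
    · by_cases hw1 : w 1 = 0
      · have hv2 : v 2 ≠ 0 := by
          intro h
          rw [h, mul_zero, add_zero] at h1
          exact hv1 (h1.symm.trans hw1)
        have hab : 1 + a * (v 2 / v 1) = 0 := by
          rw [hw1] at h1
          field_simp
          rw [mul_zero]
          exact h1.symm
        rw [pt_one hv0 hv1, pt_two h0 hw1, ← mul_smul, ← mul_assoc, x23_x32_o2' D H (div_ne_zero hv2 hv1) hab]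
      · have hab : 1 + a * (v 2 / v 1) ≠ 0 := by
          intro h
          apply hw1
          rw [h1]
          field_simp at h
          rwa [mul_zero] at h
        have hv' : v 1 + a * v 2 ≠ 0 := by rwa [← h1]
        rw [pt_one hv0 hv1, pt_one h0 hw1, h1, h2, ← mul_smul, ← mul_assoc, x23_x32_o2 D H hab]
        congr 4
        field_simp
  · rw [pt_zero hv0, pt_zero (by rwa [h0]), h0, h1, h2, ← mul_smul, ← mul_assoc, (D.c3 _ _).eq, mul_assoc, D.r6,
      ← mul_assoc, ← mul_assoc, ← map_mul, ← lo_add, mul_smul, H.f2]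
    congr 5
    field_simp

end action

/-! ### extension to `SL₃(F)` -/

section extension

open Cfsg.Agent.LieClassical.SLGen
open scoped commutatorElement

variable {Ω : Type*} [MulAction G Ω]

/-- `g` acts on the points as the matrix `A`. -/
def Rep (π₁ π₂ : SpecialLinearGroup (Fin 2) F →* G) (x31 : F → G) (o : Ω) (A : SpecialLinearGroup (Fin 3) F)
    (g : G) : Prop :=
  ∀ v : Fin 3 → F, v ≠ 0 → g • pt π₁ π₂ x31 o v = pt π₁ π₂ x31 o (A • v)

variable {π₁ π₂ : SpecialLinearGroup (Fin 2) F →* G} {x13 x31 : F → G} {o : Ω}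

theorem smul_ne_zero' (A : SpecialLinearGroup (Fin 3) F) {v : Fin 3 → F} (hv : v ≠ 0) : A • v ≠ 0 := by
  intro h
  apply hv
  have h1 : A⁻¹ • (A • v) = 0 := by rw [h, smul_zero]
  rwa [inv_smul_smul] at h1

theorem Rep.mul {A B : SpecialLinearGroup (Fin 3) F} {g h : G} (hA : Rep π₁ π₂ x31 o A g)
    (hB : Rep π₁ π₂ x31 o B h) : Rep π₁ π₂ x31 o (A * B) (g * h) := by
  intro v hv
  rw [mul_smul, hB v hv, hA _ (smul_ne_zero' B hv), mul_smul]

theorem Rep.inv {A : SpecialLinearGroup (Fin 3) F} {g : G} (hA : Rep π₁ π₂ x31 o A g) :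
    Rep π₁ π₂ x31 o A⁻¹ g⁻¹ := by
  intro v hv
  rw [inv_smul_eq_iff, hA _ (smul_ne_zero' A⁻¹ hv), smul_inv_smul]

theorem Rep.one : Rep π₁ π₂ x31 o (1 : SpecialLinearGroup (Fin 3) F) 1 := by
  intro v _
  rw [one_smul, one_smul]

/-- The elements acting trivially on all points. -/
def kern (π₁ π₂ : SpecialLinearGroup (Fin 2) F →* G) (x31 : F → G) (o : Ω) : Subgroup G where
  carrier := {g | Rep π₁ π₂ x31 o 1 g}
  one_mem' := Rep.one
  mul_mem' {g h} hg hh := by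
    have := Rep.mul hg hh
    rwa [mul_one] at this
  inv_mem' {g} hg := by
    have := Rep.inv hg
    rwa [inv_one] at this

section

variable (D : Data π₁ π₂ x13 x31) (H : Fixed π₁ π₂ x13 o)

include D H

theorem rep01 (h : (0 : Fin 3) ≠ 1) (a : F) :
    Rep π₁ π₂ x31 o (SpecialLinearGroup.transvection h a) (π₁ (up a)) := by
  intro v _
  apply eq12 D H a <;> rw [transvection_smul] <;> simp

theorem rep10 (h : (1 : Fin 3) ≠ 0) (a : F) :
    Rep π₁ π₂ x31 o (SpecialLinearGroup.transvection h a) (π₁ (lo a)) := by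
  intro v _
  apply eq21 D H a <;> rw [transvection_smul] <;> simp

theorem rep12 (h : (1 : Fin 3) ≠ 2) (a : F) :
    Rep π₁ π₂ x31 o (SpecialLinearGroup.transvection h a) (π₂ (up a)) := by
  intro v hv
  refine eq23 D H a ?_ ?_ ?_ hv <;> rw [transvection_smul] <;> simp

theorem rep21 (h : (2 : Fin 3) ≠ 1) (a : F) :
    Rep π₁ π₂ x31 o (SpecialLinearGroup.transvection h a) (π₂ (lo a)) := by
  intro v _
  apply eq32 D H a <;> rw [transvection_smul] <;> simp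

theorem rep02 (h : (0 : Fin 3) ≠ 2) (a : F) :
    ∃ g, Rep π₁ π₂ x31 o (SpecialLinearGroup.transvection h a) g := by
  have h01 : (0 : Fin 3) ≠ 1 := by decide
  have h12 : (1 : Fin 3) ≠ 2 := by decide
  have e := commutator_transvection (F := F) h h01 h12 a 1
  rw [mul_one] at e
  rw [← e, commutatorElement_def]
  exact ⟨_, ((((rep01 D H h01 a).mul (rep12 D H h12 1)).mul (rep01 D H h01 a).inv).mul (rep12 D H h12 1).inv)⟩

theorem rep20 (h : (2 : Fin 3) ≠ 0) (a : F) :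
    ∃ g, Rep π₁ π₂ x31 o (SpecialLinearGroup.transvection h a) g := by
  have h21 : (2 : Fin 3) ≠ 1 := by decide
  have h10 : (1 : Fin 3) ≠ 0 := by decide
  have e := commutator_transvection (F := F) h h21 h10 a 1
  rw [mul_one] at e
  rw [← e, commutatorElement_def]
  exact ⟨_, ((((rep21 D H h21 a).mul (rep10 D H h10 1)).mul (rep21 D H h21 a).inv).mul (rep10 D H h10 1).inv)⟩

theorem exists_rep (A : SpecialLinearGroup (Fin 3) F) : ∃ g, Rep π₁ π₂ x31 o A g := by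
  refine transvection_induction (fun A => ∃ g, Rep π₁ π₂ x31 o A g) ?_ ?_ A
  · intro i j h c
    fin_cases i <;> fin_cases j
    · exact absurd rfl h
    · exact ⟨_, rep01 D H _ c⟩
    · exact rep02 D H _ c
    · exact ⟨_, rep10 D H _ c⟩
    · exact absurd rfl h
    · exact ⟨_, rep12 D H _ c⟩
    · exact rep20 D H _ c
    · exact ⟨_, rep21 D H _ c⟩
    · exact absurd rfl h
  · rintro A B ⟨g, hg⟩ ⟨h, hh⟩
    exact ⟨g * h, hg.mul hh⟩

/-- Every element of `G` acts as some matrix. -/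
theorem exists_rep' (hgen : ∀ Q : Subgroup G, (∀ A, π₁ A ∈ Q) → (∀ A, π₂ A ∈ Q) → Q = ⊤) (g : G) :
    ∃ A, Rep π₁ π₂ x31 o A g := by
  let Q : Subgroup G :=
    { carrier := {g | ∃ A, Rep π₁ π₂ x31 o A g}
      one_mem' := ⟨1, Rep.one⟩
      mul_mem' := by
        rintro g h ⟨A, hA⟩ ⟨B, hB⟩
        exact ⟨A * B, hA.mul hB⟩
      inv_mem' := by
        rintro g ⟨A, hA⟩
        exact ⟨A⁻¹, hA.inv⟩ }
  have h1 : ∀ A, π₁ A ∈ Q := by
    intro A
    refine sl2_induction (fun A => π₁ A ∈ Q) (fun a => ⟨_, rep01 D H (by decide) a⟩)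
      (fun a => ⟨_, rep10 D H (by decide) a⟩) (fun A B hA hB => ?_) A
    rw [map_mul]
    exact Q.mul_mem hA hB
  have h2 : ∀ A, π₂ A ∈ Q := by
    intro A
    refine sl2_induction (fun A => π₂ A ∈ Q) (fun a => ⟨_, rep12 D H (by decide) a⟩)
      (fun a => ⟨_, rep21 D H (by decide) a⟩) (fun A B hA hB => ?_) A
    rw [map_mul]
    exact Q.mul_mem hA hB
  have h3 : g ∈ Q := by
    rw [hgen Q h1 h2]
    trivial
  exact h3

theorem kern_normal (hgen : ∀ Q : Subgroup G, (∀ A, π₁ A ∈ Q) → (∀ A, π₂ A ∈ Q) → Q = ⊤) :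
    (kern π₁ π₂ x31 o).Normal := by
  constructor
  intro k hk g
  obtain ⟨A, hA⟩ := exists_rep' D H hgen g
  have h := (hA.mul hk).mul hA.inv
  rw [mul_one, mul_inv_cancel] at h
  exact h

theorem kern_le : kern π₁ π₂ x31 o ≤ MulAction.stabilizer G o := by
  intro k hk
  have h := hk (Pi.single 0 1) (by simp)
  have e : pt π₁ π₂ x31 o (Pi.single 0 1 : Fin 3 → F) = o := by
    rw [pt_zero (by simp)]
    simp [lo_zero, D.x31_zero]
  rw [one_smul, e] at h
  exact h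

theorem kern_eq_bot (hgen : ∀ Q : Subgroup G, (∀ A, π₁ A ∈ Q) → (∀ A, π₂ A ∈ Q) → Q = ⊤)
    (hcore : (MulAction.stabilizer G o).normalCore = ⊥) : kern π₁ π₂ x31 o = ⊥ := by
  have := kern_normal D H hgen
  rw [eq_bot_iff, ← hcore]
  exact Subgroup.normal_le_normalCore.2 (kern_le D H)

theorem rep_unique (hgen : ∀ Q : Subgroup G, (∀ A, π₁ A ∈ Q) → (∀ A, π₂ A ∈ Q) → Q = ⊤)
    (hcore : (MulAction.stabilizer G o).normalCore = ⊥) {A : SpecialLinearGroup (Fin 3) F} {g h : G}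
    (hg : Rep π₁ π₂ x31 o A g) (hh : Rep π₁ π₂ x31 o A h) : g = h := by
  have h1 := hg.mul hh.inv
  rw [mul_inv_cancel] at h1
  have h2 : g * h⁻¹ ∈ kern π₁ π₂ x31 o := h1
  rw [kern_eq_bot D H hgen hcore, Subgroup.mem_bot, mul_inv_eq_one] at h2
  exact h2

/-- **Recognition of quotients of `SL₃(F)`.** -/
theorem exists_hom (hgen : ∀ Q : Subgroup G, (∀ A, π₁ A ∈ Q) → (∀ A, π₂ A ∈ Q) → Q = ⊤)
    (hcore : (MulAction.stabilizer G o).normalCore = ⊥) :
    ∃ f : SpecialLinearGroup (Fin 3) F →* G, Function.Surjective f ∧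
      (∀ (h : (0 : Fin 3) ≠ 1) (a : F), f (SpecialLinearGroup.transvection h a) = π₁ (up a)) ∧
      (∀ (h : (1 : Fin 3) ≠ 0) (a : F), f (SpecialLinearGroup.transvection h a) = π₁ (lo a)) ∧
      (∀ (h : (1 : Fin 3) ≠ 2) (a : F), f (SpecialLinearGroup.transvection h a) = π₂ (up a)) ∧
      (∀ (h : (2 : Fin 3) ≠ 1) (a : F), f (SpecialLinearGroup.transvection h a) = π₂ (lo a)) := by
  choose f hf using exists_rep D H
  let φ : SpecialLinearGroup (Fin 3) F →* G := MonoidHom.mk' f fun A B =>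
    rep_unique D H hgen hcore (hf (A * B)) ((hf A).mul (hf B))
  have hφ : ∀ A, Rep π₁ π₂ x31 o A (φ A) := hf
  have hu : ∀ {A g}, Rep π₁ π₂ x31 o A g → φ A = g := fun h => rep_unique D H hgen hcore (hφ _) h
  refine ⟨φ, ?_, ?_, ?_, ?_, ?_⟩
  · intro g
    obtain ⟨A, hA⟩ := exists_rep' D H hgen g
    exact ⟨A, hu hA⟩
  · exact fun h a => hu (rep01 D H h a)
  · exact fun h a => hu (rep10 D H h a)
  · exact fun h a => hu (rep12 D H h a)
  · exact fun h a => hu (rep21 D H h a)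

/-- Version without core-freeness. -/
theorem exists_hom_quot (hgen : ∀ Q : Subgroup G, (∀ A, π₁ A ∈ Q) → (∀ A, π₂ A ∈ Q) → Q = ⊤) :
    ∃ (N : Subgroup G) (_ : N.Normal) (f : SpecialLinearGroup (Fin 3) F →* G ⧸ N),
      Function.Surjective f ∧ N ≤ MulAction.stabilizer G o := by
  have hN := kern_normal D H hgen
  refine ⟨kern π₁ π₂ x31 o, hN, ?_⟩
  choose f hf using exists_rep D H
  have huniq : ∀ {A : SpecialLinearGroup (Fin 3) F} {g h : G}, Rep π₁ π₂ x31 o A g → Rep π₁ π₂ x31 o A h →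
      (QuotientGroup.mk g : G ⧸ kern π₁ π₂ x31 o) = QuotientGroup.mk h := by
    intro A g h hg hh
    rw [QuotientGroup.eq]
    have h1 := hg.inv.mul hh
    rw [inv_mul_cancel] at h1
    exact h1
  refine ⟨MonoidHom.mk' (fun A => QuotientGroup.mk (f A)) fun A B =>
    huniq (hf (A * B)) ((hf A).mul (hf B)), ?_, kern_le D H⟩
  intro g
  obtain ⟨g, rfl⟩ := QuotientGroup.mk_surjective g
  obtain ⟨A, hA⟩ := exists_rep' D H hgen g
  exact ⟨A, huniq (hf A) hA⟩

/-- **Recognition of `PSL₃(F)`.** -/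
theorem nonempty_psl [IsSimpleGroup G] (hna : ∃ a b : G, a * b ≠ b * a)
    (hgen : ∀ Q : Subgroup G, (∀ A, π₁ A ∈ Q) → (∀ A, π₂ A ∈ Q) → Q = ⊤)
    (hst : MulAction.stabilizer G o ≠ ⊤) :
    Nonempty (G ≃* Matrix.ProjectiveSpecialLinearGroup (Fin 3) F) := by
  have hcore : (MulAction.stabilizer G o).normalCore = ⊥ := by
    rcases (inferInstance : (MulAction.stabilizer G o).normalCore.Normal).eq_bot_or_eq_top with h | h
    · exact h
    · exact absurd (top_le_iff.1 (h ▸ Subgroup.normalCore_le _)) hst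
  obtain ⟨f, hf, -⟩ := exists_hom D H hgen hcore
  have hZ : Subgroup.center G = ⊥ := by
    rcases (inferInstance : (Subgroup.center G).Normal).eq_bot_or_eq_top with h | h
    · exact h
    · exfalso
      obtain ⟨a, b, hab⟩ := hna
      apply hab
      have : a ∈ Subgroup.center G := by rw [h]; trivial
      exact (Subgroup.mem_center_iff.1 this b).symm
  have h1 : Subgroup.center (SpecialLinearGroup (Fin 3) F) ≤ f.ker := by
    intro z hz
    rw [MonoidHom.mem_ker]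
    have : f z ∈ Subgroup.center G := by
      rw [Subgroup.mem_center_iff]
      intro g
      obtain ⟨A, rfl⟩ := hf g
      rw [← map_mul, ← map_mul, Subgroup.mem_center_iff.1 hz A]
    rwa [hZ, Subgroup.mem_bot] at this
  have hsimple : IsSimpleGroup (Matrix.ProjectiveSpecialLinearGroup (Fin 3) F) := psl_isSimpleGroup (by simp)
  -- the induced map on the quotient
  let g : Matrix.ProjectiveSpecialLinearGroup (Fin 3) F →* G :=
    QuotientGroup.lift (Subgroup.center (SpecialLinearGroup (Fin 3) F)) f (fun x hx => h1 hx)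
  have hg : Function.Surjective g := by
    intro x
    obtain ⟨A, rfl⟩ := hf x
    exact ⟨QuotientGroup.mk A, rfl⟩
  have hker : g.ker = ⊥ := by
    rcases (inferInstance : g.ker.Normal).eq_bot_or_eq_top with h | h
    · exact h
    · exfalso
      obtain ⟨a, b, hab⟩ := hna
      obtain ⟨a', rfl⟩ := hg a
      obtain ⟨b', rfl⟩ := hg b
      have ha : a' ∈ g.ker := by rw [h]; trivial
      rw [MonoidHom.mem_ker] at ha
      rw [ha, one_mul, mul_one] at hab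
      exact hab rfl
  exact ⟨(MulEquiv.ofBijective g ⟨(MonoidHom.ker_eq_bot_iff g).1 hker, hg⟩).symm⟩

end

end extension

end Cfsg.Agent.Classification.SLThreeRec
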