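import Mathlib
import Cfsg.Agent.Classification.SLThreeRec

/-!
# Natural modules of `SL₂(F)` inside a group

`Nat2 π V₁ V₂`: `π : SL₂(F) →* G` normalises the abelian subgroup `V₁ V₂`; the upper unitriangular group centralises
`V₁` and maps `V₂` to `V₁` (commutators), dually for the lower one, and there are no fixed points. Then
`φ a v = ⁅π (up a), v⁆` satisfies `φ (a b) = φ a ∘ φ 1⁻¹ ∘ φ b`, i.e. `V₂` is an `F`-space and `V₁ V₂` is
a sum of natural modules.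
-/

set_option autoImplicit false
set_option linter.unusedSimpArgs false
set_option linter.unusedSectionVars false
set_option linter.unnecessarySeqFocus false

namespace Cfsg.Agent.Classification.SLTwoModule

open Matrix Cfsg.Agent.Lib.SL2Hom Cfsg.Agent.Classification.SLThreeRec
open scoped commutatorElement

variable {F G : Type*} [Field F] [Group G]

/-- `!![0, a; -a⁻¹, 0]` -/
def nn (a : F) (ha : a ≠ 0) : SpecialLinearGroup (Fin 2) F :=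
  ⟨!![0, a; -a⁻¹, 0], by simp [Matrix.det_fin_two, ha]⟩

theorem nn_eq (a : F) (ha : a ≠ 0) : nn a ha = up a * lo (-a⁻¹) * up a := by
  ext i j
  change (nn a ha).1 i j = ((up a).1 * (lo (-a⁻¹)).1 * (up a).1) i j
  fin_cases i <;> fin_cases j <;> simp [up, lo, nn, Matrix.mul_apply, Fin.sum_univ_two, ha]

theorem nn_eq' (a : F) (ha : a ≠ 0) : nn a ha = lo (-a⁻¹) * up a * lo (-a⁻¹) := by
  ext i j
  change (nn a ha).1 i j = ((lo (-a⁻¹)).1 * (up a).1 * (lo (-a⁻¹)).1) i j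
  fin_cases i <;> fin_cases j <;> simp [up, lo, nn, Matrix.mul_apply, Fin.sum_univ_two, ha]

theorem dg_eq (s : F) (hs : s ≠ 0) : dg s hs * nn 1 one_ne_zero = nn s hs := by
  ext i j
  change ((dg s hs).1 * (nn (1 : F) one_ne_zero).1) i j = (nn s hs).1 i j
  fin_cases i <;> fin_cases j <;> simp [dg, nn, Matrix.mul_apply, Fin.sum_univ_two]

theorem nn_lo (a : F) (ha : a ≠ 0) (c : F) : nn a ha * lo (-(a ^ 2)⁻¹ * c) = up c * nn a ha := by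
  ext i j
  change ((nn a ha).1 * (lo (-(a ^ 2)⁻¹ * c)).1) i j = ((up c).1 * (nn a ha).1) i j
  fin_cases i <;> fin_cases j <;> simp [up, lo, nn, Matrix.mul_apply, Fin.sum_univ_two] <;> field_simp

theorem nn_up (a : F) (ha : a ≠ 0) (c : F) : nn a ha * up (-a ^ 2 * c) = lo c * nn a ha := by
  ext i j
  change ((nn a ha).1 * (up (-a ^ 2 * c)).1) i j = ((lo c).1 * (nn a ha).1) i j
  fin_cases i <;> fin_cases j <;> simp [up, lo, nn, Matrix.mul_apply, Fin.sum_univ_two] <;> field_simp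

theorem dg_mul (a b : F) (ha : a ≠ 0) (hb : b ≠ 0) : dg (a * b) (mul_ne_zero ha hb) = dg a ha * dg b hb := by
  ext i j
  change (dg (a * b) (mul_ne_zero ha hb)).1 i j = ((dg a ha).1 * (dg b hb).1) i j
  fin_cases i <;> fin_cases j <;> simp [dg, Matrix.mul_apply, Fin.sum_univ_two, mul_comm]

theorem dg_up (s : F) (hs : s ≠ 0) : up s * dg s hs = dg s hs * up s⁻¹ := by
  ext i j
  change ((up s).1 * (dg s hs).1) i j = ((dg s hs).1 * (up s⁻¹).1) i j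
  fin_cases i <;> fin_cases j <;> simp [up, dg, Matrix.mul_apply, Fin.sum_univ_two, hs]

/-- The hypotheses. -/
structure Nat2 (π : SpecialLinearGroup (Fin 2) F →* G) (V₁ V₂ : Subgroup G) : Prop where
  ab1 : ∀ x ∈ V₁, ∀ y ∈ V₁, Commute x y
  ab2 : ∀ x ∈ V₂, ∀ y ∈ V₂, Commute x y
  ab12 : ∀ x ∈ V₁, ∀ y ∈ V₂, Commute x y
  c1 : ∀ (a : F), ∀ v ∈ V₁, Commute (π (up a)) v
  c2 : ∀ (a : F), ∀ v ∈ V₂, Commute (π (lo a)) v
  m1 : ∀ (a : F), ∀ v ∈ V₂, ⁅π (up a), v⁆ ∈ V₁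
  m2 : ∀ (a : F), ∀ v ∈ V₁, ⁅π (lo a), v⁆ ∈ V₂
  fix1 : ∀ v ∈ V₁, (∀ A, Commute (π A) v) → v = 1
  fix2 : ∀ v ∈ V₂, (∀ A, Commute (π A) v) → v = 1

theorem comm_mul_left (g h v : G) (hc : Commute g ⁅h, v⁆) : ⁅g * h, v⁆ = ⁅h, v⁆ * ⁅g, v⁆ := by
  have h1 : h * v * h⁻¹ = ⁅h, v⁆ * v := by rw [commutatorElement_def]; group
  have h2 : ⁅g * h, v⁆ = g * (h * v * h⁻¹) * g⁻¹ * v⁻¹ := by rw [commutatorElement_def]; group
  rw [h2, h1, ← mul_assoc, hc.eq, commutatorElement_def g v]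
  group

theorem comm_mul_right (g v w : G) (hc : Commute v ⁅g, w⁆) : ⁅g, v * w⁆ = ⁅g, v⁆ * ⁅g, w⁆ := by
  have h1 : ⁅g, v * w⁆ = ⁅g, v⁆ * (v * ⁅g, w⁆ * v⁻¹) := by
    rw [commutatorElement_def, commutatorElement_def, commutatorElement_def]; group
  rw [h1, hc.eq, mul_inv_cancel_right]

theorem comm_one_right (g : G) : ⁅g, (1 : G)⁆ = 1 := commutatorElement_one_right g

namespace Nat2

variable {π : SpecialLinearGroup (Fin 2) F →* G} {V₁ V₂ : Subgroup G} (N : Nat2 π V₁ V₂)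

include N

theorem up_add (a b : F) {v : G} (hv : v ∈ V₂) : ⁅π (up (a + b)), v⁆ = ⁅π (up a), v⁆ * ⁅π (up b), v⁆ := by
  rw [SLThreeRec.up_add, map_mul, comm_mul_left _ _ _ (N.c1 a _ (N.m1 b v hv))]
  exact (N.ab1 _ (N.m1 b v hv) _ (N.m1 a v hv)).eq

theorem lo_add (a b : F) {v : G} (hv : v ∈ V₁) : ⁅π (lo (a + b)), v⁆ = ⁅π (lo a), v⁆ * ⁅π (lo b), v⁆ := by
  rw [SLThreeRec.lo_add, map_mul, comm_mul_left _ _ _ (N.c2 a _ (N.m2 b v hv))]
  exact (N.ab2 _ (N.m2 b v hv) _ (N.m2 a v hv)).eq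

theorem up_zero {v : G} : ⁅π (up 0), v⁆ = 1 := by
  rw [SLThreeRec.up_zero, map_one, commutatorElement_one_left]

theorem lo_zero {v : G} : ⁅π (lo 0), v⁆ = 1 := by
  rw [SLThreeRec.lo_zero, map_one, commutatorElement_one_left]

theorem up_neg (a : F) {v : G} (hv : v ∈ V₂) : ⁅π (up (-a)), v⁆ = ⁅π (up a), v⁆⁻¹ := by
  rw [eq_inv_iff_mul_eq_one, ← N.up_add _ _ hv, neg_add_cancel, N.up_zero]

theorem lo_neg (a : F) {v : G} (hv : v ∈ V₁) : ⁅π (lo (-a)), v⁆ = ⁅π (lo a), v⁆⁻¹ := by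
  rw [eq_inv_iff_mul_eq_one, ← N.lo_add _ _ hv, neg_add_cancel, N.lo_zero]

theorem up_mul (a : F) {v w : G} (hv : v ∈ V₂) (hw : w ∈ V₂) :
    ⁅π (up a), v * w⁆ = ⁅π (up a), v⁆ * ⁅π (up a), w⁆ :=
  comm_mul_right _ _ _ (N.ab12 _ (N.m1 a w hw) _ hv).symm

theorem lo_mul (a : F) {v w : G} (hv : v ∈ V₁) (hw : w ∈ V₁) :
    ⁅π (lo a), v * w⁆ = ⁅π (lo a), v⁆ * ⁅π (lo a), w⁆ :=
  comm_mul_right _ _ _ (N.ab12 _ hv _ (N.m2 a w hw))

theorem up_inv (a : F) {v : G} (hv : v ∈ V₂) : ⁅π (up a), v⁻¹⁆ = ⁅π (up a), v⁆⁻¹ := by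
  rw [eq_inv_iff_mul_eq_one, ← N.up_mul a (V₂.inv_mem hv) hv, inv_mul_cancel, comm_one_right]

theorem lo_inv (a : F) {v : G} (hv : v ∈ V₁) : ⁅π (lo a), v⁻¹⁆ = ⁅π (lo a), v⁆⁻¹ := by
  rw [eq_inv_iff_mul_eq_one, ← N.lo_mul a (V₁.inv_mem hv) hv, inv_mul_cancel, comm_one_right]

theorem commute_all {v : G} (h1 : ∀ a : F, Commute (π (up a)) v) (h2 : ∀ a : F, Commute (π (lo a)) v)
    (A : SpecialLinearGroup (Fin 2) F) : Commute (π A) v :=
  sl2_induction (fun A => Commute (π A) v) h1 h2 (fun A B hA hB => by rw [map_mul]; exact hA.mul_left hB) A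

/-- Action of the Weyl element on `V₂`, and `ψ_{-a⁻¹} (φ_a v) = v⁻¹`. -/
theorem nn_aux {a : F} (ha : a ≠ 0) {v : G} (hv : v ∈ V₂) :
    ⁅π (lo (-a⁻¹)), ⁅π (up a), v⁆⁆ = v⁻¹ ∧ π (nn a ha) * v * (π (nn a ha))⁻¹ = ⁅π (up a), v⁆ := by
  set u := ⁅π (up a), v⁆ with hu
  have hu1 : u ∈ V₁ := N.m1 a v hv
  set w := ⁅π (lo (-a⁻¹)), u⁆ with hw
  have hw2 : w ∈ V₂ := N.m2 _ u hu1
  have e1 : π (lo (-a⁻¹)) * v * (π (lo (-a⁻¹)))⁻¹ = v := by
    rw [(N.c2 _ v hv).eq, mul_inv_cancel_right]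
  have e2 : π (up a) * v * (π (up a))⁻¹ = u * v := by
    rw [hu, commutatorElement_def]; group
  have e3 : π (lo (-a⁻¹)) * u * (π (lo (-a⁻¹)))⁻¹ = w * u := by
    rw [hw, commutatorElement_def]; group
  have hn : π (nn a ha) * v * (π (nn a ha))⁻¹ = w * v * u := by
    rw [nn_eq', map_mul, map_mul]
    have h0 : ∀ y x : G, y * x * y * v * (y * x * y)⁻¹ = y * (x * (y * v * y⁻¹) * x⁻¹) * y⁻¹ := by
      intro y x; group
    have h1 : ∀ y : G, y * (u * v) * y⁻¹ = (y * u * y⁻¹) * (y * v * y⁻¹) := by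
      intro y; group
    rw [h0, e1, e2, h1, e1, e3, mul_assoc, (N.ab12 u hu1 v hv).eq, mul_assoc]
  have hwv : w * v = 1 := by
    apply N.fix2 _ (V₂.mul_mem hw2 hv)
    apply N.commute_all
    · intro c
      have h1 : Commute (π (up c)) (π (nn a ha) * v * (π (nn a ha))⁻¹) := by
        have h2 : π (up c) = π (nn a ha) * π (lo (-(a ^ 2)⁻¹ * c)) * (π (nn a ha))⁻¹ := by
          rw [← map_mul, nn_lo, map_mul, mul_inv_cancel_right]
        rw [h2]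
        exact (Commute.conj_iff _).2 (N.c2 _ v hv)
      rw [hn] at h1
      have h3 := h1.mul_right (N.c1 c u hu1).inv_right
      rwa [mul_inv_cancel_right] at h3
    · intro c
      exact N.c2 c _ (V₂.mul_mem hw2 hv)
  refine ⟨eq_inv_of_mul_eq_one_left hwv, ?_⟩
  rw [hn, hwv, one_mul]

/-- The same for `V₁`. -/
theorem nn_aux' {a : F} (ha : a ≠ 0) {v : G} (hv : v ∈ V₁) : ⁅π (up a), ⁅π (lo (-a⁻¹)), v⁆⁆ = v⁻¹ := by
  set u := ⁅π (lo (-a⁻¹)), v⁆ with hu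
  have hu2 : u ∈ V₂ := N.m2 _ v hv
  set w := ⁅π (up a), u⁆ with hw
  have hw1 : w ∈ V₁ := N.m1 _ u hu2
  have e1 : π (up a) * v * (π (up a))⁻¹ = v := by
    rw [(N.c1 _ v hv).eq, mul_inv_cancel_right]
  have e2 : π (lo (-a⁻¹)) * v * (π (lo (-a⁻¹)))⁻¹ = u * v := by
    rw [hu, commutatorElement_def]; group
  have e3 : π (up a) * u * (π (up a))⁻¹ = w * u := by
    rw [hw, commutatorElement_def]; group
  have hn : π (nn a ha) * v * (π (nn a ha))⁻¹ = w * v * u := by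
    rw [nn_eq, map_mul, map_mul]
    have h0 : ∀ y x : G, y * x * y * v * (y * x * y)⁻¹ = y * (x * (y * v * y⁻¹) * x⁻¹) * y⁻¹ := by
      intro y x; group
    have h1 : ∀ y : G, y * (u * v) * y⁻¹ = (y * u * y⁻¹) * (y * v * y⁻¹) := by
      intro y; group
    rw [h0, e1, e2, h1, e1, e3, mul_assoc, ← (N.ab12 v hv u hu2).eq, mul_assoc]
  have hwv : w * v = 1 := by
    apply N.fix1 _ (V₁.mul_mem hw1 hv)
    apply N.commute_all
    · intro c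
      exact N.c1 c _ (V₁.mul_mem hw1 hv)
    · intro c
      have h1 : Commute (π (lo c)) (π (nn a ha) * v * (π (nn a ha))⁻¹) := by
        have h2 : π (lo c) = π (nn a ha) * π (up (-a ^ 2 * c)) * (π (nn a ha))⁻¹ := by
          rw [← map_mul, nn_up, map_mul, mul_inv_cancel_right]
        rw [h2]
        exact (Commute.conj_iff _).2 (N.c1 _ v hv)
      rw [hn] at h1
      have h3 := h1.mul_right (N.c2 c u hu2).inv_right
      rwa [mul_inv_cancel_right] at h3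
  exact eq_inv_of_mul_eq_one_left hwv

/-- `ψ_{a⁻¹} ∘ φ_a = 1` -/
theorem lo_up {a : F} (ha : a ≠ 0) {v : G} (hv : v ∈ V₂) : ⁅π (lo a⁻¹), ⁅π (up a), v⁆⁆ = v := by
  have h := (N.nn_aux ha hv).1
  rw [N.lo_neg _ (N.m1 a v hv), _root_.inv_inj] at h
  exact h

/-- `φ_a ∘ ψ_{a⁻¹} = 1` -/
theorem up_lo {a : F} (ha : a ≠ 0) {v : G} (hv : v ∈ V₁) : ⁅π (up a), ⁅π (lo a⁻¹), v⁆⁆ = v := by
  have h := N.nn_aux' ha hv
  rw [N.lo_neg _ hv, N.up_inv a (N.m2 _ v hv), _root_.inv_inj] at h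
  exact h

/-- The torus on `V₁`. -/
theorem dg_up1 {s : F} (hs : s ≠ 0) {v : G} (hv : v ∈ V₂) :
    π (dg s hs) * ⁅π (up 1), v⁆ * (π (dg s hs))⁻¹ = ⁅π (up s), v⁆ := by
  rw [← (N.nn_aux one_ne_zero hv).2, ← (N.nn_aux hs hv).2, ← dg_eq s hs, map_mul]
  group

theorem up_mul_eq (a b : F) {v : G} (hv : v ∈ V₂) :
    ⁅π (up (a * b)), v⁆ = ⁅π (up a), ⁅π (lo 1), ⁅π (up b), v⁆⁆⁆ := by
  have h1 : ∀ w ∈ V₁, ⁅π (up 1), ⁅π (lo 1), w⁆⁆ = w := by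
    intro w hw
    have := N.up_lo one_ne_zero hw
    rwa [inv_one] at this
  by_cases ha : a = 0
  · subst ha
    rw [zero_mul, N.up_zero, N.up_zero]
  by_cases hb : b = 0
  · subst hb
    rw [mul_zero, N.up_zero, comm_one_right, comm_one_right]
  rw [← N.dg_up1 (mul_ne_zero ha hb) hv, dg_mul a b ha hb, map_mul]
  have hu := N.m1 b v hv
  rw [← N.dg_up1 ha (N.m2 1 _ hu), h1 _ hu, ← N.dg_up1 hb hv]
  group

/-- The torus on `V₂`. -/
theorem dg_two {s : F} (hs : s ≠ 0) {v : G} (hv : v ∈ V₂) :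
    ⁅π (up s), π (dg s hs) * v * (π (dg s hs))⁻¹⁆ = ⁅π (up 1), v⁆ := by
  have h1 : ∀ w ∈ V₁, ⁅π (up 1), ⁅π (lo 1), w⁆⁆ = w := by
    intro w hw
    have := N.up_lo one_ne_zero hw
    rwa [inv_one] at this
  have e1 : ⁅π (up s), π (dg s hs) * v * (π (dg s hs))⁻¹⁆ =
      π (dg s hs) * ⁅π (up s⁻¹), v⁆ * (π (dg s hs))⁻¹ := by
    have e2 : π (up s) * π (dg s hs) = π (dg s hs) * π (up s⁻¹) := by
      rw [← map_mul, dg_up, map_mul]
    have e3 : (π (up s⁻¹))⁻¹ = (π (dg s hs))⁻¹ * (π (up s))⁻¹ * π (dg s hs) := by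
      have : (π (up s) * π (dg s hs))⁻¹ = (π (dg s hs) * π (up s⁻¹))⁻¹ := by rw [e2]
      rw [_root_.mul_inv_rev, _root_.mul_inv_rev] at this
      rw [this]; group
    rw [commutatorElement_def, commutatorElement_def, e3]
    calc π (up s) * (π (dg s hs) * v * (π (dg s hs))⁻¹) * (π (up s))⁻¹ *
          (π (dg s hs) * v * (π (dg s hs))⁻¹)⁻¹
        = (π (up s) * π (dg s hs)) * v * ((π (dg s hs))⁻¹ * (π (up s))⁻¹) *
          (π (dg s hs) * v⁻¹ * (π (dg s hs))⁻¹) := by group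
      _ = _ := by rw [e2]; group
  have hu := N.m1 s⁻¹ v hv
  rw [e1]
  conv_lhs => rw [← h1 _ hu]
  rw [N.dg_up1 hs (N.m2 1 _ hu), ← N.up_mul_eq s s⁻¹ hv, mul_inv_cancel₀ hs]

/-- The torus on `V₂`, explicit form. -/
theorem dg_conj2 {s : F} (hs : s ≠ 0) {v : G} (hv : v ∈ V₂) :
    π (dg s hs) * v * (π (dg s hs))⁻¹ = ⁅π (lo s⁻¹), ⁅π (up 1), v⁆⁆ := by
  have hm : (-1 : F) ≠ 0 := neg_ne_zero.2 one_ne_zero
  have hs' : -s ≠ 0 := neg_ne_zero.2 hs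
  have e0 : nn (-s) hs' * dg s hs = nn (-1) hm := by
    ext i j
    change ((nn (-s) hs').1 * (dg s hs).1) i j = (nn (-1 : F) hm).1 i j
    fin_cases i <;> fin_cases j <;> simp [dg, nn, Matrix.mul_apply, Fin.sum_univ_two, hs]
  have e1 := (N.nn_aux hm hv).2
  set w := ⁅π (up (-1)), v⁆ with hw
  have hw1 : w ∈ V₁ := N.m1 _ v hv
  have e2 : ⁅π (up (-s)), ⁅π (lo (-s)⁻¹), w⁆⁆ = w := N.up_lo hs' hw1
  have e3 := (N.nn_aux hs' (N.m2 (-s)⁻¹ w hw1)).2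
  rw [e2] at e3
  have e4 : ⁅π (lo (-s)⁻¹), w⁆ = ⁅π (lo s⁻¹), ⁅π (up 1), v⁆⁆ := by
    rw [inv_neg, N.lo_neg _ hw1, hw, N.up_neg _ hv, N.lo_inv _ (N.m1 1 v hv), inv_inv]
  rw [← e4]
  have e5 : π (dg s hs) = (π (nn (-s) hs'))⁻¹ * π (nn (-1) hm) := by
    rw [← e0, map_mul, inv_mul_cancel_left]
  calc π (dg s hs) * v * (π (dg s hs))⁻¹
      = (π (nn (-s) hs'))⁻¹ * (π (nn (-1) hm) * v * (π (nn (-1) hm))⁻¹) * π (nn (-s) hs') := by
        rw [e5]; group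
    _ = (π (nn (-s) hs'))⁻¹ * w * π (nn (-s) hs') := by rw [e1]
    _ = _ := by
        have : ∀ x y z : G, x * y * x⁻¹ = z → x⁻¹ * z * x = y := by
          rintro x y z rfl; group
        exact this _ _ _ e3

end Nat2

end Cfsg.Agent.Classification.SLTwoModule
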