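import Mathlib
import Cfsg.Agent.Classification.SLTwoModule
import Cfsg.Agent.SmallSimple.Embed

/-!
# Recognition of `PSL₃(F)` from two copies of `SL₂(F)` and the `A₂` commutator pattern

See `Local` for the hypotheses (containments between commutators of six root subgroups only, no parametrisation and no
structure constants) and `nonempty_psl_three` for the result.
-/

set_option autoImplicit false
set_option linter.unusedSimpArgs false
set_option linter.unusedSectionVars false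

namespace Cfsg.Agent.Classification.PSLThreeRecog

open Matrix Cfsg.Agent.Lib.SL2Hom Cfsg.Agent.Classification.SLThreeRec Cfsg.Agent.Classification.SLTwoModule
open scoped commutatorElement

variable {F G : Type*} [Field F] [Group G]

/-- The subgroup of the images of the upper unitriangular matrices. -/
def upS (π : SpecialLinearGroup (Fin 2) F →* G) : Subgroup G where
  carrier := {g | ∃ a, g = π (up a)}
  one_mem' := ⟨0, by rw [up_zero, map_one]⟩
  mul_mem' := by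
    rintro _ _ ⟨a, rfl⟩ ⟨b, rfl⟩
    exact ⟨a + b, by rw [SLThreeRec.up_add, map_mul]⟩
  inv_mem' := by
    rintro _ ⟨a, rfl⟩
    exact ⟨-a, by rw [up_neg, map_inv]⟩

/-- The subgroup of the images of the lower unitriangular matrices. -/
def loS (π : SpecialLinearGroup (Fin 2) F →* G) : Subgroup G where
  carrier := {g | ∃ a, g = π (lo a)}
  one_mem' := ⟨0, by rw [lo_zero, map_one]⟩
  mul_mem' := by
    rintro _ _ ⟨a, rfl⟩ ⟨b, rfl⟩
    exact ⟨a + b, by rw [SLThreeRec.lo_add, map_mul]⟩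
  inv_mem' := by
    rintro _ ⟨a, rfl⟩
    exact ⟨-a, by rw [lo_neg, map_inv]⟩

theorem mem_upS {π : SpecialLinearGroup (Fin 2) F →* G} {g : G} : g ∈ upS π ↔ ∃ a, g = π (up a) := Iff.rfl
theorem mem_loS {π : SpecialLinearGroup (Fin 2) F →* G} {g : G} : g ∈ loS π ↔ ∃ a, g = π (lo a) := Iff.rfl

/-- Local data of type `A₂`: think `x12 = π₁ ∘ up`, `x21 = π₁ ∘ lo`, `x23 = π₂ ∘ up`, `x32 = π₂ ∘ lo`, `U = X13`,
`V = X31`. -/
structure Local (π₁ π₂ : SpecialLinearGroup (Fin 2) F →* G) (U V : Subgroup G) : Prop where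
  inj : ∀ a, π₂ (up a) = 1 → a = 0
  abU : ∀ x ∈ U, ∀ y ∈ U, Commute x y
  abV : ∀ x ∈ V, ∀ y ∈ V, Commute x y
  k12_U : ∀ (a : F), ∀ u ∈ U, Commute (π₁ (up a)) u
  kU_23 : ∀ u ∈ U, ∀ (a : F), Commute u (π₂ (up a))
  k23_21 : ∀ a b : F, Commute (π₂ (up a)) (π₁ (lo b))
  k21_V : ∀ (a : F), ∀ v ∈ V, Commute (π₁ (lo a)) v
  kV_32 : ∀ v ∈ V, ∀ (a : F), Commute v (π₂ (lo a))
  k32_12 : ∀ a b : F, Commute (π₂ (lo a)) (π₁ (up b))
  m12_23 : ∀ a b : F, ⁅π₁ (up a), π₂ (up b)⁆ ∈ U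
  mU_32 : ∀ u ∈ U, ∀ b : F, ∃ c, ⁅u, π₂ (lo b)⁆ = π₁ (up c)
  m21_U : ∀ u ∈ U, ∀ a : F, ∃ c, ⁅π₁ (lo a), u⁆ = π₂ (up c)
  m32_21 : ∀ a b : F, ⁅π₂ (lo a), π₁ (lo b)⁆ ∈ V
  mV_12 : ∀ v ∈ V, ∀ b : F, ∃ c, ⁅v, π₁ (up b)⁆ = π₂ (lo c)
  m23_V : ∀ v ∈ V, ∀ a : F, ∃ c, ⁅π₂ (up a), v⁆ = π₁ (lo c)
  f1U : ∀ x ∈ U, (∀ A, Commute (π₁ A) x) → x = 1
  f1V : ∀ x ∈ V, (∀ A, Commute (π₁ A) x) → x = 1
  f1u : ∀ a : F, (∀ A, Commute (π₁ A) (π₂ (up a))) → π₂ (up a) = 1
  f1l : ∀ a : F, (∀ A, Commute (π₁ A) (π₂ (lo a))) → π₂ (lo a) = 1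
  f2U : ∀ x ∈ U, (∀ A, Commute (π₂ A) x) → x = 1
  f2V : ∀ x ∈ V, (∀ A, Commute (π₂ A) x) → x = 1
  f2u : ∀ a : F, (∀ A, Commute (π₂ A) (π₁ (up a))) → π₁ (up a) = 1
  f2l : ∀ a : F, (∀ A, Commute (π₂ A) (π₁ (lo a))) → π₁ (lo a) = 1
  torus : ∀ (s : F) (hs : s ≠ 0), ∃ l : F, l ≠ 0 ∧ ∀ a : F,
    π₁ (dg s hs) * π₂ (up a) = π₂ (up (l * a)) * π₁ (dg s hs) ∧
      π₁ (dg s hs) * π₂ (lo a) = π₂ (lo (l⁻¹ * a)) * π₁ (dg s hs)

namespace Local

variable {π₁ π₂ : SpecialLinearGroup (Fin 2) F →* G} {U V : Subgroup G} (L : Local π₁ π₂ U V)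

theorem comm_inv' {x y z : G} (h : ⁅x, y⁆ = z) : ⁅y, x⁆ = z⁻¹ := by
  rw [← h, commutatorElement_inv]

include L

theorem nA : Nat2 π₁ U (upS π₂) where
  ab1 := L.abU
  ab2 := by
    rintro _ ⟨a, rfl⟩ _ ⟨b, rfl⟩
    rw [commute_iff_eq, ← map_mul, ← map_mul, ← SLThreeRec.up_add, ← SLThreeRec.up_add, add_comm]
  ab12 := by
    rintro x hx _ ⟨b, rfl⟩
    exact L.kU_23 x hx b
  c1 := L.k12_U
  c2 := by
    rintro a _ ⟨b, rfl⟩
    exact (L.k23_21 b a).symm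
  m1 := by
    rintro a _ ⟨b, rfl⟩
    exact L.m12_23 a b
  m2 := fun a v hv => L.m21_U v hv a
  fix1 := L.f1U
  fix2 := by
    rintro _ ⟨b, rfl⟩ h
    exact L.f1u b h

theorem nB : Nat2 π₁ (loS π₂) V where
  ab1 := by
    rintro _ ⟨a, rfl⟩ _ ⟨b, rfl⟩
    rw [commute_iff_eq, ← map_mul, ← map_mul, ← SLThreeRec.lo_add, ← SLThreeRec.lo_add, add_comm]
  ab2 := L.abV
  ab12 := by
    rintro _ ⟨b, rfl⟩ y hy
    exact (L.kV_32 y hy b).symm
  c1 := by
    rintro a _ ⟨b, rfl⟩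
    exact (L.k32_12 b a).symm
  c2 := L.k21_V
  m1 := by
    intro a v hv
    obtain ⟨c, hc⟩ := L.mV_12 v hv a
    refine ⟨-c, ?_⟩
    rw [comm_inv' hc, lo_neg, map_inv]
  m2 := by
    rintro a _ ⟨b, rfl⟩
    rw [comm_inv' (rfl : ⁅π₂ (lo b), π₁ (lo a)⁆ = _)]
    exact V.inv_mem (L.m32_21 b a)
  fix1 := by
    rintro _ ⟨b, rfl⟩ h
    exact L.f1l b h
  fix2 := L.f1V

theorem nC : Nat2 π₂ U (upS π₁) where
  ab1 := L.abU
  ab2 := by
    rintro _ ⟨a, rfl⟩ _ ⟨b, rfl⟩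
    rw [commute_iff_eq, ← map_mul, ← map_mul, ← SLThreeRec.up_add, ← SLThreeRec.up_add, add_comm]
  ab12 := by
    rintro x hx _ ⟨b, rfl⟩
    exact (L.k12_U b x hx).symm
  c1 := fun a v hv => (L.kU_23 v hv a).symm
  c2 := by
    rintro a _ ⟨b, rfl⟩
    exact L.k32_12 a b
  m1 := by
    rintro a _ ⟨b, rfl⟩
    rw [comm_inv' (rfl : ⁅π₁ (up b), π₂ (up a)⁆ = _)]
    exact U.inv_mem (L.m12_23 b a)
  m2 := by
    intro a v hv
    obtain ⟨c, hc⟩ := L.mU_32 v hv a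
    refine ⟨-c, ?_⟩
    rw [comm_inv' hc, up_neg, map_inv]
  fix1 := L.f2U
  fix2 := by
    rintro _ ⟨b, rfl⟩ h
    exact L.f2u b h

theorem nD : Nat2 π₂ (loS π₁) V where
  ab1 := by
    rintro _ ⟨a, rfl⟩ _ ⟨b, rfl⟩
    rw [commute_iff_eq, ← map_mul, ← map_mul, ← SLThreeRec.lo_add, ← SLThreeRec.lo_add, add_comm]
  ab2 := L.abV
  ab12 := by
    rintro _ ⟨b, rfl⟩ y hy
    exact L.k21_V b y hy
  c1 := by
    rintro a _ ⟨b, rfl⟩
    exact L.k23_21 a b
  c2 := fun a v hv => (L.kV_32 v hv a).symm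
  m1 := fun a v hv => L.m23_V v hv a
  m2 := by
    rintro a _ ⟨b, rfl⟩
    exact L.m32_21 a b
  fix1 := by
    rintro _ ⟨b, rfl⟩ h
    exact L.f2l b h
  fix2 := L.f2V

theorem inj' {a b : F} (h : π₂ (up a) = π₂ (up b)) : a = b := by
  have : π₂ (up (a - b)) = 1 := by
    rw [sub_eq_add_neg, SLThreeRec.up_add, map_mul, up_neg, map_inv, h, mul_inv_cancel]
  exact sub_eq_zero.1 (L.inj _ this)

/-- `ψ_1 φ_b` applied to `π₂ (up 1)` is the conjugate by the torus element with parameter `b⁻¹`. -/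
theorem base_conj {b : F} (hb : b ≠ 0) :
    ⁅π₁ (lo 1), ⁅π₁ (up b), π₂ (up 1)⁆⁆ =
      π₁ (dg b⁻¹ (inv_ne_zero hb)) * π₂ (up 1) * (π₁ (dg b⁻¹ (inv_ne_zero hb)))⁻¹ := by
  have hv : π₂ (up 1) ∈ upS π₂ := ⟨1, rfl⟩
  rw [L.nA.dg_conj2 (inv_ne_zero hb) hv, inv_inv]
  -- both have the same image under `φ_{b⁻¹}`
  have h1 : ⁅π₁ (up b⁻¹), ⁅π₁ (lo 1), ⁅π₁ (up b), π₂ (up 1)⁆⁆⁆ = ⁅π₁ (up 1), π₂ (up 1)⁆ := by
    rw [← L.nA.up_mul_eq _ _ hv, inv_mul_cancel₀ hb]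
  have h2 := L.nA.lo_up (inv_ne_zero hb) (L.nA.m2 1 _ (L.nA.m1 b _ hv))
  rw [h1, inv_inv] at h2
  exact h2.symm

/-- The torus acts on `X23` and `X32` through a field automorphism. -/
theorem exists_theta : ∃ θ : F →+* F, ∀ (s : F) (hs : s ≠ 0) (a : F),
    π₁ (dg s hs) * π₂ (up a) = π₂ (up ((θ s)⁻¹ * a)) * π₁ (dg s hs) ∧
      π₁ (dg s hs) * π₂ (lo a) = π₂ (lo (θ s * a)) * π₁ (dg s hs) := by
  have hv : π₂ (up 1) ∈ upS π₂ := ⟨1, rfl⟩
  have h1 : ∀ b : F, ∃ c, ⁅π₁ (lo 1), ⁅π₁ (up b), π₂ (up 1)⁆⁆ = π₂ (up c) := fun b =>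
    L.nA.m2 1 _ (L.nA.m1 b _ hv)
  choose θ hθ using h1
  have hconj : ∀ (b : F) (hb : b ≠ 0), π₁ (dg b⁻¹ (inv_ne_zero hb)) * π₂ (up 1) =
      π₂ (up (θ b)) * π₁ (dg b⁻¹ (inv_ne_zero hb)) := by
    intro b hb
    rw [← hθ, L.base_conj hb, inv_mul_cancel_right]
  have hadd : ∀ a b, θ (a + b) = θ a + θ b := by
    intro a b
    apply L.inj'
    have e1 := hθ (a + b)
    rw [L.nA.up_add _ _ hv, L.nA.lo_mul 1 (L.nA.m1 _ _ hv) (L.nA.m1 _ _ hv), hθ, hθ] at e1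
    rw [← e1, ← map_mul, ← SLThreeRec.up_add]
  have hone : θ 1 = 1 := by
    apply L.inj'
    rw [← hθ]
    have := L.nA.lo_up one_ne_zero hv
    rwa [inv_one] at this
  have hzero : θ 0 = 0 := by
    have := hadd 0 0
    rw [add_zero] at this
    simpa using this
  have hl : ∀ (s : F) (hs : s ≠ 0), ∀ a : F,
      π₁ (dg s hs) * π₂ (up a) = π₂ (up (θ s⁻¹ * a)) * π₁ (dg s hs) ∧
      π₁ (dg s hs) * π₂ (lo a) = π₂ (lo ((θ s⁻¹)⁻¹ * a)) * π₁ (dg s hs) := by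
    intro s hs
    obtain ⟨l, hl0, hl⟩ := L.torus s hs
    have h2 := (hl 1).1
    have h3 := hconj s⁻¹ (inv_ne_zero hs)
    simp only [inv_inv] at h3
    rw [h3, mul_one] at h2
    have h4 := L.inj' (mul_right_cancel h2)
    rw [h4]
    exact hl
  have hmul : ∀ a b, θ (a * b) = θ a * θ b := by
    intro a b
    by_cases ha : a = 0
    · subst ha; rw [zero_mul, hzero, zero_mul]
    by_cases hb : b = 0
    · subst hb; rw [mul_zero, hzero, mul_zero]
    have h2 := (hl (a⁻¹ * b⁻¹) (mul_ne_zero (inv_ne_zero ha) (inv_ne_zero hb)) 1).1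
    have h3 := (hl a⁻¹ (inv_ne_zero ha)) (θ b)
    have h4 := (hl b⁻¹ (inv_ne_zero hb)) 1
    rw [dg_mul a⁻¹ b⁻¹ (inv_ne_zero ha) (inv_ne_zero hb), map_mul, mul_assoc, h4.1, inv_inv, mul_one, ← mul_assoc,
      h3.1, inv_inv, mul_assoc] at h2
    have h5 := L.inj' (mul_right_cancel h2)
    rw [mul_one, _root_.mul_inv, inv_inv, inv_inv] at h5
    exact h5.symm
  let Θ : F →+* F :=
    { toFun := θ
      map_one' := hone
      map_mul' := hmul
      map_zero' := hzero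
      map_add' := hadd }
  refine ⟨Θ, fun s hs a => ?_⟩
  have h2 : (Θ s)⁻¹ = θ s⁻¹ := (map_inv₀ Θ s).symm
  have h3 : Θ s = (θ s⁻¹)⁻¹ := by rw [← h2, inv_inv]
  rw [h2, h3]
  exact hl s hs a

end Local

theorem map_up (θ : F →+* F) (a : F) : SpecialLinearGroup.map θ (up a) = up (θ a) := by
  ext i j
  rw [SpecialLinearGroup.map_apply_coe]
  fin_cases i <;> fin_cases j <;> simp [up]

theorem map_lo (θ : F →+* F) (a : F) : SpecialLinearGroup.map θ (lo a) = lo (θ a) := by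
  ext i j
  rw [SpecialLinearGroup.map_apply_coe]
  fin_cases i <;> fin_cases j <;> simp [lo]

theorem map_dg (θ : F →+* F) (a : F) (ha : a ≠ 0) (ha' : θ a ≠ 0) :
    SpecialLinearGroup.map θ (dg a ha) = dg (θ a) ha' := by
  ext i j
  rw [SpecialLinearGroup.map_apply_coe]
  fin_cases i <;> fin_cases j <;> simp [dg]

/-- Twisting `π₂` by a surjective field endomorphism. -/
theorem Local.twist {π₁ π₂ : SpecialLinearGroup (Fin 2) F →* G} {U V : Subgroup G} (L : Local π₁ π₂ U V)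
    (θ : F →+* F) (hθ : Function.Surjective θ) :
    Local π₁ (π₂.comp (SpecialLinearGroup.map θ)) U V := by
  have hu : ∀ a, (π₂.comp (SpecialLinearGroup.map θ)) (up a) = π₂ (up (θ a)) := by
    intro a; rw [MonoidHom.comp_apply, map_up]
  have hl : ∀ a, (π₂.comp (SpecialLinearGroup.map θ)) (lo a) = π₂ (lo (θ a)) := by
    intro a; rw [MonoidHom.comp_apply, map_lo]
  have hall : ∀ x : G, (∀ A, Commute ((π₂.comp (SpecialLinearGroup.map θ)) A) x) → ∀ A, Commute (π₂ A) x := by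
    intro x hx
    apply sl2_induction (fun A => Commute (π₂ A) x)
    · intro a
      obtain ⟨b, rfl⟩ := hθ a
      have := hx (up b)
      rwa [hu] at this
    · intro a
      obtain ⟨b, rfl⟩ := hθ a
      have := hx (lo b)
      rwa [hl] at this
    · intro A B hA hB
      rw [map_mul]
      exact hA.mul_left hB
  constructor
  · intro a h
    rw [hu] at h
    exact (map_eq_zero θ).1 (L.inj _ h)
  · exact L.abU
  · exact L.abV
  · exact L.k12_U
  · intro u hu' a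
    rw [hu]
    exact L.kU_23 u hu' _
  · intro a b
    rw [hu]
    exact L.k23_21 _ b
  · exact L.k21_V
  · intro v hv a
    rw [hl]
    exact L.kV_32 v hv _
  · intro a b
    rw [hl]
    exact L.k32_12 _ b
  · intro a b
    rw [hu]
    exact L.m12_23 a _
  · intro u hu' b
    rw [hl]
    exact L.mU_32 u hu' _
  · intro u hu' a
    obtain ⟨c, hc⟩ := L.m21_U u hu' a
    obtain ⟨d, rfl⟩ := hθ c
    exact ⟨d, by rw [hc, hu]⟩
  · intro a b
    rw [hl]
    exact L.m32_21 _ b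
  · intro v hv b
    obtain ⟨c, hc⟩ := L.mV_12 v hv b
    obtain ⟨d, rfl⟩ := hθ c
    exact ⟨d, by rw [hc, hl]⟩
  · intro v hv a
    rw [hu]
    exact L.m23_V v hv _
  · exact L.f1U
  · exact L.f1V
  · intro a h
    rw [hu] at h ⊢
    exact L.f1u _ h
  · intro a h
    rw [hl] at h ⊢
    exact L.f1l _ h
  · exact fun x hx h => L.f2U x hx (hall x h)
  · exact fun x hx h => L.f2V x hx (hall x h)
  · exact fun a h => L.f2u a (hall _ h)
  · exact fun a h => L.f2l a (hall _ h)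
  · intro s hs
    obtain ⟨l, hl0, hl'⟩ := L.torus s hs
    obtain ⟨m, rfl⟩ := hθ l
    have hm : m ≠ 0 := by
      rintro rfl
      exact hl0 (map_zero θ)
    refine ⟨m, hm, fun a => ?_⟩
    rw [hu, hu, hl, hl, map_mul, map_mul, map_inv₀]
    exact hl' (θ a)

section data

variable {π₁ π₂ : SpecialLinearGroup (Fin 2) F →* G} {U V : Subgroup G} (L : Local π₁ π₂ U V)
  (ht : ∀ (s : F) (hs : s ≠ 0) (a : F),
    π₁ (dg s hs) * π₂ (up a) = π₂ (up (s⁻¹ * a)) * π₁ (dg s hs) ∧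
      π₁ (dg s hs) * π₂ (lo a) = π₂ (lo (s * a)) * π₁ (dg s hs))

include L ht

/-- `ψ_1 (φ_b (x23 1)) = x23 b` -/
theorem base (b : F) : ⁅π₁ (lo 1), ⁅π₁ (up b), π₂ (up 1)⁆⁆ = π₂ (up b) := by
  by_cases hb : b = 0
  · subst hb
    rw [up_zero, map_one, map_one, commutatorElement_one_left, comm_one_right]
  · rw [L.base_conj hb, (ht b⁻¹ (inv_ne_zero hb) 1).1, inv_inv, mul_one, mul_inv_cancel_right]

/-- `[x12 a, x23 b] = x13 (a b)` -/
theorem e1 (a b : F) : ⁅π₁ (up a), π₂ (up b)⁆ = ⁅π₁ (up (a * b)), π₂ (up 1)⁆ := by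
  rw [L.nA.up_mul_eq a b ⟨1, rfl⟩, base L ht]

/-- `[x21 a, x13 b] = x23 (a b)` -/
theorem e3 (a b : F) : ⁅π₁ (lo a), ⁅π₁ (up b), π₂ (up 1)⁆⁆ = π₂ (up (a * b)) := by
  by_cases ha : a = 0
  · subst ha
    rw [lo_zero, map_one, commutatorElement_one_left, zero_mul, up_zero, map_one]
  · have h1 := e1 L ht a⁻¹ (a * b)
    rw [inv_mul_cancel_left₀ ha] at h1
    rw [← h1]
    have h2 := L.nA.lo_up (inv_ne_zero ha) (v := π₂ (up (a * b))) ⟨_, rfl⟩
    rwa [inv_inv] at h2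

theorem x13_neg' (a : F) : ⁅π₁ (up (-a)), π₂ (up 1)⁆ = ⁅π₁ (up a), π₂ (up 1)⁆⁻¹ :=
  L.nA.up_neg a ⟨1, rfl⟩

/-- `[x32 b, x13 a] = x12 (- a b)` -/
theorem e2 (a b : F) : ⁅π₂ (lo b), ⁅π₁ (up a), π₂ (up 1)⁆⁆ = π₁ (up (-(a * b))) := by
  by_cases hb : b = 0
  · subst hb
    rw [lo_zero, map_one, commutatorElement_one_left, mul_zero, neg_zero, up_zero, map_one]
  · have h1 : ⁅π₂ (up b⁻¹), π₁ (up (-(a * b)))⁆ = ⁅π₁ (up a), π₂ (up 1)⁆ := by
      rw [Local.comm_inv' (e1 L ht (-(a * b)) b⁻¹), ← x13_neg' L ht]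
      congr 3
      field_simp
    rw [← h1]
    have h2 := L.nC.lo_up (inv_ne_zero hb) (v := π₁ (up (-(a * b)))) ⟨_, rfl⟩
    rwa [inv_inv] at h2

/-- `φ_s (ψ_1 (x32 c)) = x32 (s c)` -/
theorem e5' (s c : F) : ⁅π₁ (up s), ⁅π₁ (lo 1), π₂ (lo c)⁆⁆ = π₂ (lo (s * c)) := by
  by_cases hs : s = 0
  · subst hs
    rw [up_zero, map_one, commutatorElement_one_left, zero_mul, lo_zero, map_one]
  · have hc : π₂ (lo c) ∈ loS π₂ := ⟨c, rfl⟩
    have h1 := L.nB.dg_up1 hs (L.nB.m2 1 _ hc)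
    have h2 := L.nB.up_lo one_ne_zero hc
    rw [inv_one] at h2
    rw [h2, (ht s hs c).2, mul_inv_cancel_right] at h1
    exact h1.symm

/-- `ψ_b (x32 a) = ψ_1 (x32 (a b))` -/
theorem e4' (a b : F) : ⁅π₁ (lo b), π₂ (lo a)⁆ = ⁅π₁ (lo 1), π₂ (lo (a * b))⁆ := by
  by_cases hb : b = 0
  · subst hb
    rw [lo_zero, map_one, commutatorElement_one_left, mul_zero, lo_zero, map_one, comm_one_right]
  · have h1 := e5' L ht b⁻¹ (a * b)
    have h2 : b⁻¹ * (a * b) = a := by field_simp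
    rw [h2] at h1
    have hc : π₂ (lo (a * b)) ∈ loS π₂ := ⟨_, rfl⟩
    have h3 := L.nB.lo_up (inv_ne_zero hb) (L.nB.m2 1 _ hc)
    rw [h1, inv_inv] at h3
    exact h3

theorem e4 (a b : F) : ⁅π₂ (lo a), π₁ (lo b)⁆ = ⁅π₂ (lo (a * b)), π₁ (lo 1)⁆ := by
  rw [Local.comm_inv' (e4' L ht a b), Local.comm_inv' (rfl : ⁅π₁ (lo 1), π₂ (lo (a * b))⁆ = _)]

theorem e5 (a b : F) : ⁅⁅π₂ (lo a), π₁ (lo 1)⁆, π₁ (up b)⁆ = π₂ (lo (a * b)) := by
  have hc : π₂ (lo a) ∈ loS π₂ := ⟨_, rfl⟩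
  have h1 : ⁅π₁ (up b), ⁅π₂ (lo a), π₁ (lo 1)⁆⁆ = (π₂ (lo (b * a)))⁻¹ := by
    rw [Local.comm_inv' (rfl : ⁅π₁ (lo 1), π₂ (lo a)⁆ = _), L.nB.up_inv b (L.nB.m2 1 _ hc), e5' L ht]
  rw [Local.comm_inv' h1, inv_inv, mul_comm]

theorem e6 (a b : F) : ⁅π₂ (up a), ⁅π₂ (lo b), π₁ (lo 1)⁆⁆ = π₁ (lo (a * b)) := by
  by_cases ha : a = 0
  · subst ha
    rw [up_zero, map_one, commutatorElement_one_left, zero_mul, lo_zero, map_one]
  · have h1 := e4 L ht a⁻¹ (a * b)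
    rw [inv_mul_cancel_left₀ ha] at h1
    rw [← h1]
    exact L.nD.up_lo ha (v := π₁ (lo (a * b))) ⟨_, rfl⟩

theorem comm_eq {x y z : G} (h : ⁅x, y⁆ = z) : x * y = z * (y * x) := by
  rw [← h, commutatorElement_def]; group

theorem data : Data π₁ π₂ (fun a => ⁅π₁ (up a), π₂ (up 1)⁆) (fun a => ⁅π₂ (lo a), π₁ (lo 1)⁆) where
  add13 a b := L.nA.up_add a b ⟨1, rfl⟩
  add31 a b := L.nD.lo_add a b ⟨1, rfl⟩
  r1 a b := comm_eq L ht (e1 L ht a b)
  r2 a b := by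
    have h := Local.comm_inv' (e2 L ht a b)
    rw [← map_inv, ← up_neg, neg_neg] at h
    exact comm_eq L ht h
  r3 a b := comm_eq L ht (e3 L ht a b)
  r4 a b := comm_eq L ht (e4 L ht a b)
  r5 a b := comm_eq L ht (e5 L ht a b)
  r6 a b := comm_eq L ht (e6 L ht a b)
  c1 a b := L.k12_U a _ (L.m12_23 b 1)
  c2 a b := L.kU_23 _ (L.m12_23 a 1) b
  c3 a b := L.k23_21 a b
  c4 a b := L.k21_V a _ (L.m32_21 b 1)
  c5 a b := L.kV_32 _ (L.m32_21 a 1) b
  c6 a b := L.k32_12 a b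
  h1 s hs a := by
    have h := L.nC.dg_conj2 hs (v := π₁ (up a)) ⟨a, rfl⟩
    have h2 : ⁅π₂ (up 1), π₁ (up a)⁆ = ⁅π₁ (up (-a)), π₂ (up 1)⁆ := by
      rw [x13_neg' L ht, commutatorElement_inv]
    rw [h2, e2 L ht, neg_mul, neg_neg, mul_inv_eq_iff_eq_mul] at h
    rw [h, mul_comm a]
  h2 s hs a := by
    have h := L.nD.dg_up1 hs (L.m32_21 a 1)
    rw [e6 L ht, e6 L ht, one_mul, mul_inv_eq_iff_eq_mul] at h
    exact h

/-- The torus of `π₁` acts on `x13`. -/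
theorem dg_x13 (s : F) (hs : s ≠ 0) (b : F) :
    π₁ (dg s hs) * ⁅π₁ (up b), π₂ (up 1)⁆ = ⁅π₁ (up (s * b)), π₂ (up 1)⁆ * π₁ (dg s hs) := by
  have h := L.nA.dg_up1 hs (v := π₂ (up b)) ⟨b, rfl⟩
  rw [e1 L ht 1 b, e1 L ht s b, one_mul, mul_inv_eq_iff_eq_mul] at h
  exact h

/-- `A = X12 X13` -/
def rowS (π₁ π₂ : SpecialLinearGroup (Fin 2) F →* G) : Subgroup G :=
  Subgroup.closure {g | (∃ a : F, g = π₁ (up a)) ∨ ∃ b : F, g = ⁅π₁ (up b), π₂ (up 1)⁆}

omit L ht in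
theorem up_mem_rowS (a : F) : π₁ (up a) ∈ rowS π₁ π₂ := Subgroup.subset_closure (Or.inl ⟨a, rfl⟩)

omit L ht in
theorem x13_mem_rowS (b : F) : ⁅π₁ (up b), π₂ (up 1)⁆ ∈ rowS π₁ π₂ := Subgroup.subset_closure (Or.inr ⟨b, rfl⟩)

theorem rowS_comm {x y : G} (hx : x ∈ rowS π₁ π₂) (hy : y ∈ rowS π₁ π₂) : Commute x y := by
  have h1 : ∀ a b : F, Commute (π₁ (up a)) ⁅π₁ (up b), π₂ (up 1)⁆ := (data L ht).c1
  have h2 : ∀ a c : F, Commute (π₁ (up a)) (π₁ (up c)) := by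
    intro a c
    rw [commute_iff_eq, ← map_mul, ← map_mul, ← SLThreeRec.up_add, ← SLThreeRec.up_add, add_comm]
  have h3 : ∀ b d : F, Commute ⁅π₁ (up b), π₂ (up 1)⁆ ⁅π₁ (up d), π₂ (up 1)⁆ := fun b d =>
    L.abU _ (L.m12_23 _ _) _ (L.m12_23 _ _)
  unfold rowS at hx hy
  refine Subgroup.closure_induction₂ (p := fun x y _ _ => Commute x y) ?_ ?_ ?_ ?_ ?_ ?_ ?_ hx hy
  · rintro x y (⟨a, rfl⟩ | ⟨a, rfl⟩) (⟨b, rfl⟩ | ⟨b, rfl⟩)
    · exact h2 a b
    · exact h1 a b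
    · exact (h1 b a).symm
    · exact h3 a b
  · exact fun x _ => Commute.one_left x
  · exact fun x _ => Commute.one_right x
  · exact fun x y z _ _ _ h h' => h.mul_left h'
  · exact fun x y z _ _ _ h h' => h.mul_right h'
  · exact fun x y _ _ h => h.inv_left
  · exact fun x y _ _ h => h.inv_right

/-- `g` maps `A` into `A` under conjugation. -/
def Stab (π₁ π₂ : SpecialLinearGroup (Fin 2) F →* G) (g : G) : Prop := ∀ x ∈ rowS π₁ π₂, g * x * g⁻¹ ∈ rowS π₁ π₂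

omit L ht in
theorem Stab.mul {g h : G} (hg : Stab π₁ π₂ g) (hh : Stab π₁ π₂ h) : Stab π₁ π₂ (g * h) := by
  intro x hx
  have := hg _ (hh x hx)
  have e : g * (h * x * h⁻¹) * g⁻¹ = g * h * x * (g * h)⁻¹ := by group
  rwa [e] at this

omit L ht in
theorem stab_of_gen {g : G} (h1 : ∀ a : F, g * π₁ (up a) * g⁻¹ ∈ rowS π₁ π₂)
    (h2 : ∀ b : F, g * ⁅π₁ (up b), π₂ (up 1)⁆ * g⁻¹ ∈ rowS π₁ π₂) : Stab π₁ π₂ g := by
  intro x hx
  unfold rowS at hx
  refine Subgroup.closure_induction (p := fun x _ => g * x * g⁻¹ ∈ rowS π₁ π₂) ?_ ?_ ?_ ?_ hx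
  · rintro x (⟨a, rfl⟩ | ⟨a, rfl⟩)
    · exact h1 a
    · exact h2 a
  · rw [mul_one, mul_inv_cancel]
    exact one_mem _
  · intro x y _ _ hx hy
    have e : g * (x * y) * g⁻¹ = (g * x * g⁻¹) * (g * y * g⁻¹) := by group
    rw [e]
    exact mul_mem hx hy
  · intro x _ hx
    have e : g * x⁻¹ * g⁻¹ = (g * x * g⁻¹)⁻¹ := by group
    rw [e]
    exact inv_mem hx

theorem stab_two (A : SpecialLinearGroup (Fin 2) F) : Stab π₁ π₂ (π₂ A) := by
  have D := data L ht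
  apply sl2_induction (fun A => Stab π₁ π₂ (π₂ A))
  · intro c
    apply stab_of_gen
    · intro a
      have h := D.r1 a c
      have e : π₂ (up c) * π₁ (up a) * (π₂ (up c))⁻¹ = ⁅π₁ (up (a * c)), π₂ (up 1)⁆⁻¹ * π₁ (up a) := by
        rw [mul_inv_eq_iff_eq_mul, mul_assoc, h, inv_mul_cancel_left]
      rw [e]
      exact mul_mem (inv_mem (x13_mem_rowS _)) (up_mem_rowS a)
    · intro b
      have h := (D.c2 b c).eq
      rw [← h, mul_inv_cancel_right]
      exact x13_mem_rowS b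
  · intro c
    apply stab_of_gen
    · intro a
      have h := (D.c6 c a).eq
      rw [h, mul_inv_cancel_right]
      exact up_mem_rowS a
    · intro b
      have h := D.r2 b c
      have e : π₂ (lo c) * ⁅π₁ (up b), π₂ (up 1)⁆ * (π₂ (lo c))⁻¹ =
          (π₁ (up (b * c)))⁻¹ * ⁅π₁ (up b), π₂ (up 1)⁆ := by
        rw [mul_inv_eq_iff_eq_mul, mul_assoc, h, inv_mul_cancel_left]
      rw [e]
      exact mul_mem (inv_mem (up_mem_rowS _)) (x13_mem_rowS b)
  · intro A B hA hB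
    rw [map_mul]
    exact Stab.mul hA hB

omit L ht in
theorem stab_of_mem {g : G} (hg : g ∈ rowS π₁ π₂) : Stab π₁ π₂ g := by
  intro x hx
  exact mul_mem (mul_mem hg hx) (inv_mem hg)

theorem stab_dg (s : F) (hs : s ≠ 0) : Stab π₁ π₂ (π₁ (dg s hs)) := by
  apply stab_of_gen
  · intro a
    have e : dg s hs * up a = up (s ^ 2 * a) * dg s hs := by
      ext i j
      change ((dg s hs).1 * (up a).1) i j = ((up (s ^ 2 * a)).1 * (dg s hs).1) i j
      fin_cases i <;> fin_cases j <;> simp [up, dg, Matrix.mul_apply, Fin.sum_univ_two]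
      field_simp
    rw [← map_mul, e, map_mul, mul_inv_cancel_right]
    exact up_mem_rowS _
  · intro b
    rw [dg_x13 L ht, mul_inv_cancel_right]
    exact x13_mem_rowS _

omit L ht in
theorem mem_normalizer {g : G} (h1 : Stab π₁ π₂ g) (h2 : Stab π₁ π₂ g⁻¹) :
    g ∈ Subgroup.normalizer (rowS π₁ π₂ : Set G) := by
  rw [Subgroup.mem_normalizer_iff]
  intro x
  constructor
  · exact h1 x
  · intro h
    have := h2 _ h
    have e : g⁻¹ * (g * x * g⁻¹) * g⁻¹⁻¹ = x := by group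
    rwa [e] at this

theorem fixed : Fixed π₁ π₂ (fun b => ⁅π₁ (up b), π₂ (up 1)⁆)
    ((1 : G) : G ⧸ Subgroup.normalizer (rowS π₁ π₂ : Set G)) := by
  have key : ∀ g ∈ Subgroup.normalizer (rowS π₁ π₂ : Set G),
      g • ((1 : G) : G ⧸ Subgroup.normalizer (rowS π₁ π₂ : Set G)) = (1 : G) := by
    intro g hg
    rw [MulAction.Quotient.smul_coe, smul_eq_mul, mul_one]
    exact QuotientGroup.eq.2 (by simpa using inv_mem hg)
  constructor
  · intro A
    apply key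
    apply mem_normalizer
    · exact stab_two L ht A
    · rw [← map_inv]; exact stab_two L ht _
  · intro a
    apply key
    apply mem_normalizer
    · exact stab_of_mem (up_mem_rowS a)
    · exact stab_of_mem (inv_mem (up_mem_rowS a))
  · intro s hs
    apply key
    apply mem_normalizer
    · exact stab_dg L ht s hs
    · have e : (dg s hs)⁻¹ = dg s⁻¹ (inv_ne_zero hs) := by
        rw [inv_eq_iff_mul_eq_one, ← dg_mul]
        ext i j
        fin_cases i <;> fin_cases j <;> simp [dg, hs]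
      rw [← map_inv, e]
      exact stab_dg L ht _ _
  · intro b
    apply key
    apply mem_normalizer
    · exact stab_of_mem (x13_mem_rowS b)
    · exact stab_of_mem (inv_mem (x13_mem_rowS b))

theorem w_not_mem : ¬ Stab π₁ π₂ (π₁ (wi F)) := by
  intro h
  have h1 := h _ (up_mem_rowS (π₂ := π₂) (1 : F))
  have e : wi F * up 1 = lo (-1) * wi F := by
    ext i j
    change ((wi F).1 * (up (1 : F)).1) i j = ((lo (-1 : F)).1 * (wi F).1) i j
    fin_cases i <;> fin_cases j <;> simp [up, lo, wi, Matrix.mul_apply, Fin.sum_univ_two]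
  rw [← map_mul, e, map_mul, mul_inv_cancel_right] at h1
  have h2 := rowS_comm L ht h1 (x13_mem_rowS (π₁ := π₁) (π₂ := π₂) (1 : F))
  have h3 := e3 L ht (-1) 1
  rw [commutatorElement_eq_one_iff_commute.2 h2, mul_one] at h3
  have h4 := L.inj _ h3.symm
  exact one_ne_zero (neg_eq_zero.1 h4)

end data

/-! ### data in a subgroup -/

theorem Data.of_injective {K : Type*} [Group K] (ι : K →* G) (hι : Function.Injective ι)
    {π₁ π₂ : SpecialLinearGroup (Fin 2) F →* K} {x13 x31 : F → K}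
    (D : Data (ι.comp π₁) (ι.comp π₂) (fun a => ι (x13 a)) (fun a => ι (x31 a))) :
    Data π₁ π₂ x13 x31 where
  add13 a b := hι (by have := D.add13 a b; simpa using this)
  add31 a b := hι (by have := D.add31 a b; simpa using this)
  r1 a b := hι (by have := D.r1 a b; simpa using this)
  r2 a b := hι (by have := D.r2 a b; simpa using this)
  r3 a b := hι (by have := D.r3 a b; simpa using this)
  r4 a b := hι (by have := D.r4 a b; simpa using this)
  r5 a b := hι (by have := D.r5 a b; simpa using this)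
  r6 a b := hι (by have := D.r6 a b; simpa using this)
  c1 a b := hι (by have := (D.c1 a b).eq; simpa using this)
  c2 a b := hι (by have := (D.c2 a b).eq; simpa using this)
  c3 a b := hι (by have := (D.c3 a b).eq; simpa using this)
  c4 a b := hι (by have := (D.c4 a b).eq; simpa using this)
  c5 a b := hι (by have := (D.c5 a b).eq; simpa using this)
  c6 a b := hι (by have := (D.c6 a b).eq; simpa using this)
  h1 s hs a := hι (by have := D.h1 s hs a; simpa using this)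
  h2 s hs a := hι (by have := D.h2 s hs a; simpa using this)

theorem card_center_le [Finite F] : Nat.card (Subgroup.center (SpecialLinearGroup (Fin 3) F)) ≤ 3 := by
  rw [Nat.card_congr (SpecialLinearGroup.center_equiv_rootsOfUnity (n := Fin 3) (R := F)).toEquiv]
  have : max (Fintype.card (Fin 3)) 1 = 3 := by simp
  rw [this]
  exact card_rootsOfUnity (R := F) (k := 3)

/-- A proper normal subgroup of `SL₃(F)` is central. -/
theorem le_center_of_normal (N : Subgroup (SpecialLinearGroup (Fin 3) F)) [hN : N.Normal] (h : N ≠ ⊤) :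
    N ≤ Subgroup.center (SpecialLinearGroup (Fin 3) F) := by
  have hsimple : IsSimpleGroup (Matrix.ProjectiveSpecialLinearGroup (Fin 3) F) :=
    Cfsg.Agent.LieClassical.SLGen.psl_isSimpleGroup (by simp)
  set Z := Subgroup.center (SpecialLinearGroup (Fin 3) F) with hZ
  have hn : (N.map (QuotientGroup.mk' Z)).Normal := hN.map _ (QuotientGroup.mk'_surjective Z)
  rcases hsimple.eq_bot_or_eq_top_of_normal (N.map (QuotientGroup.mk' Z)) hn with h1 | h1
  · rwa [Subgroup.map_eq_bot_iff, QuotientGroup.ker_mk'] at h1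
  · exfalso
    apply h
    rw [eq_top_iff, ← Cfsg.Agent.LieClassical.SLGen.commutator_eq_top (ι := Fin 3) (F := F) (by simp)]
    rw [commutator_def, Subgroup.commutator_le]
    intro x _ y _
    have hx : (QuotientGroup.mk' Z x) ∈ N.map (QuotientGroup.mk' Z) := by rw [h1]; trivial
    have hy : (QuotientGroup.mk' Z y) ∈ N.map (QuotientGroup.mk' Z) := by rw [h1]; trivial
    obtain ⟨n, hn', hnx⟩ := hx
    obtain ⟨m, hm', hmy⟩ := hy
    have hz : n⁻¹ * x ∈ Z := QuotientGroup.eq.1 hnx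
    have hw : m⁻¹ * y ∈ Z := QuotientGroup.eq.1 hmy
    have ex : x = n * (n⁻¹ * x) := by group
    have ey : y = m * (m⁻¹ * y) := by group
    have hzc := Subgroup.mem_center_iff.1 hz
    have hwc := Subgroup.mem_center_iff.1 hw
    have e : ⁅x, y⁆ = ⁅n, m⁆ := by
      rw [ex, ey, commutatorElement_def, commutatorElement_def]
      set z := n⁻¹ * x
      set w := m⁻¹ * y
      calc n * z * (m * w) * (n * z)⁻¹ * (m * w)⁻¹
          = n * (z * m) * w * z⁻¹ * n⁻¹ * w⁻¹ * m⁻¹ := by group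
        _ = n * m * (z * w) * z⁻¹ * n⁻¹ * w⁻¹ * m⁻¹ := by rw [← hzc m]; group
        _ = n * m * (w * n⁻¹) * w⁻¹ * m⁻¹ := by rw [← hzc w]; group
        _ = n * m * n⁻¹ * m⁻¹ := by rw [← hwc n⁻¹]; group
    rw [e]
    exact mul_mem (mul_mem (mul_mem hn' hm') (inv_mem hn')) (inv_mem hm')

section final

variable {π₁ π₂ : SpecialLinearGroup (Fin 2) F →* G} {U V : Subgroup G} (L : Local π₁ π₂ U V)
  (ht : ∀ (s : F) (hs : s ≠ 0) (a : F),
    π₁ (dg s hs) * π₂ (up a) = π₂ (up (s⁻¹ * a)) * π₁ (dg s hs) ∧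
      π₁ (dg s hs) * π₂ (lo a) = π₂ (lo (s * a)) * π₁ (dg s hs))

include L ht

/-- The subgroup generated by the two `SL₂(F)` has order at least a third of the order of `SL₃(F)`. -/
theorem card_le [Finite G] [Finite F] :
    Nat.card (SpecialLinearGroup (Fin 3) F) ≤ 3 * Nat.card (π₁.range ⊔ π₂.range : Subgroup G) := by
  set K : Subgroup G := π₁.range ⊔ π₂.range with hK
  have h1 : ∀ A, π₁ A ∈ K := fun A => Subgroup.mem_sup_left ⟨A, rfl⟩
  have h2 : ∀ A, π₂ A ∈ K := fun A => Subgroup.mem_sup_right ⟨A, rfl⟩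
  let κ₁ : SpecialLinearGroup (Fin 2) F →* K := π₁.codRestrict K h1
  let κ₂ : SpecialLinearGroup (Fin 2) F →* K := π₂.codRestrict K h2
  have D : Data κ₁ κ₂ (fun a => ⁅κ₁ (up a), κ₂ (up 1)⁆) (fun a => ⁅κ₂ (lo a), κ₁ (lo 1)⁆) :=
    Data.of_injective K.subtype K.subtype_injective (data L ht)
  let o : G ⧸ Subgroup.normalizer (rowS π₁ π₂ : Set G) := ((1 : G) : _)
  have H0 := fixed L ht
  have H : Fixed κ₁ κ₂ (fun a => ⁅κ₁ (up a), κ₂ (up 1)⁆) o :=
    ⟨fun A => H0.f2 A, fun a => H0.fu a, fun s hs => H0.fd s hs, fun a => H0.f13 a⟩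
  have hgen : ∀ Q : Subgroup K, (∀ A, κ₁ A ∈ Q) → (∀ A, κ₂ A ∈ Q) → Q = ⊤ := by
    intro Q hQ1 hQ2
    have h3 : K ≤ Q.map K.subtype := by
      refine (sup_le_iff (a := π₁.range) (b := π₂.range)).2 ?_
      constructor
      · rintro _ ⟨A, rfl⟩
        exact ⟨κ₁ A, hQ1 A, rfl⟩
      · rintro _ ⟨A, rfl⟩
        exact ⟨κ₂ A, hQ2 A, rfl⟩
    rw [eq_top_iff]
    rintro x -
    obtain ⟨y, hy, hyx⟩ := h3 x.2
    have : y = x := Subtype.ext hyx
    rwa [this] at hy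
  obtain ⟨N, hN, f, hf, hNo⟩ := exists_hom_quot D H hgen
  have hker : f.ker ≠ ⊤ := by
    intro hcon
    have hw : QuotientGroup.mk' N (κ₁ (wi F)) = 1 := by
      obtain ⟨A, hA⟩ := hf (QuotientGroup.mk' N (κ₁ (wi F)))
      have : A ∈ f.ker := by rw [hcon]; trivial
      rw [← hA]
      exact this
    have hw' : κ₁ (wi F) ∈ N := (QuotientGroup.eq_one_iff _).1 hw
    have hw2 : κ₁ (wi F) • o = o := hNo hw'
    have hw3 : π₁ (wi F) • o = o := hw2
    have hw4 : π₁ (wi F) ∈ Subgroup.normalizer (rowS π₁ π₂ : Set G) := by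
      have h5 : ((π₁ (wi F) * 1 : G) : G ⧸ Subgroup.normalizer (rowS π₁ π₂ : Set G)) = ((1 : G) : _) := hw3
      rw [mul_one, QuotientGroup.eq, mul_one] at h5
      simpa using inv_mem h5
    apply w_not_mem L ht
    intro x hx
    exact (Subgroup.mem_normalizer_iff.1 hw4 x).1 hx
  have hc := (le_center_of_normal f.ker hker)
  have hcard1 : Nat.card f.ker ≤ 3 := (Subgroup.card_le_of_le hc).trans card_center_le
  have hcard2 : Nat.card (SpecialLinearGroup (Fin 3) F) = Nat.card (K ⧸ N) * Nat.card f.ker := by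
    rw [Subgroup.card_eq_card_quotient_mul_card_subgroup f.ker,
      Nat.card_congr (QuotientGroup.quotientKerEquivOfSurjective f hf).toEquiv]
  have hcard3 : Nat.card (K ⧸ N) ≤ Nat.card K := Nat.card_le_card_of_surjective _ (QuotientGroup.mk'_surjective N)
  calc Nat.card (SpecialLinearGroup (Fin 3) F) = Nat.card (K ⧸ N) * Nat.card f.ker := hcard2
    _ ≤ Nat.card K * 3 := Nat.mul_le_mul hcard3 hcard1
    _ = 3 * Nat.card K := mul_comm _ _

theorem main_norm [Finite G] [IsSimpleGroup G] [Finite F] (hna : ∃ a b : G, a * b ≠ b * a)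
    (hcard : Nat.card G ≤ Nat.card (SpecialLinearGroup (Fin 3) F)) :
    Nonempty (G ≃* Matrix.ProjectiveSpecialLinearGroup (Fin 3) F) := by
  have hnc : ¬ IsMulCommutative G := by
    intro h
    obtain ⟨a, b, hab⟩ := hna
    exact hab (h.is_comm.comm a b)
  have hK : (π₁.range ⊔ π₂.range : Subgroup G) = ⊤ := by
    by_contra hcon
    have h5 := Cfsg.Agent.SmallSimple.Embed.five_le_index hnc _ hcon
    have h1 := card_le L ht
    have h2 := Subgroup.card_mul_index (π₁.range ⊔ π₂.range : Subgroup G)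
    have h3 : 0 < Nat.card (π₁.range ⊔ π₂.range : Subgroup G) := Nat.card_pos
    nlinarith
  refine nonempty_psl (data L ht) (fixed L ht) hna ?_ ?_
  · intro Q hQ1 hQ2
    rw [eq_top_iff, ← hK, sup_le_iff]
    constructor
    · rintro _ ⟨A, rfl⟩
      exact hQ1 A
    · rintro _ ⟨A, rfl⟩
      exact hQ2 A
  · intro hcon
    have hw3 : π₁ (wi F) ∈ MulAction.stabilizer G
        (((1 : G) : G ⧸ Subgroup.normalizer (rowS π₁ π₂ : Set G))) := by rw [hcon]; trivial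
    have hw4 : π₁ (wi F) ∈ Subgroup.normalizer (rowS π₁ π₂ : Set G) := by
      have h5 : ((π₁ (wi F) * 1 : G) : G ⧸ Subgroup.normalizer (rowS π₁ π₂ : Set G)) = ((1 : G) : _) := hw3
      rw [mul_one, QuotientGroup.eq, mul_one] at h5
      simpa using inv_mem h5
    apply w_not_mem L ht
    intro x hx
    exact (Subgroup.mem_normalizer_iff.1 hw4 x).1 hx

end final

/-- **Recognition of `PSL₃(F)`**: `G` finite simple of order at most `|SL₃(F)|` with local data of type `A₂`. -/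
theorem nonempty_psl_three [Finite G] [IsSimpleGroup G] [Finite F] (hna : ∃ a b : G, a * b ≠ b * a)
    {π₁ π₂ : SpecialLinearGroup (Fin 2) F →* G} {U V : Subgroup G} (L : Local π₁ π₂ U V)
    (hcard : Nat.card G ≤ Nat.card (SpecialLinearGroup (Fin 3) F)) :
    Nonempty (G ≃* Matrix.ProjectiveSpecialLinearGroup (Fin 3) F) := by
  obtain ⟨θ, hθ⟩ := L.exists_theta
  have hsurj : Function.Surjective θ := Finite.surjective_of_injective θ.injective
  refine main_norm (L.twist θ hsurj) ?_ hna hcard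
  intro s hs a
  rw [MonoidHom.comp_apply, MonoidHom.comp_apply, MonoidHom.comp_apply, MonoidHom.comp_apply, map_up, map_up,
    map_lo, map_lo, (hθ s hs _).1, (hθ s hs _).2, map_mul, map_mul, map_inv₀]
  exact ⟨rfl, rfl⟩

end Cfsg.Agent.Classification.PSLThreeRecog
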