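import Mathlib
import Cfsg.Prelude.Def_Characters

/-!
# Bender–Glauberman characters: common definitions

`G` a finite group with one class of involutions, `t` an involution,
`π : C(t) →* DihedralGroup n` surjective with odd kernel, `n = 2 ^ m`, `m ≥ 1`.

* `e n a` is `exp (2 π i a / n)` for `a : ZMod n`;
* `lam`, `mu`, `mulam`, `theta i` are the characters of `DihedralGroup n`;
* `bth i = 1 + lam - theta i`, `bmu = 1 + lam - mu - mulam`.
-/

set_option autoImplicit false
set_option linter.unusedSectionVars false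

namespace Cfsg.Agent.Classification.BGDefs

open DihedralGroup

/-- The hypotheses of the Bender–Glauberman computation. -/
structure BGHyp {G : Type*} [Group G] (t : G) (n : ℕ)
    (π : (Subgroup.centralizer ({t} : Set G)) →* DihedralGroup n) : Prop where
  /-- `t` is an involution -/
  orderOf_t : orderOf t = 2
  /-- one class of involutions -/
  one_class : ∀ x : G, orderOf x = 2 → IsConj t x
  /-- `n` is a power of two, at least `2` -/
  pow : ∃ m : ℕ, 1 ≤ m ∧ n = 2 ^ m
  surj : Function.Surjective π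
  odd_ker : Odd (Nat.card π.ker)
  /-- `t` is mapped to the central rotation -/
  map_t : ∀ h : t ∈ Subgroup.centralizer ({t} : Set G), π ⟨t, h⟩ = r ((n / 2 : ℕ) : ZMod n)

variable {n : ℕ} [NeZero n]

/-- `exp (2 π i a / n)`. -/
noncomputable abbrev e (n : ℕ) [NeZero n] : AddChar (ZMod n) ℂ := ZMod.stdAddChar

/-- The linear character with kernel the rotations. -/
noncomputable def lam : DihedralGroup n → ℂ
  | r _ => 1
  | sr _ => -1

/-- The linear character with `r i ↦ (-1)^i`, `sr i ↦ (-1)^i` (for `n` even). -/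
noncomputable def mu : DihedralGroup n → ℂ
  | r i => e n (((n / 2 : ℕ) : ZMod n) * i)
  | sr i => e n (((n / 2 : ℕ) : ZMod n) * i)

/-- The linear character with `r i ↦ (-1)^i`, `sr i ↦ -(-1)^i` (for `n` even). -/
noncomputable def mulam : DihedralGroup n → ℂ
  | r i => e n (((n / 2 : ℕ) : ZMod n) * i)
  | sr i => -e n (((n / 2 : ℕ) : ZMod n) * i)

/-- The character of degree two with `r j ↦ ζ^(i j) + ζ^(- i j)`. -/
noncomputable def theta (i : ZMod n) : DihedralGroup n → ℂ
  | r j => e n (i * j) + e n (-(i * j))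
  | sr _ => 0

/-- `1 + λ - θ_i`. -/
noncomputable def bth (i : ZMod n) (x : DihedralGroup n) : ℂ := 1 + lam x - theta i x

/-- `1 + λ - μ - μλ`. -/
noncomputable def bmu (x : DihedralGroup n) : ℂ := 1 + lam x - mu x - mulam x

@[simp] theorem lam_r (j : ZMod n) : lam (r j) = 1 := rfl
@[simp] theorem lam_sr (j : ZMod n) : lam (sr j) = -1 := rfl
theorem mu_r (j : ZMod n) : mu (r j) = e n (((n / 2 : ℕ) : ZMod n) * j) := rfl
theorem mu_sr (j : ZMod n) : mu (sr j) = e n (((n / 2 : ℕ) : ZMod n) * j) := rfl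
theorem mulam_r (j : ZMod n) : mulam (r j) = e n (((n / 2 : ℕ) : ZMod n) * j) := rfl
theorem mulam_sr (j : ZMod n) : mulam (sr j) = -e n (((n / 2 : ℕ) : ZMod n) * j) := rfl
theorem theta_r (i j : ZMod n) : theta i (r j) = e n (i * j) + e n (-(i * j)) := rfl
@[simp] theorem theta_sr (i j : ZMod n) : theta i (sr j) = 0 := rfl

theorem e_eq_one_iff (a : ZMod n) : e n a = 1 ↔ a = 0 := by
  constructor
  · intro h
    exact ZMod.injective_stdAddChar (h.trans (AddChar.map_zero_eq_one _).symm)
  · rintro rfl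
    exact AddChar.map_zero_eq_one _

theorem e_half (h2 : 2 ∣ n) : e n ((n / 2 : ℕ) : ZMod n) = -1 := by
  have h1 : e n ((n / 2 : ℕ) : ZMod n) * e n ((n / 2 : ℕ) : ZMod n) = 1 := by
    rw [← AddChar.map_add_eq_mul, ← Nat.cast_add, ← two_mul, Nat.mul_div_cancel' h2,
      ZMod.natCast_self, AddChar.map_zero_eq_one]
  rcases mul_self_eq_one_iff.mp h1 with h | h
  · exfalso
    rw [e_eq_one_iff, ZMod.natCast_eq_zero_iff] at h
    have hn : n ≠ 0 := NeZero.ne n
    have := Nat.le_of_dvd (by omega) h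
    omega
  · exact h

@[simp] theorem bth_one (i : ZMod n) : bth i (1 : DihedralGroup n) = 0 := by
  change 1 + lam (r 0) - theta i (r 0) = 0
  rw [lam_r, theta_r, mul_zero, neg_zero, AddChar.map_zero_eq_one]
  ring

@[simp] theorem bth_sr (i j : ZMod n) : bth i (sr j) = 0 := by
  simp [bth]

theorem bth_r (i j : ZMod n) : bth i (r j) = 2 - e n (i * j) - e n (-(i * j)) := by
  rw [bth, lam_r, theta_r]; ring

@[simp] theorem bmu_one : bmu (1 : DihedralGroup n) = 0 := by
  change 1 + lam (r 0) - mu (r 0) - mulam (r 0) = 0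
  rw [lam_r, mu_r, mulam_r, mul_zero, AddChar.map_zero_eq_one]
  ring

@[simp] theorem bmu_sr (j : ZMod n) : bmu (sr j) = 0 := by
  rw [bmu, lam_sr, mu_sr, mulam_sr]; ring

theorem bmu_r (j : ZMod n) : bmu (r j) = 2 - 2 * e n (((n / 2 : ℕ) : ZMod n) * j) := by
  rw [bmu, lam_r, mu_r, mulam_r]; ring

end Cfsg.Agent.Classification.BGDefs
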