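import Mathlib
import Cfsg.Prelude.Def_Characters
import Cfsg.Agent.Classification.BGDefs

/-!
# Bender–Glauberman: elementary consequences of `BGHyp`
-/

set_option autoImplicit false
set_option linter.unusedSectionVars false

namespace Cfsg.Agent.Classification.BGBasic

open DihedralGroup Cfsg.Agent.Classification.BGDefs

section ZModLemmas

variable {n : ℕ} [NeZero n]

theorem half_ne_zero (h2 : 2 ∣ n) : ((n / 2 : ℕ) : ZMod n) ≠ 0 := by
  intro h
  rw [ZMod.natCast_eq_zero_iff] at h
  have hn : n ≠ 0 := NeZero.ne n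
  have := Nat.le_of_dvd (by omega) h
  omega

theorem half_add_half (h2 : 2 ∣ n) : ((n / 2 : ℕ) : ZMod n) + ((n / 2 : ℕ) : ZMod n) = 0 := by
  rw [← Nat.cast_add, ← two_mul, Nat.mul_div_cancel' h2, ZMod.natCast_self]

theorem eq_zero_or_half {k : ZMod n} (hk : k + k = 0) :
    k = 0 ∨ k = ((n / 2 : ℕ) : ZMod n) := by
  have hv : k.val < n := ZMod.val_lt k
  have h1 : ((k.val + k.val : ℕ) : ZMod n) = 0 := by
    rw [Nat.cast_add, ZMod.natCast_zmod_val, hk]
  rw [ZMod.natCast_eq_zero_iff] at h1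
  obtain ⟨c, hc⟩ := h1
  have hn : 0 < n := Nat.pos_of_ne_zero (NeZero.ne n)
  have hc2 : c < 2 := by
    by_contra hcon
    have : n * 2 ≤ n * c := Nat.mul_le_mul_left _ (by omega)
    omega
  interval_cases c
  · left
    have : k.val = 0 := by omega
    rwa [ZMod.val_eq_zero] at this
  · right
    have h3 : k.val = n / 2 := by omega
    rw [← h3, ZMod.natCast_zmod_val]

end ZModLemmas

section Hyp

variable {G : Type*} [Group G] {t : G} {n : ℕ} [NeZero n]
  {π : (Subgroup.centralizer ({t} : Set G)) →* DihedralGroup n}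

theorem two_dvd (h : BGHyp t n π) : 2 ∣ n := by
  obtain ⟨m, hm, rfl⟩ := h.pow
  exact dvd_pow_self 2 (by omega)

theorem t_mem (t : G) : t ∈ Subgroup.centralizer ({t} : Set G) := by
  rw [Subgroup.mem_centralizer_singleton_iff]

/-- `t` as an element of its centralizer. -/
def tt (t : G) : Subgroup.centralizer ({t} : Set G) := ⟨t, t_mem t⟩

theorem map_tt (h : BGHyp t n π) : π (tt t) = r ((n / 2 : ℕ) : ZMod n) := h.map_t _

theorem t_mul_t (h : BGHyp t n π) : t * t = 1 := by
  have := pow_orderOf_eq_one t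
  rwa [h.orderOf_t, sq] at this

theorem tt_mul_tt (h : BGHyp t n π) : tt t * tt t = 1 := Subtype.ext (t_mul_t h)

theorem t_ne_one (h : BGHyp t n π) : t ≠ 1 := by
  rintro rfl
  have := h.orderOf_t
  simp at this

theorem tt_ne_one (h : BGHyp t n π) : tt t ≠ 1 := fun h' => t_ne_one h (congrArg Subtype.val h')

theorem tt_comm (x : Subgroup.centralizer ({t} : Set G)) : Commute (tt t) x :=
  Subtype.ext (Subgroup.mem_centralizer_singleton_iff.mp x.2).symm

theorem eq_one_of_ker (h : BGHyp t n π) {x : Subgroup.centralizer ({t} : Set G)}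
    (hx : π x = 1) (hx2 : x * x = 1) : x = 1 := by
  have h1 : (⟨x, hx⟩ : π.ker) ^ Nat.card π.ker = 1 := pow_card_eq_one'
  have h2 : x ^ Nat.card π.ker = 1 := congrArg Subtype.val h1
  obtain ⟨k, hk⟩ := h.odd_ker
  rw [hk, pow_succ, pow_mul, sq, hx2, one_pow, one_mul] at h2
  exact h2

theorem mem_zpowers_of_rot (h : BGHyp t n π) {x : Subgroup.centralizer ({t} : Set G)}
    {j : ZMod n} (hj : j ≠ 0) (hx : π x = r j) : t ∈ Subgroup.zpowers (x : G) := by
  -- some power of `r j` is `r (n/2)`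
  obtain ⟨s, hs⟩ : ∃ s : ℕ, (r j : DihedralGroup n) ^ s = r ((n / 2 : ℕ) : ZMod n) := by
    obtain ⟨m, hm, hn⟩ := h.pow
    have h1 : (r j : DihedralGroup n) ^ (2 ^ m) = 1 := by
      rw [← hn, r_pow, ZMod.natCast_self, mul_zero, DihedralGroup.one_def]
    have h2 : (r j : DihedralGroup n) ≠ 1 := by
      rw [DihedralGroup.one_def]
      intro h3
      exact hj (r.inj h3)
    obtain ⟨c, -, hc⟩ := (Nat.dvd_prime_pow Nat.prime_two).mp (orderOf_dvd_of_pow_eq_one h1)
    have hc0 : c ≠ 0 := by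
      rintro rfl
      rw [pow_zero, orderOf_eq_one_iff] at hc
      exact h2 hc
    obtain ⟨c, rfl⟩ := Nat.exists_eq_succ_of_ne_zero hc0
    refine ⟨2 ^ c, ?_⟩
    have h3 : (r j : DihedralGroup n) ^ (2 ^ c) * (r j : DihedralGroup n) ^ (2 ^ c) = 1 := by
      rw [← pow_add, ← two_mul, ← pow_succ', ← Nat.succ_eq_add_one, ← hc, pow_orderOf_eq_one]
    have h4 : (r j : DihedralGroup n) ^ (2 ^ c) ≠ 1 := by
      intro h5
      have h6 := orderOf_dvd_of_pow_eq_one h5
      rw [hc, Nat.pow_dvd_pow_iff_le_right (by norm_num)] at h6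
      omega
    rw [r_pow] at h3 h4 ⊢
    rw [r_mul_r, DihedralGroup.one_def] at h3
    rcases eq_zero_or_half (r.inj h3) with h5 | h5
    · rw [h5] at h4
      exact absurd DihedralGroup.one_def.symm h4
    · rw [h5]
  have h1 : π (x ^ s * tt t) = 1 := by
    rw [map_mul, map_pow, hx, hs, map_tt h, r_mul_r, half_add_half (two_dvd h),
      DihedralGroup.one_def]
  have h2 : (x ^ s * tt t) ^ Nat.card π.ker = 1 :=
    congrArg Subtype.val (pow_card_eq_one' (x := (⟨x ^ s * tt t, h1⟩ : π.ker)))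
  have h3 : tt t ^ Nat.card π.ker = tt t := by
    obtain ⟨k, hk⟩ := h.odd_ker
    rw [hk, pow_succ, pow_mul, sq, tt_mul_tt h, one_pow, one_mul]
  rw [((tt_comm x).symm.pow_left s).mul_pow, h3, ← pow_mul] at h2
  have h4 : tt t = (x ^ (s * Nat.card π.ker))⁻¹ := eq_inv_of_mul_eq_one_right h2
  have h5 : t = ((x : G) ^ (s * Nat.card π.ker))⁻¹ := by
    have := congrArg Subtype.val h4
    simpa [tt] using this
  have h6 : ((x : G) ^ (s * Nat.card π.ker))⁻¹ ∈ Subgroup.zpowers (x : G) :=
    inv_mem (Subgroup.npow_mem_zpowers _ _)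
  rw [← h5] at h6
  exact h6

theorem rot_of_mem_zpowers (h : BGHyp t n π) {x : Subgroup.centralizer ({t} : Set G)}
    (hx : t ∈ Subgroup.zpowers (x : G)) : ∃ j : ZMod n, j ≠ 0 ∧ π x = r j := by
  obtain ⟨k, hk⟩ := Subgroup.mem_zpowers_iff.mp hx
  have h1 : x ^ k = tt t := Subtype.ext (by simpa [tt] using hk)
  have h2 : (π x) ^ k = r ((n / 2 : ℕ) : ZMod n) := by rw [← map_zpow, h1, map_tt h]
  have hhalf := half_ne_zero (two_dvd h)
  match hπ : π x with
  | r j =>
    refine ⟨j, ?_, rfl⟩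
    rintro rfl
    rw [hπ, ← DihedralGroup.one_def, one_zpow, DihedralGroup.one_def] at h2
    exact hhalf (r.inj h2).symm
  | sr j =>
    exfalso
    rw [hπ] at h2
    have h3 : (sr j : DihedralGroup n) * sr j = 1 := sr_mul_self j
    rcases Int.even_or_odd' k with ⟨c, rfl | rfl⟩
    · rw [zpow_mul, zpow_ofNat, sq, h3, one_zpow, DihedralGroup.one_def] at h2
      exact hhalf (r.inj h2).symm
    · rw [zpow_add, zpow_mul, zpow_ofNat, sq, h3, one_zpow, zpow_one, one_mul] at h2
      exact absurd h2 (by simp)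

theorem mem_zpowers_iff_rot (h : BGHyp t n π) {x : Subgroup.centralizer ({t} : Set G)} :
    t ∈ Subgroup.zpowers (x : G) ↔ ∃ j : ZMod n, j ≠ 0 ∧ π x = r j :=
  ⟨rot_of_mem_zpowers h, fun ⟨_, hj, hx⟩ => mem_zpowers_of_rot h hj hx⟩

/-- The involutions of `C(t)` other than `t` map to reflections. -/
theorem eq_tt_or_sr (h : BGHyp t n π) {x : Subgroup.centralizer ({t} : Set G)}
    (hx : orderOf x = 2) : x = tt t ∨ ∃ j : ZMod n, π x = sr j := by
  have hxx : x * x = 1 := by
    have := pow_orderOf_eq_one x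
    rwa [hx, sq] at this
  have hx1 : x ≠ 1 := by
    rintro rfl
    simp at hx
  match hπ : π x with
  | sr j => exact Or.inr ⟨j, rfl⟩
  | r j =>
    left
    have h1 : (r j : DihedralGroup n) * r j = 1 := by rw [← hπ, ← map_mul, hxx, map_one]
    rw [r_mul_r, DihedralGroup.one_def] at h1
    rcases eq_zero_or_half (r.inj h1) with h2 | h2
    · rw [h2, ← DihedralGroup.one_def] at hπ
      exact absurd (eq_one_of_ker h hπ hxx) hx1
    · have h3 : π (x * tt t) = 1 := by
        rw [map_mul, hπ, map_tt h, h2, r_mul_r, half_add_half (two_dvd h), DihedralGroup.one_def]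
      have h4 : (x * tt t) * (x * tt t) = 1 := by
        have h5 := (tt_comm x).symm.eq
        calc (x * tt t) * (x * tt t) = x * (tt t * x) * tt t := by group
          _ = (x * x) * (tt t * tt t) := by rw [← h5]; group
          _ = 1 := by rw [hxx, tt_mul_tt h, one_mul]
      have h5 := eq_one_of_ker h h3 h4
      rw [mul_eq_one_iff_eq_inv] at h5
      rw [h5]
      exact inv_eq_of_mul_eq_one_left (tt_mul_tt h)

/-- A function `b` on the dihedral group vanishing at `1` and the reflections, inflated to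
`C(t)`, vanishes off `{x | t ∈ zpowers x}`. -/
theorem mem_zpowers_of_ne_zero (h : BGHyp t n π) (b : DihedralGroup n → ℂ) (hb1 : b 1 = 0)
    (hbs : ∀ j, b (sr j) = 0) (x : Subgroup.centralizer ({t} : Set G)) (hx : b (π x) ≠ 0) :
    t ∈ Subgroup.zpowers (x : G) := by
  match hπ : π x with
  | sr j => rw [hπ] at hx; exact absurd (hbs j) hx
  | r j =>
    refine mem_zpowers_of_rot h (j := j) ?_ hπ
    rintro rfl
    rw [hπ, ← DihedralGroup.one_def] at hx
    exact hx hb1

end Hyp

end Cfsg.Agent.Classification.BGBasic
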