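import Mathlib
import Cfsg.Prelude.Def_Characters
import Cfsg.Agent.Characters.Core
import Cfsg.Agent.Characters.Central
import Cfsg.Agent.Classification.BGDefs
import Cfsg.Agent.Classification.BGBasic

/-!
Counting pairs of involutions with characters (Bender–Glauberman, step "order formula").
-/

set_option autoImplicit false
set_option linter.unusedSectionVars false

namespace Cfsg.Agent.Classification.BGOrder

open Cfsg Cfsg.Agent.Characters

/-- Conjugate elements have the same order. -/
theorem orderOf_conj {G : Type*} [Group G] (t a : G) : orderOf (a * t * a⁻¹) = orderOf t :=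
  (SemiconjBy.orderOf_eq a (x := t) (y := a * t * a⁻¹) (by simp [SemiconjBy])).symm

section General

variable {G : Type*} [Group G] [Fintype G]

/-- Sum of an irreducible character over all products of two conjugates of `t`. -/
theorem sum_sum_conj {χ : G → ℂ} (hχ : IsIrrCharacter G χ) (t : G) :
    ∑ a : G, ∑ b : G, χ (a * t * a⁻¹ * (b * t * b⁻¹)) =
      (Nat.card G : ℂ) ^ 2 * (χ t ^ 2 / χ 1) := by
  rw [Finset.sum_comm]
  have h1 : ∀ b : G, ∑ a : G, χ (a * t * a⁻¹ * (b * t * b⁻¹)) =
      (Nat.card G : ℂ) * χ t * χ t / χ 1 := by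
    intro b
    rw [Central.sum_char_conj_mul hχ t (b * t * b⁻¹)]
    have : χ (b * t * b⁻¹) = χ t := Core.isIrr_isClassFunction hχ t b
    rw [this]
  rw [Finset.sum_congr rfl (fun b _ => h1 b), Finset.sum_const, Finset.card_univ, nsmul_eq_mul,
    ← Nat.card_eq_fintype_card]
  ring

/-- Sum over conjugates of `t` when the class of `t` is the set of all involutions. -/
theorem sum_conj_eq_sum_involutions [DecidablePred fun x : G => orderOf x = 2]
    (t : G) (ht : orderOf t = 2) (hone : ∀ x : G, orderOf x = 2 → IsConj t x) (F : G → ℂ) :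
    ∑ a : G, F (a * t * a⁻¹) =
      (Nat.card (Subgroup.centralizer ({t} : Set G)) : ℂ) *
        ∑ x ∈ Finset.univ.filter (fun x : G => orderOf x = 2), F x := by
  classical
  rw [← Finset.sum_fiberwise_of_maps_to (s := Finset.univ)
    (t := Finset.univ.filter (fun x : G => orderOf x = 2)) (g := fun a : G => a * t * a⁻¹)]
  · rw [Finset.mul_sum]
    refine Finset.sum_congr rfl fun x hx => ?_
    rw [Finset.sum_congr rfl (g := fun _ => F x) (fun a ha => by
      rw [(Finset.mem_filter.1 ha).2])]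
    rw [Finset.sum_const, nsmul_eq_mul]
    congr 1
    have hx2 : orderOf x = 2 := (Finset.mem_filter.1 hx).2
    obtain ⟨c, hc⟩ := isConj_iff.mp (hone x hx2)
    rw [Nat.cast_inj, ← Fintype.card_coe, ← Nat.card_eq_fintype_card]
    refine (Nat.card_congr ?_).symm
    refine
      { toFun := fun z => ⟨c * z.1, ?_⟩
        invFun := fun a => ⟨c⁻¹ * a.1, ?_⟩
        left_inv := ?_
        right_inv := ?_ }
    · have hz := Subgroup.mem_centralizer_singleton_iff.mp z.2
      simp only [Finset.mem_filter, Finset.mem_univ, true_and]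
      rw [← hc]
      have : c * z.1 * t * (c * z.1)⁻¹ = c * (z.1 * t) * z.1⁻¹ * c⁻¹ := by group
      rw [this, hz]; group
    · have ha := (Finset.mem_filter.1 a.2).2
      rw [Subgroup.mem_centralizer_singleton_iff]
      have h1 : a.1 * t = (c * t * c⁻¹) * a.1 := by
        have h2 : a.1 * t = (a.1 * t * a.1⁻¹) * a.1 := by group
        rw [hc]
        exact h2.trans (by rw [ha])
      rw [mul_assoc, h1]; group
    · intro z; ext; simp
    · intro a; ext; simp
  · intro a _
    simp only [Finset.mem_filter, Finset.mem_univ, true_and]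
    exact (orderOf_conj t a).trans ht

/-- Main counting identity: `β` is a function on `H = C(t)`, whose induced function is a finite
combination of irreducible characters. -/
theorem sum_pairs_eq [DecidablePred fun x : G => orderOf x = 2]
    (t : G) (ht : orderOf t = 2) (hone : ∀ x : G, orderOf x = 2 → IsConj t x)
    (H : Subgroup G) (hH : H = Subgroup.centralizer ({t} : Set G))
    (β : H → ℂ) {ι : Type*} (J : Finset ι) (c : ι → ℂ)
    (χ : ι → G → ℂ) (hχ : ∀ j ∈ J, IsIrrCharacter G (χ j))
    (hβ : indFun H β = fun g => ∑ j ∈ J, c j * χ j g) :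
    ∑ x ∈ Finset.univ.filter (fun x : G => orderOf x = 2),
      ∑ y ∈ Finset.univ.filter (fun x : G => orderOf x = 2), extendByZero H β (x * y) =
      (H.index : ℂ) * ∑ j ∈ J, c j * (χ j t ^ 2 / χ j 1) := by
  set E : G → ℂ := extendByZero H β with hE
  have hG : (Nat.card G : ℂ) ≠ 0 := Core.card_ne_zero_complex
  have hHc : (Nat.card H : ℂ) ≠ 0 := Core.card_ne_zero_complex
  -- left: sum over pairs of conjugates
  have h1 : ∑ a : G, ∑ b : G, E (a * t * a⁻¹ * (b * t * b⁻¹)) =
      (Nat.card H : ℂ) ^ 2 * ∑ x ∈ Finset.univ.filter (fun x : G => orderOf x = 2),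
      ∑ y ∈ Finset.univ.filter (fun x : G => orderOf x = 2), E (x * y) := by
    have h2 : ∀ a : G, ∑ b : G, E (a * t * a⁻¹ * (b * t * b⁻¹)) =
        (Nat.card H : ℂ) * ∑ y ∈ Finset.univ.filter (fun x : G => orderOf x = 2),
          E (a * t * a⁻¹ * y) := by
      intro a
      rw [hH]
      exact sum_conj_eq_sum_involutions t ht hone (fun y => E (a * t * a⁻¹ * y))
    rw [Finset.sum_congr rfl (fun a _ => h2 a), ← Finset.mul_sum,
      sum_conj_eq_sum_involutions t ht hone (fun x =>
        ∑ y ∈ Finset.univ.filter (fun x : G => orderOf x = 2), E (x * y)), ← hH]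
    ring
  -- right: characters
  have h3 : ∑ a : G, ∑ b : G, indFun H β (a * t * a⁻¹ * (b * t * b⁻¹)) =
      (Nat.card G : ℂ) ^ 2 * ∑ j ∈ J, c j * (χ j t ^ 2 / χ j 1) := by
    rw [hβ]
    have h4 : ∑ a : G, ∑ b : G, ∑ j ∈ J, c j * χ j (a * t * a⁻¹ * (b * t * b⁻¹)) =
        ∑ j ∈ J, c j * ∑ a : G, ∑ b : G, χ j (a * t * a⁻¹ * (b * t * b⁻¹)) := by
      simp only [Finset.mul_sum]
      rw [Finset.sum_congr rfl (fun a _ => Finset.sum_comm), Finset.sum_comm]
    refine h4.trans ?_
    rw [Finset.mul_sum]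
    refine Finset.sum_congr rfl fun j hj => ?_
    rw [sum_sum_conj (hχ j hj) t]
    ring
  -- relation between the two
  have h5 : ∑ a : G, ∑ b : G, indFun H β (a * t * a⁻¹ * (b * t * b⁻¹)) =
      (Nat.card H : ℂ)⁻¹ * ((Nat.card G : ℂ) *
        ∑ a : G, ∑ b : G, E (a * t * a⁻¹ * (b * t * b⁻¹))) := by
    have h6 : ∀ a b : G, indFun H β (a * t * a⁻¹ * (b * t * b⁻¹)) =
        (Nat.card H : ℂ)⁻¹ * ∑ z : G, E ((z⁻¹ * a) * t * (z⁻¹ * a)⁻¹ *
          ((z⁻¹ * b) * t * (z⁻¹ * b)⁻¹)) := by
      intro a b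
      rw [Core.indFun_apply]
      congr 1
      refine Finset.sum_congr rfl fun z _ => ?_
      rw [← hE]
      congr 1
      group
    simp only [h6, ← Finset.mul_sum]
    congr 1
    have h7 : ∑ a : G, ∑ b : G, ∑ z : G, E ((z⁻¹ * a) * t * (z⁻¹ * a)⁻¹ *
          ((z⁻¹ * b) * t * (z⁻¹ * b)⁻¹)) =
        ∑ z : G, ∑ a : G, ∑ b : G, E ((z⁻¹ * a) * t * (z⁻¹ * a)⁻¹ *
          ((z⁻¹ * b) * t * (z⁻¹ * b)⁻¹)) := by
      rw [Finset.sum_congr rfl (fun a _ => Finset.sum_comm), Finset.sum_comm]
    rw [h7]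
    have h8 : ∀ z : G, ∑ a : G, ∑ b : G, E ((z⁻¹ * a) * t * (z⁻¹ * a)⁻¹ *
          ((z⁻¹ * b) * t * (z⁻¹ * b)⁻¹)) = ∑ a : G, ∑ b : G, E (a * t * a⁻¹ * (b * t * b⁻¹)) := by
      intro z
      refine Fintype.sum_equiv (Equiv.mulLeft z⁻¹) _ _ fun a => ?_
      exact Fintype.sum_equiv (Equiv.mulLeft z⁻¹) _ _ fun b => rfl
    rw [Finset.sum_congr rfl (fun z _ => h8 z), Finset.sum_const, Finset.card_univ, nsmul_eq_mul,
      ← Nat.card_eq_fintype_card]
  rw [h3, h1] at h5
  have hidx : (Nat.card H : ℂ) * (H.index : ℂ) = (Nat.card G : ℂ) := by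
    exact_mod_cast H.card_mul_index
  rw [← hidx] at h5 hG
  have hI : (H.index : ℂ) ≠ 0 := right_ne_zero_of_mul hG
  field_simp at h5
  rw [← h5]
  congr 1
  exact Finset.sum_congr rfl fun j _ => by ring

/-- Sum over a subset of `G` of a function vanishing off `H`. -/
theorem sum_filter_subtype (H : Subgroup G) [Fintype H]
    [DecidablePred fun x : G => orderOf x = 2] [DecidablePred fun x : H => orderOf x = 2]
    (F : G → ℂ) (hF : ∀ x : G, orderOf x = 2 → F x ≠ 0 → x ∈ H) :
    ∑ x ∈ Finset.univ.filter (fun x : G => orderOf x = 2), F x =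
      ∑ x ∈ Finset.univ.filter (fun x : H => orderOf x = 2), F x := by
  classical
  symm
  refine Finset.sum_bij_ne_zero (fun x _ _ => (x : G)) ?_ ?_ ?_ ?_
  · intro x hx _
    simp only [Finset.mem_filter, Finset.mem_univ, true_and] at hx ⊢
    rwa [Subgroup.orderOf_coe]
  · intro x _ _ y _ _ h
    exact Subtype.ext h
  · intro x hx hne
    simp only [Finset.mem_filter, Finset.mem_univ, true_and] at hx
    refine ⟨⟨x, hF x hx hne⟩, ?_, hne, rfl⟩
    simp only [Finset.mem_filter, Finset.mem_univ, true_and]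
    rwa [Subgroup.orderOf_mk]
  · intro x _ _
    rfl

/-- If `t` is a power of `x * y`, `x` and `y` involutions, `t * t = 1`, then `x` centralizes
`t`. -/
theorem commute_of_mem_zpowers {G : Type*} [Group G] {t x y : G} (ht : t * t = 1)
    (hx : x * x = 1) (hy : y * y = 1) (h : t ∈ Subgroup.zpowers (x * y)) : x * t = t * x := by
  obtain ⟨k, hk⟩ := Subgroup.mem_zpowers_iff.mp h
  have hxi : x⁻¹ = x := inv_eq_of_mul_eq_one_left hx
  have hyi : y⁻¹ = y := inv_eq_of_mul_eq_one_left hy
  have hti : t⁻¹ = t := inv_eq_of_mul_eq_one_left ht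
  have h1 : x * (x * y) * x⁻¹ = (x * y)⁻¹ := by
    rw [mul_inv_rev, hxi, hyi, ← mul_assoc, hx, one_mul]
  have h2 : x * t * x⁻¹ = t := by
    rw [← hk, ← conj_zpow, h1, inv_zpow, hk, hti]
  calc x * t = (x * t * x⁻¹) * x := by group
    _ = t * x := by rw [h2]

/-- Pairs of involutions of `G` whose product has `t` as a power lie in `C(t)`. -/
theorem sum_pairs_restrict [DecidablePred fun x : G => orderOf x = 2]
    (t : G) (ht : orderOf t = 2) (H : Subgroup G) [Fintype H]
    [DecidablePred fun x : H => orderOf x = 2]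
    (hH : H = Subgroup.centralizer ({t} : Set G)) (β : H → ℂ)
    (hsupp : ∀ h : H, β h ≠ 0 → t ∈ Subgroup.zpowers (h : G)) :
    ∑ x ∈ Finset.univ.filter (fun x : G => orderOf x = 2),
      ∑ y ∈ Finset.univ.filter (fun x : G => orderOf x = 2), extendByZero H β (x * y) =
    ∑ x ∈ Finset.univ.filter (fun x : H => orderOf x = 2),
      ∑ y ∈ Finset.univ.filter (fun x : H => orderOf x = 2), β (x * y) := by
  have htt : t * t = 1 := by
    have := pow_orderOf_eq_one t
    rwa [ht, sq] at this
  have hinv : ∀ x : G, orderOf x = 2 → x * x = 1 := by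
    intro x hx
    have := pow_orderOf_eq_one x
    rwa [hx, sq] at this
  -- nonzero terms
  have key : ∀ x y : G, orderOf x = 2 → orderOf y = 2 → extendByZero H β (x * y) ≠ 0 →
      x ∈ H ∧ y ∈ H := by
    intro x y hx hy hne
    have hmem : x * y ∈ H := by
      by_contra h
      exact hne (Core.extendByZero_of_notMem H β h)
    rw [Core.extendByZero_of_mem H β hmem] at hne
    have h1 : t ∈ Subgroup.zpowers (x * y) := hsupp _ hne
    have h2 := commute_of_mem_zpowers htt (hinv x hx) (hinv y hy) h1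
    have hxH : x ∈ H := by
      rw [hH, Subgroup.mem_centralizer_singleton_iff]; exact h2
    refine ⟨hxH, ?_⟩
    have : y = x⁻¹ * (x * y) := by group
    rw [this]
    exact mul_mem (inv_mem hxH) hmem
  have h1 : ∀ x ∈ Finset.univ.filter (fun x : G => orderOf x = 2),
      ∑ y ∈ Finset.univ.filter (fun x : G => orderOf x = 2), extendByZero H β (x * y) =
      ∑ y ∈ Finset.univ.filter (fun x : H => orderOf x = 2), extendByZero H β (x * y) := by
    intro x hx
    simp only [Finset.mem_filter, Finset.mem_univ, true_and] at hx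
    exact sum_filter_subtype H (fun y => extendByZero H β (x * y))
      (fun y hy hne => (key x y hx hy hne).2)
  rw [Finset.sum_congr rfl h1,
    sum_filter_subtype H (fun x => ∑ y ∈ Finset.univ.filter (fun x : H => orderOf x = 2),
      extendByZero H β (x * y))]
  · refine Finset.sum_congr rfl fun x _ => Finset.sum_congr rfl fun y _ => ?_
    rw [Core.extendByZero_of_mem H β (mul_mem x.2 y.2)]
    rfl
  · intro x hx hne
    obtain ⟨y, hy, hy2⟩ := Finset.exists_ne_zero_of_sum_ne_zero hne
    simp only [Finset.mem_filter, Finset.mem_univ, true_and] at hy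
    exact (key x y hx (by rwa [Subgroup.orderOf_coe]) hy2).1

end General

section Dihedral

open DihedralGroup

/-- The index of an element of the dihedral group. -/
def idx {n : ℕ} : DihedralGroup n → ZMod n
  | r i => i
  | sr i => i

variable {H : Type*} [Group H] [Fintype H] {n : ℕ} [NeZero n]

/-- The two parity classes of `ZMod n` have `n / 2` elements. -/
theorem two_mul_card_parity (h2 : 2 ∣ n) (e : ZMod 2) :
    2 * (Finset.univ.filter (fun d : ZMod n => ZMod.castHom h2 (ZMod 2) d = e)).card = n := by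
  classical
  have h1 : ∀ e : ZMod 2,
      (Finset.univ.filter (fun d : ZMod n => ZMod.castHom h2 (ZMod 2) d = e)).card =
      (Finset.univ.filter (fun d : ZMod n => ZMod.castHom h2 (ZMod 2) d = e + 1)).card := by
    intro e
    refine Finset.card_bij (fun d _ => d + 1) ?_ ?_ ?_
    · intro d hd
      simp only [Finset.mem_filter, Finset.mem_univ, true_and] at hd ⊢
      rw [map_add, hd, map_one]
    · intro x _ y _ h
      exact add_right_cancel h
    · intro d hd
      simp only [Finset.mem_filter, Finset.mem_univ, true_and] at hd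
      refine ⟨d - 1, ?_, by ring⟩
      simp only [Finset.mem_filter, Finset.mem_univ, true_and]
      rw [map_sub, hd, map_one, add_sub_cancel_right]
  have h3 : (Finset.univ.filter (fun d : ZMod n => ZMod.castHom h2 (ZMod 2) d = e)).card +
      (Finset.univ.filter (fun d : ZMod n => ZMod.castHom h2 (ZMod 2) d = e + 1)).card = n := by
    have h4 : (Finset.univ.filter (fun d : ZMod n => ZMod.castHom h2 (ZMod 2) d = e + 1)) =
        Finset.univ.filter (fun d : ZMod n => ¬ ZMod.castHom h2 (ZMod 2) d = e) := by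
      refine Finset.filter_congr fun d _ => ?_
      have : ∀ a b : ZMod 2, a = b + 1 ↔ ¬ a = b := by decide
      exact this _ _
    rw [h4, Finset.card_filter_add_card_filter_not, Finset.card_univ, ZMod.card]
  have := h1 e
  omega

/-- Counting pairs of involutions mapping to reflections of a dihedral quotient. -/
theorem sum_pairs_dihedral (h2 : 2 ∣ n) (π : H →* DihedralGroup n)
    (hπ : Function.Surjective π) (I : Finset H)
    (hI : ∀ x ∈ I, ∃ j, π x = sr j) (hIc : ∀ x ∈ I, ∀ h : H, h * x * h⁻¹ ∈ I)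
    (b : DihedralGroup n → ℂ) (B : ZMod 2 → ℂ)
    (hb : ∀ e : ZMod 2, ∑ d ∈ Finset.univ.filter
      (fun d : ZMod n => ZMod.castHom h2 (ZMod 2) d = e), b (r d) = B e)
    (k : ZMod 2 → ℕ)
    (hk : ∀ e : ZMod 2, (I.filter fun x => ZMod.castHom h2 (ZMod 2) (idx (π x)) = e).card = k e) :
    (n : ℂ) * ∑ x ∈ I, ∑ y ∈ I, b (π (x * y)) =
      2 * (((k 0 : ℂ) ^ 2 + (k 1 : ℂ) ^ 2) * B 0 + 2 * (k 0 : ℂ) * (k 1 : ℂ) * B 1) := by
  classical
  set ε : ZMod n →+* ZMod 2 := ZMod.castHom h2 (ZMod 2) with hε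
  have hI' : ∀ x ∈ I, π x = sr (idx (π x)) := by
    intro x hx
    obtain ⟨j, hj⟩ := hI x hx
    rw [hj]; rfl
  let c : ZMod n → ℕ := fun j => (I.filter fun x => idx (π x) = j).card
  -- `c` depends only on the parity
  have hc2 : ∀ j m : ZMod n, c (j - m - m) = c j := by
    intro j m
    obtain ⟨h, hh⟩ := hπ (r m)
    symm
    refine Finset.card_bij (fun x _ => h * x * h⁻¹) ?_ ?_ ?_
    · intro x hx
      obtain ⟨hxI, hxj⟩ := Finset.mem_filter.1 hx
      refine Finset.mem_filter.2 ⟨hIc x hxI h, ?_⟩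
      have h3 := hI' x hxI
      rw [hxj] at h3
      rw [map_mul, map_mul, map_inv, hh, h3, inv_r, r_mul_sr, sr_mul_r]
      change j - m + -m = j - m - m
      ring
    · intro x _ y _ hxy
      simpa using hxy
    · intro y hy
      obtain ⟨hyI, hyj⟩ := Finset.mem_filter.1 hy
      have h3 := hI' y hyI
      rw [hyj] at h3
      refine ⟨h⁻¹ * y * h, Finset.mem_filter.2 ⟨?_, ?_⟩, by group⟩
      · have := hIc y hyI h⁻¹
        rwa [inv_inv] at this
      · rw [map_mul, map_mul, map_inv, hh, h3, inv_r, r_mul_sr, sr_mul_r]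
        change j - m - m - -m + m = j
        ring
  have hpar : ∀ d : ZMod n, ε d = 0 → ∃ m, d = m + m := by
    intro d hd
    obtain ⟨k, rfl⟩ := ZMod.intCast_surjective d
    rw [map_intCast, ZMod.intCast_zmod_eq_zero_iff_dvd] at hd
    obtain ⟨m, rfl⟩ := hd
    refine ⟨(m : ZMod n), ?_⟩
    push_cast
    ring
  have hceq : ∀ j k : ZMod n, ε j = ε k → c j = c k := by
    intro j k hjk
    obtain ⟨m, hm⟩ := hpar (j - k) (by rw [map_sub, hjk, sub_self])
    have h1 : k = j - m - m := by
      rw [sub_sub, ← hm]; ring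
    rw [h1, hc2]
  -- `n * c j = 2 * k (ε j)`
  have hck : ∀ j : ZMod n, n * c j = 2 * k (ε j) := by
    intro j
    rw [← hk]
    have h3 : (I.filter fun x => ε (idx (π x)) = ε j).card =
        ∑ i ∈ Finset.univ.filter (fun d : ZMod n => ε d = ε j), c i := by
      rw [Finset.card_eq_sum_card_fiberwise (f := fun x => idx (π x))
        (t := Finset.univ.filter (fun d : ZMod n => ε d = ε j))]
      · refine Finset.sum_congr rfl fun i hi => ?_
        have hi2 := (Finset.mem_filter.1 hi).2
        change _ = (I.filter fun x => idx (π x) = i).card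
        rw [Finset.filter_filter]
        congr 1
        refine Finset.filter_congr fun x _ => ?_
        constructor
        · exact fun h => h.2
        · intro h
          exact ⟨by rw [h]; exact hi2, h⟩
      · intro x hx
        have := (Finset.mem_filter.1 hx).2
        simpa using this
    rw [h3, Finset.sum_congr rfl (g := fun _ => c j)
      (fun i hi => hceq i j (Finset.mem_filter.1 hi).2), Finset.sum_const, smul_eq_mul,
      ← mul_assoc, two_mul_card_parity h2 (ε j)]
  -- inner sum
  have hinner : ∀ x ∈ I, (n : ℂ) * ∑ y ∈ I, b (π (x * y)) =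
      2 * ((k (ε (idx (π x))) : ℂ) * B 0 + (k (ε (idx (π x)) + 1) : ℂ) * B 1) := by
    intro x hx
    set j := idx (π x) with hj
    have hpx : π x = sr j := hI' x hx
    have h3 : ∑ y ∈ I, b (π (x * y)) = ∑ d : ZMod n, (c (j + d) : ℂ) * b (r d) := by
      rw [← Finset.sum_fiberwise_of_maps_to (s := I) (t := Finset.univ)
        (g := fun y => idx (π y) - j) (fun _ _ => Finset.mem_univ _)]
      refine Finset.sum_congr rfl fun d _ => ?_
      rw [Finset.sum_congr rfl (g := fun _ => b (r d))]
      · rw [Finset.sum_const, nsmul_eq_mul]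
        congr 2
        change _ = (I.filter fun x => idx (π x) = j + d).card
        congr 1
        refine Finset.filter_congr fun y _ => ?_
        exact sub_eq_iff_eq_add'
      · intro y hy
        obtain ⟨hyI, hyd⟩ := Finset.mem_filter.1 hy
        rw [map_mul, hpx, hI' y hyI, sr_mul_sr, hyd]
    rw [h3, Finset.mul_sum, ← Finset.sum_filter_add_sum_filter_not Finset.univ
      (fun d : ZMod n => ε d = 0)]
    have h4 : ∑ d ∈ Finset.univ.filter (fun d : ZMod n => ε d = 0),
        (n : ℂ) * ((c (j + d) : ℂ) * b (r d)) = 2 * ((k (ε j) : ℂ) * B 0) := by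
      rw [← hb 0, Finset.mul_sum, Finset.mul_sum]
      refine Finset.sum_congr rfl fun d hd => ?_
      have hd2 := (Finset.mem_filter.1 hd).2
      have h5 := hck (j + d)
      rw [map_add, hd2, add_zero] at h5
      have h6 : (n : ℂ) * (c (j + d) : ℂ) = 2 * (k (ε j) : ℂ) := by exact_mod_cast h5
      rw [← mul_assoc, h6, mul_assoc]
    have h4' : ∑ d ∈ Finset.univ.filter (fun d : ZMod n => ¬ ε d = 0),
        (n : ℂ) * ((c (j + d) : ℂ) * b (r d)) = 2 * ((k (ε j + 1) : ℂ) * B 1) := by
      have h7 : Finset.univ.filter (fun d : ZMod n => ¬ ε d = 0) =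
          Finset.univ.filter (fun d : ZMod n => ε d = 1) := by
        refine Finset.filter_congr fun d _ => ?_
        have : ∀ a : ZMod 2, ¬ a = 0 ↔ a = 1 := by decide
        exact this _
      rw [h7, ← hb 1, Finset.mul_sum, Finset.mul_sum]
      refine Finset.sum_congr rfl fun d hd => ?_
      have hd2 := (Finset.mem_filter.1 hd).2
      have h5 := hck (j + d)
      rw [map_add, hd2] at h5
      have h6 : (n : ℂ) * (c (j + d) : ℂ) = 2 * (k (ε j + 1) : ℂ) := by exact_mod_cast h5
      rw [← mul_assoc, h6, mul_assoc]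
    rw [h4, h4']
    ring
  rw [Finset.mul_sum, Finset.sum_congr rfl hinner,
    ← Finset.sum_filter_add_sum_filter_not I (fun x => ε (idx (π x)) = 0)]
  have h8 : ∀ x ∈ I.filter (fun x => ε (idx (π x)) = 0),
      2 * ((k (ε (idx (π x))) : ℂ) * B 0 + (k (ε (idx (π x)) + 1) : ℂ) * B 1) =
      2 * ((k 0 : ℂ) * B 0 + (k 1 : ℂ) * B 1) := by
    intro x hx
    rw [(Finset.mem_filter.1 hx).2, zero_add]
  have h9 : ∀ x ∈ I.filter (fun x => ¬ ε (idx (π x)) = 0),
      2 * ((k (ε (idx (π x))) : ℂ) * B 0 + (k (ε (idx (π x)) + 1) : ℂ) * B 1) =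
      2 * ((k 1 : ℂ) * B 0 + (k 0 : ℂ) * B 1) := by
    intro x hx
    have : ∀ a : ZMod 2, ¬ a = 0 → a = 1 := by decide
    rw [this _ (Finset.mem_filter.1 hx).2]
    have h10 : (1 : ZMod 2) + 1 = 0 := by decide
    rw [h10]
  have h11 : (I.filter fun x => ¬ ε (idx (π x)) = 0).card = k 1 := by
    rw [← hk 1]
    congr 1
    refine Finset.filter_congr fun d _ => ?_
    have : ∀ a : ZMod 2, ¬ a = 0 ↔ a = 1 := by decide
    exact this _
  rw [Finset.sum_congr rfl h8, Finset.sum_congr rfl h9, Finset.sum_const, Finset.sum_const,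
    h11, hk 0, nsmul_eq_mul, nsmul_eq_mul]
  ring

end Dihedral

section Formula

open DihedralGroup Cfsg.Agent.Classification.BGDefs Cfsg.Agent.Classification.BGBasic

/-- plus or minus an irreducible character -/
def SignedIrr {G : Type*} [Group G] (X : G → ℂ) : Prop :=
  IsIrrCharacter G X ∨ IsIrrCharacter G (-X)

/-- The number of involutions of `C(t)` mapping to reflections `sr j`, `j` of parity `e`. -/
noncomputable def kcount {G : Type*} [Group G] {t : G} {n : ℕ} (h2 : 2 ∣ n)
    (π : (Subgroup.centralizer ({t} : Set G)) →* DihedralGroup n) (e : ZMod 2) : ℕ :=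
  Nat.card {x : Subgroup.centralizer ({t} : Set G) //
    orderOf x = 2 ∧ ∃ j : ZMod n, π x = sr j ∧ ZMod.castHom h2 (ZMod 2) j = e}

/-- **Counting formula**, for any class function of the dihedral group vanishing at `1` and at
the reflections. -/
theorem pair_formula {G : Type*} [Group G] [Fintype G] {t : G} {n : ℕ} [NeZero n]
    {π : (Subgroup.centralizer ({t} : Set G)) →* DihedralGroup n} (h : BGHyp t n π)
    (b : DihedralGroup n → ℂ) (hb1 : b 1 = 0) (hbs : ∀ j, b (sr j) = 0) (B : ZMod 2 → ℂ)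
    (hB : ∀ e : ZMod 2, ∑ d ∈ Finset.univ.filter
      (fun d : ZMod n => ZMod.castHom (two_dvd h) (ZMod 2) d = e), b (r d) = B e)
    {ι : Type*} (J : Finset ι) (c : ι → ℂ) (X : ι → G → ℂ) (hX : ∀ j ∈ J, SignedIrr (X j))
    (hind : indFun (Subgroup.centralizer ({t} : Set G)) (fun x => b (π x)) =
      fun g => ∑ j ∈ J, c j * X j g) :
    (n : ℂ) * (((Subgroup.centralizer ({t} : Set G)).index : ℂ) *
        ∑ j ∈ J, c j * (X j t ^ 2 / X j 1)) =
      2 * (((kcount (two_dvd h) π 0 : ℂ) ^ 2 + (kcount (two_dvd h) π 1 : ℂ) ^ 2) * B 0 +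
        2 * (kcount (two_dvd h) π 0 : ℂ) * (kcount (two_dvd h) π 1 : ℂ) * B 1) := by
  classical
  let _ : Fintype (Subgroup.centralizer ({t} : Set G)) := Fintype.ofFinite _
  -- make the characters honest
  let s : ι → ℂ := fun j => if IsIrrCharacter G (X j) then 1 else -1
  have hs : ∀ j ∈ J, (s j = 1 ∧ IsIrrCharacter G (X j)) ∨ (s j = -1 ∧ IsIrrCharacter G (-X j)) := by
    intro j hj
    by_cases hj2 : IsIrrCharacter G (X j)
    · exact Or.inl ⟨if_pos hj2, hj2⟩
    · exact Or.inr ⟨if_neg hj2, (hX j hj).resolve_left hj2⟩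
  have hind' : indFun (Subgroup.centralizer ({t} : Set G)) (fun x => b (π x)) =
      fun g => ∑ j ∈ J, (c j * s j) * ((fun j g => s j * X j g) j g) := by
    rw [hind]
    funext g
    refine Finset.sum_congr rfl fun j hj => ?_
    rcases hs j hj with ⟨h1, -⟩ | ⟨h1, -⟩ <;> · simp only [h1]; ring
  have hirr : ∀ j ∈ J, IsIrrCharacter G ((fun j g => s j * X j g) j) := by
    intro j hj
    rcases hs j hj with ⟨h1, h2⟩ | ⟨h1, h2⟩
    · have : (fun g => s j * X j g) = X j := by funext g; rw [h1, one_mul]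
      simpa only [this] using h2
    · have : (fun g => s j * X j g) = -X j := by
        funext g; rw [h1, neg_one_mul]; rfl
      simpa only [this] using h2
  have key := sum_pairs_eq t h.orderOf_t h.one_class _ rfl (fun x => b (π x)) J _ _ hirr hind'
  have hsum : ∑ j ∈ J, (c j * s j) * (((fun j g => s j * X j g) j t) ^ 2 /
      ((fun j g => s j * X j g) j 1)) = ∑ j ∈ J, c j * (X j t ^ 2 / X j 1) := by
    refine Finset.sum_congr rfl fun j hj => ?_
    rcases hs j hj with ⟨h1, -⟩ | ⟨h1, -⟩ <;> · simp only [h1]; ring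
  rw [hsum] at key
  rw [← key, sum_pairs_restrict t h.orderOf_t _ rfl (fun x => b (π x))
    (mem_zpowers_of_ne_zero h b hb1 hbs)]
  -- drop `t`
  set I : Finset (Subgroup.centralizer ({t} : Set G)) := Finset.univ.filter (fun x : Subgroup.centralizer ({t} : Set G) => orderOf x = 2 ∧ x ≠ tt t) with hI
  have hIsr : ∀ x ∈ I, ∃ j, π x = sr j := by
    intro x hx
    simp only [hI, Finset.mem_filter, Finset.mem_univ, true_and] at hx
    exact (eq_tt_or_sr h hx.1).resolve_left hx.2
  have hzero : ∀ x ∈ I, b (π (tt t * x)) = 0 := by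
    intro x hx
    obtain ⟨j, hj⟩ := hIsr x hx
    rw [map_mul, hj, map_tt h, r_mul_sr]
    exact hbs _
  have hzero' : ∀ x ∈ I, b (π (x * tt t)) = 0 := by
    intro x hx
    obtain ⟨j, hj⟩ := hIsr x hx
    rw [map_mul, hj, map_tt h, sr_mul_r]
    exact hbs _
  have htt : orderOf (tt t) = 2 := by
    rw [← Subgroup.orderOf_coe]; exact h.orderOf_t
  have hfil : Finset.univ.filter (fun x : Subgroup.centralizer ({t} : Set G) => orderOf x = 2) = insert (tt t) I := by
    ext x
    simp only [hI, Finset.mem_filter, Finset.mem_univ, true_and, Finset.mem_insert]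
    constructor
    · intro hx
      by_cases hxt : x = tt t
      · exact Or.inl hxt
      · exact Or.inr ⟨hx, hxt⟩
    · rintro (rfl | hx)
      · exact htt
      · exact hx.1
  have hnot : tt t ∉ I := by simp [hI]
  have hdrop : ∑ x ∈ Finset.univ.filter (fun x : Subgroup.centralizer ({t} : Set G) => orderOf x = 2),
      ∑ y ∈ Finset.univ.filter (fun x : Subgroup.centralizer ({t} : Set G) => orderOf x = 2), b (π (x * y)) =
      ∑ x ∈ I, ∑ y ∈ I, b (π (x * y)) := by
    rw [hfil, Finset.sum_insert hnot, Finset.sum_insert hnot, tt_mul_tt h, map_one, hb1,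
      Finset.sum_eq_zero hzero, add_zero, zero_add]
    refine Finset.sum_congr rfl fun x hx => ?_
    rw [Finset.sum_insert hnot, hzero' x hx, zero_add]
  rw [hdrop]
  refine sum_pairs_dihedral (two_dvd h) π h.surj I hIsr ?_ b B hB _ ?_
  · intro x hx y
    simp only [hI, Finset.mem_filter, Finset.mem_univ, true_and] at hx ⊢
    refine ⟨(orderOf_conj x y).trans hx.1, ?_⟩
    intro h3
    apply hx.2
    have h4 : x = y⁻¹ * tt t * y := by rw [← h3]; group
    rw [h4, mul_assoc, (tt_comm y).eq]
    group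
  · intro e
    rw [kcount, ← Fintype.card_coe, ← Nat.card_eq_fintype_card]
    refine Nat.card_congr (Equiv.subtypeEquivRight fun x => ?_)
    simp only [hI, Finset.mem_filter, Finset.mem_univ, true_and]
    constructor
    · rintro ⟨⟨h1, h2⟩, h3⟩
      obtain ⟨j, hj⟩ := (eq_tt_or_sr h h1).resolve_left h2
      refine ⟨h1, j, hj, ?_⟩
      rw [hj] at h3
      exact h3
    · rintro ⟨h1, j, hj, h3⟩
      refine ⟨⟨h1, ?_⟩, ?_⟩
      · rintro rfl
        rw [map_tt h] at hj
        exact absurd hj (by simp)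
      · rw [hj]; exact h3

/-- Sum of a nontrivial additive character over a parity class. -/
theorem sum_e_parity {n : ℕ} [NeZero n] (h2 : 2 ∣ n) (i : ZMod n) (hi : i + i ≠ 0)
    (p : ZMod 2) :
    ∑ d ∈ Finset.univ.filter (fun d : ZMod n => ZMod.castHom h2 (ZMod 2) d = p),
      e n (i * d) = 0 := by
  set S := ∑ d ∈ Finset.univ.filter (fun d : ZMod n => ZMod.castHom h2 (ZMod 2) d = p),
      e n (i * d) with hS
  have h1 : S = e n (i + i) * S := by
    rw [hS, Finset.mul_sum]
    symm
    refine Finset.sum_bij (fun d _ => d + 2) ?_ ?_ ?_ ?_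
    · intro d hd
      simp only [Finset.mem_filter, Finset.mem_univ, true_and] at hd ⊢
      rw [map_add, hd, map_ofNat]
      have : (2 : ZMod 2) = 0 := by decide
      rw [this, add_zero]
    · intro a _ b _ hab
      exact add_right_cancel hab
    · intro d hd
      simp only [Finset.mem_filter, Finset.mem_univ, true_and] at hd
      refine ⟨d - 2, ?_, by ring⟩
      simp only [Finset.mem_filter, Finset.mem_univ, true_and]
      rw [map_sub, hd, map_ofNat]
      have : (2 : ZMod 2) = 0 := by decide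
      rw [this, sub_zero]
    · intro d _
      rw [← AddChar.map_add_eq_mul]
      congr 1
      ring
  have h3 : e n (i + i) ≠ 1 := fun h4 => hi ((e_eq_one_iff _).mp h4)
  have h5 : (e n (i + i) - 1) * S = 0 := by rw [sub_mul, one_mul, ← h1, sub_self]
  exact (mul_eq_zero.mp h5).resolve_left (sub_ne_zero.mpr h3)

theorem sum_bth_parity {n : ℕ} [NeZero n] (h2 : 2 ∣ n) (i : ZMod n) (hi : i + i ≠ 0)
    (p : ZMod 2) :
    ∑ d ∈ Finset.univ.filter (fun d : ZMod n => ZMod.castHom h2 (ZMod 2) d = p),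
      bth i (r d) = n := by
  have h1 : ∀ d : ZMod n, bth i (r d) = 2 - e n (i * d) - e n ((-i) * d) := by
    intro d
    rw [bth_r, neg_mul]
  rw [Finset.sum_congr rfl (fun d _ => h1 d), Finset.sum_sub_distrib, Finset.sum_sub_distrib,
    sum_e_parity h2 i hi p, sum_e_parity h2 (-i) (by
      intro h3
      apply hi
      have : i + i = -(-i + -i) := by ring
      rw [this, h3, neg_zero]) p, sub_zero, sub_zero, Finset.sum_const, nsmul_eq_mul, mul_comm]
  exact_mod_cast two_mul_card_parity h2 p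

theorem sum_bmu_parity {n : ℕ} [NeZero n] (h2 : 2 ∣ n) (p : ZMod 2) :
    ∑ d ∈ Finset.univ.filter (fun d : ZMod n => ZMod.castHom h2 (ZMod 2) d = p),
      bmu (r d) = (if p = 0 then 0 else 2 * (n : ℂ) : ℂ) := by
  have hhalf : ∀ d : ZMod n, ZMod.castHom h2 (ZMod 2) d = 0 → ((n / 2 : ℕ) : ZMod n) * d = 0 := by
    intro d hd
    obtain ⟨k, rfl⟩ := ZMod.intCast_surjective d
    rw [map_intCast, ZMod.intCast_zmod_eq_zero_iff_dvd] at hd
    obtain ⟨m, rfl⟩ := hd
    push_cast
    rw [← mul_assoc]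
    have h3 : ((n / 2 : ℕ) : ZMod n) * 2 = 0 := by rw [mul_two]; exact half_add_half h2
    rw [h3, zero_mul]
  have hp : p = 0 ∨ p = 1 := by revert p; decide
  rcases hp with rfl | rfl
  · rw [if_pos rfl]
    apply Finset.sum_eq_zero
    intro d hd
    rw [bmu_r, hhalf d (Finset.mem_filter.1 hd).2, AddChar.map_zero_eq_one]
    ring
  · rw [if_neg (by decide)]
    have h4 : ∀ d ∈ Finset.univ.filter
        (fun d : ZMod n => ZMod.castHom h2 (ZMod 2) d = 1), bmu (r d) = 4 := by
      intro d hd
      have h5 := hhalf (d - 1) (by rw [map_sub, (Finset.mem_filter.1 hd).2, map_one, sub_self])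
      rw [mul_sub, mul_one, sub_eq_zero] at h5
      rw [bmu_r, h5, e_half h2]
      ring
    rw [Finset.sum_congr rfl h4, Finset.sum_const, nsmul_eq_mul]
    have := two_mul_card_parity (n := n) h2 1
    have h6 : (2 : ℂ) * ((Finset.univ.filter
        (fun d : ZMod n => ZMod.castHom h2 (ZMod 2) d = 1)).card : ℂ) = n := by
      exact_mod_cast this
    linear_combination 2 * h6

theorem signedIrr_one {G : Type*} [Group G] : SignedIrr (1 : G → ℂ) := Or.inl Core.isIrr_one

theorem SignedIrr.apply_one_ne_zero {G : Type*} [Group G] {X : G → ℂ} (h : SignedIrr X) :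
    X 1 ≠ 0 := by
  rcases h with h | h
  · exact Core.isIrr_apply_one_ne_zero h
  · have := Core.isIrr_apply_one_ne_zero h
    intro h2
    apply this
    rw [Pi.neg_apply, h2, neg_zero]

/-- **Order formula** (Bender–Glauberman): `|G : C(t)| (f-1)² = 2 i² f (f+1)`, where `i` is the
number of involutions of `C(t)` other than `t`. -/
theorem order_formula {G : Type*} [Group G] [Fintype G] {t : G} {n : ℕ} [NeZero n]
    {π : (Subgroup.centralizer ({t} : Set G)) →* DihedralGroup n} (h : BGHyp t n π)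
    {i : ZMod n} (hi : i + i ≠ 0)
    {X₁ T : G → ℂ} (hX₁ : SignedIrr X₁) (hT : SignedIrr T)
    (hind : indFun (Subgroup.centralizer ({t} : Set G)) (fun x => bth i (π x)) =
      fun g => 1 + X₁ g - T g)
    {f : ℤ} (h1 : X₁ 1 = f) (h2 : T 1 = 1 + f) (h3 : X₁ t = 1) (h4 : (T t) ^ 2 = 4) :
    ((Subgroup.centralizer ({t} : Set G)).index : ℤ) * (f - 1) ^ 2 =
      2 * (kcount (two_dvd h) π 0 + kcount (two_dvd h) π 1 : ℤ) ^ 2 * (f * (f + 1)) := by
  have hf : (f : ℂ) ≠ 0 := by rw [← h1]; exact hX₁.apply_one_ne_zero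
  have hf1 : (1 + f : ℂ) ≠ 0 := by rw [← h2]; exact hT.apply_one_ne_zero
  have key := pair_formula h (bth i) (bth_one i) (bth_sr i) (fun _ => (n : ℂ))
    (sum_bth_parity (two_dvd h) i hi) (Finset.univ : Finset (Fin 3)) ![1, 1, -1] ![1, X₁, T]
    (by
      intro j _
      fin_cases j
      · exact signedIrr_one
      · exact hX₁
      · exact hT)
    (by
      rw [hind]
      funext g
      simp [Fin.sum_univ_three]
      ring)
  simp only [Fin.sum_univ_three, Matrix.cons_val_zero, Matrix.cons_val_one, Matrix.cons_val,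
    Pi.one_apply, h1, h2, h3, h4] at key
  have hn : (n : ℂ) ≠ 0 := Nat.cast_ne_zero.mpr (NeZero.ne n)
  have h5 : ((Subgroup.centralizer ({t} : Set G)).index : ℂ) * ((f : ℂ) - 1) ^ 2 =
      2 * ((kcount (two_dvd h) π 0 : ℂ) + (kcount (two_dvd h) π 1 : ℂ)) ^ 2 *
        ((f : ℂ) * ((f : ℂ) + 1)) := by
    have hf1' : (f : ℂ) + 1 ≠ 0 := by rwa [add_comm] at hf1
    have h7 : (1 : ℂ) * (1 ^ 2 / 1) + 1 * (1 ^ 2 / (f : ℂ)) + -1 * (4 / (1 + (f : ℂ))) =
        ((f : ℂ) - 1) ^ 2 / ((f : ℂ) * ((f : ℂ) + 1)) := by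
      field_simp
      ring
    rw [h7] at key
    have h8 : (f : ℂ) * ((f : ℂ) + 1) ≠ 0 := mul_ne_zero hf hf1'
    field_simp at key
    linear_combination key
  exact_mod_cast h5

end Formula

end Cfsg.Agent.Classification.BGOrder
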