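import Mathlib
import Cfsg.Prelude.Def_Characters
import Cfsg.Agent.Characters.Core
import Cfsg.Agent.Characters.Brauer
import Cfsg.Agent.Characters.CentInvTI
import Cfsg.Agent.Characters.Linear
import Cfsg.Agent.Classification.BGDefs
import Cfsg.Agent.Classification.BGBasic

/-!
# Bender–Glauberman characters: the isometry

* Part (a): induction from `H = C(t)`, `t` an involution, for class functions vanishing off
  `{h | t ∈ zpowers h}`.
* Part (b): inner products of inflated functions.
* Part (c): inner products of the functions `bth i` and `bmu` on the dihedral group, and the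
  inner products of the functions induced from `C(t)`.
-/

set_option autoImplicit false
set_option linter.unusedSectionVars false

namespace Cfsg.Agent.Classification.BGIsometry

open Cfsg Cfsg.Agent.Characters Cfsg.Agent.Classification.BGDefs
open scoped ComplexConjugate

section TI

variable {G : Type*} [Group G]

/-- A cyclic finite group contains at most one involution. -/
theorem eq_of_mem_zpowers [Finite G] {x s t : G} (hs : orderOf s = 2) (ht : orderOf t = 2)
    (hsx : s ∈ Subgroup.zpowers x) (htx : t ∈ Subgroup.zpowers x) : s = t := by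
  obtain ⟨k, rfl⟩ := (Submonoid.mem_powers_iff _ _).mp (mem_powers_iff_mem_zpowers.mpr hsx)
  obtain ⟨m, rfl⟩ := (Submonoid.mem_powers_iff _ _).mp (mem_powers_iff_mem_zpowers.mpr htx)
  exact CentInvTI.pow_eq_of_orderOf_eq_two hs ht

theorem conj_mem_zpowers {x t : G} (g : G) (h : t ∈ Subgroup.zpowers x) :
    g * t * g⁻¹ ∈ Subgroup.zpowers (g * x * g⁻¹) := by
  obtain ⟨k, rfl⟩ := Subgroup.mem_zpowers_iff.mp h
  exact Subgroup.mem_zpowers_iff.mpr ⟨k, by rw [conj_zpow]⟩

theorem orderOf_conj (t g : G) : orderOf (g * t * g⁻¹) = orderOf t := by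
  have := orderOf_injective (MulAut.conj g).toMonoidHom (MulAut.conj g).injective t
  simpa using this

/-- The set `{x | t ∈ zpowers x}` is a trivial intersection set with normalizer `C(t)`. -/
theorem mem_centralizer_of_conj [Finite G] {x t g : G} (ht : orderOf t = 2)
    (hx : t ∈ Subgroup.zpowers x) (hgx : t ∈ Subgroup.zpowers (g * x * g⁻¹)) :
    g ∈ Subgroup.centralizer ({t} : Set G) := by
  have h1 := eq_of_mem_zpowers ((orderOf_conj t g).trans ht) ht (conj_mem_zpowers g hx) hgx
  rw [Subgroup.mem_centralizer_singleton_iff]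
  rw [mul_inv_eq_iff_eq_mul] at h1
  exact h1

theorem mem_centralizer_of_mem_zpowers {x t : G} (hx : t ∈ Subgroup.zpowers x) :
    x ∈ Subgroup.centralizer ({t} : Set G) := by
  obtain ⟨k, rfl⟩ := Subgroup.mem_zpowers_iff.mp hx
  rw [Subgroup.mem_centralizer_singleton_iff]
  exact (Commute.refl x).zpow_right k

/-- Functions vanishing off `{h | t ∈ zpowers h}`. -/
def Supp (t : G) (β : Subgroup.centralizer ({t} : Set G) → ℂ) : Prop :=
  ∀ h, β h ≠ 0 → t ∈ Subgroup.zpowers (h : G)

theorem Supp.pow [Finite G] {t : G} {β : Subgroup.centralizer ({t} : Set G) → ℂ}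
    (hβ : Supp t β) : ∀ h, β h ≠ 0 → ∃ k : ℕ, (h : G) ^ k = t := by
  intro h hh
  have := (mem_powers_iff_mem_zpowers (x := (h : G)) (y := t)).mpr (hβ h hh)
  exact (Submonoid.mem_powers_iff _ _).mp this

theorem supp_extendByZero {t : G} {β : Subgroup.centralizer ({t} : Set G) → ℂ}
    (hβ : Supp t β) {x : G} (hx : t ∉ Subgroup.zpowers x) :
    extendByZero (Subgroup.centralizer ({t} : Set G)) β x = 0 := by
  by_cases h : x ∈ Subgroup.centralizer ({t} : Set G)
  · rw [Core.extendByZero_of_mem _ _ h]
    by_contra h1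
    exact hx (hβ _ h1)
  · exact Core.extendByZero_of_notMem _ _ h

variable [Fintype G]

/-- The induced function agrees with the given one on `{h | t ∈ zpowers h}`. -/
theorem indFun_eq {t : G} (ht : orderOf t = 2)
    {β : Subgroup.centralizer ({t} : Set G) → ℂ} (hβc : IsClassFunction _ β) (hβ : Supp t β)
    {h : Subgroup.centralizer ({t} : Set G)} (hh : t ∈ Subgroup.zpowers (h : G)) :
    indFun (Subgroup.centralizer ({t} : Set G)) β (h : G) = β h := by
  classical
  have hc : (Nat.card (Subgroup.centralizer ({t} : Set G)) : ℂ) ≠ 0 := Core.card_ne_zero_complex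
  rw [Core.indFun_apply]
  have h1 : ∀ x : G, extendByZero (Subgroup.centralizer ({t} : Set G)) β (x⁻¹ * (h : G) * x) =
      if x ∈ Subgroup.centralizer ({t} : Set G) then β h else 0 := by
    intro x
    split_ifs with hx
    · have h2 : x⁻¹ * (h : G) * x ∈ Subgroup.centralizer ({t} : Set G) :=
        mul_mem (mul_mem (inv_mem hx) h.2) hx
      rw [Core.extendByZero_of_mem _ _ h2]
      have h3 := hβc h (⟨x, hx⟩ : Subgroup.centralizer ({t} : Set G))⁻¹
      rw [← h3]
      congr 1
      ext
      simp
    · apply supp_extendByZero hβ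
      intro h2
      apply hx
      have h3 : t ∈ Subgroup.zpowers (x⁻¹ * (h : G) * x⁻¹⁻¹) := by rwa [inv_inv]
      have h4 := mem_centralizer_of_conj ht hh h3
      simpa using inv_mem h4
  rw [Finset.sum_congr rfl (fun x _ => h1 x), Finset.sum_ite, Finset.sum_const_zero, add_zero,
    Finset.sum_const, nsmul_eq_mul]
  have h2 : ((Finset.univ.filter (fun x : G => x ∈ Subgroup.centralizer ({t} : Set G))).card) =
      Nat.card (Subgroup.centralizer ({t} : Set G)) := by
    rw [Nat.card_eq_fintype_card, ← Fintype.card_subtype]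
  rw [h2, ← mul_assoc, inv_mul_cancel₀ hc, one_mul]

/-- The induced function vanishes on the elements none of whose powers is conjugate to `t`. -/
theorem indFun_eq_zero {t : G}
    {β : Subgroup.centralizer ({t} : Set G) → ℂ} (hβ : Supp t β) {g : G}
    (hg : ∀ x : G, t ∉ Subgroup.zpowers (x⁻¹ * g * x)) :
    indFun (Subgroup.centralizer ({t} : Set G)) β g = 0 := by
  rw [Core.indFun_apply, Finset.sum_eq_zero (fun x _ => supp_extendByZero hβ (hg x)), mul_zero]

/-- The induced function vanishes on the elements of odd order. -/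
theorem indFun_eq_zero_of_odd {t : G} (ht : orderOf t = 2)
    {β : Subgroup.centralizer ({t} : Set G) → ℂ} (hβ : Supp t β) {g : G}
    (hg : Odd (orderOf g)) :
    indFun (Subgroup.centralizer ({t} : Set G)) β g = 0 := by
  refine indFun_eq_zero hβ fun x hx => ?_
  have h1 : orderOf t ∣ orderOf (x⁻¹ * g * x) := orderOf_dvd_of_mem_zpowers hx
  have h2 : orderOf (x⁻¹ * g * x) = orderOf g := by
    have := orderOf_conj g x⁻¹
    rwa [inv_inv] at this
  rw [ht, h2] at h1
  exact (Nat.not_even_iff_odd.mpr hg) (even_iff_two_dvd.mpr h1)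

/-- The induced function vanishes at `1`. -/
theorem indFun_one {t : G} (ht : orderOf t = 2)
    {β : Subgroup.centralizer ({t} : Set G) → ℂ} (hβ : Supp t β) :
    indFun (Subgroup.centralizer ({t} : Set G)) β 1 = 0 :=
  indFun_eq_zero_of_odd ht hβ (by rw [orderOf_one]; exact odd_one)

/-- Every element of even order is conjugate to an element of `{h | t ∈ zpowers h}`. -/
theorem exists_conj_of_even {t : G} (hone : ∀ x : G, orderOf x = 2 → IsConj t x) {g : G}
    (hg : Even (orderOf g)) : ∃ x : G, t ∈ Subgroup.zpowers (x * g * x⁻¹) := by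
  have h2 : orderOf (g ^ (orderOf g / 2)) = 2 := by
    have hpos : orderOf g ≠ 0 := (orderOf_pos g).ne'
    obtain ⟨c, hc⟩ := hg
    have hc' : orderOf g = 2 * c := by omega
    have h3 : orderOf g / 2 = c := by omega
    rw [h3, orderOf_pow_of_dvd (by omega) ⟨2, by omega⟩, hc']
    exact Nat.mul_div_cancel _ (by omega)
  obtain ⟨c, hc⟩ := isConj_iff.mp (hone _ h2)
  refine ⟨c⁻¹, ?_⟩
  have h3 : c⁻¹ * g ^ (orderOf g / 2) * c⁻¹⁻¹ = t := by
    rw [← hc]; group
  rw [← h3]
  exact conj_mem_zpowers c⁻¹ (Subgroup.npow_mem_zpowers g _)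

/-- Inner product of an induced function with a class function. -/
theorem classInner_indFun_left (H : Subgroup G) [inst : Fintype H] (φ : H → ℂ) {χ : G → ℂ}
    (hχ : IsClassFunction G χ) :
    classInner (indFun H φ) χ = classInner φ (fun h : H => χ h) :=
  Brauer.classInner_indFun H inst φ χ hχ

/-- Induction is an isometry on the functions vanishing off `{h | t ∈ zpowers h}`. -/
theorem classInner_indFun_indFun {t : G} (ht : orderOf t = 2)
    [Fintype (Subgroup.centralizer ({t} : Set G))]
    {β γ : Subgroup.centralizer ({t} : Set G) → ℂ} (hβ : IsClassFunction _ β)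
    (hγ : IsClassFunction _ γ) (hβ0 : Supp t β) (hγ0 : Supp t γ) :
    classInner (indFun (Subgroup.centralizer ({t} : Set G)) β)
      (indFun (Subgroup.centralizer ({t} : Set G)) γ) = classInner β γ :=
  CentInvTI.classInner_ind t ht β γ hβ hγ hβ0.pow hγ0.pow

end TI

section Inflation

variable {H Q : Type*} [Group H] [Group Q] [Fintype H] [Fintype Q]

/-- Sum of an inflated function. -/
theorem sum_comp (π : H →* Q) (hπ : Function.Surjective π) (f : Q → ℂ) :
    ∑ x : H, f (π x) = (Nat.card π.ker : ℂ) * ∑ q : Q, f q := by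
  classical
  rw [← Finset.sum_fiberwise_of_maps_to (s := Finset.univ) (t := Finset.univ) (g := π)
    (fun _ _ => Finset.mem_univ _), Finset.mul_sum]
  refine Finset.sum_congr rfl fun q _ => ?_
  rw [Finset.sum_congr rfl (g := fun _ => f q) (fun a ha => by
    rw [(Finset.mem_filter.1 ha).2]), Finset.sum_const, nsmul_eq_mul]
  congr 1
  obtain ⟨y, rfl⟩ := hπ q
  rw [Nat.cast_inj, ← Fintype.card_coe, ← Nat.card_eq_fintype_card]
  refine Nat.card_congr
    { toFun := fun x => ⟨y⁻¹ * x.1, ?_⟩
      invFun := fun k => ⟨y * k.1, ?_⟩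
      left_inv := fun x => by ext; simp
      right_inv := fun k => by ext; simp }
  · have := (Finset.mem_filter.1 x.2).2
    rw [MonoidHom.mem_ker, map_mul, map_inv, this, inv_mul_cancel]
  · have := k.2
    rw [MonoidHom.mem_ker] at this
    simp [this]

/-- Inner products of inflated functions. -/
theorem classInner_comp (π : H →* Q) (hπ : Function.Surjective π) (f g : Q → ℂ) :
    classInner (fun x => f (π x)) (fun x => g (π x)) = classInner f g := by
  rw [Core.classInner_def, Core.classInner_def, sum_comp π hπ (fun q => f q * conj (g q))]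
  have h1 : Nat.card H = Nat.card π.ker * Nat.card Q := by
    rw [← π.ker.card_mul_index, Subgroup.index_ker, MonoidHom.range_eq_top.mpr hπ,
      Subgroup.card_top]
  have h2 : (Nat.card π.ker : ℂ) ≠ 0 := Core.card_ne_zero_complex
  rw [h1]
  push_cast
  rw [mul_inv]
  field_simp

theorem classInner_comp' (π : H →* Q) (hπ : Function.Surjective π) (f g : Q → ℂ) :
    classInner (f ∘ π) (g ∘ π) = classInner f g :=
  classInner_comp π hπ f g

omit [Fintype H] [Fintype Q] in
theorem isClassFunction_comp (π : H →* Q) {f : Q → ℂ} (hf : IsClassFunction Q f) :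
    IsClassFunction H (fun x => f (π x)) := by
  intro g h
  show f (π (h * g * h⁻¹)) = f (π g)
  rw [map_mul, map_mul, map_inv]
  exact hf _ _

end Inflation

section Dihedral

open DihedralGroup

variable {n : ℕ} [NeZero n]

theorem sum_dihedral [Fintype (DihedralGroup n)] (f : DihedralGroup n → ℂ) :
    ∑ x : DihedralGroup n, f x = ∑ i : ZMod n, f (r i) + ∑ i : ZMod n, f (sr i) := by
  classical
  let e1 : ZMod n ⊕ ZMod n ≃ DihedralGroup n :=
    { toFun := fun i => match i with
        | Sum.inl j => r j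
        | Sum.inr j => sr j
      invFun := fun i => match i with
        | r j => Sum.inl j
        | sr j => Sum.inr j
      left_inv := by rintro (x | x) <;> rfl
      right_inv := by rintro (x | x) <;> rfl }
  rw [← Equiv.sum_comp e1, Fintype.sum_sum_type]
  rfl

theorem card_dihedral : (Nat.card (DihedralGroup n) : ℂ) = 2 * n := by
  rw [DihedralGroup.nat_card]
  push_cast
  ring

theorem conj_e (a : ZMod n) : conj (e n a) = e n (-a) := by
  rw [AddChar.map_neg_eq_conj]

theorem sum_e (a : ZMod n) : ∑ j : ZMod n, e n (a * j) = if a = 0 then (n : ℂ) else 0 := by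
  have h := AddChar.sum_mulShift (R := ZMod n) (R' := ℂ) (ψ := e n) a
    (ZMod.isPrimitive_stdAddChar n)
  rw [ZMod.card, Nat.cast_ite, Nat.cast_zero] at h
  rw [← h]
  exact Finset.sum_congr rfl fun j _ => by rw [mul_comm]

theorem conj_bth_r (k j : ZMod n) : conj (bth k (r j)) = bth k (r j) := by
  rw [bth_r, map_sub, map_sub, conj_e, conj_e, neg_neg, map_ofNat]
  ring

theorem classInner_bth [Fintype (DihedralGroup n)] (i k : ZMod n) :
    classInner (bth i : DihedralGroup n → ℂ) (bth k) =
      2 - 2 * (if i = 0 then 1 else 0) - 2 * (if k = 0 then 1 else 0) +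
        (if i = k then 1 else 0) + (if i = -k then 1 else 0) := by
  have hn : (n : ℂ) ≠ 0 := Nat.cast_ne_zero.mpr (NeZero.ne n)
  rw [Core.classInner_def, sum_dihedral, card_dihedral]
  have h1 : ∀ j : ZMod n, bth i (r j) * conj (bth k (r j)) =
      4 - 2 * e n (i * j) - 2 * e n (-i * j) - 2 * e n (k * j) - 2 * e n (-k * j) +
        e n ((i - k) * j) + e n ((k - i) * j) + e n ((i + k) * j) + e n ((-i - k) * j) := by
    intro j
    rw [conj_bth_r, bth_r, bth_r]
    have e1 : e n ((i - k) * j) = e n (i * j) * e n (-(k * j)) := by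
      rw [← AddChar.map_add_eq_mul]; congr 1; ring
    have e2 : e n ((k - i) * j) = e n (-(i * j)) * e n (k * j) := by
      rw [← AddChar.map_add_eq_mul]; congr 1; ring
    have e3 : e n ((i + k) * j) = e n (i * j) * e n (k * j) := by
      rw [← AddChar.map_add_eq_mul]; congr 1; ring
    have e4 : e n ((-i - k) * j) = e n (-(i * j)) * e n (-(k * j)) := by
      rw [← AddChar.map_add_eq_mul]; congr 1; ring
    rw [e1, e2, e3, e4, neg_mul, neg_mul]
    ring
  rw [Finset.sum_congr rfl (fun j _ => h1 j)]
  have h2 : ∑ j : ZMod n, bth i (sr j) * conj (bth k (sr j)) = 0 :=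
    Finset.sum_eq_zero fun j _ => by rw [bth_sr, zero_mul]
  rw [h2, add_zero]
  simp only [Finset.sum_add_distrib, Finset.sum_sub_distrib, ← Finset.mul_sum, sum_e,
    Finset.sum_const, Finset.card_univ, ZMod.card, nsmul_eq_mul, neg_eq_zero, sub_eq_zero]
  have h3 : (k = i) = (i = k) := propext eq_comm
  have h4 : (i + k = 0) = (i = -k) := propext eq_neg_iff_add_eq_zero.symm
  have h5 : (-i = k) = (i = -k) := propext neg_eq_iff_eq_neg
  simp only [h3, h4, h5]
  split_ifs <;> field_simp <;> ring

theorem bmu_eq_bth (h2 : 2 ∣ n) : (bmu : DihedralGroup n → ℂ) = bth ((n / 2 : ℕ) : ZMod n) := by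
  funext x
  match x with
  | sr j => rw [bmu_sr, bth_sr]
  | r j =>
    have h3 : -(((n / 2 : ℕ) : ZMod n) * j) = ((n / 2 : ℕ) : ZMod n) * j := by
      rw [← neg_mul, neg_eq_of_add_eq_zero_right (BGBasic.half_add_half h2)]
    rw [bmu_r, bth_r, h3]
    ring

theorem ne_zero_of_add {i : ZMod n} (hi : i + i ≠ 0) : i ≠ 0 := by
  rintro rfl
  exact hi (add_zero 0)

theorem ne_half_of_add (h2 : 2 ∣ n) {i : ZMod n} (hi : i + i ≠ 0) :
    i ≠ ((n / 2 : ℕ) : ZMod n) := by
  rintro rfl
  exact hi (BGBasic.half_add_half h2)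

theorem neg_half (h2 : 2 ∣ n) : -((n / 2 : ℕ) : ZMod n) = ((n / 2 : ℕ) : ZMod n) :=
  neg_eq_of_add_eq_zero_right (BGBasic.half_add_half h2)

theorem classInner_bth_self [Fintype (DihedralGroup n)] {i : ZMod n} (hi : i + i ≠ 0) :
    classInner (bth i : DihedralGroup n → ℂ) (bth i) = 3 := by
  rw [classInner_bth, if_neg (ne_zero_of_add hi), if_pos rfl,
    if_neg (fun h => hi (eq_neg_iff_add_eq_zero.mp h))]
  norm_num

theorem classInner_bth_ne [Fintype (DihedralGroup n)] {i k : ZMod n} (hi : i ≠ 0) (hk : k ≠ 0)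
    (h1 : i ≠ k) (h2 : i ≠ -k) :
    classInner (bth i : DihedralGroup n → ℂ) (bth k) = 2 := by
  rw [classInner_bth, if_neg hi, if_neg hk, if_neg h1, if_neg h2]
  norm_num

theorem classInner_bth_bmu (h2 : 2 ∣ n) [Fintype (DihedralGroup n)] {i : ZMod n}
    (hi : i + i ≠ 0) : classInner (bth i : DihedralGroup n → ℂ) bmu = 2 := by
  rw [bmu_eq_bth h2]
  refine classInner_bth_ne (ne_zero_of_add hi) (BGBasic.half_ne_zero h2) (ne_half_of_add h2 hi) ?_
  rw [neg_half h2]
  exact ne_half_of_add h2 hi

theorem classInner_bmu_bth (h2 : 2 ∣ n) [Fintype (DihedralGroup n)] {i : ZMod n}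
    (hi : i + i ≠ 0) : classInner (bmu : DihedralGroup n → ℂ) (bth i) = 2 := by
  rw [bmu_eq_bth h2]
  refine classInner_bth_ne (BGBasic.half_ne_zero h2) (ne_zero_of_add hi)
    (ne_half_of_add h2 hi).symm ?_
  intro h
  apply ne_half_of_add h2 hi
  rw [eq_neg_iff_add_eq_zero, add_comm, ← eq_neg_iff_add_eq_zero, neg_half h2] at h
  exact h

theorem classInner_bmu_self (h2 : 2 ∣ n) [Fintype (DihedralGroup n)] :
    classInner (bmu : DihedralGroup n → ℂ) bmu = 4 := by
  rw [bmu_eq_bth h2, classInner_bth, if_neg (BGBasic.half_ne_zero h2), if_pos rfl,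
    if_pos (neg_half h2).symm]
  norm_num

theorem classInner_bth_one [Fintype (DihedralGroup n)] {i : ZMod n} (hi : i ≠ 0) :
    classInner (bth i : DihedralGroup n → ℂ) 1 = 1 := by
  have hn : (n : ℂ) ≠ 0 := Nat.cast_ne_zero.mpr (NeZero.ne n)
  rw [Core.classInner_def, sum_dihedral, card_dihedral]
  have h1 : ∀ j : ZMod n, bth i (r j) * conj ((1 : DihedralGroup n → ℂ) (r j)) =
      2 - e n (i * j) - e n (-i * j) := by
    intro j
    rw [Pi.one_apply, map_one, mul_one, bth_r, neg_mul]
  rw [Finset.sum_congr rfl (fun j _ => h1 j)]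
  have h2 : ∑ j : ZMod n, bth i (sr j) * conj ((1 : DihedralGroup n → ℂ) (sr j)) = 0 :=
    Finset.sum_eq_zero fun j _ => by rw [bth_sr, zero_mul]
  rw [h2, add_zero]
  simp only [Finset.sum_sub_distrib, sum_e,
    Finset.sum_const, Finset.card_univ, ZMod.card, nsmul_eq_mul, neg_eq_zero, if_neg hi]
  field_simp
  ring

theorem classInner_bmu_one (h2 : 2 ∣ n) [Fintype (DihedralGroup n)] :
    classInner (bmu : DihedralGroup n → ℂ) 1 = 1 := by
  rw [bmu_eq_bth h2]
  exact classInner_bth_one (BGBasic.half_ne_zero h2)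

theorem isClassFunction_lam : IsClassFunction (DihedralGroup n) lam := by
  intro g h
  cases g <;> cases h <;> simp [lam]

theorem isClassFunction_theta (i : ZMod n) : IsClassFunction (DihedralGroup n) (theta i) := by
  intro g h
  cases g <;> cases h <;> simp [theta, add_comm]

theorem half_mul_add_self (h2 : 2 ∣ n) (a : ZMod n) :
    ((n / 2 : ℕ) : ZMod n) * (a + a) = 0 := by
  rw [mul_add, ← add_mul, BGBasic.half_add_half h2, zero_mul]

theorem e_half_add_self (h2 : 2 ∣ n) (a b : ZMod n) :
    e n (((n / 2 : ℕ) : ZMod n) * (b + (a + a))) = e n (((n / 2 : ℕ) : ZMod n) * b) := by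
  rw [mul_add, half_mul_add_self h2, add_zero]

theorem isIrr_of_mul {G : Type*} [Group G] (f : G → ℂ) (h1 : f 1 = 1)
    (hm : ∀ x y, f (x * y) = f x * f y) : IsIrrCharacter G f := by
  let F : G →* ℂ := { toFun := f, map_one' := h1, map_mul' := hm }
  have h := Linear.isIrrCharacter_hom (G := G) F.toHomUnits
  simpa [F] using h

theorem isIrr_lam : IsIrrCharacter (DihedralGroup n) lam := by
  refine isIrr_of_mul _ ?_ ?_
  · rw [DihedralGroup.one_def, lam_r]
  · intro x y
    cases x <;> cases y <;> simp [lam]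

theorem e_half_sub (h2 : 2 ∣ n) (a b : ZMod n) :
    e n (((n / 2 : ℕ) : ZMod n) * (a - b)) = e n (((n / 2 : ℕ) : ZMod n) * a) *
      e n (((n / 2 : ℕ) : ZMod n) * b) := by
  rw [← AddChar.map_add_eq_mul, ← mul_add]
  have := e_half_add_self h2 b (a - b)
  rw [show a - b + (b + b) = a + b by ring] at this
  exact this.symm

theorem isIrr_mu (h2 : 2 ∣ n) : IsIrrCharacter (DihedralGroup n) mu := by
  refine isIrr_of_mul _ ?_ ?_
  · rw [DihedralGroup.one_def, mu_r, mul_zero, AddChar.map_zero_eq_one]
  · intro x y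
    cases x <;> cases y <;> simp only [r_mul_r, r_mul_sr, sr_mul_r, sr_mul_sr, mu_r, mu_sr,
      mul_add, AddChar.map_add_eq_mul, e_half_sub h2]
    · ring
    · ring

theorem isIrr_mulam (h2 : 2 ∣ n) : IsIrrCharacter (DihedralGroup n) mulam := by
  refine isIrr_of_mul _ ?_ ?_
  · rw [DihedralGroup.one_def, mulam_r, mul_zero, AddChar.map_zero_eq_one]
  · intro x y
    cases x <;> cases y <;> simp only [r_mul_r, r_mul_sr, sr_mul_r, sr_mul_sr, mulam_r, mulam_sr,
      mul_add, AddChar.map_add_eq_mul, e_half_sub h2]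
    · ring
    · ring
    · ring

/-- The matrix representation affording `theta i`. -/
noncomputable def thetaMat (i : ZMod n) : DihedralGroup n → Matrix (Fin 2) (Fin 2) ℂ
  | r j => !![e n (i * j), 0; 0, e n (-(i * j))]
  | sr j => !![0, e n (-(i * j)); e n (i * j), 0]

noncomputable def thetaHom (i : ZMod n) : DihedralGroup n →* Matrix (Fin 2) (Fin 2) ℂ where
  toFun := thetaMat i
  map_one' := by
    rw [DihedralGroup.one_def]
    ext a b
    fin_cases a <;> fin_cases b <;> simp [thetaMat]
  map_mul' x y := by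
    match x, y with
    | r a, r b =>
      ext c d
      fin_cases c <;> fin_cases d <;>
        simp [thetaMat, Matrix.mul_apply, mul_add, AddChar.map_add_eq_mul, mul_comm]
    | r a, sr b =>
      have h1 : e n (-(i * (b - a))) = e n (i * a) * e n (-(i * b)) := by
        rw [← AddChar.map_add_eq_mul]; congr 1; ring
      have h2 : e n (i * (b - a)) = e n (-(i * a)) * e n (i * b) := by
        rw [← AddChar.map_add_eq_mul]; congr 1; ring
      ext c d
      fin_cases c <;> fin_cases d <;> simp [thetaMat, Matrix.mul_apply, h1, h2]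
    | sr a, r b =>
      ext c d
      fin_cases c <;> fin_cases d <;>
        simp [thetaMat, Matrix.mul_apply, mul_add, AddChar.map_add_eq_mul, mul_comm]
    | sr a, sr b =>
      have h1 : e n (-(i * (b - a))) = e n (i * a) * e n (-(i * b)) := by
        rw [← AddChar.map_add_eq_mul]; congr 1; ring
      have h2 : e n (i * (b - a)) = e n (-(i * a)) * e n (i * b) := by
        rw [← AddChar.map_add_eq_mul]; congr 1; ring
      ext c d
      fin_cases c <;> fin_cases d <;> simp [thetaMat, Matrix.mul_apply, h1, h2]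

theorem isCharacter_of_matrix {G : Type*} [Group G] {k : ℕ} (M : G →* Matrix (Fin k) (Fin k) ℂ) :
    IsCharacter G (fun g => (M g).trace) := by
  refine ⟨k, (Matrix.toLinAlgEquiv' : Matrix (Fin k) (Fin k) ℂ ≃ₐ[ℂ] _).toMulEquiv.toMonoidHom.comp M, ?_⟩
  funext g
  show LinearMap.trace ℂ _ (Matrix.toLin' (M g)) = _
  rw [LinearMap.trace_eq_matrix_trace ℂ (Pi.basisFun ℂ (Fin k)), ← Matrix.toLin_eq_toLin',
    LinearMap.toMatrix_toLin]

theorem isCharacter_theta (i : ZMod n) : IsCharacter (DihedralGroup n) (theta i) := by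
  have h := isCharacter_of_matrix (thetaHom i)
  convert h using 1
  funext x
  cases x with
  | r j => simp [thetaHom, thetaMat, theta_r, Matrix.trace_fin_two]
  | sr j => simp [thetaHom, thetaMat, Matrix.trace_fin_two]

theorem isGeneralized_bth (i : ZMod n) : IsGeneralizedCharacter (DihedralGroup n) (bth i) := by
  refine ⟨1 + lam, theta i, Core.isCharacter_add Core.isCharacter_one
    (Core.isIrr_isCharacter isIrr_lam), isCharacter_theta i, ?_⟩
  funext x
  rfl

theorem isGeneralized_bmu (h2 : 2 ∣ n) : IsGeneralizedCharacter (DihedralGroup n) bmu := by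
  refine ⟨1 + lam, mu + mulam, Core.isCharacter_add Core.isCharacter_one
    (Core.isIrr_isCharacter isIrr_lam), Core.isCharacter_add
    (Core.isIrr_isCharacter (isIrr_mu h2)) (Core.isIrr_isCharacter (isIrr_mulam h2)), ?_⟩
  funext x
  show 1 + lam x - mu x - mulam x = 1 + lam x - (mu x + mulam x)
  ring

theorem isClassFunction_of_generalized {G : Type*} [Group G] {f : G → ℂ}
    (hf : IsGeneralizedCharacter G f) : IsClassFunction G f := by
  obtain ⟨χ, ψ, hχ, hψ, rfl⟩ := hf
  intro g h
  rw [Pi.sub_apply, Pi.sub_apply, Core.isCharacter_isClassFunction hχ,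
    Core.isCharacter_isClassFunction hψ]

end Dihedral

section Main

variable {G : Type*} [Group G] [Fintype G] {t : G} {n : ℕ} [NeZero n]
  {π : (Subgroup.centralizer ({t} : Set G)) →* DihedralGroup n}

theorem supp_comp (h : BGHyp t n π) (b : DihedralGroup n → ℂ) (hb1 : b 1 = 0)
    (hbs : ∀ j, b (DihedralGroup.sr j) = 0) : Supp t (fun x => b (π x)) :=
  fun x hx => BGBasic.mem_zpowers_of_ne_zero h b hb1 hbs x hx

theorem supp_bth (h : BGHyp t n π) (i : ZMod n) : Supp t (fun x => bth i (π x)) :=
  supp_comp h _ (bth_one i) (bth_sr i)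

theorem supp_bmu (h : BGHyp t n π) : Supp t (fun x => bmu (π x)) :=
  supp_comp h _ bmu_one bmu_sr

/-- The value of the induced function on `{h | t ∈ zpowers h}`. -/
theorem indFun_comp_eq (h : BGHyp t n π) {b : DihedralGroup n → ℂ} (hb : IsClassFunction _ b)
    (hb1 : b 1 = 0) (hbs : ∀ j, b (DihedralGroup.sr j) = 0)
    {x : Subgroup.centralizer ({t} : Set G)} {j : ZMod n} (hj : j ≠ 0)
    (hx : π x = DihedralGroup.r j) :
    indFun (Subgroup.centralizer ({t} : Set G)) (fun x => b (π x)) (x : G) =
      b (DihedralGroup.r j) := by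
  rw [indFun_eq h.orderOf_t (isClassFunction_comp π hb) (supp_comp h b hb1 hbs)
    (BGBasic.mem_zpowers_of_rot h hj hx), hx]

/-- Inner products of the functions induced from functions on the dihedral group. -/
theorem classInner_ind_comp (h : BGHyp t n π) [Fintype (DihedralGroup n)]
    {b c : DihedralGroup n → ℂ} (hb : IsClassFunction _ b) (hc : IsClassFunction _ c)
    (hb1 : b 1 = 0) (hbs : ∀ j, b (DihedralGroup.sr j) = 0)
    (hc1 : c 1 = 0) (hcs : ∀ j, c (DihedralGroup.sr j) = 0) :
    classInner (indFun (Subgroup.centralizer ({t} : Set G)) (fun x => b (π x)))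
      (indFun (Subgroup.centralizer ({t} : Set G)) (fun x => c (π x))) = classInner b c := by
  classical
  let _ : Fintype (Subgroup.centralizer ({t} : Set G)) := Fintype.ofFinite _
  rw [classInner_indFun_indFun h.orderOf_t (isClassFunction_comp π hb) (isClassFunction_comp π hc)
    (supp_comp h b hb1 hbs) (supp_comp h c hc1 hcs), classInner_comp π h.surj]

/-- Inner products with a function whose restriction to `{h | t ∈ zpowers h}` comes from
the dihedral group. -/
theorem classInner_ind_comp_left (h : BGHyp t n π) [Fintype (DihedralGroup n)]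
    {b c : DihedralGroup n → ℂ} (hb1 : b 1 = 0) (hbs : ∀ j, b (DihedralGroup.sr j) = 0)
    {χ : G → ℂ} (hχ : IsClassFunction G χ)
    (hc : ∀ (x : Subgroup.centralizer ({t} : Set G)) (j : ZMod n), j ≠ 0 →
      π x = DihedralGroup.r j → χ x = c (DihedralGroup.r j)) :
    classInner (indFun (Subgroup.centralizer ({t} : Set G)) (fun x => b (π x))) χ =
      classInner b c := by
  classical
  let _ : Fintype (Subgroup.centralizer ({t} : Set G)) := Fintype.ofFinite _
  rw [classInner_indFun_left _ _ hχ, ← classInner_comp π h.surj b c]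
  rw [Core.classInner_def, Core.classInner_def]
  congr 1
  refine Finset.sum_congr rfl fun x _ => ?_
  match hx : π x with
  | DihedralGroup.sr j => rw [hbs, zero_mul, zero_mul]
  | DihedralGroup.r j =>
    by_cases hj : j = 0
    · rw [hj, ← DihedralGroup.one_def, hb1, zero_mul, zero_mul]
    · rw [hc x j hj hx]

theorem classInner_ind_comp_one (h : BGHyp t n π) [Fintype (DihedralGroup n)]
    {b : DihedralGroup n → ℂ} (hb1 : b 1 = 0) (hbs : ∀ j, b (DihedralGroup.sr j) = 0) :
    classInner (indFun (Subgroup.centralizer ({t} : Set G)) (fun x => b (π x))) 1 =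
      classInner b 1 :=
  classInner_ind_comp_left h hb1 hbs
    (Core.isCharacter_isClassFunction (Core.isCharacter_one)) (fun _ _ _ _ => rfl)

theorem isGeneralized_ind_comp {b : DihedralGroup n → ℂ}
    (hb : IsGeneralizedCharacter (DihedralGroup n) b) :
    IsGeneralizedCharacter G
      (indFun (Subgroup.centralizer ({t} : Set G)) (fun x => b (π x))) := by
  obtain ⟨χ, ψ, hχ, hψ, rfl⟩ := hb
  exact Brauer.isGeneralizedCharacter_indFun _
    ⟨fun x => χ (π x), fun x => ψ (π x), Core.isCharacter_comp π hχ, Core.isCharacter_comp π hψ,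
      rfl⟩

end Main

end Cfsg.Agent.Classification.BGIsometry
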