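import Mathlib
import Cfsg.Prelude.Def_Characters
import Cfsg.Agent.Characters.Core
import Cfsg.Agent.Classification.BGOrder

/-!
# Decomposition of a family of generalized characters of norm three and four

(B1) of the Bender–Glauberman computation.
-/

set_option autoImplicit false
set_option linter.unusedSectionVars false

open Cfsg
open scoped ComplexConjugate

namespace Cfsg.Agent.Classification.BGSplit

open Cfsg.Agent.Classification.BGOrder Cfsg.Agent.Characters.Core

universe u

variable {G : Type u} [Group G] [Fintype G]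

/-- The pairwise orthogonality of the family `1, X₁, X₂, X₃, T i`. -/
structure Ortho (n : ℕ) (X₁ X₂ X₃ : G → ℂ) (T : ZMod n → G → ℂ) : Prop where
  one₁ : classInner X₁ 1 = 0
  one₂ : classInner X₂ 1 = 0
  one₃ : classInner X₃ 1 = 0
  one_T : ∀ i, i + i ≠ 0 → classInner (T i) 1 = 0
  x₁₂ : classInner X₁ X₂ = 0
  x₁₃ : classInner X₁ X₃ = 0
  x₂₃ : classInner X₂ X₃ = 0
  T_x₁ : ∀ i, i + i ≠ 0 → classInner (T i) X₁ = 0
  T_x₂ : ∀ i, i + i ≠ 0 → classInner (T i) X₂ = 0
  T_x₃ : ∀ i, i + i ≠ 0 → classInner (T i) X₃ = 0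
  T_T : ∀ i j, i + i ≠ 0 → j + j ≠ 0 → i ≠ j → i ≠ -j → classInner (T i) (T j) = 0

theorem inner_symm_zero {X Y : G → ℂ} (h : classInner X Y = 0) : classInner Y X = 0 := by
  rw [← classInner_conj_symm, h, map_zero]

theorem inner_symm_one {X Y : G → ℂ} (h : classInner X Y = 1) : classInner Y X = 1 := by
  rw [← classInner_conj_symm, h, map_one]

theorem signed_self {X : G → ℂ} (hX : SignedIrr X) : classInner X X = 1 := by
  rcases hX with h | h
  · exact classInner_irr_self h
  · have := classInner_irr_self h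
    rwa [classInner_neg_left, classInner_neg_right, neg_neg] at this

theorem signed_neg {X : G → ℂ} (hX : SignedIrr X) : SignedIrr (-X) := by
  rcases hX with h | h
  · exact Or.inr (by rw [neg_neg]; exact h)
  · exact Or.inl h

theorem ne_of_inner_zero {X Y : G → ℂ} (hY : SignedIrr Y) (h : classInner X Y = 0) : X ≠ Y := by
  rintro rfl
  rw [signed_self hY] at h
  exact one_ne_zero h

theorem ne_neg_of_inner_zero {X Y : G → ℂ} (hY : SignedIrr Y) (h : classInner X Y = 0) :
    X ≠ -Y := by
  rintro rfl
  rw [classInner_neg_left, signed_self hY] at h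
  exact one_ne_zero (neg_eq_zero.1 h)

theorem signed_inner {X Y : G → ℂ} (hX : SignedIrr X) (hY : SignedIrr Y) :
    classInner X Y = 0 ∨ X = Y ∨ X = -Y := by
  rcases hX with hX | hX <;> rcases hY with hY | hY
  · by_cases h : X = Y
    · exact Or.inr (Or.inl h)
    · exact Or.inl (classInner_irr_ne hX hY h)
  · by_cases h : X = -Y
    · exact Or.inr (Or.inr h)
    · left
      have := classInner_irr_ne hX hY h
      rwa [classInner_neg_right, neg_eq_zero] at this
  · by_cases h : -X = Y
    · exact Or.inr (Or.inr (by rw [← h, neg_neg]))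
    · left
      have := classInner_irr_ne hX hY h
      rwa [classInner_neg_left, neg_eq_zero] at this
  · by_cases h : -X = -Y
    · exact Or.inr (Or.inl (neg_injective h))
    · left
      have := classInner_irr_ne hX hY h
      rwa [classInner_neg_left, classInner_neg_right, neg_neg] at this

theorem signed_eq_of_inner_one {X Y : G → ℂ} (hX : SignedIrr X) (hY : SignedIrr Y)
    (h : classInner X Y = 1) : X = Y := by
  rcases signed_inner hX hY with h1 | h1 | h1
  · rw [h1] at h; exact absurd h zero_ne_one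
  · exact h1
  · rw [h1, classInner_neg_left, signed_self hY] at h
    norm_num at h

theorem isClass_of_generalized {f : G → ℂ} (hf : IsGeneralizedCharacter G f) :
    IsClassFunction G f := by
  obtain ⟨χ, ψ, hχ, hψ, rfl⟩ := hf
  intro g h
  simp only [Pi.sub_apply]
  rw [isCharacter_isClassFunction hχ g h, isCharacter_isClassFunction hψ g h]

theorem generalized_sub {f g : G → ℂ} (hf : IsGeneralizedCharacter G f)
    (hg : IsGeneralizedCharacter G g) : IsGeneralizedCharacter G (f - g) := by
  obtain ⟨χ, ψ, hχ, hψ, rfl⟩ := hf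
  obtain ⟨χ', ψ', hχ', hψ', rfl⟩ := hg
  exact ⟨χ + ψ', ψ + χ', isCharacter_add hχ hψ', isCharacter_add hψ hχ', by abel⟩

theorem generalized_signed {X : G → ℂ} (hX : SignedIrr X) : IsGeneralizedCharacter G X := by
  rcases hX with h | h
  · exact ⟨X, 0, isIrr_isCharacter h, isCharacter_zero, by simp⟩
  · exact ⟨0, -X, isCharacter_zero, isIrr_isCharacter h, by simp⟩

/-- A generalized character of norm less than four splits off a signed irreducible character. -/
theorem peel {f : G → ℂ} (hf : IsGeneralizedCharacter G f) {N : ℤ} (hN : classInner f f = N)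
    (h0 : 0 < N) (h4 : N < 4) :
    ∃ R : G → ℂ, SignedIrr R ∧ classInner f R = 1 ∧ IsGeneralizedCharacter G (f - R) ∧
      classInner (f - R) (f - R) = ((N - 1 : ℤ) : ℂ) := by
  classical
  have := finite_irr (G := G)
  let _ : Fintype (IrrCharacter G) := Fintype.ofFinite _
  obtain ⟨m, hm⟩ := isGeneralizedCharacter_iff.1 hf
  have hcoef : ∀ χ : IrrCharacter G, classInner f (χ : G → ℂ) = (m χ : ℂ) := by
    intro χ
    rw [hm, classInner_sum_zsmul_irr]
  have hfc := isClass_of_generalized hf
  have hself : ∑ χ : IrrCharacter G, (m χ) ^ 2 = N := by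
    have h1 := classInner_eq_sum hfc hfc
    simp only [hcoef, hN] at h1
    have h' : ((∑ χ : IrrCharacter G, (m χ) ^ 2 : ℤ) : ℂ) = ((N : ℤ) : ℂ) := by
      push_cast
      rw [h1]
      refine Finset.sum_congr rfl fun χ _ => ?_
      simp [sq]
    exact_mod_cast h'
  obtain ⟨a, ha0⟩ : ∃ a, m a ≠ 0 := by
    by_contra hcon
    push Not at hcon
    rw [Finset.sum_eq_zero (fun χ _ => by rw [hcon χ]; rfl)] at hself
    omega
  have hale : (m a) ^ 2 ≤ N := by
    rw [← hself]
    exact Finset.single_le_sum (f := fun χ => (m χ) ^ 2) (fun i _ => sq_nonneg _)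
      (Finset.mem_univ a)
  have ha1 : m a = 1 ∨ m a = -1 := by
    have h1 : m a < 2 := by nlinarith
    have h2 : -2 < m a := by nlinarith
    omega
  have key : ∀ R : G → ℂ, SignedIrr R → classInner f R = 1 →
      classInner (f - R) (f - R) = ((N - 1 : ℤ) : ℂ) := by
    intro R hR h1
    rw [classInner_sub_left, classInner_sub_right, classInner_sub_right, hN, h1,
      inner_symm_one h1, signed_self hR]
    push_cast
    ring
  rcases ha1 with ha1 | ha1
  · have h1 : classInner f (a : G → ℂ) = 1 := by rw [hcoef, ha1]; simp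
    exact ⟨a, Or.inl a.2, h1, generalized_sub hf (generalized_signed (Or.inl a.2)),
      key _ (Or.inl a.2) h1⟩
  · have hs : SignedIrr (-(a : G → ℂ)) := signed_neg (Or.inl a.2)
    have h1 : classInner f (-(a : G → ℂ)) = 1 := by
      rw [classInner_neg_right, hcoef, ha1]; simp
    exact ⟨_, hs, h1, generalized_sub hf (generalized_signed hs), key _ hs h1⟩

theorem inner_zero_of {f X Y : G → ℂ} (hX : SignedIrr X) (hY : SignedIrr Y)
    (h1 : classInner f X = 1) (h2 : classInner f Y = 0) : classInner X Y = 0 := by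
  rcases signed_inner hX hY with h | h | h
  · exact h
  · rw [h, h2] at h1; exact absurd h1 zero_ne_one
  · rw [h, classInner_neg_right, h2, neg_zero] at h1; exact absurd h1 zero_ne_one

/-- Norm three. -/
theorem decomp_three {f : G → ℂ} (hf : IsGeneralizedCharacter G f) (h1 : classInner f 1 = 1)
    (h3 : classInner f f = 3) :
    ∃ P Q : G → ℂ, SignedIrr P ∧ SignedIrr Q ∧ classInner P 1 = 0 ∧ classInner Q 1 = 0 ∧
      classInner P Q = 0 ∧ f = 1 + P + Q := by
  have hone : SignedIrr (1 : G → ℂ) := signedIrr_one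
  have hg : IsGeneralizedCharacter G (f - 1) := generalized_sub hf (generalized_signed hone)
  have hg1 : classInner (f - 1) 1 = 0 := by
    rw [classInner_sub_left, h1, signed_self hone, sub_self]
  have hgg : classInner (f - 1) (f - 1) = ((2 : ℤ) : ℂ) := by
    rw [classInner_sub_right, hg1, classInner_sub_left, h3, inner_symm_one h1]
    norm_num
  obtain ⟨P, hP, hP1, hP2, hP3⟩ := peel hg hgg (by norm_num) (by norm_num)
  have hP0 := inner_zero_of hP hone hP1 hg1
  have hk1 : classInner (f - 1 - P) 1 = 0 := by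
    rw [classInner_sub_left, hg1, hP0, sub_zero]
  have hkP : classInner (f - 1 - P) P = 0 := by
    rw [classInner_sub_left, hP1, signed_self hP, sub_self]
  obtain ⟨Q, hQ, hQ1, hQ2, hQ3⟩ := peel hP2 hP3 (by norm_num) (by norm_num)
  refine ⟨P, Q, hP, hQ, hP0, inner_zero_of hQ hone hQ1 hk1,
    inner_symm_zero (inner_zero_of hQ hP hQ1 hkP), ?_⟩
  have h0 : f - 1 - P - Q = 0 := classInner_self_eq_zero (by rw [hQ3]; norm_num)
  have : f = (f - 1 - P - Q) + (1 + P + Q) := by abel
  rw [this, h0, zero_add]

/-- Norm four. -/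
theorem decomp_four {f : G → ℂ} (hf : IsGeneralizedCharacter G f) (h1 : classInner f 1 = 1)
    (h4 : classInner f f = 4) :
    ∃ R : Fin 3 → G → ℂ, (∀ k, SignedIrr (R k)) ∧ (∀ k, classInner (R k) 1 = 0) ∧
      (∀ k l, k ≠ l → classInner (R k) (R l) = 0) ∧ f = 1 + ∑ k, R k := by
  have hone : SignedIrr (1 : G → ℂ) := signedIrr_one
  have hg : IsGeneralizedCharacter G (f - 1) := generalized_sub hf (generalized_signed hone)
  have hg1 : classInner (f - 1) 1 = 0 := by
    rw [classInner_sub_left, h1, signed_self hone, sub_self]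
  have hgg : classInner (f - 1) (f - 1) = ((3 : ℤ) : ℂ) := by
    rw [classInner_sub_right, hg1, classInner_sub_left, h4, inner_symm_one h1]
    norm_num
  obtain ⟨P, hP, hP1, hP2, hP3⟩ := peel hg hgg (by norm_num) (by norm_num)
  have hP0 := inner_zero_of hP hone hP1 hg1
  have hk1 : classInner (f - 1 - P) 1 = 0 := by
    rw [classInner_sub_left, hg1, hP0, sub_zero]
  have hkP : classInner (f - 1 - P) P = 0 := by
    rw [classInner_sub_left, hP1, signed_self hP, sub_self]
  obtain ⟨Q, hQ, hQ1, hQ2, hQ3⟩ := peel hP2 hP3 (by norm_num) (by norm_num)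
  have hQ0 := inner_zero_of hQ hone hQ1 hk1
  have hQP := inner_zero_of hQ hP hQ1 hkP
  have hl1 : classInner (f - 1 - P - Q) 1 = 0 := by
    rw [classInner_sub_left, hk1, hQ0, sub_zero]
  have hlP : classInner (f - 1 - P - Q) P = 0 := by
    rw [classInner_sub_left, hkP, hQP, sub_zero]
  have hlQ : classInner (f - 1 - P - Q) Q = 0 := by
    rw [classInner_sub_left, hQ1, signed_self hQ, sub_self]
  obtain ⟨S, hS, hS1, hS2, hS3⟩ := peel hQ2 hQ3 (by norm_num) (by norm_num)
  have hS0 := inner_zero_of hS hone hS1 hl1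
  have hSP := inner_zero_of hS hP hS1 hlP
  have hSQ := inner_zero_of hS hQ hS1 hlQ
  refine ⟨![P, Q, S], ?_, ?_, ?_, ?_⟩
  · intro k; fin_cases k
    · exact hP
    · exact hQ
    · exact hS
  · intro k; fin_cases k
    · exact hP0
    · exact hQ0
    · exact hS0
  · intro k l hkl
    fin_cases k <;> fin_cases l
    · exact absurd rfl hkl
    · exact inner_symm_zero hQP
    · exact inner_symm_zero hSP
    · exact hQP
    · exact absurd rfl hkl
    · exact inner_symm_zero hSQ
    · exact hSP
    · exact hSQ
    · exact absurd rfl hkl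
  · have h0 : f - 1 - P - Q - S = 0 := classInner_self_eq_zero (by rw [hS3]; norm_num)
    have h5 : f = (f - 1 - P - Q - S) + (1 + (P + Q + S)) := by abel
    rw [Fin.sum_univ_three]
    nth_rewrite 1 [h5]
    rw [h0, zero_add]
    rfl

/-- A signed irreducible character against `1 + R₀ + R₁ + R₂`. -/
theorem inner_four {R : Fin 3 → G → ℂ} (hR : ∀ k, SignedIrr (R k))
    (hRR : ∀ k l, k ≠ l → classInner (R k) (R l) = 0) {f : G → ℂ} (hf : f = 1 + ∑ k, R k)
    {P : G → ℂ} (hP : SignedIrr P) (hP1 : classInner P 1 = 0) :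
    ((∀ k, classInner P (R k) = 0) ∧ classInner P f = 0) ∨
      ((∃ k, P = R k) ∧ classInner P f = 1) ∨ ((∃ k, P = -R k) ∧ classInner P f = -1) := by
  have hPf : classInner P f = ∑ k, classInner P (R k) := by
    rw [hf, classInner_add_right, hP1, zero_add, classInner_sum_right]
  by_cases h : ∀ k, classInner P (R k) = 0
  · exact Or.inl ⟨h, by rw [hPf, Finset.sum_eq_zero fun k _ => h k]⟩
  · right
    push Not at h
    obtain ⟨k, hk⟩ := h
    rcases signed_inner hP (hR k) with h1 | h1 | h1
    · exact absurd h1 hk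
    · left
      refine ⟨⟨k, h1⟩, ?_⟩
      rw [hPf, Finset.sum_eq_single k, h1, signed_self (hR k)]
      · intro l _ hl
        rw [h1]; exact hRR k l (Ne.symm hl)
      · intro hn; exact absurd (Finset.mem_univ _) hn
    · right
      refine ⟨⟨k, h1⟩, ?_⟩
      rw [hPf, Finset.sum_eq_single k, h1, classInner_neg_left, signed_self (hR k)]
      · intro l _ hl
        rw [h1, classInner_neg_left, hRR k l (Ne.symm hl), neg_zero]
      · intro hn; exact absurd (Finset.mem_univ _) hn

/-- A function of norm three against one of norm four with inner product two. -/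
theorem three_four {R : Fin 3 → G → ℂ} (hR : ∀ k, SignedIrr (R k))
    (hRR : ∀ k l, k ≠ l → classInner (R k) (R l) = 0) {f : G → ℂ} (hf : f = 1 + ∑ k, R k)
    (hR1 : ∀ k, classInner (R k) 1 = 0)
    {φ : G → ℂ} (hφ : IsGeneralizedCharacter G φ) (h1 : classInner φ 1 = 1)
    (h3 : classInner φ φ = 3) (h2 : classInner φ f = 2) :
    ∃ (k : Fin 3) (T : G → ℂ), SignedIrr T ∧ φ = 1 + R k - T ∧ classInner T 1 = 0 ∧
      ∀ l, classInner T (R l) = 0 := by
  obtain ⟨P, Q, hP, hQ, hP1, hQ1, hPQ, rfl⟩ := decomp_three hφ h1 h3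
  have hone : classInner (1 : G → ℂ) f = 1 := by
    rw [hf, classInner_add_right, signed_self signedIrr_one, classInner_sum_right,
      Finset.sum_eq_zero fun k _ => inner_symm_zero (hR1 k), add_zero]
  have hs : classInner P f + classInner Q f = 1 := by
    rw [classInner_add_left, classInner_add_left, hone] at h2
    linear_combination h2
  have main : ∀ P Q : G → ℂ, SignedIrr P → SignedIrr Q → classInner P 1 = 0 → classInner Q 1 = 0 →
      classInner P Q = 0 → classInner P f + classInner Q f = 1 → (∃ k, P = R k) →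
      ∃ (k : Fin 3) (T : G → ℂ), SignedIrr T ∧ 1 + P + Q = 1 + R k - T ∧ classInner T 1 = 0 ∧
        ∀ l, classInner T (R l) = 0 := by
    intro P Q hP hQ hP1 hQ1 hPQ hs hk
    obtain ⟨k, rfl⟩ := hk
    have hPf : classInner (R k) f = 1 := by
      rw [hf, classInner_add_right, hP1, zero_add, classInner_sum_right,
        Finset.sum_eq_single k, signed_self hP]
      · intro l _ hl; exact hRR k l (Ne.symm hl)
      · intro hn; exact absurd (Finset.mem_univ _) hn
    have hQf : classInner Q f = 0 := by
      rw [hPf] at hs; linear_combination hs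
    refine ⟨k, -Q, signed_neg hQ, by abel, by rw [classInner_neg_left, hQ1, neg_zero], ?_⟩
    intro l
    rw [classInner_neg_left, neg_eq_zero]
    rcases inner_four hR hRR hf hQ hQ1 with h | h | h
    · exact h.1 l
    · rw [hQf] at h; exact absurd h.2 zero_ne_one
    · rw [hQf] at h
      exact absurd h.2 (by norm_num)
  rcases inner_four hR hRR hf hP hP1 with h | h | h
  · rcases inner_four hR hRR hf hQ hQ1 with h' | h' | h'
    · rw [h.2, h'.2] at hs; norm_num at hs
    · rw [add_assoc, add_comm P Q, ← add_assoc]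
      exact main Q P hQ hP hQ1 hP1 (inner_symm_zero hPQ) (by rw [add_comm]; exact hs) h'.1
    · rw [h.2, h'.2] at hs; norm_num at hs
  · exact main P Q hP hQ hP1 hQ1 hPQ hs h.1
  · rcases inner_four hR hRR hf hQ hQ1 with h' | h' | h'
    · rw [h.2, h'.2] at hs; norm_num at hs
    · rw [h.2, h'.2] at hs; norm_num at hs
    · rw [h.2, h'.2] at hs; norm_num at hs

theorem signed_apply_one {X : G → ℂ} (hX : SignedIrr X) : ∃ k : ℤ, X 1 = k := by
  rcases hX with h | h
  · obtain ⟨m, -, h1⟩ := isIrr_apply_one h
    exact ⟨m, by rw [h1]; norm_cast⟩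
  · obtain ⟨m, -, h1⟩ := isIrr_apply_one h
    refine ⟨-m, ?_⟩
    rw [Pi.neg_apply] at h1
    rw [← neg_neg (X 1), h1]
    push_cast
    ring

/-- **(B1)** The family of functions of norm three and four. -/
theorem split {n : ℕ} (hn : 4 ≤ n) (hpow : ∃ m : ℕ, n = 2 ^ m) (φ : ZMod n → G → ℂ) (φ' : G → ℂ)
    (hg : ∀ i, i + i ≠ 0 → IsGeneralizedCharacter G (φ i)) (hg' : IsGeneralizedCharacter G φ')
    (hneg : ∀ i, φ (-i) = φ i)
    (h3 : ∀ i, i + i ≠ 0 → classInner (φ i) (φ i) = 3)
    (h22 : ∀ i j, i + i ≠ 0 → j + j ≠ 0 → i ≠ j → i ≠ -j → classInner (φ i) (φ j) = 2)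
    (h2 : ∀ i, i + i ≠ 0 → classInner (φ i) φ' = 2)
    (h4 : classInner φ' φ' = 4) (h1 : ∀ i, i + i ≠ 0 → classInner (φ i) 1 = 1)
    (h1' : classInner φ' 1 = 1) (h0 : ∀ i, i + i ≠ 0 → φ i 1 = 0) (h0' : φ' 1 = 0) :
    ∃ (X₁ X₂ X₃ : G → ℂ) (T : ZMod n → G → ℂ), SignedIrr X₁ ∧ SignedIrr X₂ ∧ SignedIrr X₃ ∧
      (∀ i, i + i ≠ 0 → SignedIrr (T i)) ∧ (∀ i, i + i ≠ 0 → φ i = 1 + X₁ - T i) ∧
      φ' = 1 + X₁ - X₂ - X₃ ∧ Ortho n X₁ X₂ X₃ T := by
  classical
  obtain ⟨R, hR, hR1, hRR, hf⟩ := decomp_four hg' h1' h4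
  choose! κ T hT hφ hT1 hTR using fun i (hi : i + i ≠ 0) =>
    three_four hR hRR hf hR1 (hg i hi) (h1 i hi) (h3 i hi) (h2 i hi)
  have hRinj : ∀ k l, R k = R l → k = l := by
    intro k l h
    by_contra hkl
    have := hRR k l hkl
    rw [h, signed_self (hR l)] at this
    exact one_ne_zero this
  -- the alternative for two indices
  have halt : ∀ i j, i + i ≠ 0 → j + j ≠ 0 → i ≠ j → i ≠ -j →
      (κ i = κ j ∧ classInner (T i) (T j) = 0) ∨ (κ i ≠ κ j ∧ T i = T j) := by
    intro i j hi hj hij hij'
    have e := h22 i j hi hj hij hij'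
    rw [hφ i hi, hφ j hj] at e
    simp only [classInner_sub_left, classInner_sub_right, classInner_add_left,
      classInner_add_right, signed_self (signedIrr_one (G := G)), hTR i hi,
      inner_symm_zero (hTR j hj _), hT1 i hi, inner_symm_zero (hT1 j hj), hR1,
      inner_symm_zero (hR1 _)] at e
    by_cases hk : κ i = κ j
    · left
      refine ⟨hk, ?_⟩
      rw [hk, signed_self (hR _)] at e
      linear_combination e
    · right
      refine ⟨hk, ?_⟩
      rw [hRR _ _ hk] at e
      exact signed_eq_of_inner_one (hT i hi) (hT j hj) (by linear_combination e)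
  have hsame : ∀ i j, i + i ≠ 0 → j + j ≠ 0 → φ i = φ j → κ i = κ j := by
    intro i j hi hj hij
    have e : classInner (φ i) (R (κ i)) = 1 := by
      rw [hφ i hi, classInner_sub_left, classInner_add_left, inner_symm_zero (hR1 _),
        signed_self (hR _), hTR i hi]
      ring
    rw [hij, hφ j hj, classInner_sub_left, classInner_add_left, inner_symm_zero (hR1 _),
      hTR j hj] at e
    by_contra hk
    rw [hRR _ _ (Ne.symm hk)] at e
    norm_num at e
  have hcast : ∀ a : ℕ, 0 < a → a < n → (a : ZMod n) ≠ 0 := by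
    intro a ha han h
    rw [ZMod.natCast_eq_zero_iff] at h
    exact absurd (Nat.le_of_dvd ha h) (by omega)
  have hi0 : (1 : ZMod n) + 1 ≠ 0 := by
    have := hcast 2 (by norm_num) (by omega)
    intro h; apply this; rw [← h]; norm_num
  -- all indices agree
  have hall : ∀ i, i + i ≠ 0 → κ i = κ 1 := by
    intro i hi
    by_contra hk
    have hi1 : i ≠ 1 := by rintro rfl; exact hk rfl
    have hi1' : i ≠ -1 := by
      rintro rfl
      exact hk (hsame _ _ hi hi0 (hneg 1))
    have hn8 : 8 ≤ n := by
      obtain ⟨m, hm⟩ := hpow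
      by_contra hlt
      have hm2 : m = 2 := by
        have h5 : m < 3 := by
          by_contra h6
          have : 2 ^ 3 ≤ 2 ^ m := Nat.pow_le_pow_right (by norm_num) (by omega)
          omega
        have h7 : 2 ≤ m := by
          by_contra h6
          have : 2 ^ m ≤ 2 ^ 1 := Nat.pow_le_pow_right (by norm_num) (by omega)
          omega
        omega
      subst hm2
      have hn4 : n = 4 := by rw [hm]; norm_num
      subst hn4
      revert hi hi1 hi1'
      clear * -
      revert i
      decide
    obtain ⟨k, hk0, hk1, hk1', hki, hki'⟩ : ∃ k : ZMod n, k + k ≠ 0 ∧ k ≠ 1 ∧ k ≠ -1 ∧ k ≠ i ∧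
        k ≠ -i := by
      have c1 := hcast 1 (by norm_num) (by omega)
      have c2 := hcast 2 (by norm_num) (by omega)
      have c3 := hcast 3 (by norm_num) (by omega)
      have c4 := hcast 4 (by norm_num) (by omega)
      have c5 := hcast 5 (by norm_num) (by omega)
      have c6 := hcast 6 (by norm_num) (by omega)
      push_cast at c1 c2 c3 c4 c5 c6
      by_cases hi2 : i = 2 ∨ i = -2
      · refine ⟨3, ?_, ?_, ?_, ?_, ?_⟩
        · intro h; apply c6; linear_combination h
        · intro h; apply c2; linear_combination h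
        · intro h; apply c4; linear_combination h
        · rcases hi2 with rfl | rfl
          · intro h; apply c1; linear_combination h
          · intro h; apply c5; linear_combination h
        · rcases hi2 with rfl | rfl
          · intro h; apply c5; linear_combination h
          · intro h; apply c1; linear_combination h
      · push Not at hi2
        refine ⟨2, ?_, ?_, ?_, Ne.symm hi2.1, ?_⟩
        · intro h; apply c4; linear_combination h
        · intro h; apply c1; linear_combination h
        · intro h; apply c3; linear_combination h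
        · intro h; apply hi2.2; rw [h, neg_neg]
    have a1 := halt i 1 hi hi0 hi1 hi1'
    have a2 := halt k 1 hk0 hi0 hk1 hk1'
    have a3 := halt k i hk0 hi hki hki'
    have hTi : T i = T 1 := by
      rcases a1 with a | a
      · exact absurd a.1 hk
      · exact a.2
    have hk1ne : κ k ≠ κ 1 := by
      intro hc
      rcases a2 with a | a
      · rcases a3 with b | b
        · exact hk (by rw [← b.1, hc])
        · have := a.2
          rw [b.2, hTi, signed_self (hT 1 hi0)] at this
          exact one_ne_zero this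
      · exact a.1 hc
    have hTk : T k = T 1 := by
      rcases a2 with a | a
      · exact absurd a.1 hk1ne
      · exact a.2
    have hkine : κ k ≠ κ i := by
      intro hc
      rcases a3 with b | b
      · have := b.2
        rw [hTk, hTi, signed_self (hT 1 hi0)] at this
        exact one_ne_zero this
      · exact b.1 hc
    obtain ⟨z, hz⟩ := signed_apply_one (hT 1 hi0)
    have hval : ∀ j, j + j ≠ 0 → T j = T 1 → R (κ j) 1 = z - 1 := by
      intro j hj hTj
      have e := congrFun (hφ j hj) 1
      rw [h0 j hj, hTj] at e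
      simp only [Pi.sub_apply, Pi.add_apply, Pi.one_apply, hz] at e
      linear_combination -e
    have hsum : ∑ l, R l 1 = (z - 1) + (z - 1) + (z - 1) := by
      have hu : (Finset.univ : Finset (Fin 3)) = {κ i, κ 1, κ k} := by
        symm
        apply Finset.eq_univ_of_card
        rw [Finset.card_insert_of_notMem, Finset.card_pair (Ne.symm hk1ne)]
        · rfl
        · simp only [Finset.mem_insert, Finset.mem_singleton, not_or]
          exact ⟨hk, Ne.symm hkine⟩
      rw [hu, Finset.sum_insert, Finset.sum_pair (Ne.symm hk1ne), hval i hi hTi,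
        hval 1 hi0 rfl, hval k hk0 hTk]
      · ring
      · simp only [Finset.mem_insert, Finset.mem_singleton, not_or]
        exact ⟨hk, Ne.symm hkine⟩
    have e := congrFun hf 1
    rw [h0', Pi.add_apply, Pi.one_apply, Finset.sum_apply, hsum] at e
    have e2 : (0 : ℤ) = 1 + (z - 1 + (z - 1) + (z - 1)) := by exact_mod_cast e
    omega
  refine ⟨R (κ 1), -R (κ 1 + 1), -R (κ 1 + 2), T, hR _, signed_neg (hR _), signed_neg (hR _), hT,
    ?_, ?_, ?_⟩
  · intro i hi
    rw [hφ i hi, hall i hi]
  · rw [hf, sub_neg_eq_add, sub_neg_eq_add, add_assoc, add_assoc]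
    congr 1
    have hu : (Finset.univ : Finset (Fin 3)) = {κ 1, κ 1 + 1, κ 1 + 2} := by
      have : ∀ a : Fin 3, (Finset.univ : Finset (Fin 3)) = {a, a + 1, a + 2} := by decide
      exact this _
    have n1 : κ 1 ∉ ({κ 1 + 1, κ 1 + 2} : Finset (Fin 3)) := by
      have : ∀ a : Fin 3, a ∉ ({a + 1, a + 2} : Finset (Fin 3)) := by decide
      exact this _
    have n2 : κ 1 + 1 ≠ κ 1 + 2 := by
      have : ∀ a : Fin 3, a + 1 ≠ a + 2 := by decide
      exact this _
    rw [hu, Finset.sum_insert n1, Finset.sum_pair n2]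
  · have n1 : κ 1 ≠ κ 1 + 1 := by
      have : ∀ a : Fin 3, a ≠ a + 1 := by decide
      exact this _
    have n2 : κ 1 ≠ κ 1 + 2 := by
      have : ∀ a : Fin 3, a ≠ a + 2 := by decide
      exact this _
    have n3 : κ 1 + 1 ≠ κ 1 + 2 := by
      have : ∀ a : Fin 3, a + 1 ≠ a + 2 := by decide
      exact this _
    refine ⟨hR1 _, ?_, ?_, hT1, ?_, ?_, ?_, fun i hi => hTR i hi _, ?_, ?_, ?_⟩
    · rw [classInner_neg_left, hR1, neg_zero]
    · rw [classInner_neg_left, hR1, neg_zero]
    · rw [classInner_neg_right, hRR _ _ n1, neg_zero]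
    · rw [classInner_neg_right, hRR _ _ n2, neg_zero]
    · rw [classInner_neg_right, classInner_neg_left, hRR _ _ n3, neg_zero, neg_zero]
    · intro i hi
      rw [classInner_neg_right, hTR i hi, neg_zero]
    · intro i hi
      rw [classInner_neg_right, hTR i hi, neg_zero]
    · intro i j hi hj hij hij'
      rcases halt i j hi hj hij hij' with a | a
      · exact a.2
      · exact absurd (by rw [hall i hi, hall j hj]) a.1

end Cfsg.Agent.Classification.BGSplit
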