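import Mathlib
import Cfsg.Agent.Classification.BGBasic

/-!
# Bender–Glauberman: Fourier analysis on the rotations

* `eq_zero_of_sum_bth`: an even function on `ZMod n` orthogonal to all `bth k (r j)` vanishes at `j ≠ 0`;
* `sum_bth_one`, `sum_bth_mu`, `sum_bth_theta`: pairings of `bth k` with `1`, `mu` and `theta i` over the rotations;
* `bth_half`: `bth (n / 2) = bmu`.
-/

set_option autoImplicit false

namespace Cfsg.Agent.Classification.BGFourier

open DihedralGroup Cfsg.Agent.Classification.BGDefs Cfsg.Agent.Classification.BGBasic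
open scoped ComplexConjugate ZMod

variable {n : ℕ} [NeZero n]

theorem conj_e (a : ZMod n) : conj (e n a) = e n (-a) := by
  have h : 0 < ringChar (ZMod n) := by
    rw [ZMod.ringChar_zmod_n]
    exact Nat.pos_of_ne_zero (NeZero.ne n)
  rw [AddChar.starComp_apply h, AddChar.inv_apply]

theorem sum_e (k : ZMod n) : ∑ j : ZMod n, e n (k * j) = if k = 0 then (n : ℂ) else 0 := by
  have h := AddChar.sum_mulShift (R := ZMod n) (R' := ℂ) k (ZMod.isPrimitive_stdAddChar n)
  rw [ZMod.card] at h
  have h1 : ∑ j : ZMod n, e n (k * j) = ∑ j : ZMod n, ZMod.stdAddChar (j * k) := by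
    refine Finset.sum_congr rfl fun j _ => ?_
    rw [mul_comm]
  rw [h1, h]
  split_ifs <;> simp

theorem conj_bth_r (k j : ZMod n) : conj (bth k (r j)) = bth k (r j) := by
  rw [bth_r, map_sub, map_sub, conj_e, conj_e, neg_neg]
  have : conj (2 : ℂ) = 2 := Complex.conj_ofNat 2
  rw [this]
  ring

theorem bth_r_zero (k : ZMod n) : bth k (r (0 : ZMod n)) = 0 := by
  have := bth_one (n := n) k
  rwa [DihedralGroup.one_def] at this

theorem bth_half (h2 : 2 ∣ n) : bth ((n / 2 : ℕ) : ZMod n) = bmu (n := n) := by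
  funext x
  match x with
  | sr j => rw [bth_sr, bmu_sr]
  | r j =>
    rw [bth_r, bmu_r]
    have : -(((n / 2 : ℕ) : ZMod n) * j) = ((n / 2 : ℕ) : ZMod n) * j := by
      have h3 : ((n / 2 : ℕ) : ZMod n) * j + ((n / 2 : ℕ) : ZMod n) * j = 0 := by
        rw [← add_mul, half_add_half h2, zero_mul]
      exact neg_eq_of_add_eq_zero_left h3
    rw [this]
    ring

theorem bth_neg (k : ZMod n) : bth (-k) = bth (n := n) k := by
  funext x
  match x with
  | sr j => rw [bth_sr, bth_sr]
  | r j =>
    rw [bth_r, bth_r, neg_mul, neg_neg]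
    ring

/-- An even function on `ZMod n` orthogonal to all `bth k` vanishes at `j ≠ 0`. -/
theorem eq_zero_of_sum_bth (D : ZMod n → ℂ) (hD : ∀ j, D (-j) = D j)
    (hs : ∀ k : ZMod n, k ≠ 0 → ∑ j : ZMod n, bth k (r j) * D j = 0) (j : ZMod n) (hj : j ≠ 0) :
    D j = 0 := by
  classical
  set A : ℂ := ∑ j ∈ Finset.univ.erase (0 : ZMod n), D j with hA
  set D' : ZMod n → ℂ := Function.update D 0 (-A) with hD'
  have hne : ∀ j : ZMod n, j ≠ 0 → D' j = D j := fun j hj => Function.update_of_ne hj _ _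
  have hsplit : ∀ f : ZMod n → ℂ, ∑ j : ZMod n, f j * D' j =
      -f 0 * A + ∑ j ∈ Finset.univ.erase (0 : ZMod n), f j * D j := by
    intro f
    rw [← Finset.add_sum_erase Finset.univ _ (Finset.mem_univ (0 : ZMod n))]
    congr 1
    · rw [hD', Function.update_self]; ring
    · refine Finset.sum_congr rfl fun j hj => ?_
      rw [hne j (Finset.ne_of_mem_erase hj)]
  have heven : ∀ k : ZMod n, ∑ j ∈ Finset.univ.erase (0 : ZMod n), e n (-(k * j)) * D j =
      ∑ j ∈ Finset.univ.erase (0 : ZMod n), e n (k * j) * D j := by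
    intro k
    refine Finset.sum_bij (fun j _ => -j) ?_ ?_ ?_ ?_
    · intro j hj
      exact Finset.mem_erase.2 ⟨neg_ne_zero.2 (Finset.ne_of_mem_erase hj), Finset.mem_univ _⟩
    · intro a _ b _ hab
      exact neg_injective hab
    · intro j hj
      exact ⟨-j, Finset.mem_erase.2 ⟨neg_ne_zero.2 (Finset.ne_of_mem_erase hj), Finset.mem_univ _⟩,
        neg_neg j⟩
    · intro j _
      rw [hD, mul_neg]
  have hk : ∀ k : ZMod n, ∑ j : ZMod n, e n (k * j) * D' j = 0 := by
    intro k
    rw [hsplit]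
    by_cases hk0 : k = 0
    · subst hk0
      simp only [zero_mul, AddChar.map_zero_eq_one, one_mul]
      rw [← hA]; ring
    · have h1 := hs k hk0
      rw [← Finset.add_sum_erase Finset.univ _ (Finset.mem_univ (0 : ZMod n)), bth_r_zero,
        zero_mul, zero_add] at h1
      have h2 : ∑ j ∈ Finset.univ.erase (0 : ZMod n), bth k (r j) * D j =
          2 * A - ∑ j ∈ Finset.univ.erase (0 : ZMod n), e n (k * j) * D j -
            ∑ j ∈ Finset.univ.erase (0 : ZMod n), e n (-(k * j)) * D j := by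
        rw [hA, Finset.mul_sum, ← Finset.sum_sub_distrib, ← Finset.sum_sub_distrib]
        refine Finset.sum_congr rfl fun j _ => ?_
        rw [bth_r]; ring
      rw [h2, heven] at h1
      rw [mul_zero, AddChar.map_zero_eq_one]
      linear_combination (-1 / 2 : ℂ) * h1
  have hz : 𝓕 D' = 0 := by
    funext k
    rw [ZMod.dft_apply]
    show _ = 0
    rw [← hk (-k)]
    refine Finset.sum_congr rfl fun j _ => ?_
    rw [smul_eq_mul, neg_mul, mul_comm k j]
  have h0 : D' = 0 := by
    have := ZMod.dft.injective (hz.trans (map_zero ZMod.dft).symm)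
    exact this
  rw [← hne j hj, h0]
  rfl

theorem sum_bth_mul (k : ZMod n) (a : ZMod n) :
    ∑ j : ZMod n, bth k (r j) * e n (a * j) =
      (if a = 0 then 2 * (n : ℂ) else 0) - (if a = -k then (n : ℂ) else 0) -
        (if a = k then (n : ℂ) else 0) := by
  have h1 : ∀ j : ZMod n, bth k (r j) * e n (a * j) =
      2 * e n (a * j) - e n ((a + k) * j) - e n ((a - k) * j) := by
    intro j
    rw [bth_r]
    have h2 : e n ((a + k) * j) = e n (a * j) * e n (k * j) := by
      rw [← AddChar.map_add_eq_mul, add_mul]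
    have h3 : e n ((a - k) * j) = e n (a * j) * e n (-(k * j)) := by
      rw [← AddChar.map_add_eq_mul, sub_mul, sub_eq_add_neg]
    rw [h2, h3]
    ring
  rw [Finset.sum_congr rfl (fun j _ => h1 j), Finset.sum_sub_distrib, Finset.sum_sub_distrib,
    ← Finset.mul_sum, sum_e, sum_e, sum_e]
  congr 1
  · congr 1
    · split_ifs <;> simp
    · simp only [add_eq_zero_iff_eq_neg]
  · simp only [sub_eq_zero]

theorem n_ne_zero : (n : ℂ) ≠ 0 := Nat.cast_ne_zero.2 (NeZero.ne n)

/-- pairing of `bth k` with the constant function `1`. -/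
theorem sum_bth_one (k : ZMod n) (hk : k ≠ 0) :
    (2 * (n : ℂ))⁻¹ * ∑ j : ZMod n, bth k (r j) * conj ((fun _ : ZMod n => (1 : ℂ)) j) = 1 := by
  have h1 := sum_bth_mul k (0 : ZMod n)
  have h2 : (0 : ZMod n) ≠ -k := fun h => hk (neg_eq_zero.1 h.symm)
  have h3 : ∑ j : ZMod n, bth k (r j) * conj ((fun _ : ZMod n => (1 : ℂ)) j) =
      ∑ j : ZMod n, bth k (r j) * e n (0 * j) := by
    refine Finset.sum_congr rfl fun j _ => ?_
    rw [zero_mul, AddChar.map_zero_eq_one]
    simp
  rw [h3, h1, if_pos rfl, if_neg h2, if_neg hk.symm, sub_zero, sub_zero]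
  exact inv_mul_cancel₀ (mul_ne_zero two_ne_zero n_ne_zero)

/-- pairing of `bth k` with `mu`. -/
theorem sum_bth_mu (h2 : 2 ∣ n) (k : ZMod n) :
    (2 * (n : ℂ))⁻¹ * ∑ j : ZMod n, bth k (r j) * conj (mu (r j)) =
      if k = ((n / 2 : ℕ) : ZMod n) then -1 else 0 := by
  set c : ZMod n := ((n / 2 : ℕ) : ZMod n) with hc
  have hneg : -c = c := neg_eq_of_add_eq_zero_left (half_add_half h2)
  have h3 : ∑ j : ZMod n, bth k (r j) * conj (mu (r j)) =
      ∑ j : ZMod n, bth k (r j) * e n (c * j) := by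
    refine Finset.sum_congr rfl fun j _ => ?_
    rw [mu_r, conj_e, ← neg_mul, ← hc, hneg]
  have h4 : (c = -k) = (k = c) := by
    rw [eq_iff_iff]
    constructor
    · intro h; rw [← hneg, h, neg_neg]
    · intro h; rw [h, hneg]
  have h5 : (c = k) = (k = c) := by
    rw [eq_iff_iff]; exact eq_comm
  rw [h3, sum_bth_mul, if_neg (half_ne_zero h2)]
  simp only [h4, h5]
  have := n_ne_zero (n := n)
  by_cases h : k = c
  · rw [if_pos h, if_pos h]
    field_simp
    ring
  · rw [if_neg h, if_neg h]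
    ring

/-- pairing of `bth k` with `theta i`. -/
theorem sum_bth_theta (i : ZMod n) (hi : i ≠ 0) (k : ZMod n) :
    (2 * (n : ℂ))⁻¹ * ∑ j : ZMod n, bth k (r j) * conj (theta i (r j)) =
      -(if k = i then 1 else 0) - (if k = -i then 1 else 0) := by
  have h3 : ∑ j : ZMod n, bth k (r j) * conj (theta i (r j)) =
      ∑ j : ZMod n, bth k (r j) * e n (-i * j) + ∑ j : ZMod n, bth k (r j) * e n (i * j) := by
    rw [← Finset.sum_add_distrib]
    refine Finset.sum_congr rfl fun j _ => ?_
    rw [theta_r, map_add, conj_e, conj_e, neg_neg, neg_mul]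
    ring
  have h4 : (-i = -k) = (k = i) := by
    rw [eq_iff_iff, neg_inj]; exact eq_comm
  have h5 : (-i = k) = (k = -i) := by
    rw [eq_iff_iff]; exact eq_comm
  have h6 : (i = -k) = (k = -i) := by
    rw [eq_iff_iff]
    constructor
    · intro h; rw [h, neg_neg]
    · intro h; rw [h, neg_neg]
  have h7 : (i = k) = (k = i) := by
    rw [eq_iff_iff]; exact eq_comm
  rw [h3, sum_bth_mul, sum_bth_mul, if_neg hi, if_neg (neg_ne_zero.2 hi)]
  simp only [h4, h5, h6, h7]
  have := n_ne_zero (n := n)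
  by_cases h : k = i
  · rw [if_pos h, if_pos h]
    by_cases h' : k = -i
    · rw [if_pos h', if_pos h']
      field_simp
      ring
    · rw [if_neg h', if_neg h']
      field_simp
      ring
  · rw [if_neg h, if_neg h]
    by_cases h' : k = -i
    · rw [if_pos h', if_pos h']
      field_simp
      ring
    · rw [if_neg h', if_neg h']
      ring

end Cfsg.Agent.Classification.BGFourier
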