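import Mathlib
import Cfsg.Agent.Classification.BGFourier
import Cfsg.Agent.Classification.BGOrder
import Cfsg.Agent.S0942
import Cfsg.Agent.S0146
import Cfsg.Agent.Lib.Cores

/-!
# Bender–Glauberman: values of the exceptional characters on the rotations

* `irr_eq_of_rot`: a character of the principal 2-block is constant on the fibres of `π` over `r j`, `j ≠ 0`;
* `exists_values`: hence it is there a function `F` of `j`, and `F (-j) = F j`;
* `values_of_inner`: this function is determined by inner products with the induced functions of `bth k`;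
* `two_n_dvd`: a signed character with value `1` on the rotations has degree `≡ 1 mod 2 n`;
* `kcount_pos`: both classes of reflections contain images of involutions.
-/

set_option autoImplicit false
set_option linter.unusedSectionVars false

namespace Cfsg.Agent.Classification.BGValues

open DihedralGroup Cfsg Cfsg.Agent.Classification.BGDefs Cfsg.Agent.Classification.BGBasic
  Cfsg.Agent.Classification.BGOrder Cfsg.Agent.Classification.BGFourier Cfsg.Agent.Characters
open scoped ComplexConjugate Pointwise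

universe u

section Conj

/-- Two elements `a`, `b` of order dividing a power of `2` congruent modulo a normal subgroup of odd order are
conjugate. -/
theorem isConj_of_ker_odd {C D : Type*} [Group C] [Finite C] [Group D] (π : C →* D)
    (hodd : Odd (Nat.card π.ker)) (a b : C) (m : ℕ) (ha : a ^ 2 ^ m = 1) (hb : b ^ 2 ^ m = 1)
    (hab : π a = π b) : IsConj a b := by
  have : Fact (Nat.Prime 2) := ⟨Nat.prime_two⟩
  set L : Subgroup C := (Subgroup.zpowers (π b)).comap π with hL
  have hkL : ∀ x : C, π x = 1 → x ∈ L := by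
    intro x hx
    rw [hL, Subgroup.mem_comap, hx]
    exact one_mem _
  have haL : a ∈ L := by
    rw [hL, Subgroup.mem_comap, hab]
    exact Subgroup.mem_zpowers _
  have hbL : b ∈ L := by
    rw [hL, Subgroup.mem_comap]
    exact Subgroup.mem_zpowers _
  -- elements of the kernel which are 2-elements are trivial
  have hker : ∀ x : C, π x = 1 → x ^ 2 ^ m = 1 → x = 1 := by
    intro x hx hxm
    have h1 : (⟨x, hx⟩ : π.ker) ^ Nat.card π.ker = 1 := pow_card_eq_one'
    have h2 : x ^ Nat.card π.ker = 1 := congrArg Subtype.val h1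
    have h3 : orderOf x ∣ 2 ^ m := orderOf_dvd_of_pow_eq_one hxm
    have h4 : orderOf x ∣ Nat.card π.ker := orderOf_dvd_of_pow_eq_one h2
    have h5 : Nat.Coprime (2 ^ m) (Nat.card π.ker) :=
      Nat.Coprime.pow_left _ (Nat.coprime_two_left.2 hodd)
    have h6 := Nat.dvd_gcd h3 h4
    rw [h5] at h6
    exact orderOf_eq_one_iff.1 (Nat.dvd_one.1 h6)
  -- the cyclic group generated by `c` with `π c = π b` is a Sylow subgroup of `L`
  have hcardL : Nat.card L = Nat.card π.ker * orderOf (π b) := by
    set πL : L →* Subgroup.zpowers (π b) :=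
      (π.comp L.subtype).codRestrict _ (fun x => x.2) with hπL
    have hsurj : Function.Surjective πL := by
      rintro ⟨y, hy⟩
      obtain ⟨k, rfl⟩ := Subgroup.mem_zpowers_iff.1 hy
      exact ⟨⟨b ^ k, Subgroup.zpow_mem _ hbL k⟩, Subtype.ext (map_zpow π b k)⟩
    have h1 := Subgroup.card_mul_index πL.ker
    rw [Subgroup.index_ker, MonoidHom.range_eq_top_of_surjective _ hsurj, Subgroup.card_top,
      Nat.card_zpowers] at h1
    rw [← h1]
    congr 1
    refine Nat.card_congr ?_
    refine
      { toFun := fun x => ⟨x.1.1, congrArg Subtype.val x.2⟩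
        invFun := fun x => ⟨⟨x.1, hkL _ x.2⟩, Subtype.ext x.2⟩
        left_inv := fun x => rfl
        right_inv := fun x => rfl }
  have hsyl : ∀ c : C, ∀ hcL : c ∈ L, c ^ 2 ^ m = 1 → π c = π b →
      ∃ P : Sylow 2 L, (P : Subgroup L) = Subgroup.zpowers (⟨c, hcL⟩ : L) := by
    intro c hcL hcm hc
    have hord : orderOf c = orderOf (π b) := by
      apply Nat.dvd_antisymm
      · apply orderOf_dvd_of_pow_eq_one
        apply hker
        · rw [map_pow, hc, pow_orderOf_eq_one]
        · rw [← pow_mul, mul_comm, pow_mul, hcm, one_pow]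
      · rw [← hc]
        exact orderOf_map_dvd π c
    have hordL : orderOf (⟨c, hcL⟩ : L) = orderOf (π b) := by
      rw [← hord, ← Subgroup.orderOf_coe]
    have hpg : IsPGroup 2 (Subgroup.zpowers (⟨c, hcL⟩ : L)) := by
      obtain ⟨l, -, hl⟩ := (Nat.dvd_prime_pow Nat.prime_two).1 (orderOf_dvd_of_pow_eq_one hcm)
      refine IsPGroup.of_card (n := l) ?_
      rw [Nat.card_zpowers, ← Subgroup.orderOf_coe]
      exact hl
    have hidx : ¬ 2 ∣ (Subgroup.zpowers (⟨c, hcL⟩ : L)).index := by
      have h1 := Subgroup.card_mul_index (Subgroup.zpowers (⟨c, hcL⟩ : L))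
      rw [Nat.card_zpowers, hordL, hcardL, mul_comm] at h1
      have h2 : (Subgroup.zpowers (⟨c, hcL⟩ : L)).index = Nat.card π.ker :=
        Nat.eq_of_mul_eq_mul_right (orderOf_pos_iff.2 (by
          rw [← hc]; exact π.isOfFinOrder (isOfFinOrder_of_finite c))) h1
      rw [h2]
      exact hodd.not_two_dvd_nat
    exact ⟨hpg.toSylow hidx, rfl⟩
  obtain ⟨P, hP⟩ := hsyl a haL ha hab
  obtain ⟨Q, hQ⟩ := hsyl b hbL hb rfl
  obtain ⟨g, hg⟩ := MulAction.exists_smul_eq L P Q
  have hg2 : MulAut.conj g • (P : Subgroup L) = (Q : Subgroup L) := by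
    rw [← hg]; rfl
  have h1 : g * ⟨a, haL⟩ * g⁻¹ ∈ (Q : Subgroup L) := by
    rw [← hg2, hP]
    exact Subgroup.smul_mem_pointwise_smul _ (MulAut.conj g) _ (Subgroup.mem_zpowers _)
  rw [hQ] at h1
  obtain ⟨s, hs⟩ := Subgroup.mem_zpowers_iff.1 h1
  have h2 : b ^ s = (g : C) * a * (g : C)⁻¹ := congrArg Subtype.val hs
  -- the image of the conjugate
  have h3 : π ((g : C) * a * (g : C)⁻¹) = π b := by
    obtain ⟨l, hl⟩ := Subgroup.mem_zpowers_iff.1 (show π (g : C) ∈ Subgroup.zpowers (π b) from g.2)
    rw [map_mul, map_mul, map_inv, hab, ← hl]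
    group
  have h4 : (g : C) * a * (g : C)⁻¹ = b := by
    have h5 : π (b ^ s * b⁻¹) = 1 := by
      rw [map_mul, h2, h3, map_inv, mul_inv_cancel]
    have h6 : (b ^ s * b⁻¹) ^ 2 ^ m = 1 := by
      have : b ^ s * b⁻¹ = b ^ (s - 1) := by rw [zpow_sub, zpow_one]
      rw [this, ← zpow_natCast, ← zpow_mul, mul_comm, zpow_mul, zpow_natCast, hb, one_zpow]
    have h7 := hker _ h5 h6
    rw [← h2]
    exact mul_inv_eq_one.1 h7
  exact isConj_iff.2 ⟨g, h4⟩

end Conj

section Values

variable {G : Type u} [Group G] {t : G} {n : ℕ} [NeZero n]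
  {π : (Subgroup.centralizer ({t} : Set G)) →* DihedralGroup n}

/-- The 2-part of an element of `C(t)`. -/
theorem exists_two_part (h : BGHyp t n π) (x : Subgroup.centralizer ({t} : Set G)) (j : ZMod n)
    (hx : π x = r j) :
    ∃ a u : Subgroup.centralizer ({t} : Set G), x = a * u ∧ π a = r j ∧ π u = 1 ∧ a ^ n = 1 ∧
      Commute a u := by
  obtain ⟨m, hm, hn⟩ := h.pow
  have hcop0 : ∀ K : ℕ, Odd K → Nat.Coprime n K := by
    intro K hK
    rw [hn]
    exact Nat.Coprime.pow_left _ (Nat.coprime_two_left.2 hK)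
  have hcop : Nat.Coprime n (Nat.card π.ker) := hcop0 _ h.odd_ker
  obtain ⟨k, hk1, hk2⟩ := Nat.chineseRemainder hcop 1 0
  have hxn : π (x ^ n) = 1 := by
    rw [map_pow, hx, r_pow, ZMod.natCast_self, mul_zero, DihedralGroup.one_def]
  have h1 : (x ^ n) ^ Nat.card π.ker = 1 :=
    congrArg Subtype.val (pow_card_eq_one' (x := (⟨x ^ n, hxn⟩ : π.ker)))
  have hpa : π (x ^ k) = r j := by
    rw [map_pow, hx, r_pow]
    have h2 : ((k : ℕ) : ZMod n) = 1 := by
      have := (ZMod.natCast_eq_natCast_iff k 1 n).2 hk1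
      rwa [Nat.cast_one] at this
    rw [h2, mul_one]
  refine ⟨x ^ k, (x ^ k)⁻¹ * x, by group, hpa, ?_, ?_, ?_⟩
  · rw [map_mul, map_inv, hpa, hx, inv_mul_cancel]
  · obtain ⟨c, hc⟩ := (Nat.modEq_zero_iff_dvd).1 hk2
    rw [hc, ← pow_mul]
    have : Nat.card π.ker * c * n = n * Nat.card π.ker * c := by ring
    rw [this, pow_mul, pow_mul, h1, one_pow]
  · have h3 : Commute (x ^ k) x := (Commute.refl x).pow_left k
    exact (Commute.refl (x ^ k)).inv_right.mul_right h3

/-- A character of the principal 2-block has the same value at an element of `C(t)` mapping to a nontrivial rotation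
and at its 2-part. -/
theorem irr_eq_two_part [Finite G] (h : BGHyp t n π) (M : Ideal AlgInt) (hM : IsPModular 2 M)
    (χ : IrrCharacter G) (hχ : χ ∈ principalBlock M G)
    (a u : Subgroup.centralizer ({t} : Set G)) {j : ZMod n} (hj : j ≠ 0) (ha : π a = r j)
    (han : a ^ n = 1) (hu : π u = 1) (hau : Commute a u) :
    (χ : G → ℂ) ((a : G) * (u : G)) = (χ : G → ℂ) a := by
  have : Fact (Nat.Prime 2) := ⟨Nat.prime_two⟩
  have hta : t ∈ Subgroup.zpowers (a : G) := mem_zpowers_of_rot h hj ha
  have hle : Subgroup.centralizer ({(a : G)} : Set G) ≤ Subgroup.centralizer ({t} : Set G) := by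
    intro z hz
    rw [Subgroup.mem_centralizer_singleton_iff] at hz ⊢
    obtain ⟨k, hk⟩ := Subgroup.mem_zpowers_iff.1 hta
    have hz' : Commute z (a : G) := hz
    rw [← hk]
    exact (hz'.zpow_right k).eq
  set N : Subgroup (Subgroup.centralizer ({(a : G)} : Set G)) :=
    (π.comp (Subgroup.inclusion hle)).ker with hN
  have hNodd : (Nat.card N).Coprime 2 := by
    rw [Nat.coprime_two_right]
    refine Odd.of_dvd_nat h.odd_ker ?_
    have hinj : Function.Injective
        (((Subgroup.inclusion hle).comp N.subtype).codRestrict π.ker (fun x => x.2)) := by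
      intro x y hxy
      have h1 : Subgroup.inclusion hle x.1 = Subgroup.inclusion hle y.1 :=
        congrArg Subtype.val hxy
      exact Subtype.ext (Subgroup.inclusion_injective hle h1)
    exact Subgroup.card_dvd_of_injective _ hinj
  have hNle : N ≤ pPrimeCore 2 _ :=
    Cfsg.Agent.Lib.Cores.le_pPrimeCore inferInstance hNodd
  have huC : (u : G) ∈ Subgroup.centralizer ({(a : G)} : Set G) := by
    rw [Subgroup.mem_centralizer_singleton_iff]
    have := congrArg Subtype.val hau.eq
    exact this.symm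
  have hv : (u : G) ∈ centralizerPPrimeCore 2 (a : G) := by
    refine ⟨⟨u, huC⟩, hNle ?_, rfl⟩
    rw [hN, MonoidHom.mem_ker, MonoidHom.comp_apply]
    exact hu
  obtain ⟨m, hm, hn⟩ := h.pow
  refine Cfsg.Agent.S0942.result 2 M hM (a : G) ?_ (u : G) hv χ hχ
  have h1 : (a : G) ^ 2 ^ m = 1 := by
    have := congrArg Subtype.val han
    rw [hn] at this
    exact this
  obtain ⟨l, -, hl⟩ := (Nat.dvd_prime_pow Nat.prime_two).1 (orderOf_dvd_of_pow_eq_one h1)
  exact ⟨l, hl⟩

/-- A character of the principal 2-block is constant on the fibres of `π` over the nontrivial rotations. -/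
theorem irr_eq_of_rot [Finite G] (h : BGHyp t n π) (M : Ideal AlgInt) (hM : IsPModular 2 M)
    (χ : IrrCharacter G) (hχ : χ ∈ principalBlock M G)
    (x y : Subgroup.centralizer ({t} : Set G)) {j : ZMod n} (hj : j ≠ 0) (hx : π x = r j)
    (hy : π y = r j) : (χ : G → ℂ) x = (χ : G → ℂ) y := by
  obtain ⟨a, u, hxa, hpa, hpu, han, hau⟩ := exists_two_part h x j hx
  obtain ⟨b, v, hyb, hpb, hpv, hbn, hbv⟩ := exists_two_part h y j hy
  obtain ⟨m, hm, hn⟩ := h.pow
  have h1 : (χ : G → ℂ) x = (χ : G → ℂ) a := by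
    have := irr_eq_two_part h M hM χ hχ a u hj hpa han hpu hau
    rw [← this, hxa]; rfl
  have h2 : (χ : G → ℂ) y = (χ : G → ℂ) b := by
    have := irr_eq_two_part h M hM χ hχ b v hj hpb hbn hpv hbv
    rw [← this, hyb]; rfl
  have h3 : IsConj a b :=
    isConj_of_ker_odd π h.odd_ker a b m (by rw [← hn]; exact han) (by rw [← hn]; exact hbn)
      (hpa.trans hpb.symm)
  obtain ⟨c, hc⟩ := isConj_iff.1 h3
  have h4 : (χ : G → ℂ) b = (χ : G → ℂ) a := by
    rw [← hc]
    exact Core.isIrr_isClassFunction χ.2 (a : G) (c : G)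
  rw [h1, h2, h4]

/-- `X` is plus or minus an irreducible character of the principal block. -/
def SignedB0 (M : Ideal AlgInt) (X : G → ℂ) : Prop :=
  ∃ χ : IrrCharacter G, χ ∈ principalBlock M G ∧ (X = (χ : G → ℂ) ∨ X = -(χ : G → ℂ))

theorem SignedB0.signedIrr {M : Ideal AlgInt} {X : G → ℂ} (hX : SignedB0 M X) : SignedIrr X := by
  obtain ⟨χ, -, h | h⟩ := hX
  · exact Or.inl (h ▸ χ.2)
  · right
    rw [h, neg_neg]
    exact χ.2

theorem SignedIrr.isClassFunction {X : G → ℂ} (hX : SignedIrr X) : IsClassFunction G X := by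
  rcases hX with h | h
  · exact Core.isIrr_isClassFunction h
  · intro g k
    have := Core.isIrr_isClassFunction h g k
    simpa using this

theorem signedB0_eq_of_rot [Finite G] (h : BGHyp t n π) (M : Ideal AlgInt) (hM : IsPModular 2 M)
    (X : G → ℂ) (hX : SignedB0 M X)
    (x y : Subgroup.centralizer ({t} : Set G)) {j : ZMod n} (hj : j ≠ 0) (hx : π x = r j)
    (hy : π y = r j) : X x = X y := by
  obtain ⟨χ, hχ, rfl | rfl⟩ := hX
  · exact irr_eq_of_rot h M hM χ hχ x y hj hx hy
  · rw [Pi.neg_apply, Pi.neg_apply, irr_eq_of_rot h M hM χ hχ x y hj hx hy]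

/-- On the preimage of the nontrivial rotations a character of the principal block is an even function of the
rotation. -/
theorem exists_values [Finite G] (h : BGHyp t n π) (M : Ideal AlgInt) (hM : IsPModular 2 M)
    (X : G → ℂ) (hX : SignedB0 M X) :
    ∃ F : ZMod n → ℂ, (∀ j, F (-j) = F j) ∧
      ∀ (x : Subgroup.centralizer ({t} : Set G)) (j : ZMod n), j ≠ 0 → π x = r j →
        X x = F j := by
  choose s hs using fun j : ZMod n => h.surj (r j)
  refine ⟨fun j => if j = 0 then 0 else X (s j), ?_, ?_⟩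
  · intro j
    by_cases hj : j = 0
    · simp [hj]
    · have hj' : -j ≠ 0 := neg_ne_zero.2 hj
      simp only [if_neg hj, if_neg hj']
      obtain ⟨w, hw⟩ := h.surj (sr 0)
      have h1 : π (w * s j * w⁻¹) = r (-j) := by
        rw [map_mul, map_mul, map_inv, hw, hs, inv_sr, sr_mul_r, sr_mul_sr]
        congr 1
        ring
      have h2 := signedB0_eq_of_rot h M hM X hX _ _ hj' (hs (-j)) h1
      rw [h2]
      exact SignedIrr.isClassFunction hX.signedIrr (s j : G) (w : G)
  · intro x j hj hx
    simp only [if_neg hj]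
    exact signedB0_eq_of_rot h M hM X hX _ _ hj hx (hs j)

/-- The order of `C(t)`. -/
theorem card_centralizer [Finite G] (h : BGHyp t n π) :
    Nat.card (Subgroup.centralizer ({t} : Set G)) = Nat.card π.ker * (2 * n) := by
  rw [← Subgroup.card_mul_index π.ker, Subgroup.index_ker,
    MonoidHom.range_eq_top_of_surjective _ h.surj, Subgroup.card_top, DihedralGroup.nat_card]

/-- The fibres of `π`. -/
theorem card_fibre [Fintype (Subgroup.centralizer ({t} : Set G))] (h : BGHyp t n π)
    (d : DihedralGroup n) [DecidablePred fun x : Subgroup.centralizer ({t} : Set G) => π x = d] :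
    (Finset.univ.filter (fun x : Subgroup.centralizer ({t} : Set G) => π x = d)).card =
      Nat.card π.ker := by
  obtain ⟨c, hc⟩ := h.surj d
  rw [← Fintype.card_coe, ← Nat.card_eq_fintype_card]
  refine Nat.card_congr ?_
  refine
    { toFun := fun x => ⟨c⁻¹ * x.1, ?_⟩
      invFun := fun x => ⟨c * x.1, ?_⟩
      left_inv := ?_
      right_inv := ?_ }
  · have hx := (Finset.mem_filter.1 x.2).2
    rw [MonoidHom.mem_ker, map_mul, map_inv, hc, hx, inv_mul_cancel]
  · have hx := x.2
    rw [MonoidHom.mem_ker] at hx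
    rw [Finset.mem_filter]
    exact ⟨Finset.mem_univ _, by rw [map_mul, hc, hx, mul_one]⟩
  · intro x; ext; simp
  · intro x; ext; simp

/-- Pairing of the induced function of `bth k ∘ π` with a class function which is a function `F j` on the preimages of the
rotations. -/
theorem classInner_ind [Fintype G] (h : BGHyp t n π) (b : DihedralGroup n → ℂ) (hb1 : b 1 = 0)
    (hbs : ∀ j, b (sr j) = 0) (X : G → ℂ) (hX : IsClassFunction G X) (F : ZMod n → ℂ)
    (hF : ∀ (x : Subgroup.centralizer ({t} : Set G)) (j : ZMod n), j ≠ 0 → π x = r j →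
      X x = F j) :
    classInner (indFun (Subgroup.centralizer ({t} : Set G)) (fun x => b (π x))) X =
      (2 * (n : ℂ))⁻¹ * ∑ j : ZMod n, b (r j) * conj (F j) := by
  classical
  let _ : Fintype (Subgroup.centralizer ({t} : Set G)) := Fintype.ofFinite _
  rw [Cfsg.Agent.S0146.result _ _ _ hX, Core.classInner_def, card_centralizer h]
  have h1 : ∑ x : Subgroup.centralizer ({t} : Set G), b (π x) * conj (X x) =
      ∑ d : DihedralGroup n, ∑ x ∈ Finset.univ.filter
        (fun x : Subgroup.centralizer ({t} : Set G) => π x = d), b (π x) * conj (X x) :=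
    (Finset.sum_fiberwise_of_maps_to (fun _ _ => Finset.mem_univ _) _).symm
  have h2 : ∀ j : ZMod n, ∑ x ∈ Finset.univ.filter
        (fun x : Subgroup.centralizer ({t} : Set G) => π x = r j), b (π x) * conj (X x) =
      (Nat.card π.ker : ℂ) * (b (r j) * conj (F j)) := by
    intro j
    by_cases hj : j = 0
    · subst hj
      rw [← DihedralGroup.one_def, hb1, zero_mul, mul_zero]
      apply Finset.sum_eq_zero
      intro x hx
      rw [(Finset.mem_filter.1 hx).2, hb1, zero_mul]
    · rw [Finset.sum_congr rfl (g := fun _ => b (r j) * conj (F j))]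
      · rw [Finset.sum_const, nsmul_eq_mul, card_fibre h]
      · intro x hx
        have hx2 := (Finset.mem_filter.1 hx).2
        rw [hx2, hF x j hj hx2]
  have h3 : ∀ j : ZMod n, ∑ x ∈ Finset.univ.filter
        (fun x : Subgroup.centralizer ({t} : Set G) => π x = sr j), b (π x) * conj (X x) = 0 := by
    intro j
    apply Finset.sum_eq_zero
    intro x hx
    rw [(Finset.mem_filter.1 hx).2, hbs, zero_mul]
  have h4 : ∀ f : DihedralGroup n → ℂ, ∑ d : DihedralGroup n, f d =
      ∑ j : ZMod n, f (r j) + ∑ j : ZMod n, f (sr j) := by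
    intro f
    have e1 : ∑ d : DihedralGroup n, f d = ∑ s : ZMod n ⊕ ZMod n, f (Sum.elim r sr s) := by
      symm
      refine Fintype.sum_bijective (Sum.elim r sr) ⟨?_, ?_⟩ _ _ (fun _ => rfl)
      · rintro (a | a) (b | b) hab
        · simpa using hab
        · simp at hab
        · simp at hab
        · simpa using hab
      · rintro (a | a)
        · exact ⟨Sum.inl a, rfl⟩
        · exact ⟨Sum.inr a, rfl⟩
    rw [e1, Fintype.sum_sum_type]
    rfl
  show (_ : ℂ)⁻¹ * ∑ x : Subgroup.centralizer ({t} : Set G), b (π x) * conj (X x) = _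
  rw [h1, h4, Finset.sum_congr rfl (fun j _ => h2 j), Finset.sum_congr rfl (fun j _ => h3 j),
    Finset.sum_const_zero, add_zero, ← Finset.mul_sum]
  have hk : (Nat.card π.ker : ℂ) ≠ 0 := by
    have : Nat.card π.ker ≠ 0 := by
      intro h0
      have := h.odd_ker
      rw [h0] at this
      exact absurd this (by decide)
    exact_mod_cast this
  push_cast
  rw [mul_inv, mul_assoc, mul_left_comm, ← mul_assoc (Nat.card π.ker : ℂ)⁻¹, inv_mul_cancel₀ hk,
    one_mul]

/-- **Values**: a signed character of the principal block is determined on the preimage of the nontrivial rotations by its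
inner products with the induced functions of the `bth k`. -/
theorem values_of_inner [Fintype G] (h : BGHyp t n π) (M : Ideal AlgInt) (hM : IsPModular 2 M)
    (X : G → ℂ) (hX : SignedB0 M X) (cand : ZMod n → ℂ) (hc : ∀ j, cand (-j) = cand j)
    (hin : ∀ k : ZMod n, k ≠ 0 →
      classInner (indFun (Subgroup.centralizer ({t} : Set G)) (fun x => bth k (π x))) X =
        (2 * (n : ℂ))⁻¹ * ∑ j : ZMod n, bth k (r j) * conj (cand j))
    (x : Subgroup.centralizer ({t} : Set G)) (j : ZMod n) (hj : j ≠ 0) (hx : π x = r j) :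
    X x = cand j := by
  obtain ⟨F, hFe, hF⟩ := exists_values h M hM X hX
  have h1 : ∀ k : ZMod n, k ≠ 0 →
      ∑ j : ZMod n, bth k (r j) * (conj (F j) - conj (cand j)) = 0 := by
    intro k hk
    have h2 := hin k hk
    rw [classInner_ind h (bth k) (bth_one k) (bth_sr k) X
      (SignedIrr.isClassFunction hX.signedIrr) F hF] at h2
    have h3 : (2 * (n : ℂ))⁻¹ ≠ 0 := inv_ne_zero (mul_ne_zero two_ne_zero n_ne_zero)
    have h4 := mul_left_cancel₀ h3 h2
    rw [← sub_eq_zero, ← Finset.sum_sub_distrib] at h4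
    rw [← h4]
    exact Finset.sum_congr rfl fun j _ => by ring
  have h2 := eq_zero_of_sum_bth (fun j => conj (F j) - conj (cand j))
    (fun j => by simp only [hFe, hc]) h1 j hj
  have h3 : F j = cand j := by
    have := sub_eq_zero.1 h2
    exact (starRingEnd ℂ).injective this
  rw [hF x j hj hx, h3]

/-- values identically `1` -/
theorem values_one [Fintype G] (h : BGHyp t n π) (M : Ideal AlgInt) (hM : IsPModular 2 M)
    (X : G → ℂ) (hX : SignedB0 M X)
    (hin : ∀ k : ZMod n, k ≠ 0 →
      classInner (indFun (Subgroup.centralizer ({t} : Set G)) (fun x => bth k (π x))) X = 1)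
    (x : Subgroup.centralizer ({t} : Set G)) (j : ZMod n) (hj : j ≠ 0) (hx : π x = r j) :
    X x = 1 :=
  values_of_inner h M hM X hX (fun _ => 1) (fun _ => rfl)
    (fun k hk => by rw [hin k hk, sum_bth_one k hk]) x j hj hx

theorem mu_neg (h2 : 2 ∣ n) (j : ZMod n) : mu (r (-j)) = mu (r j) := by
  rw [mu_r, mu_r]
  congr 1
  have h3 : ((n / 2 : ℕ) : ZMod n) * j + ((n / 2 : ℕ) : ZMod n) * j = 0 := by
    rw [← add_mul, half_add_half h2, zero_mul]
  rw [mul_neg]
  exact neg_eq_of_add_eq_zero_left h3

/-- values `mu` -/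
theorem values_mu [Fintype G] (h : BGHyp t n π) (M : Ideal AlgInt) (hM : IsPModular 2 M)
    (X : G → ℂ) (hX : SignedB0 M X)
    (hin : ∀ k : ZMod n, k ≠ 0 →
      classInner (indFun (Subgroup.centralizer ({t} : Set G)) (fun x => bth k (π x))) X =
        if k = ((n / 2 : ℕ) : ZMod n) then -1 else 0)
    (x : Subgroup.centralizer ({t} : Set G)) (j : ZMod n) (hj : j ≠ 0) (hx : π x = r j) :
    X x = mu (r j) :=
  values_of_inner h M hM X hX (fun j => mu (r j)) (mu_neg (two_dvd h))
    (fun k hk => by rw [hin k hk, sum_bth_mu (two_dvd h) k]) x j hj hx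

/-- values `theta i` -/
theorem values_theta [Fintype G] (h : BGHyp t n π) (M : Ideal AlgInt) (hM : IsPModular 2 M)
    (X : G → ℂ) (hX : SignedB0 M X) (i : ZMod n) (hi : i ≠ 0)
    (hin : ∀ k : ZMod n, k ≠ 0 →
      classInner (indFun (Subgroup.centralizer ({t} : Set G)) (fun x => bth k (π x))) X =
        -(if k = i then 1 else 0) - (if k = -i then 1 else 0))
    (x : Subgroup.centralizer ({t} : Set G)) (j : ZMod n) (hj : j ≠ 0) (hx : π x = r j) :
    X x = theta i (r j) :=
  values_of_inner h M hM X hX (fun j => theta i (r j))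
    (fun j => by
      simp only [theta_r, mul_neg, neg_neg]
      ring)
    (fun k hk => by rw [hin k hk, sum_bth_theta i hi k]) x j hj hx

end Values

section Sylow

variable {G : Type u} [Group G] {t : G} {n : ℕ} [NeZero n]
  {π : (Subgroup.centralizer ({t} : Set G)) →* DihedralGroup n}

/-- A 2-subgroup of `C(t)` mapped bijectively onto the dihedral group. -/
theorem exists_sylow [Finite G] (h : BGHyp t n π) :
    ∃ S : Subgroup (Subgroup.centralizer ({t} : Set G)), Nat.card S = 2 * n ∧
      Function.Bijective (fun s : S => π (s : Subgroup.centralizer ({t} : Set G))) := by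
  have : Fact (Nat.Prime 2) := ⟨Nat.prime_two⟩
  obtain ⟨m, hm, hn⟩ := h.pow
  obtain ⟨S⟩ : Nonempty (Sylow 2 (Subgroup.centralizer ({t} : Set G))) := inferInstance
  have hcard : Nat.card (S : Subgroup (Subgroup.centralizer ({t} : Set G))) = 2 * n := by
    rw [S.card_eq_multiplicity, card_centralizer h,
      Nat.factorization_mul (fun h0 => by
        have := h.odd_ker
        rw [h0] at this
        exact absurd this (by decide)) (by have := NeZero.ne n; omega)]
    have h1 : (Nat.card π.ker).factorization 2 = 0 :=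
      Nat.factorization_eq_zero_of_not_dvd h.odd_ker.not_two_dvd_nat
    have h2 : (2 * n).factorization 2 = m + 1 := by
      rw [hn, ← pow_succ', Nat.Prime.factorization_pow Nat.prime_two, Finsupp.single_eq_same]
    rw [Finsupp.add_apply, h1, h2, zero_add, hn, pow_succ']
  refine ⟨S, hcard, ?_⟩
  have hinj : Function.Injective
      (π.comp (S : Subgroup (Subgroup.centralizer ({t} : Set G))).subtype) := by
    rw [injective_iff_map_eq_one]
    intro s hs
    have h1 : (⟨(s : Subgroup.centralizer ({t} : Set G)), hs⟩ : π.ker) ^ Nat.card π.ker = 1 :=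
      pow_card_eq_one'
    have h2 : (s : Subgroup.centralizer ({t} : Set G)) ^ Nat.card π.ker = 1 :=
      congrArg Subtype.val h1
    have h3 : s ^ Nat.card π.ker = 1 := Subtype.ext h2
    have h4 : orderOf s ∣ Nat.card π.ker := orderOf_dvd_of_pow_eq_one h3
    have h5 : orderOf s ∣ 2 ^ (m + 1) := by
      rw [pow_succ', ← hn, ← hcard]
      exact orderOf_dvd_natCard s
    have h6 : Nat.Coprime (2 ^ (m + 1)) (Nat.card π.ker) :=
      Nat.Coprime.pow_left _ (Nat.coprime_two_left.2 h.odd_ker)
    have h7 := Nat.dvd_gcd h5 h4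
    rw [h6] at h7
    exact orderOf_eq_one_iff.1 (Nat.dvd_one.1 h7)
  have h1 : Nat.card (S : Subgroup (Subgroup.centralizer ({t} : Set G))) =
      Nat.card (DihedralGroup n) := by
    rw [hcard, DihedralGroup.nat_card]
  exact (Nat.bijective_iff_injective_and_card _).2 ⟨hinj, h1⟩

/-- Both classes of reflections contain images of involutions of `C(t)`. -/
theorem kcount_pos' [Finite G] (h : BGHyp t n π) (h2 : 2 ∣ n) (p : ZMod 2) :
    0 < kcount h2 π p := by
  obtain ⟨S, hS, hb⟩ := exists_sylow h
  obtain ⟨j, hj⟩ : ∃ j : ZMod n, ZMod.castHom h2 (ZMod 2) j = p := ZMod.castHom_surjective h2 p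
  obtain ⟨s, hs⟩ := hb.2 (sr j)
  rw [kcount]
  have hs' : π (s : Subgroup.centralizer ({t} : Set G)) = sr j := hs
  have h1 : orderOf (s : Subgroup.centralizer ({t} : Set G)) = 2 := by
    apply orderOf_eq_prime
    · have h3 : s * s = 1 := by
        apply hb.1
        show π ((s : Subgroup.centralizer ({t} : Set G)) * s) = π 1
        rw [map_mul, hs', sr_mul_self, map_one]
      rw [sq]
      exact congrArg Subtype.val h3
    · intro h3
      rw [h3, map_one, DihedralGroup.one_def] at hs'
      cases hs'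
  have hne : Nonempty {x : Subgroup.centralizer ({t} : Set G) //
      orderOf x = 2 ∧ ∃ j : ZMod n, π x = sr j ∧ ZMod.castHom h2 (ZMod 2) j = p} :=
    ⟨⟨s, h1, j, hs', hj⟩⟩
  exact Nat.card_pos

theorem kcount_pos [Finite G] (h : BGHyp t n π) (h2 : 2 ∣ n) :
    0 < kcount h2 π 0 ∧ 0 < kcount h2 π 1 := ⟨kcount_pos' h h2 0, kcount_pos' h h2 1⟩

/-- A signed character with value `1` at the preimages of the nontrivial rotations has degree `≡ 1` modulo `2 n`. -/
theorem two_n_dvd [Fintype G] (h : BGHyp t n π) (X : G → ℂ) (hX : SignedIrr X)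
    (hv : ∀ (x : Subgroup.centralizer ({t} : Set G)) (j : ZMod n), j ≠ 0 → π x = r j → X x = 1)
    (f : ℤ) (hf : X 1 = f) : (2 * n : ℤ) ∣ f - 1 := by
  classical
  obtain ⟨S, hS, hb⟩ := exists_sylow h
  let _ : Fintype S := Fintype.ofFinite _
  have hn2 := two_dvd h
  have hXt : X t = 1 := hv (tt t) _ (half_ne_zero hn2) (map_tt h)
  have hval : ∀ s : S, s ≠ 1 → X (s : Subgroup.centralizer ({t} : Set G)) = 1 := by
    intro s hs
    match hπ : π (s : Subgroup.centralizer ({t} : Set G)) with
    | r j =>
      refine hv _ j ?_ hπ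
      rintro rfl
      apply hs
      apply hb.1
      show π (s : Subgroup.centralizer ({t} : Set G)) = π 1
      rw [hπ, map_one, DihedralGroup.one_def]
    | sr j =>
      have h3 : s * s = 1 := by
        apply hb.1
        show π ((s : Subgroup.centralizer ({t} : Set G)) * s) = π 1
        rw [map_mul, hπ, sr_mul_self, map_one]
      have h4 : orderOf ((s : Subgroup.centralizer ({t} : Set G)) : G) = 2 := by
        rw [Subgroup.orderOf_coe, Subgroup.orderOf_coe]
        exact orderOf_eq_prime (by rw [sq]; exact h3) hs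
      obtain ⟨c, hc⟩ := isConj_iff.1 (h.one_class _ h4)
      rw [← hc]
      rw [SignedIrr.isClassFunction hX t c]
      exact hXt
  -- the restriction to `S`
  set ι : S →* G := (Subgroup.subtype _).comp S.subtype with hι
  have hint : ∃ z : ℤ, classInner (fun s : S => X (ι s)) 1 = z := by
    rcases hX with hX | hX
    · obtain ⟨k, hk⟩ := Core.classInner_isNat
        (Core.isCharacter_comp ι (Core.isIrr_isCharacter hX)) (Core.isCharacter_one (G := S))
      exact ⟨k, by rw [Int.cast_natCast]; exact hk⟩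
    · obtain ⟨k, hk⟩ := Core.classInner_isNat
        (Core.isCharacter_comp ι (Core.isIrr_isCharacter hX)) (Core.isCharacter_one (G := S))
      refine ⟨-k, ?_⟩
      have h1 : (fun s : S => X (ι s)) = -(fun s : S => (-X) (ι s)) := by
        funext s; simp
      rw [h1, Core.classInner_neg_left]
      push_cast
      rw [← hk]
      rfl
  obtain ⟨z, hz⟩ := hint
  rw [Core.classInner_def, ← Finset.add_sum_erase Finset.univ _ (Finset.mem_univ (1 : S)),
    Finset.sum_congr rfl (g := fun _ => (1 : ℂ))] at hz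
  · rw [Finset.sum_const, Finset.card_erase_of_mem (Finset.mem_univ _), Finset.card_univ,
      ← Nat.card_eq_fintype_card, hS, map_one, hf] at hz
    have hn := NeZero.ne n
    have h5 : (f : ℂ) - 1 + 2 * n = 2 * n * z := by
      rw [← hz]
      have h6 : ((2 * n - 1 : ℕ) : ℂ) = 2 * n - 1 := by
        rw [Nat.cast_sub (by omega)]
        push_cast
        ring
      have h7 : (n : ℂ) ≠ 0 := n_ne_zero
      rw [nsmul_eq_mul, h6]
      push_cast
      simp only [Pi.one_apply, map_one, mul_one]
      field_simp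
      ring
    have h6 : f - 1 + 2 * n = 2 * n * z := by exact_mod_cast h5
    refine ⟨z - 1, ?_⟩
    linear_combination h6
  · intro s hs
    have h1 : X (ι s) = 1 := hval s (Finset.ne_of_mem_erase hs)
    rw [h1]
    simp

end Sylow

end Cfsg.Agent.Classification.BGValues
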