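import Mathlib

/-!
# Thompson's transfer lemma through the sign of a permutation action, and groups whose elements
of odd order are closed under multiplication
-/

set_option autoImplicit false

namespace Cfsg.Agent.Classification.TransferSign

/-- Thompson transfer, homomorphism form: if `H` has index `2 * m` with `m` odd in `G` and `u` is an
involution without a conjugate in `H`, there is a homomorphism to `ℤˣ` sending `u` to `-1`. -/
theorem exists_hom_neg_one_of_index {G : Type*} [Group G] [Finite G] (H : Subgroup G) (m : ℕ)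
    (hm : Odd m) (hH : H.index = 2 * m) (u : G) (hu : orderOf u = 2)
    (hconj : ∀ g : G, g * u * g⁻¹ ∉ H) : ∃ f : G →* ℤˣ, f u = -1 := by
  classical
  have : Fintype (G ⧸ H) := Fintype.ofFinite _
  refine ⟨Equiv.Perm.sign.comp (MulAction.toPermHom G (G ⧸ H)), ?_⟩
  have hsq : (MulAction.toPermHom G (G ⧸ H) u) ^ 2 = 1 := by
    rw [← map_pow, ← hu, pow_orderOf_eq_one, map_one]
  rw [MonoidHom.comp_apply, Equiv.Perm.sign_of_pow_two_eq_one hsq]
  have hfix : Fintype.card (Function.fixedPoints (MulAction.toPermHom G (G ⧸ H) u)) = 0 := by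
    rw [Fintype.card_eq_zero_iff]
    constructor
    rintro ⟨x, hx⟩
    obtain ⟨g, rfl⟩ := QuotientGroup.mk_surjective x
    have hx' : u • (g : G ⧸ H) = (g : G ⧸ H) := hx
    rw [MulAction.Quotient.smul_coe, smul_eq_mul, eq_comm, QuotientGroup.eq] at hx'
    apply hconj g⁻¹
    rwa [inv_inv, mul_assoc]
  have hcard : Fintype.card (G ⧸ H) = 2 * m := by
    rw [← Nat.card_eq_fintype_card]; exact hH
  rw [hfix, hcard, Nat.sub_zero, Nat.mul_div_cancel_left _ (by norm_num : 0 < 2), hm.neg_one_pow]

/-- Thompson transfer, homomorphism form, for a subgroup `Q` of index `2` in a Sylow `2`-subgroup. -/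
theorem exists_hom_neg_one {G : Type*} [Group G] [Finite G] (P : Sylow 2 G) (Q : Subgroup G)
    (hQP : Q ≤ (P : Subgroup G)) (hQi : Q.relIndex (P : Subgroup G) = 2) (u : G)
    (hu : orderOf u = 2) (hconj : ∀ g : G, g * u * g⁻¹ ∉ Q) : ∃ f : G →* ℤˣ, f u = -1 := by
  have h1 : Q.index = 2 * (P : Subgroup G).index := by
    rw [← Subgroup.relIndex_mul_index hQP, hQi]
  have h2 : Odd (P : Subgroup G).index := by
    rw [← Nat.not_even_iff_odd, even_iff_two_dvd]
    exact P.not_dvd_index
  exact exists_hom_neg_one_of_index Q _ h2 h1 u hu hconj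

/-- The elements of odd order are closed under multiplication. For a finite group this says that
there is a normal 2-complement. -/
def OddClosed (G : Type*) [Group G] : Prop :=
  ∀ x y : G, Odd (orderOf x) → Odd (orderOf y) → Odd (orderOf (x * y))

theorem oddClosed_def (G : Type*) [Group G] :
    OddClosed G ↔ ∀ x y : G, Odd (orderOf x) → Odd (orderOf y) → Odd (orderOf (x * y)) := Iff.rfl

/-- An element of odd order is in the kernel of every homomorphism to `ℤˣ`. -/
theorem map_eq_one_of_odd {G : Type*} [Group G] (f : G →* ℤˣ) (x : G) (hx : Odd (orderOf x)) :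
    f x = 1 := by
  have h1 : f x ^ orderOf x = 1 := by rw [← map_pow, pow_orderOf_eq_one, map_one]
  rcases Int.units_eq_one_or (f x) with h | h
  · exact h
  · rw [h, hx.neg_one_pow] at h1
    exact absurd h1 (by decide)

theorem oddClosed_of_ker {G : Type*} [Group G] (f : G →* ℤˣ) (h : OddClosed f.ker) :
    OddClosed G := by
  intro x y hx hy
  have h1 : x ∈ f.ker := map_eq_one_of_odd f x hx
  have h2 : y ∈ f.ker := map_eq_one_of_odd f y hy
  have := h ⟨x, h1⟩ ⟨y, h2⟩ (by rwa [Subgroup.orderOf_mk]) (by rwa [Subgroup.orderOf_mk])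
  rw [MulMemClass.mk_mul_mk, Subgroup.orderOf_mk] at this
  exact this

/-- Normal 2-complements for cyclic Sylow 2-subgroups. -/
theorem oddClosed_of_isCyclic {G : Type*} [Group G] [Finite G] (P : Sylow 2 G)
    (hP : IsCyclic P) : OddClosed G := by
  intro x y hx hy
  by_cases h2 : 2 ∣ Nat.card G
  · have hmin : (Nat.card G).minFac = 2 := (Nat.minFac_eq_two_iff _).mpr h2
    have hc := IsCyclic.isComplement' hmin hP
    set f := MonoidHom.transferSylow P (hP.normalizer_le_centralizer hmin) with hf
    have key : ∀ z : G, Odd (orderOf z) → z ∈ f.ker := by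
      intro z hz
      rw [MonoidHom.mem_ker]
      obtain ⟨k, hk⟩ := (IsPGroup.iff_orderOf.mp P.2) (f z)
      have h3 : orderOf (f z) ∣ orderOf z := orderOf_map_dvd f z
      rw [hk] at h3
      have h4 : Nat.Coprime (2 ^ k) (orderOf z) :=
        Nat.Coprime.pow_left _ ((Nat.coprime_two_left).mpr hz)
      have h5 : 2 ^ k = 1 := Nat.Coprime.eq_one_of_dvd h4 h3
      rw [h5] at hk
      exact orderOf_eq_one_iff.mp hk
    have hmem : x * y ∈ f.ker := f.ker.mul_mem (key x hx) (key y hy)
    have hcard := MonoidHom.not_dvd_card_ker_transferSylow P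
      (hP.normalizer_le_centralizer hmin)
    have hd : orderOf (x * y) ∣ Nat.card f.ker := by
      rw [← Subgroup.orderOf_mk _ hmem]
      exact orderOf_dvd_natCard _
    rw [← Nat.not_even_iff_odd, even_iff_two_dvd]
    intro h
    exact hcard (h.trans hd)
  · rw [← Nat.not_even_iff_odd, even_iff_two_dvd]
    intro h
    exact h2 (h.trans (orderOf_dvd_natCard _))

/-- In a cyclic group, there is at most one involution. -/
theorem eq_of_isCyclic {G : Type*} [Group G] [Finite G] (R : Subgroup G) (hR : IsCyclic R) {x y : G}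
    (hxR : x ∈ R) (hyR : y ∈ R) (hx : x * x = 1) (hy : y * y = 1) (hx1 : x ≠ 1) (hy1 : y ≠ 1) :
    x = y := by
  classical
  have : Fintype R := Fintype.ofFinite _
  by_contra hne
  have h1 := IsCyclic.card_pow_eq_one_le (α := R) (n := 2) (by norm_num)
  have h2 : ({1, ⟨x, hxR⟩, ⟨y, hyR⟩} : Finset R) ⊆ Finset.univ.filter (fun a : R => a ^ 2 = 1) := by
    intro a ha
    simp only [Finset.mem_insert, Finset.mem_singleton] at ha
    simp only [Finset.mem_filter, Finset.mem_univ, true_and]
    rcases ha with rfl | rfl | rfl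
    · simp
    · ext; simp [pow_two, hx]
    · ext; simp [pow_two, hy]
  have h3 : ({1, ⟨x, hxR⟩, ⟨y, hyR⟩} : Finset R).card = 3 := by
    rw [Finset.card_insert_of_notMem, Finset.card_insert_of_notMem, Finset.card_singleton]
    · simp [hne]
    · simp only [Finset.mem_insert, Finset.mem_singleton, not_or]
      refine ⟨fun h => hx1 ?_, fun h => hy1 ?_⟩
      · exact (congrArg Subtype.val h).symm
      · exact (congrArg Subtype.val h).symm
  have h4 := (Finset.card_le_card h2).trans h1
  omega

/-- A finite group whose elements of odd order are closed under multiplication has a normal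
2-complement. -/
theorem exists_of_oddClosed {G : Type*} [Group G] [Finite G] (h : OddClosed G) :
    ∃ N : Subgroup G, N.Normal ∧ Odd (Nat.card N) ∧ ∃ k : ℕ, N.index = 2 ^ k := by
  let N : Subgroup G :=
    { carrier := {x | Odd (orderOf x)}
      mul_mem' := fun {x y} hx hy => h x y hx hy
      one_mem' := by simp
      inv_mem' := fun {x} hx => by simpa using hx }
  have hmem : ∀ x : G, x ∈ N ↔ Odd (orderOf x) := fun x => Iff.rfl
  have hN : N.Normal := by
    constructor
    intro x hx g
    rw [hmem] at hx ⊢
    have : orderOf (g * x * g⁻¹) = orderOf x := by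
      have := orderOf_injective (MulAut.conj g).toMonoidHom (MulAut.conj g).injective x
      simpa using this
    rwa [this]
  refine ⟨N, hN, ?_, ?_⟩
  · rw [← Nat.not_even_iff_odd, even_iff_two_dvd]
    intro h2
    obtain ⟨x, hx⟩ := exists_prime_orderOf_dvd_card' 2 h2
    have h3 : Odd (orderOf (x : G)) := (hmem x).mp x.2
    rw [Subgroup.orderOf_coe, hx] at h3
    exact absurd h3 (by decide)
  · have hp : IsPGroup 2 (G ⧸ N) := by
      intro q
      obtain ⟨g, rfl⟩ := QuotientGroup.mk_surjective q
      obtain ⟨k, m, hm, hk⟩ := Nat.exists_eq_two_pow_mul_odd (orderOf_pos g).ne'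
      refine ⟨k, ?_⟩
      rw [← QuotientGroup.mk_pow, QuotientGroup.eq_one_iff, hmem]
      have : orderOf (g ^ 2 ^ k) = m := by
        rw [orderOf_pow_of_dvd (by positivity) (by rw [hk]; exact dvd_mul_right _ _), hk,
          Nat.mul_div_cancel_left _ (by positivity)]
      rw [this]; exact hm
    obtain ⟨k, hk⟩ := hp.exists_card_eq
    exact ⟨k, hk⟩

end Cfsg.Agent.Classification.TransferSign
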