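import Mathlib
import Cfsg.Agent.Classification.TransferSign

/-!
# Groups with a central involution and Sylow 2-subgroups inside a dihedral group
-/

set_option autoImplicit false

namespace Cfsg.Agent.Classification.DihedralCentral

open Cfsg.Agent.Classification.TransferSign

/-- Every 2-subgroup `T` of `G` has a cyclic subgroup "of index at most two" with involutions
outside: this is what it means to be a subgroup of a dihedral group. -/
def SubDihedral (G : Type*) [Group G] : Prop :=
  ∀ T : Subgroup G, IsPGroup 2 T → ∃ R : Subgroup G, IsCyclic R ∧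
    ∀ x ∈ T, x ∉ R → x * x = 1 ∧ ∀ y ∈ T, y ∉ R → x * y ∈ R

theorem subDihedral_def (G : Type*) [Group G] :
    SubDihedral G ↔ ∀ T : Subgroup G, IsPGroup 2 T → ∃ R : Subgroup G, IsCyclic R ∧
      ∀ x ∈ T, x ∉ R → x * x = 1 ∧ ∀ y ∈ T, y ∉ R → x * y ∈ R := Iff.rfl

theorem subDihedral_of_injective {G H : Type*} [Group G] [Group H] (f : H →* G)
    (hf : Function.Injective f) (h : SubDihedral G) : SubDihedral H := by
  intro T hT
  obtain ⟨R, hR, hRT⟩ := h (T.map f) (hT.map f)
  refine ⟨R.comap f, ?_, ?_⟩
  · have := hR
    exact isCyclic_of_injective (f.subgroupComap R)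
      (fun a b hab => Subtype.ext (hf (congrArg Subtype.val hab)))
  · intro x hx hxR
    obtain ⟨h1, h2⟩ := hRT (f x) (Subgroup.mem_map_of_mem f hx) hxR
    refine ⟨hf (by rw [map_mul, h1, map_one]), fun y hy hyR => ?_⟩
    have := h2 (f y) (Subgroup.mem_map_of_mem f hy) hyR
    rw [← map_mul] at this
    exact this

/-- Two-element subgroups are cyclic. -/
theorem isCyclic_of_forall_eq {G : Type*} [Group G]
    (h : ∀ x y : G, x ≠ 1 → y ≠ 1 → x = y) : IsCyclic G := by
  by_cases hG : ∃ x : G, x ≠ 1
  · obtain ⟨x, hx⟩ := hG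
    refine ⟨⟨x, fun y => ?_⟩⟩
    by_cases hy : y = 1
    · exact ⟨0, by simp [hy]⟩
    · exact ⟨1, by simp [h y x hy hx]⟩
  · push Not at hG
    refine ⟨⟨1, fun y => ?_⟩⟩
    exact ⟨0, by simp [hG y]⟩

/-- an element of a 2-group that is nontrivial has a power that is an involution -/
theorem exists_pow_involution {G : Type*} [Group G] (x : G) (k : ℕ) (hx : x ^ 2 ^ k = 1)
    (hx1 : x ≠ 1) : ∃ n : ℕ, x ^ n ≠ 1 ∧ x ^ n * x ^ n = 1 := by
  induction k with
  | zero => simp at hx; exact absurd hx hx1
  | succ k ih =>
    by_cases h : x ^ 2 ^ k = 1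
    · exact ih h
    · exact ⟨2 ^ k, h, by rw [← pow_add, ← two_mul, ← pow_succ']; exact hx⟩

/-- The case in which the central involution is outside a subgroup of index two. -/
theorem oddClosed_of_hom {G : Type*} [Group G] [Finite G] (hG : SubDihedral G) (t : G)
    (ht1 : t ≠ 1) (htt : t * t = 1) (htc : ∀ g : G, g * t = t * g) (f : G →* ℤˣ)
    (hf : f t = -1) : OddClosed G := by
  apply oddClosed_of_ker f
  obtain ⟨P'⟩ : Nonempty (Sylow 2 f.ker) := inferInstance
  apply oddClosed_of_isCyclic P'
  have hPG : IsPGroup 2 ((P' : Subgroup f.ker).map f.ker.subtype) := P'.2.map _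
  obtain ⟨P, hP⟩ := hPG.exists_le_sylow
  -- `t` lies in `P`
  have htP : t ∈ (P : Subgroup G) := by
    have hz : IsPGroup 2 (Subgroup.zpowers t) := by
      rw [IsPGroup.iff_card]
      refine ⟨1, ?_⟩
      rw [Nat.card_zpowers, pow_one]
      exact orderOf_eq_prime (by rw [pow_two, htt]) ht1
    have hn : (Subgroup.zpowers t).Normal := by
      constructor
      intro n hn g
      obtain ⟨k, rfl⟩ := Subgroup.mem_zpowers_iff.mp hn
      have : Commute g (t ^ k) := Commute.zpow_right (htc g) k
      rw [this.eq, mul_assoc, mul_inv_cancel, mul_one]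
      exact hn
    have := hz.le_sylow_of_normal P
    exact this (Subgroup.mem_zpowers t)
  obtain ⟨R, hR, hRP⟩ := hG P P.2
  apply isCyclic_of_forall_eq
  intro x y hx hy
  have hxP : ((x : f.ker) : G) ∈ (P : Subgroup G) := hP (Subgroup.mem_map_of_mem _ x.2)
  have hyP : ((y : f.ker) : G) ∈ (P : Subgroup G) := hP (Subgroup.mem_map_of_mem _ y.2)
  have hx1 : ((x : f.ker) : G) ≠ 1 := fun h => hx (by ext; exact h)
  have hy1 : ((y : f.ker) : G) ≠ 1 := fun h => hy (by ext; exact h)
  have hxf : f ((x : f.ker) : G) = 1 := (x : f.ker).2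
  have hyf : f ((y : f.ker) : G) = 1 := (y : f.ker).2
  have : ((x : f.ker) : G) = ((y : f.ker) : G) := by
    generalize ((x : f.ker) : G) = a at *
    generalize ((y : f.ker) : G) = b at *
    have hne : (1 : ℤˣ) ≠ -1 := by decide
    by_cases htR : t ∈ R
    · -- nontrivial elements of the kernel in `P` are outside `R`
      have key : ∀ c : G, c ∈ (P : Subgroup G) → c ≠ 1 → f c = 1 → c ∉ R := by
        intro c hcP hc1 hcf hcR
        obtain ⟨k, hk⟩ := P.2 ⟨c, hcP⟩
        have hk' : c ^ 2 ^ k = 1 := by simpa using congrArg Subtype.val hk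
        obtain ⟨n, hn1, hn2⟩ := exists_pow_involution c k hk' hc1
        have := eq_of_isCyclic R hR (R.pow_mem hcR n) htR hn2 htt hn1 ht1
        apply hne
        rw [← hf, ← this, map_pow, hcf, one_pow]
      have ha := key a hxP hx1 hxf
      have hb := key b hyP hy1 hyf
      obtain ⟨h1, h2⟩ := hRP a hxP ha
      have h3 := h2 b hyP hb
      have h4 : a * b = 1 := by
        by_contra h5
        exact key (a * b) (P.mul_mem hxP hyP) h5 (by rw [map_mul, hxf, hyf, one_mul]) h3
      have h6 : a * a = a * b := h1.trans h4.symm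
      exact mul_left_cancel h6
    · -- every element of `P` or its product with `t` is an involution of `R`
      obtain ⟨-, h2⟩ := hRP t htP htR
      have key : ∀ c : G, c ∈ (P : Subgroup G) → c ≠ 1 → f c = 1 →
          ∃ c' ∈ R, c' ≠ 1 ∧ c' * c' = 1 ∧ (c' = c ∨ c' = t * c) := by
        intro c hcP hc1 hcf
        have aux : ∀ d : G, d ∈ (P : Subgroup G) → d ∈ R → d * d = 1 := by
          intro d hdP hdR
          have h3 : t * d ∉ R := fun h => htR (by simpa using R.mul_mem h (R.inv_mem hdR))
          obtain ⟨h4, -⟩ := hRP (t * d) (P.mul_mem htP hdP) h3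
          calc d * d = (t * t) * (d * d) := by rw [htt, one_mul]
            _ = t * (t * d) * d := by group
            _ = t * (d * t) * d := by rw [htc d]
            _ = (t * d) * (t * d) := by group
            _ = 1 := h4
        by_cases hcR : c ∈ R
        · exact ⟨c, hcR, hc1, aux c hcP hcR, Or.inl rfl⟩
        · have h3 := h2 c hcP hcR
          refine ⟨t * c, h3, ?_, aux _ (P.mul_mem htP hcP) h3, Or.inr rfl⟩
          intro h4
          have : c = t := by
            calc c = (t * t) * c := by rw [htt, one_mul]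
              _ = t * (t * c) := by group
              _ = t := by rw [h4, mul_one]
          rw [this, hf] at hcf
          exact hne hcf.symm
      obtain ⟨a', ha'R, ha'1, ha'2, ha'3⟩ := key a hxP hx1 hxf
      obtain ⟨b', hb'R, hb'1, hb'2, hb'3⟩ := key b hyP hy1 hyf
      have hab : a' = b' := eq_of_isCyclic R hR ha'R hb'R ha'2 hb'2 ha'1 hb'1
      have hfa : f (t * a) = -1 := by rw [map_mul, hf, hxf, mul_one]
      have hfb : f (t * b) = -1 := by rw [map_mul, hf, hyf, mul_one]
      rcases ha'3 with h | h <;> rcases hb'3 with h' | h'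
      · rw [← h, ← h', hab]
      · exfalso; apply hne
        rw [← hfb, ← h', ← hab, h, hxf]
      · exfalso; apply hne
        rw [← hfa, ← h, hab, h', hyf]
      · have : t * a = t * b := by rw [← h, ← h', hab]
        exact mul_left_cancel this
  exact Subtype.ext (Subtype.ext this)

/-- A finite group with a central involution all of whose 2-subgroups are subgroups of dihedral
groups has a normal 2-complement. -/
theorem oddClosed_of_subDihedral (n : ℕ) : ∀ {G : Type*} [Group G] [Finite G] (_ : Nat.card G ≤ n)
    (_ : SubDihedral G) (t : G)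
    (_ : t ≠ 1) (_ : t * t = 1) (_ : ∀ g : G, g * t = t * g), OddClosed G := by
  induction n with
  | zero =>
    intro G _ _ hn
    exact absurd hn (by have := Nat.card_pos (α := G); omega)
  | succ n ih =>
    intro G _ _ hn hG t ht1 htt htc
    obtain ⟨P⟩ : Nonempty (Sylow 2 G) := inferInstance
    obtain ⟨R, hR, hRP⟩ := hG P P.2
    by_cases hPR : (P : Subgroup G) ≤ R
    · exact oddClosed_of_isCyclic P (Subgroup.isCyclic_of_le hPR)
    · obtain ⟨x, hxP, hxR⟩ := Set.not_subset.mp hPR
      have hxP : x ∈ (P : Subgroup G) := hxP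
      have hxR : x ∉ R := hxR
      -- the subgroup of index 2
      have hQi : ((P : Subgroup G) ⊓ R).relIndex (P : Subgroup G) = 2 := by
        rw [Subgroup.relIndex, Subgroup.index_eq_two_iff]
        refine ⟨⟨x, hxP⟩, fun b => ?_⟩
        have hb : (b : G) ∈ (P : Subgroup G) := b.2
        have e1 : b ∈ ((P : Subgroup G) ⊓ R).subgroupOf (P : Subgroup G) ↔ (b : G) ∈ R := by
          rw [Subgroup.mem_subgroupOf, Subgroup.mem_inf]; tauto
        have e2 : b * ⟨x, hxP⟩ ∈ ((P : Subgroup G) ⊓ R).subgroupOf (P : Subgroup G) ↔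
            (b : G) * x ∈ R := by
          rw [Subgroup.mem_subgroupOf, Subgroup.mem_inf]
          exact ⟨fun h => h.2, fun h => ⟨P.mul_mem hb hxP, h⟩⟩
        rw [e1, e2]
        by_cases hbR : (b : G) ∈ R
        · exact Or.inr ⟨hbR, fun h => hxR (by simpa using R.mul_mem (R.inv_mem hbR) h)⟩
        · exact Or.inl ⟨(hRP b hb hbR).2 x hxP hxR, hbR⟩
      have htP : t ∈ (P : Subgroup G) := by
        have hz : IsPGroup 2 (Subgroup.zpowers t) := by
          rw [IsPGroup.iff_card]
          refine ⟨1, ?_⟩
          rw [Nat.card_zpowers, pow_one]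
          exact orderOf_eq_prime (by rw [pow_two, htt]) ht1
        have hn : (Subgroup.zpowers t).Normal := by
          constructor
          intro n hn g
          obtain ⟨k, rfl⟩ := Subgroup.mem_zpowers_iff.mp hn
          have : Commute g (t ^ k) := Commute.zpow_right (htc g) k
          rw [this.eq, mul_assoc, mul_inv_cancel, mul_one]
          exact hn
        have := hz.le_sylow_of_normal P
        exact this (Subgroup.mem_zpowers t)
      by_cases htR : t ∈ R
      · -- `x` is not conjugate into `P ⊓ R`
        have hx2 : x * x = 1 := (hRP x hxP hxR).1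
        have hx1 : x ≠ 1 := fun h => hxR (h ▸ R.one_mem)
        obtain ⟨f, hf⟩ := exists_hom_neg_one P ((P : Subgroup G) ⊓ R) inf_le_left hQi x
          (orderOf_eq_prime (by rw [pow_two, hx2]) hx1) (by
            intro g hg
            have h1 : (g * x * g⁻¹) * (g * x * g⁻¹) = 1 := by
              calc (g * x * g⁻¹) * (g * x * g⁻¹) = g * (x * x) * g⁻¹ := by group
                _ = 1 := by rw [hx2]; group
            have h2 : g * x * g⁻¹ ≠ 1 := by
              intro h
              exact hx1 (conj_eq_one_iff.mp h)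
            have h3 := eq_of_isCyclic R hR hg.2 htR h1 htt h2 ht1
            have h4 : x = t := by
              calc x = g⁻¹ * (g * x * g⁻¹) * g := by group
                _ = g⁻¹ * (t * g) := by rw [h3]; group
                _ = t := by rw [← htc g]; group
            exact hxR (h4 ▸ htR))
        rcases Int.units_eq_one_or (f t) with h | h
        · -- `t` is in the kernel: induction
          apply oddClosed_of_ker f
          have hlt : Nat.card f.ker < Nat.card G := by
            have h1 := Subgroup.card_mul_index f.ker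
            have h2 : f.ker.index ≠ 1 := by
              intro h3
              have h4 : x ∈ f.ker := by
                rw [Subgroup.index_eq_one.mp h3]; exact Subgroup.mem_top x
              rw [MonoidHom.mem_ker, hf] at h4
              exact absurd h4 (by decide)
            have h3 : f.ker.index ≠ 0 := Subgroup.index_ne_zero_of_finite
            have h4 : 0 < Nat.card f.ker := Nat.card_pos
            have h5 : 2 ≤ f.ker.index := by omega
            calc Nat.card f.ker < Nat.card f.ker * 2 := by omega
              _ ≤ Nat.card f.ker * f.ker.index := Nat.mul_le_mul_left _ h5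
              _ = Nat.card G := h1
          refine ih (G := f.ker) (by omega) ?_ ⟨t, h⟩ ?_ ?_ ?_
          · exact subDihedral_of_injective f.ker.subtype f.ker.subtype_injective hG
          · intro h1
            exact ht1 (congrArg Subtype.val h1)
          · ext; exact htt
          · intro g; ext; exact htc g
        · exact oddClosed_of_hom hG t ht1 htt htc f h
      · -- `t` is not conjugate into `P ⊓ R`
        obtain ⟨f, hf⟩ := exists_hom_neg_one P ((P : Subgroup G) ⊓ R) inf_le_left hQi t
          (orderOf_eq_prime (by rw [pow_two, htt]) ht1) (by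
            intro g hg
            rw [htc g, mul_assoc, mul_inv_cancel, mul_one] at hg
            exact htR hg.2)
        exact oddClosed_of_hom hG t ht1 htt htc f hf

/-- A group whose Sylow 2-subgroup is dihedral is `SubDihedral`. -/
theorem subDihedral_of_sylow {G : Type*} [Group G] [Finite G] (S : Sylow 2 G) (n : ℕ)
    (e : (S : Subgroup G) ≃* DihedralGroup n) : SubDihedral G := by
  intro T hT
  obtain ⟨S', hS'⟩ := hT.exists_le_sylow
  let e' : (S' : Subgroup G) ≃* DihedralGroup n := (Sylow.equiv S' S).trans e
  -- the rotation subgroup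
  let R0 : Subgroup (DihedralGroup n) := Subgroup.zpowers (DihedralGroup.r 1)
  have hR0 : ∀ i : ZMod n, DihedralGroup.r i ∈ R0 := by
    intro i
    obtain ⟨k, rfl⟩ := ZMod.intCast_surjective i
    exact ⟨k, DihedralGroup.r_one_zpow k⟩
  let R1 : Subgroup (S' : Subgroup G) := R0.comap e'.toMonoidHom
  have hR1 : IsCyclic R1 :=
    isCyclic_of_injective (e'.toMonoidHom.subgroupComap R0)
      (fun a b hab => Subtype.ext (e'.injective (congrArg Subtype.val hab)))
  refine ⟨R1.map (S' : Subgroup G).subtype, ?_, ?_⟩
  · exact (R1.equivMapOfInjective (S' : Subgroup G).subtype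
      (S' : Subgroup G).subtype_injective).isCyclic.mp hR1
  · have key : ∀ (x : G) (hx : x ∈ T), x ∉ R1.map (S' : Subgroup G).subtype →
        ∃ i : ZMod n, e' ⟨x, hS' hx⟩ = DihedralGroup.sr i := by
      intro x hx hxR
      have h1 : e' ⟨x, hS' hx⟩ ∉ R0 := by
        intro h
        apply hxR
        exact ⟨⟨x, hS' hx⟩, h, rfl⟩
      rcases h2 : e' ⟨x, hS' hx⟩ with i | i
      · rw [h2] at h1
        exact absurd (hR0 i) h1
      · exact ⟨i, rfl⟩
    intro x hx hxR
    obtain ⟨i, hi⟩ := key x hx hxR
    constructor
    · have h1 : e' (⟨x, hS' hx⟩ * ⟨x, hS' hx⟩) = 1 := by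
        rw [map_mul, hi, DihedralGroup.sr_mul_sr, sub_self]; rfl
      have h2 := (map_eq_one_iff e' e'.injective).mp h1
      exact congrArg Subtype.val h2
    · intro y hy hyR
      obtain ⟨j, hj⟩ := key y hy hyR
      refine ⟨⟨x, hS' hx⟩ * ⟨y, hS' hy⟩, ?_, rfl⟩
      change e' (⟨x, hS' hx⟩ * ⟨y, hS' hy⟩) ∈ R0
      rw [map_mul, hi, hj, DihedralGroup.sr_mul_sr]
      exact hR0 _

end Cfsg.Agent.Classification.DihedralCentral
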