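import Mathlib
import Cfsg.Prelude.Def_CaseTheorems
import Cfsg.Agent.Classification.DihedralCentral
import Cfsg.Agent.TwoFusion.DihedralFusion
import Cfsg.Agent.Lib.Cores
import Cfsg.Agent.Lib.Dihedral

/-!
# Reductions for groups with dihedral Sylow 2-subgroups (Gorenstein–Walter, S0483)

`SubDihedral G` (from `DihedralCentral`): every 2-subgroup of `G` is a subgroup of a dihedral group.

* `isSimpleGroup_quotient`: if `X` is perfect with dihedral Sylow 2-subgroups then `X / O(X)` is
  simple (uses the odd order theorem, passed as a hypothesis `hFT`).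
-/

set_option autoImplicit false

namespace Cfsg.Agent.Classification.DihReduction

open Subgroup Cfsg.Agent.Classification.DihedralCentral Cfsg.Agent.Classification.TransferSign
open Cfsg.Agent.TwoFusion.DihedralFusion Cfsg.Agent.TwoFusion.DihedralSylow

universe u

/-- The odd order theorem in one universe. -/
def OddOrder : Prop := ∀ (H : Type u) [Group H] [Finite H], Odd (Nat.card H) → Group.IsSolvable H

theorem oddOrder_def : OddOrder.{u} ↔
    ∀ (H : Type u) [Group H] [Finite H], Odd (Nat.card H) → Group.IsSolvable H := Iff.rfl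

section basics

variable {G : Type*} [Group G]

/-- Elementary abelian 2-subgroups of a `SubDihedral` group have order at most `4`. -/
theorem card_le_four [Finite G] (hG : SubDihedral G) (E : Subgroup G) (hE : ∀ x ∈ E, x * x = 1) :
    Nat.card E ≤ 4 := by
  have hp : IsPGroup 2 E := by
    intro x
    refine ⟨1, ?_⟩
    rw [pow_one, sq]
    exact Subtype.ext (hE x x.2)
  obtain ⟨R, hR, hRE⟩ := hG E hp
  -- `E ⊓ R` has at most two elements
  have h1 : Nat.card (E ⊓ R : Subgroup G) ≤ 2 := by
    by_contra h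
    push Not at h
    have hnt : ∃ a b : (E ⊓ R : Subgroup G), a ≠ 1 ∧ b ≠ 1 ∧ a ≠ b := by
      by_contra hcon
      push Not at hcon
      have hall : ∀ a : (E ⊓ R : Subgroup G), a ≠ 1 → ∀ b, b = 1 ∨ b = a := by
        intro a ha b
        by_cases hb : b = 1
        · exact Or.inl hb
        · exact Or.inr (hcon a b ha hb).symm
      have : ∃ a : (E ⊓ R : Subgroup G), ∀ b, b = 1 ∨ b = a := by
        by_cases hex : ∃ a : (E ⊓ R : Subgroup G), a ≠ 1
        · obtain ⟨a, ha⟩ := hex
          exact ⟨a, hall a ha⟩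
        · push Not at hex
          exact ⟨1, fun b => Or.inl (hex b)⟩
      obtain ⟨a, ha⟩ := this
      have hsub : (Set.univ : Set (E ⊓ R : Subgroup G)) ⊆ {1, a} := by
        intro b _
        simpa using ha b
      have h2 := Set.ncard_le_ncard hsub (Set.toFinite _)
      rw [Set.ncard_univ] at h2
      have h3 : ({1, a} : Set (E ⊓ R : Subgroup G)).ncard ≤ 2 := by
        exact (Set.ncard_insert_le _ _).trans (by rw [Set.ncard_singleton])
      omega
    obtain ⟨a, b, ha, hb, hab⟩ := hnt
    apply hab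
    refine Subtype.ext (eq_of_isCyclic R hR a.2.2 b.2.2 (hE a a.2.1) (hE b b.2.1) ?_ ?_)
    · intro h; exact ha (Subtype.ext h)
    · intro h; exact hb (Subtype.ext h)
  by_cases hER : E ≤ R
  · rw [inf_eq_left.2 hER] at h1
    omega
  · obtain ⟨x, hxE, hxR⟩ := Set.not_subset.mp hER
    have hi : (E ⊓ R : Subgroup G).relIndex E = 2 := by
      rw [Subgroup.relIndex, Subgroup.index_eq_two_iff]
      refine ⟨⟨x, hxE⟩, fun b => ?_⟩
      have hb : (b : G) ∈ E := b.2
      have e1 : b ∈ (E ⊓ R).subgroupOf E ↔ (b : G) ∈ R := by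
        rw [Subgroup.mem_subgroupOf, Subgroup.mem_inf]; tauto
      have e2 : b * ⟨x, hxE⟩ ∈ (E ⊓ R).subgroupOf E ↔ (b : G) * x ∈ R := by
        rw [Subgroup.mem_subgroupOf, Subgroup.mem_inf]
        exact ⟨fun h => h.2, fun h => ⟨E.mul_mem hb hxE, h⟩⟩
      rw [e1, e2]
      by_cases hbR : (b : G) ∈ R
      · exact Or.inr ⟨hbR, fun h => hxR (by simpa using R.mul_mem (R.inv_mem hbR) h)⟩
      · exact Or.inl ⟨(hRE b hb hbR).2 x hxE hxR, hbR⟩
    have h2 := Subgroup.relIndex_mul_relIndex ⊥ (E ⊓ R) E bot_le inf_le_left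
    rw [Subgroup.relIndex_bot_left, Subgroup.relIndex_bot_left, hi] at h2
    omega

/-- `SubDihedral` passes to quotients by normal subgroups of odd order. -/
theorem subDihedral_quotient [Finite G] (hG : SubDihedral G) (N : Subgroup G) [N.Normal]
    (hN : Odd (Nat.card N)) : SubDihedral (G ⧸ N) := by
  intro T hT
  -- the preimage of `T` has a Sylow 2-subgroup mapping onto `T`
  obtain ⟨T', hT'⟩ := hT.exists_le_sylow
  obtain ⟨P, hP⟩ := Sylow.mapSurjective_surjective (QuotientGroup.mk'_surjective N) 2 T'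
  obtain ⟨R, hR, hRP⟩ := hG P P.2
  have hTP : T ≤ (P : Subgroup G).map (QuotientGroup.mk' N) := by
    rw [← Sylow.coe_mapSurjective (QuotientGroup.mk'_surjective N), hP]
    exact hT'
  have hPN : (P : Subgroup G) ⊓ N = ⊥ := by
    have h1 : IsPGroup 2 ((P : Subgroup G) ⊓ N : Subgroup G) := P.2.to_inf_left
    obtain ⟨k, hk⟩ := IsPGroup.iff_card.1 h1
    have h2 : Nat.card ((P : Subgroup G) ⊓ N : Subgroup G) ∣ Nat.card N :=
      Subgroup.card_dvd_of_le inf_le_right
    apply Subgroup.eq_bot_of_card_eq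
    rw [hk]
    rcases k with _ | k
    · rfl
    · exfalso
      rw [hk] at h2
      have h3 : 2 ∣ Nat.card N := (dvd_pow_self 2 (Nat.succ_ne_zero k)).trans h2
      exact (Nat.not_even_iff_odd.2 hN) (even_iff_two_dvd.2 h3)
  refine ⟨(R ⊓ P).map (QuotientGroup.mk' N), ?_, ?_⟩
  · have : IsCyclic R := hR
    have h1 : IsCyclic (R ⊓ P : Subgroup G) := Subgroup.isCyclic_of_le inf_le_left
    exact isCyclic_of_surjective ((QuotientGroup.mk' N).subgroupMap (R ⊓ P))
      ((QuotientGroup.mk' N).subgroupMap_surjective _)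
  · intro x hx hxR
    obtain ⟨a, ha, rfl⟩ := hTP hx
    have haR : a ∉ R := fun h => hxR ⟨a, ⟨h, ha⟩, rfl⟩
    obtain ⟨h1, h2⟩ := hRP a ha haR
    refine ⟨by rw [← map_mul, h1, map_one], fun y hy hyR => ?_⟩
    obtain ⟨b, hb, rfl⟩ := hTP hy
    have hbR : b ∉ R := fun h => hyR ⟨b, ⟨h, hb⟩, rfl⟩
    rw [← map_mul]
    exact ⟨a * b, ⟨h2 b hb hbR, mul_mem ha hb⟩, rfl⟩

/-- A `2`-subgroup of a `SubDihedral` group is cyclic or dihedral of order at least `4`. -/
theorem isCyclic_or_dihedral [Finite G] (hG : SubDihedral G) (T : Subgroup G)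
    (hT : IsPGroup 2 T) :
    IsCyclic T ∨ ∃ m : ℕ, 2 ≤ m ∧ Nonempty (T ≃* DihedralGroup m) := by
  obtain ⟨R, hR, hRT⟩ := hG T hT
  by_cases hTR : T ≤ R
  · left
    have : IsCyclic R := hR
    exact Subgroup.isCyclic_of_le hTR
  · obtain ⟨x, hxT, hxR⟩ := Set.not_subset.mp hTR
    have hx2 : x * x = 1 := (hRT x hxT hxR).1
    have hRc : IsCyclic R := hR
    have hc : IsCyclic (T ⊓ R : Subgroup G) := Subgroup.isCyclic_of_le inf_le_right
    obtain ⟨⟨r, hrT⟩, hr⟩ := hc.exists_generator
    have hrR : r ∈ R := hrT.2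
    have hrT' : r ∈ T := hrT.1
    have hgen : ∀ y ∈ T, y ∈ R → y ∈ zpowers r := by
      intro y hy hyR
      obtain ⟨k, hk⟩ := Subgroup.mem_zpowers_iff.1 (hr ⟨y, hy, hyR⟩)
      exact ⟨k, congrArg Subtype.val hk⟩
    have hinv : x * r * x = r⁻¹ := by
      have h1 : x * r ∉ R := fun h => hxR (by
        have := R.mul_mem h (R.inv_mem hrR)
        rwa [mul_assoc, mul_inv_cancel, mul_one] at this)
      have h2 := (hRT (x * r) (T.mul_mem hxT hrT') h1).1
      rw [← mul_assoc] at h2
      exact eq_inv_of_mul_eq_one_left h2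
    have hcl : Subgroup.closure ({r, x} : Set G) = T := by
      apply le_antisymm
      · rw [Subgroup.closure_le]
        rintro y (rfl | rfl)
        · exact hrT'
        · exact hxT
      · intro y hy
        by_cases hyR : y ∈ R
        · exact (Subgroup.zpowers_le.2 (Subgroup.subset_closure (by simp))) (hgen y hy hyR)
        · have h1 : y * x ∈ zpowers r := hgen _ (T.mul_mem hy hxT) ((hRT y hy hyR).2 x hxT hxR)
          have h2 : y = y * x * x := by rw [mul_assoc, hx2, mul_one]
          rw [h2]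
          exact mul_mem ((Subgroup.zpowers_le.2 (Subgroup.subset_closure (by simp))) h1)
            (Subgroup.subset_closure (by simp))
    by_cases ho : orderOf r = 1
    · left
      rw [orderOf_eq_one_iff] at ho
      subst ho
      rw [← hcl]
      have : Subgroup.closure ({1, x} : Set G) = zpowers x := by
        rw [Subgroup.zpowers_eq_closure]
        apply le_antisymm
        · rw [Subgroup.closure_le]
          rintro y (rfl | rfl)
          · exact one_mem _
          · exact Subgroup.subset_closure rfl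
        · exact Subgroup.closure_mono (by simp)
      rw [this]
      infer_instance
    · right
      refine ⟨orderOf r, ?_, ?_⟩
      · have := orderOf_pos r
        omega
      · have hx' : x ∉ zpowers r := fun h => hxR ((Subgroup.zpowers_le.2 hrR) h)
        obtain ⟨e⟩ := Cfsg.Agent.Lib.Dihedral.nonempty_mulEquiv_closure r x rfl hx2 hinv hx'
        exact ⟨(MulEquiv.subgroupCongr hcl).symm.trans e⟩

/-- A group with a cyclic Sylow 2-subgroup or all of whose odd elements form a subgroup: with trivial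
odd core it is a 2-group. -/
theorem isPGroup_of_oddClosed [Finite G] (h : OddClosed G) (hO : Cfsg.oddCore G = ⊥) :
    IsPGroup 2 G := by
  obtain ⟨N, hN, hodd, k, hk⟩ := exists_of_oddClosed h
  have h1 : N ≤ Cfsg.oddCore G :=
    Cfsg.Agent.Lib.Cores.le_pPrimeCore hN (Nat.coprime_two_right.2 hodd)
  rw [hO, le_bot_iff] at h1
  rw [h1, Subgroup.index_bot] at hk
  exact IsPGroup.of_card hk

/-- A perfect group has no subgroup of index `2`. -/
theorem index_ne_two_of_isPerfect [Group.IsPerfect G] (H : Subgroup G) : H.index ≠ 2 := by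
  intro h
  have hn : H.Normal := Subgroup.normal_of_index_eq_two h
  have hc : Nat.card (G ⧸ H) = 2 := h
  have hcyc : IsCyclic (G ⧸ H) := isCyclic_of_prime_card hc
  have hcomm : IsMulCommutative (G ⧸ H) := by
    let _ := IsCyclic.commGroup (α := G ⧸ H)
    infer_instance
  have hp : Group.IsPerfect (G ⧸ H) := inferInstance
  have hs : Subsingleton (G ⧸ H) := inferInstance
  rw [Nat.card_of_subsingleton (1 : G ⧸ H)] at hc
  omega

/-- Coordinates for a dihedral Sylow 2-subgroup. -/
theorem exists_dihData_sylow [Finite G] (S : Sylow 2 G) (n : ℕ) (hn : 2 ≤ n)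
    (hS : Nonempty ((S : Subgroup G) ≃* DihedralGroup n)) :
    ∃ m r z, DihData (S : Subgroup G) m r z := by
  obtain ⟨e⟩ := hS
  obtain ⟨k, hk⟩ := IsPGroup.iff_card.1 S.2
  have hc : Nat.card (S : Subgroup G) = 2 * n := by
    rw [Nat.card_congr e.toEquiv, DihedralGroup.nat_card]
  have hk' : 2 ^ k = 2 * n := by rw [← hc]; exact hk.symm
  have h2 : 2 ∣ n := by
    rcases k with _ | _ | k
    · omega
    · omega
    · rw [pow_succ, pow_succ] at hk'
      omega
  obtain ⟨q, rfl⟩ := h2
  obtain ⟨r, z, h⟩ := exists_dihData (S : Subgroup G) q (by omega) e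
  exact ⟨_, r, z, h⟩

/-- A dihedral Sylow subgroup is contained in every normal subgroup that contains all
involutions. -/
theorem le_of_involutions_mem {S : Subgroup G} {m : ℕ} {r z : G} (hD : DihData S m r z)
    (N : Subgroup G) (hN : ∀ u : G, u * u = 1 → u ∈ N) : S ≤ N := by
  intro s hs
  obtain ⟨t, htS, ht⟩ := hD.exists_refl
  by_cases hsr : s ∈ zpowers r
  · have h1 : s * t ∉ zpowers r := by
      intro h
      apply ht
      have := mul_mem (inv_mem hsr) h
      rwa [inv_mul_cancel_left] at this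
    have h2 := hN _ (hD.refl_sq (s * t) (mul_mem hs htS) h1)
    have h3 := hN _ (hD.refl_sq t htS ht)
    have h4 := mul_mem h2 (inv_mem h3)
    rwa [mul_assoc, mul_inv_cancel, mul_one] at h4
  · exact hN _ (hD.refl_sq s hs hsr)

/-- A perfect group with dihedral Sylow 2-subgroup has one class of involutions. -/
theorem isConj_of_isPerfect [Finite G] [Group.IsPerfect G] (S : Sylow 2 G) (n : ℕ) (hn : 2 ≤ n)
    (hS : Nonempty ((S : Subgroup G) ≃* DihedralGroup n)) (u v : G) (hu : orderOf u = 2)
    (hv : orderOf v = 2) : IsConj u v := by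
  obtain ⟨m, r, z, hD⟩ := exists_dihData_sylow S n hn hS
  have h1 := isConj_z_of_no_index_two S hD (fun H => index_ne_two_of_isPerfect H) u hu
  have h2 := isConj_z_of_no_index_two S hD (fun H => index_ne_two_of_isPerfect H) v hv
  exact h1.trans h2.symm

/-- A normal subgroup of even order of a perfect group with dihedral Sylow 2-subgroups is the whole
group (uses the odd order theorem). -/
theorem eq_top_of_even (hFT : ∀ (N : Subgroup G) [N.Normal], Odd (Nat.card (G ⧸ N)) →
    Group.IsSolvable (G ⧸ N)) [Finite G] [Group.IsPerfect G] (S : Sylow 2 G) (n : ℕ) (hn : 2 ≤ n)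
    (hS : Nonempty ((S : Subgroup G) ≃* DihedralGroup n)) (N : Subgroup G) [N.Normal]
    (hN : Even (Nat.card N)) : N = ⊤ := by
  have : Fact (Nat.Prime 2) := ⟨Nat.prime_two⟩
  obtain ⟨⟨u, huN⟩, hu⟩ := exists_prime_orderOf_dvd_card' (G := N) 2 (even_iff_two_dvd.1 hN)
  have hu' : orderOf u = 2 := by rw [← hu]; exact (Subgroup.orderOf_mk u huN).symm
  have hinv : ∀ v : G, v * v = 1 → v ∈ N := by
    intro v hv
    by_cases hv1 : v = 1
    · rw [hv1]; exact one_mem _
    · have hv2 : orderOf v = 2 := orderOf_eq_prime (by rw [sq, hv]) hv1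
      obtain ⟨g, hg⟩ := isConj_iff.1 (isConj_of_isPerfect S n hn hS u v hu' hv2)
      rw [← hg]
      exact Subgroup.Normal.conj_mem inferInstance u huN g
  obtain ⟨m, r, z, hD⟩ := exists_dihData_sylow S n hn hS
  have hSN := le_of_involutions_mem hD N hinv
  have hodd : Odd (Nat.card (G ⧸ N)) := by
    have h1 : N.index ∣ (S : Subgroup G).index := Subgroup.index_dvd_of_le hSN
    have h2 : ¬ 2 ∣ (S : Subgroup G).index := S.not_dvd_index
    rw [← Nat.not_even_iff_odd, even_iff_two_dvd]
    intro h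
    exact h2 (h.trans h1)
  have hsol := hFT N hodd
  by_contra hne
  have hnt : Nontrivial (G ⧸ N) := by
    rw [← Finite.one_lt_card_iff_nontrivial]
    have h1 : N.index ≠ 1 := fun h => hne (Subgroup.index_eq_one.1 h)
    have h2 : N.index ≠ 0 := Subgroup.index_ne_zero_of_finite
    have h3 : Nat.card (G ⧸ N) = N.index := rfl
    omega
  exact Group.IsPerfect.not_isSolvable (G ⧸ N) hsol

end basics

/-- **Reduction.** If `X` is perfect with dihedral Sylow 2-subgroups then `X / O(X)` is a simple
group with the same Sylow 2-subgroups. -/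
theorem isSimpleGroup_quotient (hFT : OddOrder.{u}) {X : Type u} [Group X] [Finite X]
    [Group.IsPerfect X] (S : Sylow 2 X) (n : ℕ) (hn : 2 ≤ n)
    (hS : Nonempty ((S : Subgroup X) ≃* DihedralGroup n)) :
    IsSimpleGroup (X ⧸ Cfsg.oddCore X) ∧
      ∃ S' : Sylow 2 (X ⧸ Cfsg.oddCore X), Nonempty ((S' : Subgroup (X ⧸ Cfsg.oddCore X)) ≃*
        DihedralGroup n) := by
  have : Fact (Nat.Prime 2) := ⟨Nat.prime_two⟩
  set N : Subgroup X := Cfsg.oddCore X with hNdef
  have hNodd : Odd (Nat.card N) := by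
    rw [← Nat.coprime_two_right]
    exact Cfsg.Agent.Lib.Cores.pPrimeCore_coprime 2
  -- the Sylow subgroup of the quotient
  let S' : Sylow 2 (X ⧸ N) := S.mapSurjective (QuotientGroup.mk'_surjective N)
  have hS' : Nonempty ((S' : Subgroup (X ⧸ N)) ≃* DihedralGroup n) := by
    obtain ⟨e⟩ := hS
    have hinj : Function.Injective ((QuotientGroup.mk' N).subgroupMap (S : Subgroup X)) := by
      rw [injective_iff_map_eq_one]
      intro a ha
      have h1 : (a : X) ∈ N := by
        rw [← QuotientGroup.eq_one_iff]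
        exact congrArg Subtype.val ha
      have h2 : (a : X) ∈ (S : Subgroup X) ⊓ N := ⟨a.2, h1⟩
      have hPN : (S : Subgroup X) ⊓ N = ⊥ := by
        have h1 : IsPGroup 2 ((S : Subgroup X) ⊓ N : Subgroup X) := S.2.to_inf_left
        obtain ⟨k, hk⟩ := IsPGroup.iff_card.1 h1
        have h2 : Nat.card ((S : Subgroup X) ⊓ N : Subgroup X) ∣ Nat.card N :=
          Subgroup.card_dvd_of_le inf_le_right
        apply Subgroup.eq_bot_of_card_eq
        rw [hk]
        rcases k with _ | k
        · rfl
        · exfalso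
          rw [hk] at h2
          have h3 : 2 ∣ Nat.card N := (dvd_pow_self 2 (Nat.succ_ne_zero k)).trans h2
          exact (Nat.not_even_iff_odd.2 hNodd) (even_iff_two_dvd.2 h3)
      rw [hPN, Subgroup.mem_bot] at h2
      exact Subtype.ext h2
    have e2 := MulEquiv.ofBijective _
      ⟨hinj, (QuotientGroup.mk' N).subgroupMap_surjective (S : Subgroup X)⟩
    exact ⟨e2.symm.trans e⟩
  refine ⟨?_, S', hS'⟩
  have hperf : Group.IsPerfect (X ⧸ N) := inferInstance
  have hcore : Cfsg.oddCore (X ⧸ N) = ⊥ := Cfsg.Agent.Lib.Cores.pPrimeCore_quotient_pPrimeCore 2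
  have hnt : Nontrivial (X ⧸ N) := by
    by_contra h
    rw [not_nontrivial_iff_subsingleton] at h
    obtain ⟨e⟩ := hS'
    have h1 : Nat.card (S' : Subgroup (X ⧸ N)) = 2 * n := by
      rw [Nat.card_congr e.toEquiv, DihedralGroup.nat_card]
    have h2 : Nat.card (S' : Subgroup (X ⧸ N)) = 1 := Nat.card_of_subsingleton 1
    omega
  refine { exists_pair_ne := hnt.exists_pair_ne, eq_bot_or_eq_top_of_normal := ?_ }
  intro K hK
  by_cases hKe : Even (Nat.card K)
  · right
    exact eq_top_of_even (fun L _ h => hFT _ h) S' n hn hS' K hKe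
  · left
    rw [Nat.not_even_iff_odd] at hKe
    rw [← le_bot_iff, ← hcore]
    exact Cfsg.Agent.Lib.Cores.le_pPrimeCore hK (Nat.coprime_two_right.2 hKe)

end Cfsg.Agent.Classification.DihReduction
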