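import Mathlib
import Cfsg.Prelude.Def_Characters
import Cfsg.Agent.Classification.BGDefs
import Cfsg.Agent.Classification.BGBasic

/-!
# Bender–Glauberman: orders and indices
-/

set_option autoImplicit false
set_option linter.unusedSectionVars false

namespace Cfsg.Agent.Classification.BGSylow

open DihedralGroup Cfsg.Agent.Classification.BGDefs Cfsg.Agent.Classification.BGBasic

/-- `|C(t)| = |ker π| * (2 n)`. -/
theorem card_centralizer {G : Type*} [Group G] {t : G} {n : ℕ}
    {π : (Subgroup.centralizer ({t} : Set G)) →* DihedralGroup n} (h : BGHyp t n π) :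
    Nat.card (Subgroup.centralizer ({t} : Set G)) = Nat.card π.ker * (2 * n) := by
  rw [← π.ker.card_mul_index, Subgroup.index_ker, MonoidHom.range_eq_top.mpr h.surj,
    Subgroup.card_top, DihedralGroup.nat_card]

/-- If a Sylow 2-subgroup has order `2 n` then `|G : C(t)|` is odd. -/
theorem odd_index {G : Type*} [Group G] [Finite G] {t : G} {n : ℕ}
    {π : (Subgroup.centralizer ({t} : Set G)) →* DihedralGroup n} (h : BGHyp t n π)
    (S : Sylow 2 G) (hS : Nat.card S = 2 * n) :
    Odd (Subgroup.centralizer ({t} : Set G)).index := by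
  have : Fact (Nat.Prime 2) := ⟨Nat.prime_two⟩
  have h1 := card_centralizer h
  have h2 := (Subgroup.centralizer ({t} : Set G)).card_mul_index
  have h3 := (S : Subgroup G).card_mul_index
  have h4 : ¬ 2 ∣ (S : Subgroup G).index := S.not_dvd_index
  have hn : 0 < 2 * n := by rw [← hS]; exact Nat.card_pos
  have h5 : Nat.card π.ker * (Subgroup.centralizer ({t} : Set G)).index =
      (S : Subgroup G).index := by
    apply Nat.eq_of_mul_eq_mul_left hn
    have h6 : Nat.card (S : Subgroup G) = 2 * n := hS
    rw [h6] at h3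
    rw [h3, ← h2, h1]
    ring
  rw [← Nat.not_even_iff_odd, even_iff_two_dvd]
  intro h7
  exact h4 (h5 ▸ h7.mul_left _)

/-- A subgroup containing `C(t)` has odd index. -/
theorem odd_index_of_le {G : Type*} [Group G] [Finite G] {t : G} {n : ℕ}
    {π : (Subgroup.centralizer ({t} : Set G)) →* DihedralGroup n} (h : BGHyp t n π)
    (S : Sylow 2 G) (hS : Nat.card S = 2 * n) (M : Subgroup G)
    (hM : Subgroup.centralizer ({t} : Set G) ≤ M) : Odd M.index :=
  Odd.of_dvd_nat (odd_index h S hS) (Subgroup.index_dvd_of_le hM)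

/-- The order of a Sylow subgroup isomorphic to a dihedral group. -/
theorem card_of_equiv {G : Type*} [Group G] {S : Subgroup G} {n : ℕ}
    (e : Nonempty (S ≃* DihedralGroup n)) : Nat.card S = 2 * n := by
  obtain ⟨e⟩ := e
  rw [Nat.card_congr e.toEquiv, DihedralGroup.nat_card]

/-- A subgroup of odd index has Sylow 2-subgroups isomorphic to those of `G`. -/
theorem exists_sylow_equiv {G : Type*} [Group G] [Finite G] (S : Sylow 2 G) (M : Subgroup G)
    (hM : Odd M.index) : ∃ Q : Sylow 2 M, Nonempty ((Q : Subgroup M) ≃* (S : Subgroup G)) := by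
  have : Fact (Nat.Prime 2) := ⟨Nat.prime_two⟩
  obtain ⟨Q⟩ : Nonempty (Sylow 2 M) := inferInstance
  -- the image of `Q` in `G` is a 2-group of full order
  have hQp : IsPGroup 2 ((Q : Subgroup M).map M.subtype) := Q.2.map _
  obtain ⟨R, hR⟩ := hQp.exists_le_sylow
  have hcard : Nat.card ((Q : Subgroup M).map M.subtype) = Nat.card R := by
    have h1 : Nat.card ((Q : Subgroup M).map M.subtype) = Nat.card (Q : Subgroup M) :=
      Subgroup.card_map_of_injective M.subtype_injective
    have h2 : Nat.card (Q : Subgroup M) = 2 ^ (Nat.card M).factorization 2 :=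
      Q.card_eq_multiplicity
    have h3 : Nat.card (R : Subgroup G) = 2 ^ (Nat.card G).factorization 2 :=
      R.card_eq_multiplicity
    have h4 : (Nat.card G).factorization 2 = (Nat.card M).factorization 2 := by
      rw [← M.card_mul_index, Nat.factorization_mul Nat.card_pos.ne'
        Subgroup.index_ne_zero_of_finite, Finsupp.add_apply]
      have h5 : M.index.factorization 2 = 0 := by
        apply Nat.factorization_eq_zero_of_not_dvd
        intro h6
        exact (Nat.not_even_iff_odd.mpr hM) (even_iff_two_dvd.mpr h6)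
      rw [h5, add_zero]
    rw [h1, h2]
    change _ = Nat.card (R : Subgroup G)
    rw [h3, h4]
  have heq : (Q : Subgroup M).map M.subtype = (R : Subgroup G) :=
    Subgroup.eq_of_le_of_card_ge hR hcard.ge
  refine ⟨Q, ⟨?_⟩⟩
  have e1 : (Q : Subgroup M) ≃* ((Q : Subgroup M).map M.subtype : Subgroup G) :=
    (Q : Subgroup M).equivMapOfInjective M.subtype M.subtype_injective
  have e2 : ((Q : Subgroup M).map M.subtype : Subgroup G) ≃* (R : Subgroup G) :=
    MulEquiv.subgroupCongr heq
  exact e1.trans (e2.trans (R.equiv S))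

end Cfsg.Agent.Classification.BGSylow
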