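import Mathlib
import Cfsg.Agent.Classification.BGDefs
import Cfsg.Agent.Classification.BGBasic
import Cfsg.Agent.Classification.BGOrder
import Cfsg.Agent.Classification.BGIsometry
import Cfsg.Agent.Classification.BGValues
import Cfsg.Agent.Classification.BGSylow
import Cfsg.Agent.CharactersDeep.CosetAverage

/-!
# Averages of class functions over subgroups of odd order normalised by a Sylow 2-subgroup

`avg Y X g = |Y|⁻¹ ∑_{y ∈ Y} X (y g)`.  If `X` is a character then `avg Y X` is the character of the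
normaliser of `Y` on the fixed points of `Y`.  If `X` is a class function of `G` whose values on the
elements of `C(t)` mapping to the rotation `r j` (`j ≠ 0`) only depend on `j` then
`X (y s) = X s` for all `y ∈ Y` and all 2-elements `s ≠ 1` normalising `Y`.
-/

set_option autoImplicit false
set_option linter.unusedSectionVars false

open Cfsg
open scoped ComplexConjugate Pointwise

namespace Cfsg.Agent.Classification.BGAverage

open Cfsg.Agent.Characters Cfsg.Agent.Classification.BGDefs Cfsg.Agent.Classification.BGOrder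
  Cfsg.Agent.Classification.BGBasic Cfsg.Agent.Classification.BGValues DihedralGroup

universe u

section Avg

variable {G : Type u} [Group G] [Finite G]

/-- The average of `X` over the coset `Y g`. -/
noncomputable def avg (Y : Subgroup G) (X : G → ℂ) (g : G) : ℂ :=
  (Nat.card Y : ℂ)⁻¹ * ∑ᶠ y : Y, X ((y : G) * g)

theorem avg_eq_sum (Y : Subgroup G) [Fintype Y] (X : G → ℂ) (g : G) :
    avg Y X g = (Nat.card Y : ℂ)⁻¹ * ∑ y : Y, X ((y : G) * g) := by
  rw [avg, finsum_eq_sum_of_fintype]

theorem avg_sub (Y : Subgroup G) (X Z : G → ℂ) (g : G) : avg Y (X - Z) g = avg Y X g - avg Y Z g := by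
  have : Fintype Y := Fintype.ofFinite _
  simp only [avg_eq_sum, Pi.sub_apply, Finset.sum_sub_distrib, mul_sub]

theorem avg_add (Y : Subgroup G) (X Z : G → ℂ) (g : G) : avg Y (X + Z) g = avg Y X g + avg Y Z g := by
  have : Fintype Y := Fintype.ofFinite _
  simp only [avg_eq_sum, Pi.add_apply, Finset.sum_add_distrib, mul_add]

theorem avg_neg (Y : Subgroup G) (X : G → ℂ) (g : G) : avg Y (-X) g = -avg Y X g := by
  have : Fintype Y := Fintype.ofFinite _
  simp only [avg_eq_sum, Pi.neg_apply, Finset.sum_neg_distrib, mul_neg]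

theorem avg_const (Y : Subgroup G) (X : G → ℂ) (g : G) (c : ℂ) (h : ∀ y : Y, X ((y : G) * g) = c) :
    avg Y X g = c := by
  have : Fintype Y := Fintype.ofFinite _
  have hc : (Nat.card Y : ℂ) ≠ 0 := Core.card_ne_zero_complex
  rw [avg_eq_sum, Finset.sum_congr rfl (fun y _ => h y), Finset.sum_const, Finset.card_univ,
    ← Nat.card_eq_fintype_card, nsmul_eq_mul, ← mul_assoc, inv_mul_cancel₀ hc, one_mul]

theorem avg_bot (X : G → ℂ) (g : G) : avg (⊥ : Subgroup G) X g = X g :=
  avg_const _ _ _ _ fun y => by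
    rw [Subgroup.mem_bot.1 y.2, one_mul]

/-- Averages over conjugate subgroups. -/
theorem avg_conj (Y : Subgroup G) {X : G → ℂ} (hX : IsClassFunction G X) (c g : G) :
    avg (Y.map (MulAut.conj c).toMonoidHom) X (c * g * c⁻¹) = avg Y X g := by
  have e : Y ≃ Y.map (MulAut.conj c).toMonoidHom :=
    (Subgroup.equivMapOfInjective Y _ (MulAut.conj c).injective).toEquiv
  have hc : Nat.card (Y.map (MulAut.conj c).toMonoidHom) = Nat.card Y :=
    (Nat.card_congr (Subgroup.equivMapOfInjective Y _ (MulAut.conj c).injective).toEquiv).symm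
  have : Fintype Y := Fintype.ofFinite _
  have : Fintype (Y.map (MulAut.conj c).toMonoidHom) := Fintype.ofFinite _
  rw [avg_eq_sum, avg_eq_sum, hc]
  congr 1
  symm
  refine Fintype.sum_equiv (Subgroup.equivMapOfInjective Y _ (MulAut.conj c).injective).toEquiv
    _ _ fun y => ?_
  rw [← hX ((y : G) * g) c]
  congr 1
  change c * ((y : G) * g) * c⁻¹ = (c * (y : G) * c⁻¹) * (c * g * c⁻¹)
  group

/-- The average of a character over `Y` is a character of every group mapping into the
normaliser of `Y`. -/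
theorem isCharacter_avg {X : G → ℂ} (hX : IsCharacter G X) (Y : Subgroup G) {D : Type*} [Group D]
    (φ : D →* G) (hφ : ∀ d, φ d ∈ Subgroup.normalizer (Y : Set G)) :
    IsCharacter D (fun d => avg Y X (φ d)) := by
  set N : Subgroup G := Subgroup.normalizer (Y : Set G) with hN
  have hYN : Y ≤ N := Subgroup.le_normalizer
  have : (Y.subgroupOf N).Normal := Subgroup.normal_in_normalizer
  have : Fintype Y := Fintype.ofFinite _
  have : Fintype (Y.subgroupOf N) := Fintype.ofFinite _
  have h1 : IsCharacter N (fun x : N => X x) := Core.isCharacter_comp N.subtype hX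
  have h2 := CharactersDeep.CosetAverage.isCharacter_cosetAverage (Y.subgroupOf N) h1
  have hc : Nat.card (Y.subgroupOf N) = Nat.card Y :=
    Nat.card_congr (Subgroup.subgroupOfEquivOfLe hYN).toEquiv
  have h3 : (fun g : N => (Nat.card (Y.subgroupOf N) : ℂ)⁻¹ *
      ∑ y : Y.subgroupOf N, X (((y : N) * g : N) : G)) = fun g : N => avg Y X (g : G) := by
    funext g
    rw [avg_eq_sum, hc]
    congr 1
    refine Fintype.sum_equiv (Subgroup.subgroupOfEquivOfLe hYN).toEquiv _ _ fun y => ?_
    rfl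
  have h4 : IsCharacter N (fun g : N => avg Y X (g : G)) := h3 ▸ h2
  exact Core.isCharacter_comp (φ.codRestrict N hφ) h4

/-- The dimension of the fixed points is a natural number. -/
theorem avg_one_nat {X : G → ℂ} (hX : IsCharacter G X) (Y : Subgroup G) :
    ∃ k : ℕ, avg Y X 1 = k := by
  have h := isCharacter_avg hX Y (D := Unit) (1 : Unit →* G) (fun _ => one_mem _)
  obtain ⟨k, hk⟩ := Core.isCharacter_apply_one h
  exact ⟨k, hk⟩

end Avg

section TwoPart

variable {G : Type u} [Group G] {t : G} {n : ℕ} [NeZero n]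
  {π : (Subgroup.centralizer ({t} : Set G)) →* DihedralGroup n}

/-- `X` is equal to `F j` at the elements of `C(t)` mapping to the rotation `r j`, `j ≠ 0`. -/
def Vals (π : (Subgroup.centralizer ({t} : Set G)) →* DihedralGroup n) (X : G → ℂ)
    (F : ZMod n → ℂ) : Prop :=
  ∀ (x : Subgroup.centralizer ({t} : Set G)) (j : ZMod n), j ≠ 0 → π x = r j → X x = F j

/-- An element of odd order in the dihedral group of order a power of two is trivial. -/
theorem eq_one_of_odd (h : BGHyp t n π) {d : DihedralGroup n} {k : ℕ} (hk : Odd k)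
    (hd : d ^ k = 1) : d = 1 := by
  obtain ⟨m, hm, hn⟩ := h.pow
  have h1 : d ^ 2 ^ (m + 1) = 1 := by
    have h2 : Nat.card (DihedralGroup n) = 2 ^ (m + 1) := by
      rw [DihedralGroup.nat_card, hn, pow_succ']
    rw [← h2]
    exact pow_card_eq_one'
  have h2 : orderOf d ∣ 2 ^ (m + 1) := orderOf_dvd_of_pow_eq_one h1
  have h3 : orderOf d ∣ k := orderOf_dvd_of_pow_eq_one hd
  have h4 : Nat.Coprime (2 ^ (m + 1)) k := Nat.Coprime.pow_left _ (Nat.coprime_two_left.2 hk)
  have h5 := Nat.dvd_gcd h2 h3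
  rw [h4] at h5
  exact orderOf_eq_one_iff.1 (Nat.dvd_one.1 h5)

theorem exists_pow_orderOf_two {a : G} {k : ℕ} (ha : a ^ 2 ^ k = 1) (ha1 : a ≠ 1) :
    ∃ l : ℕ, orderOf (a ^ l) = 2 := by
  obtain ⟨c, -, hc⟩ := (Nat.dvd_prime_pow Nat.prime_two).mp (orderOf_dvd_of_pow_eq_one ha)
  have hc0 : c ≠ 0 := by
    rintro rfl
    rw [pow_zero, orderOf_eq_one_iff] at hc
    exact ha1 hc
  obtain ⟨c, rfl⟩ := Nat.exists_eq_succ_of_ne_zero hc0
  refine ⟨2 ^ c, ?_⟩
  rw [orderOf_pow_of_dvd (by positivity) (by rw [hc]; exact pow_dvd_pow 2 (Nat.le_succ c)), hc,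
    Nat.pow_div (Nat.le_succ c) (by norm_num), Nat.succ_sub (le_refl c), Nat.sub_self, pow_one]

/-- A class function with values only depending on the image of elements under `π` has the same
value at an element of even order and its 2-part. -/
theorem Vals.two_part (h : BGHyp t n π) {X : G → ℂ} {F : ZMod n → ℂ} (hX : IsClassFunction G X)
    (hF : Vals π X F) {a u : G} (hau : Commute a u) {k : ℕ} (ha : a ^ 2 ^ k = 1) (ha1 : a ≠ 1)
    {l : ℕ} (hl : Odd l) (hu : u ^ l = 1) : X (a * u) = X a := by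
  obtain ⟨e, he⟩ := exists_pow_orderOf_two ha ha1
  obtain ⟨c, hc⟩ := isConj_iff.1 (h.one_class _ he)
  -- conjugate everything by `c⁻¹`
  set a' : G := c⁻¹ * a * c with ha'
  set u' : G := c⁻¹ * u * c with hu'
  have hta : t ∈ Subgroup.zpowers a' := by
    have h1 : a' ^ e = t := by
      have : a' ^ e = c⁻¹ * a ^ e * c := by
        have := conj_pow (a := c⁻¹) (b := a) (i := e)
        rw [inv_inv] at this
        exact this
      rw [this, ← hc]
      group
    rw [← h1]
    exact Subgroup.npow_mem_zpowers _ _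
  have hau' : Commute a' u' := by
    change (c⁻¹ * a * c) * (c⁻¹ * u * c) = (c⁻¹ * u * c) * (c⁻¹ * a * c)
    calc (c⁻¹ * a * c) * (c⁻¹ * u * c) = c⁻¹ * (a * u) * c := by group
      _ = c⁻¹ * (u * a) * c := by rw [hau.eq]
      _ = _ := by group
  have haC : a' ∈ Subgroup.centralizer ({t} : Set G) :=
    BGIsometry.mem_centralizer_of_mem_zpowers hta
  have huC : u' ∈ Subgroup.centralizer ({t} : Set G) := by
    obtain ⟨z, hz⟩ := Subgroup.mem_zpowers_iff.1 hta
    rw [Subgroup.mem_centralizer_singleton_iff, ← hz]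
    exact (hau'.symm.zpow_right z).eq
  obtain ⟨j, hj, hj2⟩ := rot_of_mem_zpowers h (x := ⟨a', haC⟩) hta
  have hu1 : π ⟨u', huC⟩ = 1 := by
    refine eq_one_of_odd h hl ?_
    rw [← map_pow]
    have : (⟨u', huC⟩ : Subgroup.centralizer ({t} : Set G)) ^ l = 1 := by
      apply Subtype.ext
      change u' ^ l = 1
      have h2 := conj_pow (a := c⁻¹) (b := u) (i := l)
      rw [inv_inv, hu] at h2
      rw [hu', h2]
      group
    rw [this, map_one]
  have h1 : X a' = F j := hF ⟨a', haC⟩ j hj hj2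
  have h2 : X (a' * u') = F j :=
    hF (⟨a', haC⟩ * ⟨u', huC⟩) j hj (by rw [map_mul, hj2, hu1, mul_one])
  have h3 : X a = X a' := by
    have := hX a c⁻¹
    rw [inv_inv] at this
    exact this.symm
  have h4 : X (a * u) = X (a' * u') := by
    have := hX (a * u) c⁻¹
    rw [inv_inv] at this
    rw [← this]
    congr 1
    rw [ha', hu']
    group
  rw [h4, h3, h1, h2]

/-- `X (y s) = X s` for `y ∈ Y` of odd order and `s ≠ 1` a 2-element normalising `Y`. -/
theorem Vals.mul_left [Finite G] (h : BGHyp t n π) {X : G → ℂ} {F : ZMod n → ℂ}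
    (hX : IsClassFunction G X) (hF : Vals π X F) {Y : Subgroup G} (hY : Odd (Nat.card Y)) {s : G}
    (hs : s ∈ Subgroup.normalizer (Y : Set G)) {k : ℕ} (hs2 : s ^ 2 ^ k = 1) (hs1 : s ≠ 1) {y : G}
    (hy : y ∈ Y) : X (y * s) = X s := by
  set N : Subgroup G := Subgroup.normalizer (Y : Set G) with hN
  have hYN : Y ≤ N := Subgroup.le_normalizer
  have hnorm : (Y.subgroupOf N).Normal := Subgroup.normal_in_normalizer
  set q : N →* N ⧸ (Y.subgroupOf N) := QuotientGroup.mk' (Y.subgroupOf N) with hq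
  have hker : q.ker = Y.subgroupOf N := QuotientGroup.ker_mk' _
  have hcard : Nat.card (Y.subgroupOf N) = Nat.card Y :=
    Nat.card_congr (Subgroup.subgroupOfEquivOfLe hYN).toEquiv
  have hodd : Odd (Nat.card q.ker) := by rw [hker, hcard]; exact hY
  have hcop : Nat.Coprime (2 ^ k) (Nat.card Y) :=
    Nat.Coprime.pow_left _ (Nat.coprime_two_left.2 hY)
  obtain ⟨e, he1, he2⟩ := Nat.chineseRemainder hcop 1 0
  let s' : N := ⟨s, hs⟩
  let y' : N := ⟨y, hYN hy⟩
  let g : N := y' * s'
  have hs2' : s' ^ 2 ^ k = 1 := Subtype.ext hs2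
  have hqy : q y' = 1 := by
    have : y' ∈ q.ker := by rw [hker]; exact hy
    exact this
  have hqg : q g = q s' := by rw [map_mul, hqy, one_mul]
  -- `q s' ^ e = q s'`
  have hqe : q s' ^ e = q s' := by
    have h1 : (q s') ^ 2 ^ k = 1 := by rw [← map_pow, hs2', map_one]
    have h2 : (q s') ^ e = (q s') ^ 1 :=
      pow_eq_pow_iff_modEq.2 (he1.of_dvd (orderOf_dvd_of_pow_eq_one h1))
    rw [h2, pow_one]
  have hqa : q (g ^ e) = q s' := by rw [map_pow, hqg, hqe]
  have ha2 : (g ^ e) ^ 2 ^ k = 1 := by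
    have h1 : g ^ 2 ^ k ∈ q.ker := by
      rw [MonoidHom.mem_ker, map_pow, hqg, ← map_pow, hs2', map_one]
    have h2 : (g ^ 2 ^ k) ^ Nat.card q.ker = 1 :=
      congrArg Subtype.val (pow_card_eq_one' (x := (⟨g ^ 2 ^ k, h1⟩ : q.ker)))
    obtain ⟨c, hc⟩ := (Nat.modEq_zero_iff_dvd).1 he2
    rw [hker, hcard] at h2
    rw [hc, ← pow_mul, show Nat.card Y * c * 2 ^ k = 2 ^ k * Nat.card Y * c by ring, pow_mul,
      pow_mul, h2, one_pow]
  have hconj : IsConj (g ^ e) s' := isConj_of_ker_odd q hodd _ _ k ha2 hs2' hqa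
  obtain ⟨c, hc⟩ := isConj_iff.1 hconj
  have hXa : X ((g ^ e : N) : G) = X s := by
    have h1 : s = (c : G) * ((g ^ e : N) : G) * (c : G)⁻¹ := (congrArg Subtype.val hc).symm
    rw [h1]
    exact (hX _ _).symm
  have ha1 : ((g ^ e : N) : G) ≠ 1 := by
    intro h1
    apply hs1
    have h2 : s = (c : G) * ((g ^ e : N) : G) * (c : G)⁻¹ := (congrArg Subtype.val hc).symm
    rw [h2, h1]
    group
  -- the odd part
  set u : N := (g ^ e)⁻¹ * g with hu
  have huk : u ∈ q.ker := by
    rw [MonoidHom.mem_ker, map_mul, map_inv, hqa, hqg, inv_mul_cancel]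
  have hul : u ^ Nat.card Y = 1 := by
    have h2 : u ^ Nat.card q.ker = 1 :=
      congrArg Subtype.val (pow_card_eq_one' (x := (⟨u, huk⟩ : q.ker)))
    rwa [hker, hcard] at h2
  have hcomm : Commute ((g ^ e : N) : G) (u : G) := by
    have h1 : Commute (g ^ e) u :=
      ((Commute.refl (g ^ e)).inv_right).mul_right ((Commute.refl g).pow_left e)
    exact congrArg Subtype.val h1.eq
  have h5 := hF.two_part h hX hcomm (k := k) (congrArg Subtype.val ha2) ha1 hY
    (congrArg Subtype.val hul)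
  have h6 : ((g ^ e : N) : G) * (u : G) = y * s := by
    have : g ^ e * u = g := by rw [hu]; group
    exact congrArg Subtype.val this
  rw [h6] at h5
  rw [h5, hXa]

/-- The average over `Y` at a nontrivial 2-element normalising `Y`. -/
theorem Vals.avg [Finite G] (h : BGHyp t n π) {X : G → ℂ} {F : ZMod n → ℂ}
    (hX : IsClassFunction G X) (hF : Vals π X F) {Y : Subgroup G} (hY : Odd (Nat.card Y)) {s : G}
    (hs : s ∈ Subgroup.normalizer (Y : Set G)) {k : ℕ} (hs2 : s ^ 2 ^ k = 1) (hs1 : s ≠ 1) :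
    avg Y X s = X s :=
  avg_const _ _ _ _ fun y => hF.mul_left h hX hY hs hs2 hs1 y.2

end TwoPart

section Section

variable {G : Type u} [Group G] {t : G} {n : ℕ} [NeZero n]
  {π : (Subgroup.centralizer ({t} : Set G)) →* DihedralGroup n}

/-- A section of `π`. -/
theorem exists_section [Finite G] (h : BGHyp t n π) :
    ∃ σ : DihedralGroup n →* Subgroup.centralizer ({t} : Set G), ∀ d, π (σ d) = d := by
  obtain ⟨S, -, hb⟩ := exists_sylow h
  let e : S ≃* DihedralGroup n := MulEquiv.ofBijective (π.comp S.subtype) hb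
  refine ⟨S.subtype.comp e.symm.toMonoidHom, fun d => ?_⟩
  exact e.apply_symm_apply d

/-- Values of `X` at the image of a section. -/
theorem Vals.apply_sr (h : BGHyp t n π) {X : G → ℂ} {F : ZMod n → ℂ} (hX : IsClassFunction G X)
    (hF : Vals π X F) (σ : DihedralGroup n →* Subgroup.centralizer ({t} : Set G))
    (hσ : ∀ d, π (σ d) = d) (j : ZMod n) :
    X (σ (sr j)) = F ((n / 2 : ℕ) : ZMod n) := by
  have h1 : orderOf ((σ (sr j) : Subgroup.centralizer ({t} : Set G)) : G) = 2 := by
    rw [Subgroup.orderOf_coe]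
    apply orderOf_eq_prime
    · rw [sq, ← map_mul, sr_mul_self, map_one]
    · intro h2
      have h3 := congrArg π h2
      rw [hσ, map_one, DihedralGroup.one_def] at h3
      cases h3
  obtain ⟨c, hc⟩ := isConj_iff.1 (h.one_class _ h1)
  rw [← hc, hX t c]
  exact hF (tt t) _ (half_ne_zero (two_dvd h)) (map_tt h)

/-- Every Sylow 2-subgroup is conjugate to the image of a section. -/
theorem exists_conj_section [Finite G] (h : BGHyp t n π)
    (σ : DihedralGroup n →* Subgroup.centralizer ({t} : Set G)) (hσ : ∀ d, π (σ d) = d)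
    (P : Sylow 2 G) (Y : Subgroup G) (hP : (P : Subgroup G) ≤ Subgroup.normalizer (Y : Set G)) :
    ∃ c : G, ∀ d, ((σ d : Subgroup.centralizer ({t} : Set G)) : G) ∈
      Subgroup.normalizer ((Y.map (MulAut.conj c).toMonoidHom : Subgroup G) : Set G) := by
  have : Fact (Nat.Prime 2) := ⟨Nat.prime_two⟩
  set ι : DihedralGroup n →* G := (Subgroup.centralizer ({t} : Set G)).subtype.comp σ with hι
  have hinj : Function.Injective ι := by
    intro a b hab
    have h1 : σ a = σ b := Subtype.ext hab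
    rw [← hσ a, ← hσ b, h1]
  have hpg : IsPGroup 2 ι.range := by
    obtain ⟨m, hm, hn⟩ := h.pow
    refine IsPGroup.of_card (n := m + 1) ?_
    rw [← Nat.card_congr (MonoidHom.ofInjective hinj).toEquiv, DihedralGroup.nat_card, hn, pow_succ']
  obtain ⟨Q, hQ⟩ := hpg.exists_le_sylow
  obtain ⟨c, hc⟩ := MulAction.exists_smul_eq G P Q
  refine ⟨c, fun d => ?_⟩
  have h1 : ι d ∈ (Q : Subgroup G) := hQ ⟨d, rfl⟩
  rw [← hc] at h1
  have h2 : c⁻¹ * ι d * c ∈ (P : Subgroup G) := by
    have h3 : ι d ∈ (MulAut.conj c • (P : Subgroup G) : Subgroup G) := h1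
    rw [Subgroup.mem_pointwise_smul_iff_inv_smul_mem] at h3
    simpa [MulAut.smul_def] using h3
  have h4 := hP h2
  rw [Subgroup.mem_normalizer_iff] at h4 ⊢
  intro x
  have h5 := h4 (c⁻¹ * x * c)
  have e1 : ∀ z : G, z ∈ (Y.map (MulAut.conj c).toMonoidHom : Subgroup G) ↔ c⁻¹ * z * c ∈ Y := by
    intro z
    constructor
    · rintro ⟨w, hw, rfl⟩
      have : c⁻¹ * (MulAut.conj c).toMonoidHom w * c = w := by
        change c⁻¹ * (c * w * c⁻¹) * c = w
        group
      rw [this]
      exact hw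
    · intro hz
      exact ⟨_, hz, by change c * (c⁻¹ * z * c) * c⁻¹ = z; group⟩
  rw [e1, e1, h5]
  have e2 : c⁻¹ * ι d * c * (c⁻¹ * x * c) * (c⁻¹ * ι d * c)⁻¹ = c⁻¹ * (ι d * x * (ι d)⁻¹) * c := by
    group
  rw [e2]
  rfl

end Section

end Cfsg.Agent.Classification.BGAverage
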