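import Mathlib
import Cfsg.Agent.Classification.BGBlock
import Cfsg.Agent.Classification.BGAverage
import Cfsg.Agent.Blocks.PrincipalKernel

/-!
# Degrees and fixed points of the Bender–Glauberman characters

`G` finite, `h : BGHyp t n π`, `4 ≤ n` (so `|S| = 2 n ≥ 8`).

* `BGChars`: the characters `X₁, X₂, X₃, T i` of `G` with their degrees `f, g₂, g₃, 1 + f`, their
  values, the order formula, the second order formula `order₂` and the relation `ratio` between
  `k₀, k₁` (the numbers of noncentral involutions of `C(t)` over the reflections of parity 0, 1)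
  and the degrees; `exists_chars`: they exist.
* `fixed_dims`: for `Y` of odd order normalised by a Sylow 2-subgroup:
  `avg Y X₁ = 1 + 2 n m`, `avg Y X₂ = 1 + n + 2 n m₂`, `avg Y X₃ = 1 + n + 2 n m₃`,
  `avg Y (T i) = 2 + 2 n m`, `m = 1 + m₂ + m₃`; if `f > 0` then `1 ≤ m`, if `f < 0` then `m ≤ -1`;
  if `g₂ > 0` then `0 ≤ m₂`, if `g₂ < 0` then `m₂ ≤ -1`, ...; and `|avg Y X₁| ≤ |f|` etc.
* `eq_bot_of_avg_eq`: if `G` is simple and `avg Y X₁ = f` then `Y = ⊥`;
  `eq_bot_of_small`: if `f = 1 ± 2 n` then `Y = ⊥`.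
-/

set_option autoImplicit false
set_option linter.unusedSectionVars false

open Cfsg
open scoped ComplexConjugate Pointwise

namespace Cfsg.Agent.Classification.BGDegrees

open Cfsg.Agent.Characters Cfsg.Agent.Classification.BGDefs Cfsg.Agent.Classification.BGOrder
  Cfsg.Agent.Classification.BGBasic Cfsg.Agent.Classification.BGValues
  Cfsg.Agent.Classification.BGBlockB0 Cfsg.Agent.Classification.BGSplit
  Cfsg.Agent.Classification.BGAverage DihedralGroup

universe u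

section Formula

variable {G : Type u} [Group G] [Fintype G] {t : G} {n : ℕ} [NeZero n]
  {π : (Subgroup.centralizer ({t} : Set G)) →* DihedralGroup n}

/-- The second order formula. -/
theorem second_formula (h : BGHyp t n π) {X₁ X₂ X₃ : G → ℂ} (s₁ : SignedIrr X₁)
    (s₂ : SignedIrr X₂) (s₃ : SignedIrr X₃)
    (hmu : indFun (Subgroup.centralizer ({t} : Set G)) (fun x => bmu (π x)) = 1 + X₁ - X₂ - X₃)
    {f g₂ g₃ : ℤ} (h1 : X₁ 1 = f) (h2 : X₂ 1 = g₂) (h3 : X₃ 1 = g₃) (hg : g₂ + g₃ = 1 + f)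
    (v1 : X₁ t = 1) (v2 : X₂ t = 1) (v3 : X₃ t = 1) :
    ((Subgroup.centralizer ({t} : Set G)).index : ℤ) * (1 + f) * (g₂ * g₃ - f) =
      8 * (kcount (two_dvd h) π 0 : ℤ) * (kcount (two_dvd h) π 1 : ℤ) * (f * g₂ * g₃) := by
  have hf : (f : ℂ) ≠ 0 := by rw [← h1]; exact s₁.apply_one_ne_zero
  have hg2 : (g₂ : ℂ) ≠ 0 := by rw [← h2]; exact s₂.apply_one_ne_zero
  have hg3 : (g₃ : ℂ) ≠ 0 := by rw [← h3]; exact s₃.apply_one_ne_zero
  have key := pair_formula h bmu bmu_one bmu_sr (fun p => if p = 0 then 0 else 2 * (n : ℂ))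
    (sum_bmu_parity (two_dvd h)) (Finset.univ : Finset (Fin 4)) ![1, 1, -1, -1] ![1, X₁, X₂, X₃]
    (by
      intro j _
      fin_cases j
      · exact signedIrr_one
      · exact s₁
      · exact s₂
      · exact s₃)
    (by
      rw [hmu]
      funext g
      simp [Fin.sum_univ_four]
      ring)
  simp only [Fin.sum_univ_four, Matrix.cons_val_zero, Matrix.cons_val_one, Matrix.cons_val,
    Pi.one_apply, h1, h2, h3, v1, v2, v3, if_true, mul_zero, zero_add] at key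
  rw [if_neg (by decide)] at key
  have hn : (n : ℂ) ≠ 0 := Nat.cast_ne_zero.mpr (NeZero.ne n)
  have hgC : (g₂ : ℂ) + g₃ = 1 + f := by exact_mod_cast hg
  have h5 : ((Subgroup.centralizer ({t} : Set G)).index : ℂ) * (1 + f) * (g₂ * g₃ - f) =
      8 * (kcount (two_dvd h) π 0 : ℂ) * (kcount (two_dvd h) π 1 : ℂ) * (f * g₂ * g₃) := by
    have h6 : (1 : ℂ) * (1 ^ 2 / 1) + 1 * (1 ^ 2 / (f : ℂ)) + -1 * (1 ^ 2 / (g₂ : ℂ)) +
        -1 * (1 ^ 2 / (g₃ : ℂ)) = (1 + f) * (g₂ * g₃ - f) / (f * g₂ * g₃) := by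
      field_simp
      linear_combination (-(f : ℂ)) * hgC
    rw [h6] at key
    field_simp at key
    linear_combination key
  exact_mod_cast h5

/-- The Bender–Glauberman characters. -/
structure BGChars (h : BGHyp t n π) (X₁ X₂ X₃ : G → ℂ) (T : ZMod n → G → ℂ) (f g₂ g₃ : ℤ) :
    Prop where
  s₁ : SignedIrr X₁
  s₂ : SignedIrr X₂
  s₃ : SignedIrr X₃
  sT : ∀ i, i + i ≠ 0 → SignedIrr (T i)
  ind_bth : ∀ i, i + i ≠ 0 →
    indFun (Subgroup.centralizer ({t} : Set G)) (fun x => bth i (π x)) = 1 + X₁ - T i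
  ind_bmu : indFun (Subgroup.centralizer ({t} : Set G)) (fun x => bmu (π x)) = 1 + X₁ - X₂ - X₃
  ortho : Ortho n X₁ X₂ X₃ T
  one₁ : X₁ 1 = f
  one₂ : X₂ 1 = g₂
  one₃ : X₃ 1 = g₃
  oneT : ∀ i, i + i ≠ 0 → T i 1 = 1 + f
  f_ne : f ≠ 1
  f_dvd : (2 * n : ℤ) ∣ f - 1
  g_add : g₂ + g₃ = 1 + f
  g₂_ne : g₂ ≠ 0
  g₃_ne : g₃ ≠ 0
  vals₁ : Vals π X₁ (fun _ => 1)
  vals₂ : Vals π X₂ (fun j => mu (r j))
  vals₃ : Vals π X₃ (fun j => mu (r j))
  valsT : ∀ i, i + i ≠ 0 → Vals π (T i) (fun j => theta i (r j))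
  /-- `|G : C(t)| (f - 1)² = 2 (k₀ + k₁)² f (f + 1)` -/
  order : ((Subgroup.centralizer ({t} : Set G)).index : ℤ) * (f - 1) ^ 2 =
    2 * (kcount (two_dvd h) π 0 + kcount (two_dvd h) π 1 : ℤ) ^ 2 * (f * (f + 1))
  /-- `|G : C(t)| (1 + f) (g₂ g₃ - f) = 8 k₀ k₁ f g₂ g₃` -/
  order₂ : ((Subgroup.centralizer ({t} : Set G)).index : ℤ) * (1 + f) * (g₂ * g₃ - f) =
    8 * (kcount (two_dvd h) π 0 : ℤ) * (kcount (two_dvd h) π 1 : ℤ) * (f * g₂ * g₃)

variable {h : BGHyp t n π} {X₁ X₂ X₃ : G → ℂ} {T : ZMod n → G → ℂ} {f g₂ g₃ : ℤ}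

theorem BGChars.f_ne_zero (H : BGChars h X₁ X₂ X₃ T f g₂ g₃) : f ≠ 0 := by
  have := H.s₁.apply_one_ne_zero
  rw [H.one₁] at this
  exact_mod_cast this

/-- **(C8)** `(k₀ - k₁)² g₂ g₃ (f - 1)² = (k₀ + k₁)² f (g₂ - g₃)²` -/
theorem BGChars.ratio (H : BGChars h X₁ X₂ X₃ T f g₂ g₃) :
    (kcount (two_dvd h) π 0 - kcount (two_dvd h) π 1 : ℤ) ^ 2 * (g₂ * g₃) * (f - 1) ^ 2 =
      (kcount (two_dvd h) π 0 + kcount (two_dvd h) π 1 : ℤ) ^ 2 * f * (g₂ - g₃) ^ 2 := by
  have h1 := H.order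
  have h2 := H.order₂
  have hf := H.f_ne_zero
  have hg := H.g_add
  generalize ((kcount (two_dvd h) π 0 : ℕ) : ℤ) = a at h1 h2 ⊢
  generalize ((kcount (two_dvd h) π 1 : ℕ) : ℤ) = b at h1 h2 ⊢
  generalize (((Subgroup.centralizer ({t} : Set G)).index : ℕ) : ℤ) = N at h1 h2
  -- multiply `h2` by `(f-1)²`
  have h3 : 2 * f * ((a + b) ^ 2 * (f + 1) ^ 2 * (g₂ * g₃ - f)) =
      2 * f * (4 * a * b * (g₂ * g₃) * (f - 1) ^ 2) := by
    linear_combination (f - 1) ^ 2 * h2 - (1 + f) * (g₂ * g₃ - f) * h1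
  have h4 := mul_left_cancel₀ (mul_ne_zero two_ne_zero hf) h3
  have h5 : (f + 1) ^ 2 = (g₂ + g₃) ^ 2 := by rw [hg]; ring
  linear_combination h4 + (a + b) ^ 2 * f * h5

theorem mu_half (h2 : 4 ∣ n) : mu (r ((n / 2 : ℕ) : ZMod n)) = (1 : ℂ) := by
  rw [mu_r, e_eq_one_iff]
  obtain ⟨c, hc⟩ := h2
  rw [← Nat.cast_mul, ZMod.natCast_eq_zero_iff]
  refine ⟨c, ?_⟩
  have : n / 2 = 2 * c := by omega
  rw [this, hc]
  ring

theorem four_dvd (h : BGHyp t n π) (hn : 4 ≤ n) : 4 ∣ n := by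
  obtain ⟨m, hm, hn2⟩ := h.pow
  have : 2 ≤ m := by
    by_contra h1
    have : m ≤ 1 := by omega
    have := Nat.pow_le_pow_right (n := 2) (by norm_num) this
    omega
  rw [hn2, show (4 : ℕ) = 2 ^ 2 by norm_num]
  exact pow_dvd_pow 2 this

theorem one_add_one_ne (hn : 4 ≤ n) : (1 : ZMod n) + 1 ≠ 0 := by
  intro h0
  have h1 : ((2 : ℕ) : ZMod n) = 0 := by rw [← h0]; norm_num
  rw [ZMod.natCast_eq_zero_iff] at h1
  have := Nat.le_of_dvd (by norm_num) h1
  omega

end Formula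

section Averages

variable {G : Type u} [Group G] [Fintype G] {t : G} {n : ℕ} [NeZero n]
  {π : (Subgroup.centralizer ({t} : Set G)) →* DihedralGroup n}

/-- Sums over the rotations. -/
theorem sum_erase_const : ∑ _j ∈ Finset.univ.erase (0 : ZMod n), (1 : ℂ) = n - 1 := by
  rw [Finset.sum_const, Finset.card_erase_of_mem (Finset.mem_univ _), Finset.card_univ, ZMod.card,
    nsmul_eq_mul, mul_one, Nat.cast_sub (NeZero.one_le), Nat.cast_one]

theorem sum_erase_e {a : ZMod n} (ha : a ≠ 0) :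
    ∑ j ∈ Finset.univ.erase (0 : ZMod n), e n (a * j) = -1 := by
  have h1 := BGIsometry.sum_e a
  rw [if_neg ha, ← Finset.add_sum_erase _ _ (Finset.mem_univ (0 : ZMod n)), mul_zero,
    AddChar.map_zero_eq_one] at h1
  linear_combination h1

theorem sum_erase_mu (h2 : 2 ∣ n) : ∑ j ∈ Finset.univ.erase (0 : ZMod n), mu (r j) = (-1 : ℂ) := by
  simp only [mu_r]
  exact sum_erase_e (half_ne_zero h2)

theorem sum_erase_theta {i : ZMod n} (hi : i ≠ 0) :
    ∑ j ∈ Finset.univ.erase (0 : ZMod n), theta i (r j) = (-2 : ℂ) := by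
  have h1 : ∀ j : ZMod n, theta i (r j) = e n (i * j) + e n (-i * j) := by
    intro j
    rw [theta_r, neg_mul]
  rw [Finset.sum_congr rfl (fun j _ => h1 j), Finset.sum_add_distrib, sum_erase_e hi,
    sum_erase_e (neg_ne_zero.2 hi)]
  norm_num

/-- Inner products with `1` and `lam` of the average along a section. -/
theorem inner_avg (h : BGHyp t n π) {X : G → ℂ} {F : ZMod n → ℂ} (hX : IsClassFunction G X)
    (hF : Vals π X F) {Y : Subgroup G} (hY : Odd (Nat.card Y))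
    (σ : DihedralGroup n →* Subgroup.centralizer ({t} : Set G)) (hσ : ∀ d, π (σ d) = d)
    (hN : ∀ d, ((σ d : Subgroup.centralizer ({t} : Set G)) : G) ∈
      Subgroup.normalizer (Y : Set G)) [Fintype (DihedralGroup n)] :
    (2 * n : ℂ) * classInner (fun d : DihedralGroup n => avg Y X ((σ d : _) : G)) 1 =
        avg Y X 1 + ∑ j ∈ Finset.univ.erase (0 : ZMod n), F j + n * F ((n / 2 : ℕ) : ZMod n) ∧
      (2 * n : ℂ) * classInner (fun d : DihedralGroup n => avg Y X ((σ d : _) : G)) lam =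
        avg Y X 1 + ∑ j ∈ Finset.univ.erase (0 : ZMod n), F j - n * F ((n / 2 : ℕ) : ZMod n) := by
  obtain ⟨m, hm, hn⟩ := h.pow
  have hpow : ∀ d : DihedralGroup n, ((σ d : Subgroup.centralizer ({t} : Set G)) : G) ^ 2 ^ (m + 1) = 1 := by
    intro d
    have h2 : Nat.card (DihedralGroup n) = 2 ^ (m + 1) := by
      rw [DihedralGroup.nat_card, hn, pow_succ']
    have h3 : d ^ 2 ^ (m + 1) = 1 := by rw [← h2]; exact pow_card_eq_one'
    have h4 := congrArg σ h3
    rw [map_pow, map_one] at h4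
    exact congrArg Subtype.val h4
  have hne : ∀ d : DihedralGroup n, d ≠ 1 → ((σ d : Subgroup.centralizer ({t} : Set G)) : G) ≠ 1 := by
    intro d hd h1
    apply hd
    have h2 : σ d = 1 := Subtype.ext h1
    rw [← hσ d, h2, map_one]
  have hr : ∀ j : ZMod n, j ≠ 0 → avg Y X ((σ (r j) : _) : G) = F j := by
    intro j hj
    have hj1 : (r j : DihedralGroup n) ≠ 1 := by
      rw [DihedralGroup.one_def]
      intro h3
      exact hj (r.inj h3)
    rw [hF.avg h hX hY (hN _) (hpow _) (hne _ hj1)]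
    exact hF _ j hj (hσ _)
  have hsr : ∀ j : ZMod n, avg Y X ((σ (sr j) : _) : G) = F ((n / 2 : ℕ) : ZMod n) := by
    intro j
    have hj1 : (sr j : DihedralGroup n) ≠ 1 := by
      rw [DihedralGroup.one_def]
      intro h3
      cases h3
    rw [hF.avg h hX hY (hN _) (hpow _) (hne _ hj1)]
    exact hF.apply_sr h hX σ hσ j
  have h0 : avg Y X ((σ (r 0) : _) : G) = avg Y X 1 := by
    rw [← DihedralGroup.one_def, map_one]
    rfl
  have hn0 : (2 * n : ℂ) ≠ 0 := mul_ne_zero two_ne_zero (Nat.cast_ne_zero.mpr (NeZero.ne n))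
  have hsum : ∀ (c : ℂ) , ∑ i : ZMod n, avg Y X ((σ (r i) : _) : G) * 1 +
      ∑ i : ZMod n, avg Y X ((σ (sr i) : _) : G) * c =
      avg Y X 1 + ∑ j ∈ Finset.univ.erase (0 : ZMod n), F j + n * F ((n / 2 : ℕ) : ZMod n) * c := by
    intro c
    rw [← Finset.add_sum_erase _ _ (Finset.mem_univ (0 : ZMod n)), h0]
    have e1 : ∑ x ∈ Finset.univ.erase (0 : ZMod n), avg Y X ((σ (r x) : _) : G) * 1 =
        ∑ j ∈ Finset.univ.erase (0 : ZMod n), F j :=
      Finset.sum_congr rfl fun j hj => by rw [hr j (Finset.ne_of_mem_erase hj), mul_one]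
    have e2 : ∑ i : ZMod n, avg Y X ((σ (sr i) : _) : G) * c =
        n * F ((n / 2 : ℕ) : ZMod n) * c := by
      rw [Finset.sum_congr rfl (fun j _ => by rw [hsr j]), Finset.sum_const, Finset.card_univ,
        ZMod.card, nsmul_eq_mul, mul_assoc]
    rw [e1, e2, mul_one]
  constructor
  · rw [Core.classInner_def, BGIsometry.card_dihedral, ← mul_assoc, mul_inv_cancel₀ hn0, one_mul,
      BGIsometry.sum_dihedral]
    have := hsum 1
    simp only [mul_one] at this ⊢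
    rw [← this]
    congr 1 <;> · refine Finset.sum_congr rfl fun j _ => ?_
                  simp
  · rw [Core.classInner_def, BGIsometry.card_dihedral, ← mul_assoc, mul_inv_cancel₀ hn0, one_mul,
      BGIsometry.sum_dihedral]
    have := hsum (-1)
    simp only [mul_one, mul_neg] at this ⊢
    rw [sub_eq_add_neg, ← this]
    congr 1 <;> · refine Finset.sum_congr rfl fun j _ => ?_
                  simp

/-- The inner products of `inner_avg` are integers, nonnegative for characters, nonpositive for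
negatives of characters. -/
theorem inner_avg_int {X : G → ℂ} (s : SignedIrr X) {f : ℤ} (hf : X 1 = f) (Y : Subgroup G)
    {D : Type*} [Group D] [Fintype D] (φ : D →* G)
    (hφ : ∀ d, φ d ∈ Subgroup.normalizer (Y : Set G)) {ψ : D → ℂ} (hψ : IsCharacter D ψ) :
    ∃ z : ℤ, classInner (fun d => avg Y X (φ d)) ψ = z ∧ (0 < f → 0 ≤ z) ∧ (f < 0 → z ≤ 0) := by
  obtain ⟨k, hk0, hk, hpos, hneg⟩ := signed_one X s
  have hkf : k = f := by
    rw [hf] at hk
    exact_mod_cast hk.symm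
  subst hkf
  rcases lt_or_gt_of_ne hk0 with h | h
  · obtain ⟨a, ha⟩ := Core.classInner_isNat
      (isCharacter_avg (Core.isIrr_isCharacter (hneg h)) Y φ hφ) hψ
    refine ⟨-a, ?_, fun h' => by omega, fun _ => by omega⟩
    have h1 : (fun d => avg Y (-X) (φ d)) = -(fun d => avg Y X (φ d)) := by
      funext d
      rw [avg_neg]
      rfl
    rw [h1, Core.classInner_neg_left] at ha
    push_cast
    linear_combination -ha
  · obtain ⟨a, ha⟩ := Core.classInner_isNat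
      (isCharacter_avg (Core.isIrr_isCharacter (hpos h)) Y φ hφ) hψ
    exact ⟨a, by rw [ha]; norm_cast, fun _ => by omega, fun h' => by omega⟩

/-- For a character, the dimension of the fixed points is at most the degree. -/
theorem avg_le {X : G → ℂ} (hX : IsCharacter G X) (Y : Subgroup G) {e f : ℤ}
    (he : avg Y X 1 = e) (hf : X 1 = f) : 0 ≤ e ∧ e ≤ f := by
  obtain ⟨k, hk⟩ := avg_one_nat hX Y
  have hke : (k : ℤ) = e := by
    rw [hk] at he
    exact_mod_cast he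
  refine ⟨by omega, ?_⟩
  have : Fintype Y := Fintype.ofFinite _
  obtain ⟨m, ρ, rfl⟩ := hX
  rw [Representation.char_one] at hf
  have h1 : ‖avg Y ρ.character 1‖ ≤ Module.finrank ℂ (Fin m → ℂ) := by
    rw [avg_eq_sum, norm_mul, norm_inv, Complex.norm_natCast]
    have h2 : ‖∑ y : Y, ρ.character ((y : G) * 1)‖ ≤ (Nat.card Y : ℝ) * Module.finrank ℂ (Fin m → ℂ) := by
      refine (norm_sum_le _ _).trans ?_
      refine (Finset.sum_le_card_nsmul _ _ _ (fun y _ => Values.norm_character_le ρ _)).trans ?_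
      rw [Finset.card_univ, ← Nat.card_eq_fintype_card, nsmul_eq_mul]
    have h3 : (0 : ℝ) < Nat.card Y := by exact_mod_cast Nat.card_pos
    rw [inv_mul_le_iff₀ h3]
    exact h2
  rw [he] at h1
  have h2 : (f : ℝ) = Module.finrank ℂ (Fin m → ℂ) := by
    have : (f : ℂ) = (Module.finrank ℂ (Fin m → ℂ) : ℕ) := hf.symm
    exact_mod_cast this
  rw [← h2, Complex.norm_intCast] at h1
  have h3 : (e : ℝ) ≤ f := (le_abs_self _).trans h1
  exact_mod_cast h3

/-- If the dimension of the fixed points is the degree then `Y` is in the kernel. -/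
theorem eq_of_avg_eq {X : G → ℂ} (hX : IsCharacter G X) (Y : Subgroup G)
    (he : avg Y X 1 = X 1) {y : G} (hy : y ∈ Y) : X y = X 1 := by
  classical
  have : Fintype Y := Fintype.ofFinite _
  have hc : (Nat.card Y : ℂ) ≠ 0 := Core.card_ne_zero_complex
  have h1 : ∑ x ∈ (Finset.univ.filter (fun x : G => x ∈ Y)), X x =
      ((Finset.univ.filter (fun x : G => x ∈ Y)).card : ℂ) * X 1 := by
    have h2 : ∑ x ∈ (Finset.univ.filter (fun x : G => x ∈ Y)), X x = ∑ y : Y, X y := by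
      symm
      refine Finset.sum_bij (fun y _ => (y : G)) ?_ ?_ ?_ ?_
      · intro y _; simp
      · intro a _ b _ hab; exact Subtype.ext hab
      · intro b hb; exact ⟨⟨b, (Finset.mem_filter.1 hb).2⟩, Finset.mem_univ _, rfl⟩
      · intro a _; rfl
    have h3 : (Finset.univ.filter (fun x : G => x ∈ Y)).card = Nat.card Y := by
      rw [Nat.card_eq_fintype_card]
      exact (Fintype.card_of_subtype _ (fun x => by simp)).symm
    rw [h2, h3, ← he, avg_eq_sum, ← mul_assoc, mul_inv_cancel₀ hc, one_mul]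
    simp
  exact Blocks.PrincipalKernel.apply_eq_of_sum_eq hX h1 (by simpa using hy)

variable {h : BGHyp t n π} {X₁ X₂ X₃ : G → ℂ} {T : ZMod n → G → ℂ} {f g₂ g₃ : ℤ}

theorem BGChars.class₁ (H : BGChars h X₁ X₂ X₃ T f g₂ g₃) : IsClassFunction G X₁ :=
  SignedIrr.isClassFunction H.s₁

/-- The data for a conjugate of `Y` normalised by the image of a section. -/
theorem exists_conj_data (h : BGHyp t n π) (Y : Subgroup G) (hY : Odd (Nat.card Y)) (P : Sylow 2 G)
    (hP : (P : Subgroup G) ≤ Subgroup.normalizer (Y : Set G)) :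
    ∃ (Z : Subgroup G) (σ : DihedralGroup n →* Subgroup.centralizer ({t} : Set G)),
      Odd (Nat.card Z) ∧ (∀ d, π (σ d) = d) ∧
      (∀ d, ((σ d : Subgroup.centralizer ({t} : Set G)) : G) ∈ Subgroup.normalizer (Z : Set G)) ∧
      ∀ X : G → ℂ, IsClassFunction G X → avg Z X 1 = avg Y X 1 := by
  obtain ⟨σ, hσ⟩ := exists_section h
  obtain ⟨c, hc⟩ := exists_conj_section h σ hσ P Y hP
  refine ⟨Y.map (MulAut.conj c).toMonoidHom, σ, ?_, hσ, hc, fun X hX => ?_⟩
  · rw [← Nat.card_congr (Subgroup.equivMapOfInjective Y _ (MulAut.conj c).injective).toEquiv]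
    exact hY
  · have := avg_conj Y hX c 1
    rwa [mul_one, mul_inv_cancel] at this

/-- The average of `X` with values `1`, `mu` or `theta`. -/
theorem avg_mu (h : BGHyp t n π) (hn : 4 ≤ n) {X : G → ℂ} (s : SignedIrr X) {g : ℤ}
    (hg : X 1 = g) (hF : Vals π X (fun j => mu (r j))) (Y : Subgroup G) (hY : Odd (Nat.card Y))
    (P : Sylow 2 G) (hP : (P : Subgroup G) ≤ Subgroup.normalizer (Y : Set G)) :
    ∃ m : ℤ, avg Y X 1 = 1 + n + 2 * n * m ∧ (0 < g → 0 ≤ m) ∧ (g < 0 → m ≤ -1) := by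
  obtain ⟨Z, σ, hZ, hσ, hN, hav⟩ := exists_conj_data h Y hY P hP
  have hX := SignedIrr.isClassFunction s
  let _ : Fintype (DihedralGroup n) := Fintype.ofFinite _
  obtain ⟨e1, e2⟩ := inner_avg h hX hF hZ σ hσ hN
  rw [hav X hX, sum_erase_mu (two_dvd h), mu_half (four_dvd h hn)] at e1 e2
  obtain ⟨a, ha, ha1, ha2⟩ := inner_avg_int s hg Z
    ((Subgroup.centralizer ({t} : Set G)).subtype.comp σ) hN (Core.isCharacter_one)
  obtain ⟨b, hb, hb1, hb2⟩ := inner_avg_int s hg Z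
    ((Subgroup.centralizer ({t} : Set G)).subtype.comp σ) hN
    (Core.isIrr_isCharacter BGIsometry.isIrr_lam)
  have ha' : classInner (fun d : DihedralGroup n => avg Z X ((σ d : _) : G)) 1 = a := ha
  have hb' : classInner (fun d : DihedralGroup n => avg Z X ((σ d : _) : G)) lam = b := hb
  rw [ha'] at e1
  rw [hb'] at e2
  refine ⟨b, by linear_combination -e2, hb1, ?_⟩
  intro hg0
  have h1 := ha2 hg0
  have h2 : (a : ℂ) = b + 1 := by
    have hn0 : (2 * n : ℂ) ≠ 0 := mul_ne_zero two_ne_zero (Nat.cast_ne_zero.mpr (NeZero.ne n))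
    apply mul_left_cancel₀ hn0
    linear_combination e1 - e2
  have h3 : a = b + 1 := by exact_mod_cast h2
  omega

theorem avg_one (h : BGHyp t n π) (hn : 4 ≤ n) {X : G → ℂ} (s : SignedIrr X) {g : ℤ}
    (hg : X 1 = g) (hF : Vals π X (fun _ => 1)) (Y : Subgroup G) (hY : Odd (Nat.card Y))
    (P : Sylow 2 G) (hP : (P : Subgroup G) ≤ Subgroup.normalizer (Y : Set G)) :
    ∃ m : ℤ, avg Y X 1 = 1 + 2 * n * m := by
  obtain ⟨Z, σ, hZ, hσ, hN, hav⟩ := exists_conj_data h Y hY P hP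
  have hX := SignedIrr.isClassFunction s
  let _ : Fintype (DihedralGroup n) := Fintype.ofFinite _
  obtain ⟨e1, e2⟩ := inner_avg h hX hF hZ σ hσ hN
  rw [hav X hX, sum_erase_const] at e2
  obtain ⟨b, hb, hb1, hb2⟩ := inner_avg_int s hg Z
    ((Subgroup.centralizer ({t} : Set G)).subtype.comp σ) hN
    (Core.isIrr_isCharacter BGIsometry.isIrr_lam)
  have hb' : classInner (fun d : DihedralGroup n => avg Z X ((σ d : _) : G)) lam = b := hb
  rw [hb'] at e2
  exact ⟨b, by linear_combination -e2⟩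

theorem avg_theta (h : BGHyp t n π) (hn : 4 ≤ n) {X : G → ℂ} (s : SignedIrr X) {g : ℤ}
    (hg : X 1 = g) (hF : Vals π X (fun j => theta 1 (r j))) (Y : Subgroup G)
    (hY : Odd (Nat.card Y)) (P : Sylow 2 G)
    (hP : (P : Subgroup G) ≤ Subgroup.normalizer (Y : Set G)) :
    ∃ m : ℤ, avg Y X 1 = 2 + 2 * n * m ∧ (0 < g → 1 ≤ m) ∧ (g < 0 → m ≤ -1) := by
  obtain ⟨Z, σ, hZ, hσ, hN, hav⟩ := exists_conj_data h Y hY P hP
  have hX := SignedIrr.isClassFunction s
  let _ : Fintype (DihedralGroup n) := Fintype.ofFinite _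
  obtain ⟨e1, e2⟩ := inner_avg h hX hF hZ σ hσ hN
  have h1 : theta 1 (r ((n / 2 : ℕ) : ZMod n)) = (-2 : ℂ) := by
    rw [theta_r, one_mul, BGIsometry.neg_half (two_dvd h), e_half (two_dvd h)]
    norm_num
  have hne : (1 : ZMod n) ≠ 0 := BGIsometry.ne_zero_of_add (one_add_one_ne hn)
  rw [hav X hX, sum_erase_theta hne, h1] at e1 e2
  obtain ⟨a, ha, ha1, ha2⟩ := inner_avg_int s hg Z
    ((Subgroup.centralizer ({t} : Set G)).subtype.comp σ) hN (Core.isCharacter_one)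
  obtain ⟨b, hb, hb1, hb2⟩ := inner_avg_int s hg Z
    ((Subgroup.centralizer ({t} : Set G)).subtype.comp σ) hN
    (Core.isIrr_isCharacter BGIsometry.isIrr_lam)
  have ha' : classInner (fun d : DihedralGroup n => avg Z X ((σ d : _) : G)) 1 = a := ha
  have hb' : classInner (fun d : DihedralGroup n => avg Z X ((σ d : _) : G)) lam = b := hb
  rw [ha'] at e1
  rw [hb'] at e2
  have hn0 : (2 * n : ℂ) ≠ 0 := mul_ne_zero two_ne_zero (Nat.cast_ne_zero.mpr (NeZero.ne n))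
  have h3 : (b : ℂ) = a + 2 := by
    apply mul_left_cancel₀ hn0
    linear_combination e2 - e1
  have h4 : b = a + 2 := by exact_mod_cast h3
  refine ⟨a + 1, ?_, fun h5 => by have := ha1 h5; omega, fun h5 => by have := hb2 h5; omega⟩
  push_cast
  linear_combination -e1

/-- **Existence of the characters.** -/
theorem exists_chars (h : BGHyp t n π) (hn : 4 ≤ n) :
    ∃ (X₁ X₂ X₃ : G → ℂ) (T : ZMod n → G → ℂ) (f g₂ g₃ : ℤ), BGChars h X₁ X₂ X₃ T f g₂ g₃ := by
  obtain ⟨X₁, X₂, X₃, T, f, s₁, s₂, s₃, sT, hT, hmu, ho, hf, hf1, hdvd, hT1, h23, hval⟩ :=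
    BGBlock.bg_characters h hn
  obtain ⟨g₂, hg2, hg2', -, -⟩ := signed_one X₂ s₂
  obtain ⟨g₃, hg3, hg3', -, -⟩ := signed_one X₃ s₃
  have v1 : Vals π X₁ (fun _ => 1) := fun x j hj hx => (hval x j hj hx).1
  have v2 : Vals π X₂ (fun j => mu (r j)) := fun x j hj hx => (hval x j hj hx).2.1
  have v3 : Vals π X₃ (fun j => mu (r j)) := fun x j hj hx => (hval x j hj hx).2.2.1
  have hadd : g₂ + g₃ = 1 + f := by
    rw [hg2', hg3'] at h23
    exact_mod_cast h23
  have h2 := two_dvd h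
  have e1 : X₁ t = 1 := v1 (tt t) _ (half_ne_zero h2) (map_tt h)
  have e2 : X₂ t = 1 := by
    have h3 : X₂ t = mu (r ((n / 2 : ℕ) : ZMod n)) := v2 (tt t) _ (half_ne_zero h2) (map_tt h)
    rw [h3, mu_half (four_dvd h hn)]
  have e3 : X₃ t = 1 := by
    have h3 : X₃ t = mu (r ((n / 2 : ℕ) : ZMod n)) := v3 (tt t) _ (half_ne_zero h2) (map_tt h)
    rw [h3, mu_half (four_dvd h hn)]
  have eT : (T 1 t) ^ 2 = 4 := by
    have h1 : T 1 t = theta 1 (r ((n / 2 : ℕ) : ZMod n)) :=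
      (hval (tt t) _ (half_ne_zero h2) (map_tt h)).2.2.2 1 (one_add_one_ne hn)
    rw [h1, theta_r, one_mul, BGIsometry.neg_half h2, e_half h2]
    norm_num
  exact ⟨X₁, X₂, X₃, T, f, g₂, g₃,
    { s₁ := s₁, s₂ := s₂, s₃ := s₃, sT := sT, ind_bth := hT, ind_bmu := hmu, ortho := ho
      one₁ := hf, one₂ := hg2', one₃ := hg3', oneT := hT1, f_ne := hf1, f_dvd := hdvd
      g_add := hadd, g₂_ne := hg2, g₃_ne := hg3, vals₁ := v1, vals₂ := v2, vals₃ := v3
      valsT := fun i hi x j hj hx => (hval x j hj hx).2.2.2 i hi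
      order := order_formula h (one_add_one_ne hn) s₁ (sT 1 (one_add_one_ne hn))
        (by rw [hT 1 (one_add_one_ne hn)]; rfl) hf (hT1 1 (one_add_one_ne hn)) e1 eT
      order₂ := second_formula h s₁ s₂ s₃ hmu hf hg2' hg3' hadd e1 e2 e3 }⟩

/-- `f` is positive or at most `1 - 2 n`. -/
theorem BGChars.f_cases (H : BGChars h X₁ X₂ X₃ T f g₂ g₃) :
    (0 < f ∧ 1 + 2 * n ≤ f) ∨ (f < 0 ∧ f ≤ 1 - 2 * (n : ℤ)) := by
  obtain ⟨c, hc⟩ := H.f_dvd
  have hf := H.f_ne
  have hn : (0 : ℤ) < n := by exact_mod_cast Nat.pos_of_ne_zero (NeZero.ne n)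
  have hc0 : c ≠ 0 := by
    rintro rfl
    rw [mul_zero] at hc
    exact hf (by omega)
  rcases lt_or_gt_of_ne hc0 with h1 | h1
  · right
    have h2 : 2 * (n : ℤ) * c ≤ 2 * n * (-1) := by nlinarith
    constructor <;> nlinarith
  · left
    have h2 : 2 * (n : ℤ) * 1 ≤ 2 * n * c := by nlinarith
    constructor <;> nlinarith

/-- **(C9)** fixed points of a subgroup `Y` of odd order normalised by a Sylow 2-subgroup. -/
theorem BGChars.fixed_dims (H : BGChars h X₁ X₂ X₃ T f g₂ g₃) (hn : 4 ≤ n) (Y : Subgroup G)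
    (hY : Odd (Nat.card Y)) (P : Sylow 2 G)
    (hP : (P : Subgroup G) ≤ Subgroup.normalizer (Y : Set G)) :
    ∃ m m₂ m₃ : ℤ, avg Y X₁ 1 = 1 + 2 * n * m ∧ avg Y X₂ 1 = 1 + n + 2 * n * m₂ ∧
      avg Y X₃ 1 = 1 + n + 2 * n * m₃ ∧ (∀ i, i + i ≠ 0 → avg Y (T i) 1 = 2 + 2 * n * m) ∧
      m = 1 + m₂ + m₃ ∧ (0 < f → 1 ≤ m) ∧ (f < 0 → m ≤ -1) ∧
      (0 < g₂ → 0 ≤ m₂) ∧ (g₂ < 0 → m₂ ≤ -1) ∧ (0 < g₃ → 0 ≤ m₃) ∧ (g₃ < 0 → m₃ ≤ -1) := by
  have hi := one_add_one_ne hn
  obtain ⟨m, hm⟩ := avg_one h hn H.s₁ H.one₁ H.vals₁ Y hY P hP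
  obtain ⟨m₂, hm₂, a₂, b₂⟩ := avg_mu h hn H.s₂ H.one₂ H.vals₂ Y hY P hP
  obtain ⟨m₃, hm₃, a₃, b₃⟩ := avg_mu h hn H.s₃ H.one₃ H.vals₃ Y hY P hP
  have hT1 : T 1 1 = ((1 + f : ℤ) : ℂ) := by rw [H.oneT 1 hi]; push_cast; ring
  obtain ⟨m', hm', a', b'⟩ := avg_theta h hn (H.sT 1 hi) hT1 (H.valsT 1 hi) Y hY P hP
  have hodd : ∀ y : Y, Odd (orderOf ((y : G) * 1)) := by
    intro y
    rw [mul_one, Subgroup.orderOf_coe]
    exact Odd.of_dvd_nat hY (orderOf_dvd_natCard y)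
  have hn0 : (2 * n : ℂ) ≠ 0 := mul_ne_zero two_ne_zero (Nat.cast_ne_zero.mpr (NeZero.ne n))
  have hb : ∀ i, i + i ≠ 0 → avg Y (T i) 1 = 1 + avg Y X₁ 1 := by
    intro i hi
    have h1 : avg Y (1 + X₁ - T i) 1 = 0 := by
      refine avg_const _ _ _ _ fun y => ?_
      rw [← H.ind_bth i hi]
      exact BGIsometry.indFun_eq_zero_of_odd h.orderOf_t (BGIsometry.supp_bth h i) (hodd y)
    rw [avg_sub, avg_add, avg_const Y (1 : G → ℂ) 1 1 (fun _ => rfl)] at h1
    linear_combination -h1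
  have hmm : m' = m := by
    have h1 := hb 1 hi
    rw [hm, hm'] at h1
    have h2 : (m' : ℂ) = m := by
      apply mul_left_cancel₀ hn0
      linear_combination h1
    exact_mod_cast h2
  have hadd : m = 1 + m₂ + m₃ := by
    have h1 : avg Y (1 + X₁ - X₂ - X₃) 1 = 0 := by
      refine avg_const _ _ _ _ fun y => ?_
      rw [← H.ind_bmu]
      exact BGIsometry.indFun_eq_zero_of_odd h.orderOf_t (BGIsometry.supp_bmu h) (hodd y)
    rw [avg_sub, avg_sub, avg_add, avg_const Y (1 : G → ℂ) 1 1 (fun _ => rfl), hm, hm₂, hm₃] at h1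
    have h2 : (m : ℂ) = 1 + m₂ + m₃ := by
      apply mul_left_cancel₀ hn0
      linear_combination h1
    exact_mod_cast h2
  refine ⟨m, m₂, m₃, hm, hm₂, hm₃, fun i hi => ?_, hadd, fun hf => ?_, fun hf => ?_, a₂, b₂, a₃, b₃⟩
  · rw [hb i hi, hm]; ring
  · rw [← hmm]; exact a' (by omega)
  · rw [← hmm]
    apply b'
    rcases H.f_cases with h1 | h1 <;> omega

/-- The degrees `g₂`, `g₃` are congruent to `1 + n` modulo `2 n`. -/
theorem BGChars.g_dvd (H : BGChars h X₁ X₂ X₃ T f g₂ g₃) (hn : 4 ≤ n) :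
    (2 * n : ℤ) ∣ g₂ - (1 + n) ∧ (2 * n : ℤ) ∣ g₃ - (1 + n) := by
  obtain ⟨P⟩ : Nonempty (Sylow 2 G) := inferInstance
  obtain ⟨m, m₂, m₃, -, h2, h3, -⟩ := H.fixed_dims hn ⊥ (by simp) P
    (by rw [Subgroup.normalizer_eq_top]; exact le_top)
  rw [avg_bot, H.one₂] at h2
  rw [avg_bot, H.one₃] at h3
  have h2' : g₂ = 1 + n + 2 * n * m₂ := by exact_mod_cast h2
  have h3' : g₃ = 1 + n + 2 * n * m₃ := by exact_mod_cast h3
  exact ⟨⟨m₂, by rw [h2']; ring⟩, ⟨m₃, by rw [h3']; ring⟩⟩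

/-- Bounds for the dimension of the fixed points of `Y` on `X₁`. -/
theorem SignedIrr.avg_bounds {X : G → ℂ} (s : SignedIrr X) {k e : ℤ} (hk : X 1 = k)
    (Y : Subgroup G) (he : avg Y X 1 = e) :
    (0 < k → 0 ≤ e ∧ e ≤ k) ∧ (k < 0 → k ≤ e ∧ e ≤ 0) := by
  obtain ⟨k', -, hk', hp, hn⟩ := signed_one X s
  have : k' = k := by
    rw [hk] at hk'
    exact_mod_cast hk'.symm
  subst this
  constructor
  · intro h0
    exact avg_le (Core.isIrr_isCharacter (hp h0)) Y he hk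
  · intro h0
    have h1 := avg_le (Core.isIrr_isCharacter (hn h0)) Y (e := -e) (f := -k')
      (by rw [avg_neg, he]; push_cast; ring) (by rw [Pi.neg_apply, hk]; push_cast; ring)
    omega

/-- If `G` is simple and the fixed points of `Y` on a nontrivial (signed) irreducible character
have full dimension then `Y` is trivial. -/
theorem eq_bot_of_avg_eq [IsSimpleGroup G] {X : G → ℂ} (s : SignedIrr X)
    (h1 : classInner X 1 = 0) (Y : Subgroup G) (he : avg Y X 1 = X 1) : Y = ⊥ := by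
  classical
  -- the kernel
  have main : ∀ Z : G → ℂ, IsIrrCharacter G Z → classInner Z 1 = 0 → avg Y Z 1 = Z 1 → Y = ⊥ := by
    intro Z hZ hZ1 hZe
    obtain ⟨m, ρ, hρ, rfl⟩ := hZ
    have hker : ∀ y ∈ Y, ρ.character y = ρ.character 1 := fun y hy =>
      eq_of_avg_eq ⟨m, ρ, rfl⟩ Y hZe hy
    have hk : ∀ y ∈ Y, y ∈ (MonoidHom.ker (ρ : G →* _)) := by
      intro y hy
      rw [MonoidHom.mem_ker]
      refine (Values.character_eq_finrank_iff ρ y).1 ?_
      rw [hker y hy, Representation.char_one]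
    rcases (MonoidHom.normal_ker (ρ : G →* _)).eq_bot_or_eq_top with h2 | h2
    · rw [eq_bot_iff]
      intro y hy
      rw [← h2]
      exact hk y hy
    · exfalso
      -- `ρ` is trivial, contradiction with `⟨X, 1⟩ = 0`
      have h3 : ρ.character = fun _ => ρ.character 1 := by
        funext g
        have : g ∈ MonoidHom.ker (ρ : G →* _) := by rw [h2]; trivial
        rw [MonoidHom.mem_ker] at this
        change LinearMap.trace ℂ _ (ρ g) = LinearMap.trace ℂ _ (ρ 1)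
        rw [map_one]
        exact congrArg _ this
      have h4 : ρ.character 1 ≠ 0 := Central.char_one_ne_zero ρ hρ
      rw [h3, Core.classInner_def] at hZ1
      simp only [Pi.one_apply, map_one, mul_one, Finset.sum_const, Finset.card_univ,
        nsmul_eq_mul] at hZ1
      have h5 : (Nat.card G : ℂ) ≠ 0 := Core.card_ne_zero_complex
      rw [← Nat.card_eq_fintype_card, ← mul_assoc, inv_mul_cancel₀ h5, one_mul] at hZ1
      exact h4 hZ1
  rcases s with s | s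
  · exact main X s h1 he
  · refine main (-X) s ?_ ?_
    · rw [Core.classInner_neg_left, h1, neg_zero]
    · rw [avg_neg, he]; rfl

/-- If `f = 1 ± 2 n` then every subgroup of odd order normalised by a Sylow 2-subgroup is
trivial. -/
theorem BGChars.eq_bot_of_small [IsSimpleGroup G] (H : BGChars h X₁ X₂ X₃ T f g₂ g₃) (hn : 4 ≤ n)
    (hf : f = 1 + 2 * n ∨ f = 1 - 2 * n) (Y : Subgroup G)
    (hY : Odd (Nat.card Y)) (P : Sylow 2 G)
    (hP : (P : Subgroup G) ≤ Subgroup.normalizer (Y : Set G)) : Y = ⊥ := by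
  obtain ⟨m, m₂, m₃, h1, -, -, -, -, hp, hneg, -⟩ := H.fixed_dims hn Y hY P hP
  have hn0 : (0 : ℤ) < n := by exact_mod_cast Nat.pos_of_ne_zero (NeZero.ne n)
  have he : avg Y X₁ 1 = ((1 + 2 * n * m : ℤ) : ℂ) := by rw [h1]; push_cast; ring
  obtain ⟨b1, b2⟩ := SignedIrr.avg_bounds H.s₁ H.one₁ Y he
  refine eq_bot_of_avg_eq H.s₁ H.ortho.one₁ Y ?_
  rw [he, H.one₁]
  congr 1
  rcases hf with hf | hf
  · have h3 := hp (by omega)
    have h4 := (b1 (by omega)).2
    have h5 : m = 1 := by nlinarith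
    rw [h5, hf]; ring
  · have hlt : f < 0 := by
      have : (4 : ℤ) ≤ n := by exact_mod_cast hn
      omega
    have h3 := hneg hlt
    have h4 := (b2 hlt).1
    have h5 : m = -1 := by nlinarith
    rw [h5, hf]; ring

end Averages

end Cfsg.Agent.Classification.BGDegrees
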