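import Mathlib
import Cfsg.Prelude.Def_Characters
import Cfsg.Agent.Classification.BGDefs
import Cfsg.Agent.Classification.BGBasic
import Cfsg.Agent.Classification.BGOrder

/-!
# Bender–Glauberman: overgroups of `C(t)`

If `C(t) ≤ M ≤ G` and both `M` and `G` satisfy the order formula, `|G : M|` odd, `8 ∣ |S|`, then
`M = G`.
-/

set_option autoImplicit false
set_option linter.unusedSectionVars false

namespace Cfsg.Agent.Classification.BGOvergroup

open DihedralGroup Cfsg.Agent.Classification.BGDefs Cfsg.Agent.Classification.BGBasic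
  Cfsg.Agent.Classification.BGOrder

/-- The order formula as a proposition. -/
def OrderEq {G : Type*} [Group G] {t : G} {n : ℕ} (h2 : 2 ∣ n)
    (π : (Subgroup.centralizer ({t} : Set G)) →* DihedralGroup n) : Prop :=
  ∃ f : ℤ, f ≠ 1 ∧ (2 * n : ℤ) ∣ f - 1 ∧
    ((Subgroup.centralizer ({t} : Set G)).index : ℤ) * (f - 1) ^ 2 =
      2 * (kcount h2 π 0 + kcount h2 π 1 : ℤ) ^ 2 * (f * (f + 1))

/-- Arithmetic of the order formula. -/
theorem ratio_lt_three {a a' c i f g : ℤ} (ha' : 0 < a')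
    (hac : a = c * a') (hf : (8 : ℤ) ∣ f - 1) (hf1 : f ≠ 1) (hg : (8 : ℤ) ∣ g - 1) (hg1 : g ≠ 1)
    (h1 : a * (f - 1) ^ 2 = 2 * i ^ 2 * (f * (f + 1)))
    (h2 : a' * (g - 1) ^ 2 = 2 * i ^ 2 * (g * (g + 1))) : c < 3 := by
  obtain ⟨k, hk⟩ := hf
  obtain ⟨l, hl⟩ := hg
  have hfk : f = 8 * k + 1 := by linarith
  have hgl : g = 8 * l + 1 := by linarith
  have hk0 : k ≠ 0 := by rintro rfl; apply hf1; linarith
  have hl0 : l ≠ 0 := by rintro rfl; apply hg1; linarith
  subst hfk hgl hac
  have e1 : 16 * (c * a') * k ^ 2 = i ^ 2 * (32 * k ^ 2 + 12 * k + 1) := by linarith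
  have e2 : 16 * a' * l ^ 2 = i ^ 2 * (32 * l ^ 2 + 12 * l + 1) := by linarith
  have hk2 : 0 < k ^ 2 := by positivity
  have hl2 : 0 < l ^ 2 := by positivity
  have b1 : 32 * k ^ 2 + 12 * k + 1 ≤ 45 * k ^ 2 := by
    rcases lt_or_gt_of_ne hk0 with h | h
    · nlinarith
    · nlinarith
  have b2 : 21 * l ^ 2 ≤ 32 * l ^ 2 + 12 * l + 1 := by
    rcases lt_or_gt_of_ne hl0 with h | h
    · nlinarith [mul_nonneg (show (0 : ℤ) ≤ -(11 * l + 1) by omega)
        (show (0 : ℤ) ≤ -(l + 1) by omega)]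
    · nlinarith
  have c1 : 16 * (c * a') ≤ 45 * i ^ 2 := by
    have : 16 * (c * a') * k ^ 2 ≤ (45 * i ^ 2) * k ^ 2 := by
      rw [e1]; nlinarith [mul_le_mul_of_nonneg_left b1 (sq_nonneg i)]
    exact le_of_mul_le_mul_right this hk2
  have c2 : 21 * i ^ 2 ≤ 16 * a' := by
    have : (21 * i ^ 2) * l ^ 2 ≤ (16 * a') * l ^ 2 := by
      rw [e2]; nlinarith [mul_le_mul_of_nonneg_left b2 (sq_nonneg i)]
    exact le_of_mul_le_mul_right this hl2
  by_contra hcon
  push Not at hcon
  have hi2 : 0 ≤ i ^ 2 := sq_nonneg i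
  nlinarith [mul_le_mul_of_nonneg_right hcon ha'.le]

section Transport

variable {G : Type*} [Group G] {t : G}

/-- `t` as an element of an overgroup of its centralizer. -/
def tM (M : Subgroup G) (hM : Subgroup.centralizer ({t} : Set G) ≤ M) : M := ⟨t, hM (t_mem t)⟩

/-- `C_M(t) ≃ C_G(t)`. -/
def overEquiv (M : Subgroup G) (hM : Subgroup.centralizer ({t} : Set G) ≤ M) :
    Subgroup.centralizer ({tM M hM} : Set M) ≃* Subgroup.centralizer ({t} : Set G) where
  toFun x := ⟨x.1.1, by
    rw [Subgroup.mem_centralizer_singleton_iff]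
    exact congrArg Subtype.val (Subgroup.mem_centralizer_singleton_iff.mp x.2)⟩
  invFun y := ⟨⟨y.1, hM y.2⟩, by
    rw [Subgroup.mem_centralizer_singleton_iff]
    exact Subtype.ext (Subgroup.mem_centralizer_singleton_iff.mp y.2)⟩
  left_inv x := rfl
  right_inv y := rfl
  map_mul' x y := rfl

/-- The restriction of `π`. -/
def overHom {n : ℕ} (π : (Subgroup.centralizer ({t} : Set G)) →* DihedralGroup n)
    (M : Subgroup G) (hM : Subgroup.centralizer ({t} : Set G) ≤ M) :
    Subgroup.centralizer ({tM M hM} : Set M) →* DihedralGroup n :=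
  π.comp (overEquiv M hM).toMonoidHom

theorem overHom_apply {n : ℕ} (π : (Subgroup.centralizer ({t} : Set G)) →* DihedralGroup n)
    (M : Subgroup G) (hM : Subgroup.centralizer ({t} : Set G) ≤ M)
    (x : Subgroup.centralizer ({tM M hM} : Set M)) : overHom π M hM x = π (overEquiv M hM x) :=
  rfl

theorem bgHyp_over {n : ℕ} {π : (Subgroup.centralizer ({t} : Set G)) →* DihedralGroup n}
    (h : BGHyp t n π) (M : Subgroup G) (hM : Subgroup.centralizer ({t} : Set G) ≤ M)
    (hone : ∀ x y : M, orderOf x = 2 → orderOf y = 2 → IsConj x y) :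
    BGHyp (tM M hM) n (overHom π M hM) where
  orderOf_t := by
    rw [← Subgroup.orderOf_coe]; exact h.orderOf_t
  one_class := fun x hx => hone _ _ (by rw [← Subgroup.orderOf_coe]; exact h.orderOf_t) hx
  pow := h.pow
  surj := h.surj.comp (overEquiv M hM).surjective
  odd_ker := by
    have h1 : Nat.card (overHom π M hM).ker = Nat.card π.ker := by
      refine Nat.card_congr ((overEquiv M hM).toEquiv.subtypeEquiv fun x => ?_)
      rfl
    rw [h1]
    exact h.odd_ker
  map_t := by
    intro h1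
    rw [overHom_apply]
    exact h.map_t (t_mem t)

theorem kcount_over {n : ℕ} (h2 : 2 ∣ n)
    (π : (Subgroup.centralizer ({t} : Set G)) →* DihedralGroup n)
    (M : Subgroup G) (hM : Subgroup.centralizer ({t} : Set G) ≤ M) (p : ZMod 2) :
    kcount h2 (overHom π M hM) p = kcount h2 π p := by
  refine Nat.card_congr ((overEquiv M hM).toEquiv.subtypeEquiv fun x => ?_)
  have h1 : orderOf ((overEquiv M hM) x) = orderOf x := MulEquiv.orderOf_eq (overEquiv M hM) x
  constructor
  · rintro ⟨h3, h4⟩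
    exact ⟨h1.trans h3, h4⟩
  · rintro ⟨h3, h4⟩
    exact ⟨h1.symm.trans h3, h4⟩

theorem index_over [Finite G] (M : Subgroup G) (hM : Subgroup.centralizer ({t} : Set G) ≤ M) :
    (Subgroup.centralizer ({t} : Set G)).index =
      M.index * (Subgroup.centralizer ({tM M hM} : Set M)).index := by
  have h1 := (Subgroup.centralizer ({t} : Set G)).card_mul_index
  have h2 := M.card_mul_index
  have h3 := (Subgroup.centralizer ({tM M hM} : Set M)).card_mul_index
  have h4 : Nat.card (Subgroup.centralizer ({tM M hM} : Set M)) =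
      Nat.card (Subgroup.centralizer ({t} : Set G)) := Nat.card_congr (overEquiv M hM).toEquiv
  rw [h4] at h3
  have h5 : 0 < Nat.card (Subgroup.centralizer ({t} : Set G)) := Nat.card_pos
  apply Nat.eq_of_mul_eq_mul_left h5
  rw [h1, ← h2, ← h3]
  ring

end Transport

/-- If `C(t) ≤ M`, `|G : M|` odd and `G` and `M` both satisfy the order formula for a dihedral
Sylow subgroup of order at least `8`, then `M = G`. -/
theorem eq_top_of_orderEq {G : Type*} [Group G] [Finite G] {t : G} {n : ℕ} [NeZero n]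
    {π : (Subgroup.centralizer ({t} : Set G)) →* DihedralGroup n} (h : BGHyp t n π)
    (h4 : 4 ≤ n) (M : Subgroup G) (hM : Subgroup.centralizer ({t} : Set G) ≤ M)
    (hodd : Odd M.index) (H1 : OrderEq (two_dvd h) π)
    (H2 : OrderEq (two_dvd h) (overHom π M hM)) : M = ⊤ := by
  obtain ⟨f, hf1, hf2, hf3⟩ := H1
  obtain ⟨g, hg1, hg2, hg3⟩ := H2
  rw [kcount_over, kcount_over] at hg3
  have h8 : (8 : ℤ) ∣ (2 * n : ℤ) := by
    obtain ⟨m, hm, rfl⟩ := h.pow
    have hm2 : 2 ≤ m := by
      by_contra hcon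
      have : m = 1 := by omega
      subst this
      norm_num at h4
    obtain ⟨c, rfl⟩ := Nat.exists_eq_add_of_le hm2
    refine ⟨2 ^ c, ?_⟩
    push_cast
    ring
  have hidx := index_over M hM
  have hlt := ratio_lt_three (a := ((Subgroup.centralizer ({t} : Set G)).index : ℤ))
    (a' := ((Subgroup.centralizer ({tM M hM} : Set M)).index : ℤ)) (c := (M.index : ℤ))
    (i := (kcount (two_dvd h) π 0 + kcount (two_dvd h) π 1 : ℤ))
    (by exact_mod_cast Nat.pos_of_ne_zero Subgroup.index_ne_zero_of_finite)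
    (by exact_mod_cast hidx) (h8.trans hf2) hf1 (h8.trans hg2) hg1 hf3 hg3
  have hlt' : M.index < 3 := by exact_mod_cast hlt
  rw [← Subgroup.index_eq_one]
  obtain ⟨k, hk⟩ := hodd
  omega

end Cfsg.Agent.Classification.BGOvergroup
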