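import Mathlib
import Cfsg.Agent.OddOrderCharacters.Wielandt

/-!
# Involutions and normal subgroups of odd order

`ρ : X →* Y` surjective with kernel `R` of odd order, `R` solvable, and `N ⊴ Y` all of whose
involutions are conjugate in `Y`. Counting of the involutions over `N`, and of those commuting with
a given one.
-/

set_option autoImplicit false
set_option linter.unusedSectionVars false

namespace Cfsg.Agent.Classification.DihLift

open Subgroup

section Basic

variable {X : Type*} [Group X]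

theorem mul_self_of {x : X} (hx : orderOf x = 2) : x * x = 1 := by
  have := pow_orderOf_eq_one x
  rwa [hx, sq] at this

theorem orderOf_two {x : X} (h1 : x * x = 1) (h2 : x ≠ 1) : orderOf x = 2 :=
  orderOf_eq_prime (by rwa [sq]) h2

theorem orderOf_conj' (a x : X) : orderOf (a * x * a⁻¹) = orderOf x :=
  (SemiconjBy.orderOf_eq a (x := x) (y := a * x * a⁻¹) (by simp [SemiconjBy])).symm

/-- Orbit–stabiliser for conjugation by a subgroup. -/
theorem card_conj_orbit (A : Subgroup X) (x : X) (S : Set X)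
    (hS : ∀ s, s ∈ S ↔ ∃ a ∈ A, a * x * a⁻¹ = s) :
    Nat.card S * Nat.card (A ⊓ centralizer ({x} : Set X) : Subgroup X) = Nat.card A := by
  set B : Subgroup A := (A ⊓ centralizer ({x} : Set X)).subgroupOf A with hB
  have e1 : Nat.card B = Nat.card (A ⊓ centralizer ({x} : Set X) : Subgroup X) :=
    Nat.card_congr (subgroupOfEquivOfLe inf_le_left).toEquiv
  have hmem : ∀ a : A, a ∈ B ↔ (a : X) * x = x * a := by
    intro a
    rw [hB, mem_subgroupOf, mem_inf, mem_centralizer_singleton_iff]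
    exact ⟨fun h => h.2, fun h => ⟨a.2, h⟩⟩
  have key : ∀ a b : A, a⁻¹ * b ∈ B ↔ (a : X) * x * (a : X)⁻¹ = b * x * (b : X)⁻¹ := by
    intro a b
    rw [hmem]
    push_cast
    constructor
    · intro h
      calc (a : X) * x * (a : X)⁻¹ = a * (x * ((a : X)⁻¹ * b)) * (b : X)⁻¹ := by group
        _ = a * ((a : X)⁻¹ * b * x) * (b : X)⁻¹ := by rw [h]
        _ = b * x * (b : X)⁻¹ := by group
    · intro h
      calc (a : X)⁻¹ * b * x = (a : X)⁻¹ * (b * x * (b : X)⁻¹) * b := by group
        _ = (a : X)⁻¹ * (a * x * (a : X)⁻¹) * b := by rw [h]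
        _ = x * ((a : X)⁻¹ * b) := by group
  have e2 : Nat.card S = B.index := by
    refine (Nat.card_congr (Equiv.ofBijective
      (fun q : A ⧸ B => Quotient.liftOn' q (fun a => (⟨(a : X) * x * (a : X)⁻¹,
        (hS _).mpr ⟨a, a.2, rfl⟩⟩ : S)) ?_) ⟨?_, ?_⟩)).symm
    · intro a b hab
      rw [QuotientGroup.leftRel_apply] at hab
      exact Subtype.ext ((key a b).mp hab)
    · rintro ⟨a⟩ ⟨b⟩ hab
      have h1 : (a : X) * x * (a : X)⁻¹ = b * x * (b : X)⁻¹ := congrArg Subtype.val hab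
      exact Quotient.sound' (QuotientGroup.leftRel_apply.mpr ((key a b).mpr h1))
    · rintro ⟨s, hs⟩
      obtain ⟨a, ha, has⟩ := (hS s).mp hs
      exact ⟨Quotient.mk'' ⟨a, ha⟩, Subtype.ext has⟩
  rw [e2, ← e1, mul_comm]
  exact B.card_mul_index

/-- Two involutions with product of odd order are conjugate by a power of the product. -/
theorem conj_of_odd {x y : X} (hx : x * x = 1) (hy : y * y = 1) (hodd : Odd (orderOf (x * y))) :
    ∃ k : ℕ, ((x * y) ^ k)⁻¹ * x * (x * y) ^ k = y := by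
  obtain ⟨k, hk⟩ := hodd
  refine ⟨k + 1, ?_⟩
  set g := x * y with hg
  have hxi : x⁻¹ = x := inv_eq_of_mul_eq_one_left hx
  have hyi : y⁻¹ = y := inv_eq_of_mul_eq_one_left hy
  have h1 : x * g * x⁻¹ = g⁻¹ := by
    rw [hg, mul_inv_rev, hxi, hyi, ← mul_assoc, hx, one_mul]
  have h2 : ∀ j : ℕ, (g ^ j)⁻¹ = x * g ^ j * x⁻¹ := by
    intro j
    rw [← conj_pow, h1, inv_pow]
  rw [h2]
  calc x * g ^ (k + 1) * x⁻¹ * x * g ^ (k + 1) = x * g ^ (k + 1 + (k + 1)) := by
        rw [pow_add]; group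
    _ = x * (g ^ (2 * k + 1) * g) := by
        rw [← pow_succ]
        congr 2
        ring
    _ = x * (x * y) := by rw [← hk, pow_orderOf_eq_one, one_mul]
    _ = y := by rw [← mul_assoc, hx, one_mul]

end Basic

/-- The fixed point formula for a four-group acting on a solvable group of odd order. -/
theorem four_formula {G : Type*} [Group G] [Finite G] (R : Subgroup G) (hodd : Odd (Nat.card R))
    (hsolv : Group.IsSolvable R) {t u : G} (ht : orderOf t = 2) (hu : orderOf u = 2) (htu : t ≠ u)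
    (hc : t * u = u * t) (htR : t ∈ normalizer (R : Set G)) (huR : u ∈ normalizer (R : Set G)) :
    Nat.card (R ⊓ centralizer ({t} : Set G) : Subgroup G) *
      Nat.card (R ⊓ centralizer ({u} : Set G) : Subgroup G) *
      Nat.card (R ⊓ centralizer ({t * u} : Set G) : Subgroup G) =
    Nat.card (R ⊓ (centralizer ({t} : Set G) ⊓ centralizer ({u} : Set G)) : Subgroup G) ^ 2 *
      Nat.card R := by
  have htt := mul_self_of ht
  have huu := mul_self_of hu
  have ht1 : t ≠ 1 := by rintro rfl; simp at ht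
  have hu1 : u ≠ 1 := by rintro rfl; simp at hu
  have htu1 : t * u ≠ 1 := by
    intro h
    apply htu
    rw [mul_eq_one_iff_eq_inv] at h
    rw [h]
    exact inv_eq_of_mul_eq_one_left huu
  have hw2 : orderOf (t * u) = 2 := by
    refine orderOf_two ?_ htu1
    calc t * u * (t * u) = t * (u * t) * u := by group
      _ = t * (t * u) * u := by rw [hc]
      _ = (t * t) * (u * u) := by group
      _ = 1 := by rw [htt, huu, one_mul]
  have hti : t⁻¹ = t := inv_eq_of_mul_eq_one_left htt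
  have hui : u⁻¹ = u := inv_eq_of_mul_eq_one_left huu
  -- the four-group
  let V : Subgroup G :=
    { carrier := {1, t, u, t * u}
      mul_mem' := by
        rintro a b ha hb
        simp only [Set.mem_insert_iff, Set.mem_singleton_iff] at ha hb ⊢
        have hut : u * t = t * u := hc.symm
        have e1 : t * (t * u) = u := by rw [← mul_assoc, htt, one_mul]
        have e2 : u * (t * u) = t := by rw [← mul_assoc, hut, mul_assoc, huu, mul_one]
        have e3 : t * u * t = u := by rw [mul_assoc, hut, e1]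
        have e4 : t * u * u = t := by rw [mul_assoc, huu, mul_one]
        have e5 : t * u * (t * u) = 1 := by rw [← mul_assoc, e3, huu]
        rcases ha with rfl | rfl | rfl | rfl <;> rcases hb with rfl | rfl | rfl | rfl <;>
          simp [htt, huu, hut, e1, e2, e3, e4, e5]
      one_mem' := Or.inl rfl
      inv_mem' := by
        rintro a ha
        simp only [Set.mem_insert_iff, Set.mem_singleton_iff] at ha ⊢
        have hi : (t * u)⁻¹ = t * u := by rw [mul_inv_rev, hti, hui, hc]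
        rcases ha with rfl | rfl | rfl | rfl
        · left; exact inv_one
        · right; left; exact hti
        · right; right; left; exact hui
        · right; right; right; exact hi }
  have hVmem : ∀ a, a ∈ V ↔ a = 1 ∨ a = t ∨ a = u ∨ a = t * u := fun a => Iff.rfl
  have htV : t ∈ V := (hVmem t).mpr (Or.inr (Or.inl rfl))
  have huV : u ∈ V := (hVmem u).mpr (Or.inr (Or.inr (Or.inl rfl)))
  have hwV : t * u ∈ V := (hVmem _).mpr (Or.inr (Or.inr (Or.inr rfl)))
  have hVn : V ≤ normalizer (R : Set G) := by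
    intro a ha
    rcases (hVmem a).mp ha with rfl | rfl | rfl | rfl
    · exact one_mem _
    · exact htR
    · exact huR
    · exact mul_mem htR huR
  have htw : t ≠ t * u := fun h => hu1 (by simpa using h)
  have huw : u ≠ t * u := fun h => ht1 (by simpa using h)
  have hVcard : Nat.card V = 4 := by
    have : (V : Set G) = {1, t, u, t * u} := rfl
    rw [← SetLike.coe_sort_coe, this, Nat.card_coe_set_eq]
    rw [Set.ncard_insert_of_notMem, Set.ncard_insert_of_notMem, Set.ncard_pair huw]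
    · simp only [Set.mem_insert_iff, Set.mem_singleton_iff, not_or]
      exact ⟨htu, htw⟩
    · simp only [Set.mem_insert_iff, Set.mem_singleton_iff, not_or]
      exact ⟨ht1.symm, hu1.symm, htu1.symm⟩
  have hcard2 : ∀ a : G, orderOf a = 2 → Nat.card (zpowers a) = 2 := fun a ha => by
    rw [Nat.card_zpowers, ha]
  have hzp : ∀ a : G, orderOf a = 2 → ∀ b, b ∈ zpowers a ↔ b = 1 ∨ b = a := by
    intro a ha b
    constructor
    · intro hb
      obtain ⟨k, rfl⟩ := mem_zpowers_iff.mp hb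
      rcases Int.even_or_odd' k with ⟨m, rfl | rfl⟩
      · left
        rw [zpow_mul, zpow_ofNat, sq, mul_self_of ha, one_zpow]
      · right
        rw [zpow_add, zpow_mul, zpow_ofNat, sq, mul_self_of ha, one_zpow, one_mul, zpow_one]
    · rintro (rfl | rfl)
      · exact one_mem _
      · exact mem_zpowers _
  have hcop : (Nat.card V).Coprime (Nat.card R) := by
    rw [hVcard]
    have : Nat.Coprime 2 (Nat.card R) := Nat.coprime_two_left.mpr hodd
    exact Nat.Coprime.pow_left 2 this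
  have key := Cfsg.Agent.OddOrderCharacters.Wielandt.wielandt V R hVn hcop hsolv
    (I := Fin 3) (J := Fin 3) (![zpowers t, zpowers u, zpowers (t * u)]) (![V, ⊥, ⊥])
    (by
      intro i
      fin_cases i
      · simp only [Fin.zero_eta, Matrix.cons_val_zero, zpowers_le]; exact htV
      · simp only [Fin.mk_one, Matrix.cons_val_one, Matrix.cons_val_zero, zpowers_le]; exact huV
      · simp only [Fin.reduceFinMk, Matrix.cons_val, zpowers_le]; exact hwV)
    (by
      intro i
      fin_cases i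
      · simp
      · simp
      · simp)
    (by
      intro f
      classical
      rw [Nat.card_eq_fintype_card, Nat.card_eq_fintype_card, Fintype.card_subtype,
        Fintype.card_subtype, Finset.card_filter, Finset.card_filter, Fin.sum_univ_three,
        Fin.sum_univ_three]
      simp only [Matrix.cons_val_zero, Matrix.cons_val_one, Matrix.cons_val, hzp t ht, hzp u hu,
        hzp (t * u) hw2, mem_bot, hVmem]
      by_cases h1 : f = 1
      · subst h1; simp
      · by_cases h2 : f = t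
        · subst h2
          simp [h1, htu, htw]
        · by_cases h3 : f = u
          · subst h3
            simp [h1, h2, huw]
          · simp [h1, h2, h3])
  rw [Fin.prod_univ_three, Fin.prod_univ_three] at key
  simp only [Matrix.cons_val_zero, Matrix.cons_val_one, Matrix.cons_val] at key
  have hcz : ∀ a : G, centralizer (zpowers a : Set G) = centralizer ({a} : Set G) := by
    intro a
    rw [zpowers_eq_closure, centralizer_closure]
  have hcV : centralizer (V : Set G) = centralizer ({t} : Set G) ⊓ centralizer ({u} : Set G) := by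
    ext a
    rw [mem_inf, mem_centralizer_singleton_iff, mem_centralizer_singleton_iff, mem_centralizer_iff]
    constructor
    · intro h
      exact ⟨(h t htV).symm, (h u huV).symm⟩
    · rintro ⟨h1, h2⟩ b hb
      rcases (hVmem b).mp hb with rfl | rfl | rfl | rfl
      · rw [one_mul, mul_one]
      · exact h1.symm
      · exact h2.symm
      · rw [mul_assoc, ← h2, ← mul_assoc, ← h1, mul_assoc]
  have hcb : centralizer ((⊥ : Subgroup G) : Set G) = ⊤ := by
    rw [eq_top_iff]
    intro a _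
    rw [mem_centralizer_iff]
    intro b hb
    rw [SetLike.mem_coe, mem_bot] at hb
    rw [hb, one_mul, mul_one]
  rw [hcz, hcz, hcz, hcard2 t ht, hcard2 u hu, hcard2 _ hw2, hcV, hVcard, hcb, inf_top_eq] at key
  have hbot : Nat.card (⊥ : Subgroup G) = 1 := by simp
  rw [hbot, pow_one] at key
  -- take square roots
  have hsq : (Nat.card (R ⊓ centralizer ({t} : Set G) : Subgroup G) *
      Nat.card (R ⊓ centralizer ({u} : Set G) : Subgroup G) *
      Nat.card (R ⊓ centralizer ({t * u} : Set G) : Subgroup G)) ^ 2 =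
    (Nat.card (R ⊓ (centralizer ({t} : Set G) ⊓ centralizer ({u} : Set G)) : Subgroup G) ^ 2 *
      Nat.card R) ^ 2 := by
    rw [mul_pow, mul_pow, key]
    ring
  exact Nat.pow_left_injective two_ne_zero hsq

section Lift

variable {X Y : Type*} [Group X] [Finite X] [Group Y] (ρ : X →* Y)

theorem odd_orderOf_of_ker (hodd : Odd (Nat.card ρ.ker)) {g : X} (hg : ρ g = 1) :
    Odd (orderOf g) := by
  have h1 : orderOf (⟨g, hg⟩ : ρ.ker) ∣ Nat.card ρ.ker := orderOf_dvd_natCard _
  rw [← Subgroup.orderOf_coe] at h1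
  exact Odd.of_dvd_nat hodd h1

theorem orderOf_map (hodd : Odd (Nat.card ρ.ker)) {x : X} (hx : orderOf x = 2) :
    orderOf (ρ x) = 2 := by
  refine orderOf_two (by rw [← map_mul, mul_self_of hx, map_one]) ?_
  intro h
  have := odd_orderOf_of_ker ρ hodd h
  rw [hx] at this
  exact absurd this (by decide)

/-- Involutions with the same image are conjugate under the kernel. -/
theorem conj_of_map_eq (hodd : Odd (Nat.card ρ.ker)) {x y : X} (hx : orderOf x = 2)
    (hy : orderOf y = 2) (h : ρ x = ρ y) :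
    ∃ k : ℕ, ((x * y) ^ k)⁻¹ * x * (x * y) ^ k = y ∧ (x * y) ^ k ∈ ρ.ker := by
  have h1 : ρ (x * y) = 1 := by rw [map_mul, h, ← map_mul, mul_self_of hy, map_one]
  obtain ⟨k, hk⟩ := conj_of_odd (mul_self_of hx) (mul_self_of hy) (odd_orderOf_of_ker ρ hodd h1)
  exact ⟨k, hk, pow_mem (show x * y ∈ ρ.ker from h1) k⟩

/-- Involutions lift. -/
theorem exists_lift (hsurj : Function.Surjective ρ) (hodd : Odd (Nat.card ρ.ker)) {y : Y}
    (hy : orderOf y = 2) : ∃ x : X, orderOf x = 2 ∧ ρ x = y := by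
  obtain ⟨x, rfl⟩ := hsurj y
  have hxx : x * x ∈ ρ.ker := by
    rw [MonoidHom.mem_ker, map_mul]
    exact mul_self_of hy
  have h1 : (x * x) ^ Nat.card ρ.ker = 1 := by
    have : (⟨x * x, hxx⟩ : ρ.ker) ^ Nat.card ρ.ker = 1 := pow_card_eq_one'
    exact congrArg Subtype.val this
  have h2 : ρ (x ^ Nat.card ρ.ker) = ρ x := by
    obtain ⟨k, hk⟩ := hodd
    rw [map_pow, hk, pow_succ, pow_mul, sq, mul_self_of hy, one_pow, one_mul]
  refine ⟨x ^ Nat.card ρ.ker, orderOf_two ?_ ?_, h2⟩
  · rw [← pow_add, ← two_mul, pow_mul, sq, h1]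
  · intro h3
    rw [h3, map_one] at h2
    rw [← h2] at hy
    simp at hy

/-- Commuting lifts. -/
theorem exists_commuting_lift (hsurj : Function.Surjective ρ) (hodd : Odd (Nat.card ρ.ker))
    {τ : X} (hτ : orderOf τ = 2) {v : Y} (hv : orderOf v = 2) (hc : v * ρ τ = ρ τ * v)
    (hne : v ≠ ρ τ) : ∃ x : X, orderOf x = 2 ∧ ρ x = v ∧ x * τ = τ * x := by
  obtain ⟨v₀, hv₀, rfl⟩ := exists_lift ρ hsurj hodd hv
  set g := τ * v₀ with hg
  have hgg : ρ (g * g) = 1 := by
    rw [hg, map_mul, map_mul]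
    calc ρ τ * ρ v₀ * (ρ τ * ρ v₀) = ρ τ * (ρ v₀ * ρ τ) * ρ v₀ := by group
      _ = ρ τ * (ρ τ * ρ v₀) * ρ v₀ := by rw [hc]
      _ = ρ (τ * τ) * ρ (v₀ * v₀) := by rw [map_mul, map_mul]; group
      _ = 1 := by rw [mul_self_of hτ, mul_self_of hv₀, map_one, one_mul]
  have hodd2 := odd_orderOf_of_ker ρ hodd hgg
  set m := orderOf (g * g) with hm
  obtain ⟨k, hk⟩ := hodd2
  set z := g ^ m with hz
  have hzz : z * z = 1 := by
    rw [hz, ← pow_add, ← two_mul, pow_mul, sq, hm, pow_orderOf_eq_one]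
  have hρz : ρ z = ρ g := by
    rw [hz, map_pow, hk, pow_succ, pow_mul, sq, ← map_mul, hgg, one_pow, one_mul]
  have hti : τ⁻¹ = τ := inv_eq_of_mul_eq_one_left (mul_self_of hτ)
  have hvi : v₀⁻¹ = v₀ := inv_eq_of_mul_eq_one_left (mul_self_of hv₀)
  have hinv : τ * g * τ⁻¹ = g⁻¹ := by
    rw [hg, mul_inv_rev, hti, hvi, ← mul_assoc, mul_self_of hτ, one_mul]
  have hzc : τ * z = z * τ := by
    have h1 : τ * z * τ⁻¹ = z := by
      rw [hz, ← conj_pow, hinv, inv_pow]
      exact inv_eq_of_mul_eq_one_left hzz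
    calc τ * z = τ * z * τ⁻¹ * τ := by group
      _ = z * τ := by rw [h1]
  have hρ : ρ (τ * z) = ρ v₀ := by
    rw [map_mul, hρz, hg, map_mul, ← mul_assoc, ← map_mul, mul_self_of hτ, map_one, one_mul]
  refine ⟨τ * z, orderOf_two ?_ ?_, hρ, ?_⟩
  · calc τ * z * (τ * z) = τ * (z * τ) * z := by group
      _ = τ * (τ * z) * z := by rw [hzc]
      _ = (τ * τ) * (z * z) := by group
      _ = 1 := by rw [mul_self_of hτ, hzz, one_mul]
  · intro h1
    rw [h1, map_one] at hρ
    rw [← hρ] at hv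
    simp at hv
  · calc τ * z * τ = τ * (z * τ) := by group
      _ = τ * (τ * z) := by rw [hzc]

/-- Involutions of `X` with conjugate images are conjugate. -/
theorem conj_of_map_conj (hsurj : Function.Surjective ρ) (hodd : Odd (Nat.card ρ.ker)) {x y : X}
    (hx : orderOf x = 2) (hy : orderOf y = 2) {a : Y} (h : a * ρ x * a⁻¹ = ρ y) :
    ∃ b : X, b * x * b⁻¹ = y := by
  obtain ⟨c, rfl⟩ := hsurj a
  have h1 : ρ (c * x * c⁻¹) = ρ y := by rw [map_mul, map_mul, map_inv, h]
  obtain ⟨k, hk, -⟩ := conj_of_map_eq ρ hodd (by rw [orderOf_conj']; exact hx) hy h1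
  refine ⟨((c * x * c⁻¹ * y) ^ k)⁻¹ * c, ?_⟩
  refine Eq.trans ?_ hk
  group

/-- The number of involutions over a given one. -/
theorem card_fib (hodd : Odd (Nat.card ρ.ker)) {x : X} (hx : orderOf x = 2) :
    Nat.card {s : X // orderOf s = 2 ∧ ρ s = ρ x} *
      Nat.card (ρ.ker ⊓ centralizer ({x} : Set X) : Subgroup X) = Nat.card ρ.ker := by
  refine card_conj_orbit ρ.ker x {s : X | orderOf s = 2 ∧ ρ s = ρ x} ?_
  intro s
  constructor
  · rintro ⟨h1, h2⟩
    obtain ⟨k, hk, hk2⟩ := conj_of_map_eq ρ hodd hx h1 h2.symm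
    exact ⟨((x * s) ^ k)⁻¹, inv_mem hk2, by rw [inv_inv]; exact hk⟩
  · rintro ⟨a, ha, rfl⟩
    refine ⟨by rw [orderOf_conj']; exact hx, ?_⟩
    rw [MonoidHom.mem_ker] at ha
    rw [map_mul, map_mul, map_inv, ha, one_mul, inv_one, mul_one]

/-- The number of involutions over a given one commuting with `τ`. -/
theorem card_fib_comm (hodd : Odd (Nat.card ρ.ker)) {x τ : X} (hx : orderOf x = 2)
    (hxτ : x * τ = τ * x) :
    Nat.card {s : X // orderOf s = 2 ∧ ρ s = ρ x ∧ s * τ = τ * s} *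
      Nat.card (ρ.ker ⊓ (centralizer ({τ} : Set X) ⊓ centralizer ({x} : Set X)) : Subgroup X) =
        Nat.card (ρ.ker ⊓ centralizer ({τ} : Set X) : Subgroup X) := by
  rw [← inf_assoc]
  refine card_conj_orbit (ρ.ker ⊓ centralizer ({τ} : Set X)) x
    {s : X | orderOf s = 2 ∧ ρ s = ρ x ∧ s * τ = τ * s} ?_
  intro s
  constructor
  · rintro ⟨h1, h2, h3⟩
    obtain ⟨k, hk, hk2⟩ := conj_of_map_eq ρ hodd hx h1 h2.symm
    refine ⟨((x * s) ^ k)⁻¹, inv_mem (mem_inf.mpr ⟨hk2, ?_⟩), by rw [inv_inv]; exact hk⟩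
    rw [mem_centralizer_singleton_iff]
    have : Commute (x * s) τ := Commute.mul_left hxτ h3
    exact this.pow_left k
  · rintro ⟨a, ha, rfl⟩
    rw [mem_inf, MonoidHom.mem_ker, mem_centralizer_singleton_iff] at ha
    refine ⟨by rw [orderOf_conj']; exact hx, ?_, ?_⟩
    · rw [map_mul, map_mul, map_inv, ha.1, one_mul, inv_one, mul_one]
    · have h1 : Commute a τ := ha.2
      have h2 : Commute x τ := hxτ
      exact (h1.mul_left h2).mul_left h1.inv_left

theorem card_inf_centralizer_conj (R : Subgroup X) [R.Normal] (b x : X) :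
    Nat.card (R ⊓ centralizer ({b * x * b⁻¹} : Set X) : Subgroup X) =
      Nat.card (R ⊓ centralizer ({x} : Set X) : Subgroup X) := by
  have hR : R.Normal := inferInstance
  have f1 : ∀ c : X, c ∈ R ⊓ centralizer ({x} : Set X) →
      b * c * b⁻¹ ∈ R ⊓ centralizer ({b * x * b⁻¹} : Set X) := by
    intro c hc
    have h := mem_inf.mp hc
    rw [mem_inf, mem_centralizer_singleton_iff]
    refine ⟨hR.conj_mem _ h.1 b, ?_⟩
    have h2 := mem_centralizer_singleton_iff.mp h.2
    calc b * c * b⁻¹ * (b * x * b⁻¹) = b * (c * x) * b⁻¹ := by group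
      _ = b * (x * c) * b⁻¹ := by rw [h2]
      _ = b * x * b⁻¹ * (b * c * b⁻¹) := by group
  have f2 : ∀ c : X, c ∈ R ⊓ centralizer ({b * x * b⁻¹} : Set X) →
      b⁻¹ * c * b ∈ R ⊓ centralizer ({x} : Set X) := by
    intro c hc
    have h := mem_inf.mp hc
    rw [mem_inf, mem_centralizer_singleton_iff]
    refine ⟨by simpa using hR.conj_mem _ h.1 b⁻¹, ?_⟩
    have h2 := mem_centralizer_singleton_iff.mp h.2
    calc b⁻¹ * c * b * x = b⁻¹ * (c * (b * x * b⁻¹)) * b := by group
      _ = b⁻¹ * (b * x * b⁻¹ * c) * b := by rw [h2]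
      _ = x * (b⁻¹ * c * b) := by group
  refine (Nat.card_congr ⟨fun c => ⟨b * c.1 * b⁻¹, f1 c.1 c.2⟩, fun c => ⟨b⁻¹ * c.1 * b, f2 c.1 c.2⟩,
    ?_, ?_⟩).symm
  · intro c
    apply Subtype.ext
    simp only
    group
  · intro c
    apply Subtype.ext
    simp only
    group

theorem card_eq_of_fibres {A B : Type*} [Finite A] [Finite B] (f : A → B) (c : ℕ)
    (h : ∀ b, Nat.card {a // f a = b} = c) : Nat.card A = c * Nat.card B := by
  classical
  have : Fintype A := Fintype.ofFinite A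
  have : Fintype B := Fintype.ofFinite B
  rw [Nat.card_congr (Equiv.sigmaFiberEquiv f).symm, Nat.card_sigma,
    Finset.sum_congr rfl (fun b _ => h b), Finset.sum_const, Finset.card_univ, smul_eq_mul,
    ← Nat.card_eq_fintype_card, mul_comm]

/-- **The counting lemma.** -/
theorem exists_counts (hsurj : Function.Surjective ρ) (hodd : Odd (Nat.card ρ.ker))
    (hsolv : Group.IsSolvable ρ.ker) (N : Subgroup Y)
    (hN : ∀ a b : Y, a ∈ N → b ∈ N → orderOf a = 2 → orderOf b = 2 → ∃ c, c * a * c⁻¹ = b)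
    {τ : X} (hτ : orderOf τ = 2) (hτN : ρ τ ∈ N)
    (hk : 0 < Nat.card {v : Y // v ∈ N ∧ orderOf v = 2 ∧ v ≠ ρ τ ∧ v * ρ τ = ρ τ * v}) :
    ∃ x : ℕ, 0 < x ∧
      Nat.card {s : X // ρ s ∈ N ∧ orderOf s = 2} =
        x ^ 2 * Nat.card {s : Y // s ∈ N ∧ orderOf s = 2} ∧
      Nat.card {s : X // ρ s ∈ N ∧ orderOf s = 2 ∧ s ≠ τ ∧ s * τ = τ * s} =
        x * Nat.card {v : Y // v ∈ N ∧ orderOf v = 2 ∧ v ≠ ρ τ ∧ v * ρ τ = ρ τ * v} ∧
      Nat.card ρ.ker = x ^ 2 * Nat.card (ρ.ker ⊓ centralizer ({τ} : Set X) : Subgroup X) := by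
  have hY : Finite Y := Finite.of_surjective ρ hsurj
  have hcpos : 0 < Nat.card (ρ.ker ⊓ centralizer ({τ} : Set X) : Subgroup X) := Nat.card_pos
  -- conjugacy
  have hconj : ∀ s : X, ρ s ∈ N → orderOf s = 2 → ∃ b, b * τ * b⁻¹ = s := by
    intro s hs hs2
    obtain ⟨c, hc⟩ := hN _ _ hτN hs (orderOf_map ρ hodd hτ) (orderOf_map ρ hodd hs2)
    exact conj_of_map_conj ρ hsurj hodd hτ hs2 hc
  have hcen : ∀ s : X, ρ s ∈ N → orderOf s = 2 →
      Nat.card (ρ.ker ⊓ centralizer ({s} : Set X) : Subgroup X) =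
        Nat.card (ρ.ker ⊓ centralizer ({τ} : Set X) : Subgroup X) := by
    intro s hs hs2
    obtain ⟨b, rfl⟩ := hconj s hs hs2
    exact card_inf_centralizer_conj ρ.ker b τ
  -- the fixed point formula
  have hfour : ∀ s : X, ρ s ∈ N → orderOf s = 2 → s ≠ τ → s * τ = τ * s →
      Nat.card (ρ.ker ⊓ centralizer ({τ} : Set X) : Subgroup X) ^ 3 =
        Nat.card (ρ.ker ⊓ (centralizer ({τ} : Set X) ⊓ centralizer ({s} : Set X)) :
          Subgroup X) ^ 2 * Nat.card ρ.ker := by
    intro s hs hs2 hne hc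
    have h1 := four_formula ρ.ker hodd hsolv hτ hs2 hne.symm hc.symm
      (by rw [Subgroup.normalizer_eq_top]; trivial) (by rw [Subgroup.normalizer_eq_top]; trivial)
    have h2 : orderOf (τ * s) = 2 := by
      refine orderOf_two ?_ ?_
      · calc τ * s * (τ * s) = τ * (s * τ) * s := by group
          _ = τ * (τ * s) * s := by rw [hc]
          _ = (τ * τ) * (s * s) := by group
          _ = 1 := by rw [mul_self_of hτ, mul_self_of hs2, one_mul]
      · intro h
        apply hne
        rw [mul_eq_one_iff_eq_inv] at h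
        rw [h]
        exact (inv_eq_of_mul_eq_one_left (mul_self_of hs2)).symm
    have h3 : ρ (τ * s) ∈ N := by rw [map_mul]; exact mul_mem hτN hs
    rw [hcen s hs hs2, hcen _ h3 h2] at h1
    rw [← h1]
    ring
  -- the number `x`
  obtain ⟨⟨v, hvN, hv2, hvne, hvc⟩⟩ : Nonempty {v : Y // v ∈ N ∧ orderOf v = 2 ∧ v ≠ ρ τ ∧
      v * ρ τ = ρ τ * v} := by
    by_contra h
    rw [not_nonempty_iff] at h
    rw [Nat.card_of_isEmpty] at hk
    exact absurd hk (lt_irrefl 0)
  obtain ⟨u, hu2, huv, huc⟩ := exists_commuting_lift ρ hsurj hodd hτ hv2 hvc hvne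
  have hune : u ≠ τ := by rintro rfl; exact hvne huv.symm
  have huN : ρ u ∈ N := by rw [huv]; exact hvN
  set c := Nat.card (ρ.ker ⊓ centralizer ({τ} : Set X) : Subgroup X) with hcdef
  set x := Nat.card {s : X // orderOf s = 2 ∧ ρ s = ρ u ∧ s * τ = τ * s} with hx
  have hxd := card_fib_comm ρ hodd hu2 huc
  rw [← hx, ← hcdef] at hxd
  have hfu := hfour u huN hu2 hune huc
  have hR : Nat.card ρ.ker = x ^ 2 * c := by
    set d := Nat.card (ρ.ker ⊓ (centralizer ({τ} : Set X) ⊓ centralizer ({u} : Set X)) :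
      Subgroup X) with hd
    have hd0 : 0 < d := Nat.card_pos
    have h2 : d ^ 2 * Nat.card ρ.ker = d ^ 2 * (x ^ 2 * c) := by
      rw [← hfu, ← hxd]; ring
    exact Nat.eq_of_mul_eq_mul_left (by positivity) h2
  have hx0 : 0 < x := by
    rcases Nat.eq_zero_or_pos x with h | h
    · rw [h, zero_mul] at hxd
      omega
    · exact h
  refine ⟨x, hx0, ?_, ?_, hR⟩
  · -- all involutions
    refine card_eq_of_fibres (fun s : {s : X // ρ s ∈ N ∧ orderOf s = 2} =>
      (⟨ρ s.1, s.2.1, orderOf_map ρ hodd s.2.2⟩ : {s : Y // s ∈ N ∧ orderOf s = 2})) (x ^ 2) ?_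
    rintro ⟨y, hyN, hy2⟩
    obtain ⟨s, hs2, rfl⟩ := exists_lift ρ hsurj hodd hy2
    have h1 := card_fib ρ hodd hs2
    rw [hcen s hyN hs2, hR] at h1
    have h2 := Nat.eq_of_mul_eq_mul_right hcpos h1
    rw [← h2]
    refine Nat.card_congr ⟨fun a => ⟨a.1.1, a.1.2.2, congrArg Subtype.val a.2⟩,
      fun a => ⟨⟨a.1, by rw [a.2.2]; exact hyN, a.2.1⟩, Subtype.ext a.2.2⟩, fun a => rfl,
      fun a => rfl⟩
  · -- commuting involutions
    refine card_eq_of_fibres
      (fun s : {s : X // ρ s ∈ N ∧ orderOf s = 2 ∧ s ≠ τ ∧ s * τ = τ * s} =>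
      (⟨ρ s.1, s.2.1, orderOf_map ρ hodd s.2.2.1, ?_, ?_⟩ :
        {v : Y // v ∈ N ∧ orderOf v = 2 ∧ v ≠ ρ τ ∧ v * ρ τ = ρ τ * v})) x ?_
    · intro h
      obtain ⟨k, hk, hk2⟩ := conj_of_map_eq ρ hodd s.2.2.1 hτ h
      have hcc : Commute ((s.1 * τ) ^ k) s.1 := by
        have h1 : Commute τ s.1 := s.2.2.2.2.symm
        exact ((Commute.refl s.1).mul_left h1).pow_left k
      apply s.2.2.2.1
      calc s.1 = ((s.1 * τ) ^ k)⁻¹ * ((s.1 * τ) ^ k * s.1) := by group
        _ = ((s.1 * τ) ^ k)⁻¹ * (s.1 * (s.1 * τ) ^ k) := by rw [hcc.eq]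
        _ = ((s.1 * τ) ^ k)⁻¹ * s.1 * (s.1 * τ) ^ k := by group
        _ = τ := hk
    · rw [← map_mul, s.2.2.2.2, map_mul]
    rintro ⟨y, hyN, hy2, hyne, hyc⟩
    obtain ⟨s, hs2, rfl, hsc⟩ := exists_commuting_lift ρ hsurj hodd hτ hy2 hyc hyne
    have hsne : s ≠ τ := by rintro rfl; exact hyne rfl
    have h1 := card_fib_comm ρ hodd hs2 hsc
    have h2 := hfour s hyN hs2 hsne hsc
    rw [← hcdef] at h1
    have h3 : Nat.card {s' : X // orderOf s' = 2 ∧ ρ s' = ρ s ∧ s' * τ = τ * s'} = x := by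
      set d := Nat.card (ρ.ker ⊓ (centralizer ({τ} : Set X) ⊓ centralizer ({s} : Set X)) :
        Subgroup X) with hd
      set x' := Nat.card {s' : X // orderOf s' = 2 ∧ ρ s' = ρ s ∧ s' * τ = τ * s'} with hx'
      have hd0 : 0 < d := Nat.card_pos
      have h4 : d ^ 2 * c * x' ^ 2 = d ^ 2 * c * x ^ 2 := by
        calc d ^ 2 * c * x' ^ 2 = (x' * d) ^ 2 * c := by ring
          _ = c ^ 3 := by rw [h1]; ring
          _ = d ^ 2 * (x ^ 2 * c) := by rw [h2, hR]
          _ = d ^ 2 * c * x ^ 2 := by ring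
      have h5 : x' ^ 2 = x ^ 2 := Nat.eq_of_mul_eq_mul_left (by positivity) h4
      exact Nat.pow_left_injective two_ne_zero h5
    rw [← h3]
    refine Nat.card_congr ⟨fun a => ⟨a.1.1, a.1.2.2.1, congrArg Subtype.val a.2,
      a.1.2.2.2.2⟩, fun a => ⟨⟨a.1, by rw [a.2.2.1]; exact hyN, a.2.1, ?_, a.2.2.2⟩,
      Subtype.ext a.2.2.1⟩, fun a => rfl, fun a => rfl⟩
    rintro h4
    apply hyne
    rw [← h4, a.2.2.1]

end Lift

end Cfsg.Agent.Classification.DihLift
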