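import Mathlib
import Cfsg.Agent.Classification.BGBasic
import Cfsg.Agent.Classification.BGOrder
import Cfsg.Agent.Classification.BGOvergroup
import Cfsg.Agent.Classification.BGSylow
import Cfsg.Agent.Classification.BGValues

/-!
# Type A maximal subgroups in the Gorenstein–Walter theorem: counting pairs of involutions

`M ≥ C(t)` has a normal subgroup `M₀` of index two which contains (and fuses to `t`) the
involutions of `C(t)` over the reflections of one parity and does not contain those of the other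
parity. An elementary count of pairs `(x, z)`, `x ∈ M₀`, `z ∉ M₀` involutions of `M`, gives
`|t^M| = y (y + K₀)`.
-/

set_option autoImplicit false
set_option linter.unusedSectionVars false

namespace Cfsg.Agent.Classification.DihTypeACount

open DihedralGroup Cfsg.Agent.Classification.BGDefs Cfsg.Agent.Classification.BGBasic
  Cfsg.Agent.Classification.BGOrder

section Par

variable {G : Type*} [Group G] {t : G} {n : ℕ} [NeZero n]
  {π : (Subgroup.centralizer ({t} : Set G)) →* DihedralGroup n}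

/-- The involutions of `C(t)` over the reflections of parity `p`. -/
def IsPar (h2 : 2 ∣ n) (π : (Subgroup.centralizer ({t} : Set G)) →* DihedralGroup n) (p : ZMod 2)
    (x : G) : Prop :=
  ∃ hx : x ∈ Subgroup.centralizer ({t} : Set G), orderOf x = 2 ∧
    ∃ j : ZMod n, π ⟨x, hx⟩ = sr j ∧ ZMod.castHom h2 (ZMod 2) j = p

theorem mul_self_of_orderOf {x : G} (hx : orderOf x = 2) : x * x = 1 := by
  have := pow_orderOf_eq_one x
  rwa [hx, sq] at this

theorem ne_one_of_orderOf {x : G} (hx : orderOf x = 2) : x ≠ 1 := by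
  rintro rfl; simp at hx

theorem orderOf_eq_two {x : G} (h1 : x * x = 1) (h2 : x ≠ 1) : orderOf x = 2 :=
  orderOf_eq_prime (by rwa [sq]) h2

theorem kcount_eq (h2 : 2 ∣ n) (p : ZMod 2) :
    kcount h2 π p = Nat.card {x : G // IsPar h2 π p x} := by
  refine Nat.card_congr ⟨fun x => ⟨x.1.1, x.1.2, ?_, x.2.2⟩, fun x => ⟨⟨x.1, x.2.1⟩, ?_, x.2.2.2⟩,
    fun x => rfl, fun x => rfl⟩
  · rw [Subgroup.orderOf_coe]; exact x.2.1
  · rw [← Subgroup.orderOf_coe]; exact x.2.2.1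

theorem par_cases (h : BGHyp t n π) (p : ZMod 2) {x : G}
    (hx : x ∈ Subgroup.centralizer ({t} : Set G)) (hx2 : orderOf x = 2) :
    x = t ∨ IsPar (two_dvd h) π p x ∨ IsPar (two_dvd h) π (p + 1) x := by
  have h1 : orderOf (⟨x, hx⟩ : Subgroup.centralizer ({t} : Set G)) = 2 := by
    rw [← Subgroup.orderOf_coe]; exact hx2
  rcases eq_tt_or_sr h h1 with h3 | ⟨j, hj⟩
  · left; exact congrArg Subtype.val h3
  · right
    have : ∀ a b : ZMod 2, a = b ∨ a = b + 1 := by decide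
    rcases this (ZMod.castHom (two_dvd h) (ZMod 2) j) p with h4 | h4
    · left; exact ⟨hx, hx2, j, hj, h4⟩
    · right; exact ⟨hx, hx2, j, hj, h4⟩

theorem par_ne_t (h : BGHyp t n π) {p : ZMod 2} {x : G} (hx : IsPar (two_dvd h) π p x) :
    x ≠ t := by
  rintro rfl
  obtain ⟨h1, -, j, hj, -⟩ := hx
  have h3 := h.map_t h1
  rw [h3] at hj
  exact absurd hj (by simp)

theorem par_disjoint (h : BGHyp t n π) {p : ZMod 2} {x : G} (hx : IsPar (two_dvd h) π p x)
    (hx' : IsPar (two_dvd h) π (p + 1) x) : False := by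
  obtain ⟨h1, -, j, hj, hjp⟩ := hx
  obtain ⟨h1', -, j', hj', hjp'⟩ := hx'
  rw [hj] at hj'
  have : j = j' := sr.inj hj'
  subst this
  rw [hjp] at hjp'
  have : ∀ a : ZMod 2, a ≠ a + 1 := by decide
  exact this p hjp'

/-- an element of `ZMod n` of even parity is a double -/
theorem exists_double (h2 : 2 ∣ n) (d : ZMod n) (hd : ZMod.castHom h2 (ZMod 2) d = 0) :
    ∃ k : ZMod n, d = k + k := by
  obtain ⟨k, rfl⟩ := ZMod.intCast_surjective d
  rw [map_intCast, ZMod.intCast_zmod_eq_zero_iff_dvd] at hd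
  obtain ⟨m, rfl⟩ := hd
  refine ⟨(m : ZMod n), ?_⟩
  push_cast
  ring

/-- The involutions of one parity are conjugate in `C(t)`. -/
theorem par_conj [Finite G] (h : BGHyp t n π) {p : ZMod 2} {x y : G}
    (hx : IsPar (two_dvd h) π p x) (hy : IsPar (two_dvd h) π p y) :
    ∃ c ∈ Subgroup.centralizer ({t} : Set G), c * x * c⁻¹ = y := by
  obtain ⟨hxC, hx2, i, hi, hip⟩ := hx
  obtain ⟨hyC, hy2, j, hj, hjp⟩ := hy
  obtain ⟨k, hk⟩ := exists_double (two_dvd h) (i - j) (by rw [map_sub, hip, hjp, sub_self])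
  obtain ⟨c, hc⟩ := h.surj (r k)
  have h1 : π (c * ⟨x, hxC⟩ * c⁻¹) = π ⟨y, hyC⟩ := by
    rw [map_mul, map_mul, map_inv, hc, hi, hj, inv_r, r_mul_sr, sr_mul_r]
    congr 1
    linear_combination hk
  have e1 : (⟨x, hxC⟩ : Subgroup.centralizer ({t} : Set G)) * ⟨x, hxC⟩ = 1 :=
    Subtype.ext (mul_self_of_orderOf hx2)
  have e2 : (⟨y, hyC⟩ : Subgroup.centralizer ({t} : Set G)) * ⟨y, hyC⟩ = 1 :=
    Subtype.ext (mul_self_of_orderOf hy2)
  have h3 := BGValues.isConj_of_ker_odd π h.odd_ker (c * ⟨x, hxC⟩ * c⁻¹) ⟨y, hyC⟩ 1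
    (by rw [pow_one, sq]
        calc c * ⟨x, hxC⟩ * c⁻¹ * (c * ⟨x, hxC⟩ * c⁻¹) = c * (⟨x, hxC⟩ * ⟨x, hxC⟩) * c⁻¹ := by group
          _ = 1 := by rw [e1]; group)
    (by rw [pow_one, sq, e2]) h1
  obtain ⟨d, hd⟩ := isConj_iff.mp h3
  refine ⟨(d * c : Subgroup.centralizer ({t} : Set G)), (d * c).2, ?_⟩
  have h4 : (d * c) * ⟨x, hxC⟩ * (d * c)⁻¹ = ⟨y, hyC⟩ := by rw [← hd]; group
  exact congrArg Subtype.val h4

theorem par_conj_mem [Finite G] (h : BGHyp t n π) {p : ZMod 2} {x c : G}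
    (hx : IsPar (two_dvd h) π p x) (hc : c ∈ Subgroup.centralizer ({t} : Set G)) :
    IsPar (two_dvd h) π p (c * x * c⁻¹) := by
  obtain ⟨hxC, hx2, i, hi, hip⟩ := hx
  have hmem : c * x * c⁻¹ ∈ Subgroup.centralizer ({t} : Set G) :=
    mul_mem (mul_mem hc hxC) (inv_mem hc)
  refine ⟨hmem, by rw [orderOf_conj]; exact hx2, ?_⟩
  have h1 : (⟨c * x * c⁻¹, hmem⟩ : Subgroup.centralizer ({t} : Set G)) =
      ⟨c, hc⟩ * ⟨x, hxC⟩ * ⟨c, hc⟩⁻¹ := rfl
  match hπ : π ⟨c, hc⟩ with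
  | r k =>
    refine ⟨i - k - k, ?_, ?_⟩
    · rw [h1, map_mul, map_mul, map_inv, hπ, hi, inv_r, r_mul_sr, sr_mul_r]
      congr 1
      ring
    · rw [map_sub, map_sub, hip, sub_sub]
      have : ∀ a b : ZMod 2, a - (b + b) = a := by decide
      exact this _ _
  | sr k =>
    refine ⟨k - (i - k), ?_, ?_⟩
    · rw [h1, map_mul, map_mul, map_inv, hπ, hi, inv_sr, sr_mul_sr, r_mul_sr]
    · rw [map_sub, map_sub, hip]
      have : ∀ a b : ZMod 2, b - (a - b) = a := by decide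
      exact this _ _

theorem par_mul (h : BGHyp t n π) {p : ZMod 2} {x y : G} (hx : IsPar (two_dvd h) π p x)
    (hy : IsPar (two_dvd h) π (p + 1) y) : t ∈ Subgroup.zpowers (x * y) := by
  obtain ⟨hxC, hx2, i, hi, hip⟩ := hx
  obtain ⟨hyC, hy2, j, hj, hjp⟩ := hy
  have h1 : π (⟨x, hxC⟩ * ⟨y, hyC⟩) = r (j - i) := by
    rw [map_mul, hi, hj, sr_mul_sr]
  refine mem_zpowers_of_rot h (j := j - i) ?_ h1
  intro h3
  have h4 : ZMod.castHom (two_dvd h) (ZMod 2) (j - i) = 0 := by rw [h3, map_zero]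
  rw [map_sub, hip, hjp, add_sub_cancel_left] at h4
  exact absurd h4 (by decide)

/-- The 2-rank is two. -/
theorem rank_two_t (h : BGHyp t n π) {y z : G} (hy : orderOf y = 2) (hz : orderOf z = 2)
    (hty : t * y = y * t) (htz : t * z = z * t) (hyz : y * z = z * y) (h1 : y ≠ t) (h2 : z ≠ t)
    (h3 : z ≠ y) : z = t * y := by
  have hyC : y ∈ Subgroup.centralizer ({t} : Set G) := by
    rw [Subgroup.mem_centralizer_singleton_iff]; exact hty.symm
  have hzC : z ∈ Subgroup.centralizer ({t} : Set G) := by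
    rw [Subgroup.mem_centralizer_singleton_iff]; exact htz.symm
  have hyo : orderOf (⟨y, hyC⟩ : Subgroup.centralizer ({t} : Set G)) = 2 := by
    rw [← Subgroup.orderOf_coe]; exact hy
  have hzo : orderOf (⟨z, hzC⟩ : Subgroup.centralizer ({t} : Set G)) = 2 := by
    rw [← Subgroup.orderOf_coe]; exact hz
  obtain ⟨i, hi⟩ := (eq_tt_or_sr h hyo).resolve_left (fun h4 => h1 (congrArg Subtype.val h4))
  obtain ⟨j, hj⟩ := (eq_tt_or_sr h hzo).resolve_left (fun h4 => h2 (congrArg Subtype.val h4))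
  set w : Subgroup.centralizer ({t} : Set G) := ⟨y, hyC⟩ * ⟨z, hzC⟩ with hw
  have hww : w * w = 1 := by
    apply Subtype.ext
    change y * z * (y * z) = 1
    calc y * z * (y * z) = y * (z * y) * z := by group
      _ = (y * y) * (z * z) := by rw [← hyz]; group
      _ = 1 := by rw [mul_self_of_orderOf hy, mul_self_of_orderOf hz, one_mul]
  have hπw : π w = r (j - i) := by rw [hw, map_mul, hi, hj, sr_mul_sr]
  have hw1 : w ≠ 1 := by
    intro h4
    have h5 : y * z = 1 := congrArg Subtype.val h4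
    apply h3
    rw [mul_eq_one_iff_eq_inv] at h5
    rw [h5]
    exact (inv_eq_of_mul_eq_one_left (mul_self_of_orderOf hz)).symm
  have hwo : orderOf w = 2 := orderOf_eq_two hww hw1
  rcases eq_tt_or_sr h hwo with h4 | ⟨k, hk⟩
  · have h5 : y * z = t := congrArg Subtype.val h4
    calc z = y * y * z := by rw [mul_self_of_orderOf hy, one_mul]
      _ = y * t := by rw [mul_assoc, h5]
      _ = t * y := hty.symm
  · rw [hπw] at hk
    exact absurd hk (by simp)

theorem rank_two (h : BGHyp t n π) {x y z : G} (hx : orderOf x = 2) (hy : orderOf y = 2)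
    (hz : orderOf z = 2) (hxy : x * y = y * x) (hxz : x * z = z * x) (hyz : y * z = z * y)
    (h1 : y ≠ x) (h2 : z ≠ x) (h3 : z ≠ y) : z = x * y := by
  obtain ⟨g, hg⟩ := isConj_iff.mp (h.one_class x hx)
  -- conjugate by `g⁻¹`
  have conj_comm : ∀ a b : G, a * b = b * a → (g⁻¹ * a * g) * (g⁻¹ * b * g) =
      (g⁻¹ * b * g) * (g⁻¹ * a * g) := by
    intro a b hab
    calc (g⁻¹ * a * g) * (g⁻¹ * b * g) = g⁻¹ * (a * b) * g := by group
      _ = g⁻¹ * (b * a) * g := by rw [hab]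
      _ = _ := by group
  have hxt : g⁻¹ * x * g = t := by rw [← hg]; group
  have ho : ∀ a : G, orderOf (g⁻¹ * a * g) = orderOf a := by
    intro a
    have := orderOf_conj a g⁻¹
    rwa [inv_inv] at this
  have hne : ∀ a b : G, a ≠ b → g⁻¹ * a * g ≠ g⁻¹ * b * g := by
    intro a b hab h4
    exact hab (mul_left_cancel (mul_right_cancel h4))
  have key := rank_two_t h (y := g⁻¹ * y * g) (z := g⁻¹ * z * g) (by rw [ho, hy]) (by rw [ho, hz])
    (by rw [← hxt]; exact conj_comm x y hxy) (by rw [← hxt]; exact conj_comm x z hxz)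
    (conj_comm y z hyz) (by rw [← hxt]; exact hne _ _ h1) (by rw [← hxt]; exact hne _ _ h2)
    (hne _ _ h3)
  rw [← hxt] at key
  have : g⁻¹ * z * g = g⁻¹ * (x * y) * g := by rw [key]; group
  exact mul_left_cancel (mul_right_cancel this)

end Par

section Inv

variable {G : Type*} [Group G]

/-- The involution of the cyclic group generated by an element of even order. -/
noncomputable def inv2 (g : G) : G := g ^ (orderOf g / 2)

theorem eq_inv2 {g τ : G} (hτ : orderOf τ = 2) (hmem : τ ∈ Subgroup.zpowers g)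
    (hg : orderOf g ≠ 0) : τ = inv2 g := by
  obtain ⟨k, rfl⟩ := Subgroup.mem_zpowers_iff.mp hmem
  have h1 : g ^ (k * 2) = 1 := by
    rw [zpow_mul, zpow_ofNat, sq]
    exact mul_self_of_orderOf hτ
  have h2 : ((orderOf g : ℕ) : ℤ) ∣ k * 2 := orderOf_dvd_iff_zpow_eq_one.mpr h1
  have h3 : ¬ ((orderOf g : ℕ) : ℤ) ∣ k := by
    intro h4
    exact ne_one_of_orderOf hτ (orderOf_dvd_iff_zpow_eq_one.mp h4)
  obtain ⟨c, hc⟩ : ∃ c, orderOf g = 2 * c := by
    rcases Nat.even_or_odd' (orderOf g) with ⟨c, hc | hc⟩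
    · exact ⟨c, hc⟩
    · exfalso
      apply h3
      refine IsCoprime.dvd_of_dvd_mul_right ?_ h2
      rw [Int.isCoprime_iff_gcd_eq_one, hc]
      have : Nat.Coprime (2 * c + 1) 2 := by
        rw [Nat.coprime_two_right]
        exact ⟨c, rfl⟩
      exact_mod_cast this
  have hc0 : 0 < c := by omega
  rw [hc] at h2 h3
  push_cast at h2 h3
  obtain ⟨l, hl⟩ := h2
  have hk : k = c * l := by
    have : (2 : ℤ) * k = 2 * (c * l) := by linarith
    linarith
  have hlodd : ¬ Even l := by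
    rintro ⟨m, rfl⟩
    apply h3
    exact ⟨m, by rw [hk]; ring⟩
  obtain ⟨m, hm⟩ := Int.not_even_iff_odd.mp hlodd
  have h5 : (g ^ c) ^ 2 = 1 := by
    rw [← pow_mul, mul_comm, ← hc, pow_orderOf_eq_one]
  rw [inv2, hc, Nat.mul_div_cancel_left _ (by norm_num : 0 < 2), hk, hm, zpow_mul, zpow_natCast,
    zpow_add, zpow_mul, zpow_ofNat, h5, one_zpow, one_mul, zpow_one]

theorem inv2_mem (g : G) : inv2 g ∈ Subgroup.zpowers g := Subgroup.npow_mem_zpowers g _

theorem orderOf_inv2 {g : G} (hg : orderOf g ≠ 0) (he : Even (orderOf g)) :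
    orderOf (inv2 g) = 2 := by
  obtain ⟨c, hc⟩ := he
  rw [inv2, orderOf_pow_of_dvd (by omega) ⟨2, by omega⟩]
  exact Nat.div_eq_of_eq_mul_left (by omega) (by omega)

theorem inv2_conj (g m : G) : inv2 (m * g * m⁻¹) = m * inv2 g * m⁻¹ := by
  rw [inv2, inv2, orderOf_conj, conj_pow]

end Inv

section Fibre

variable {G : Type*} [Group G] [Fintype G] [DecidableEq G]

/-- Fibres of an equivariant function on pairs over conjugate elements have the same size. -/
theorem card_fibre_conj (A : Finset (G × G)) (F : G × G → G) (m : G)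
    (hA : ∀ a b : G, (a, b) ∈ A → (m * a * m⁻¹, m * b * m⁻¹) ∈ A)
    (hA' : ∀ a b : G, (a, b) ∈ A → (m⁻¹ * a * m, m⁻¹ * b * m) ∈ A)
    (hF : ∀ a b : G, (a, b) ∈ A → F (m * a * m⁻¹, m * b * m⁻¹) = m * F (a, b) * m⁻¹) (τ : G) :
    (A.filter fun a => F a = τ).card = (A.filter fun a => F a = m * τ * m⁻¹).card := by
  refine Finset.card_bij' (fun a _ => (m * a.1 * m⁻¹, m * a.2 * m⁻¹))
    (fun a _ => (m⁻¹ * a.1 * m, m⁻¹ * a.2 * m)) ?_ ?_ ?_ ?_
  · rintro ⟨a, b⟩ hab
    rw [Finset.mem_filter] at hab ⊢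
    exact ⟨hA a b hab.1, by rw [hF a b hab.1, hab.2]⟩
  · rintro ⟨a, b⟩ hab
    rw [Finset.mem_filter] at hab ⊢
    refine ⟨hA' a b hab.1, ?_⟩
    have h1 := hF _ _ (hA' a b hab.1)
    have e1 : m * (m⁻¹ * a * m) * m⁻¹ = a := by group
    have e2 : m * (m⁻¹ * b * m) * m⁻¹ = b := by group
    rw [e1, e2, hab.2] at h1
    exact (mul_left_cancel (mul_right_cancel h1)).symm
  · rintro ⟨a, b⟩ -
    simp only [Prod.mk.injEq]
    constructor <;> group
  · rintro ⟨a, b⟩ -
    simp only [Prod.mk.injEq]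
    constructor <;> group

end Fibre

section TypeA

variable {G : Type*} [Group G] {t : G} {n : ℕ} [NeZero n]
  {π : (Subgroup.centralizer ({t} : Set G)) →* DihedralGroup n}

/-- `M ≥ C(t)` has a normal subgroup `M₀` of index two containing, and fusing to `t`, the
involutions of `C(t)` of parity `p`, and not containing those of the other parity. -/
structure TypeA (h : BGHyp t n π) (M M₀ : Subgroup G) (p : ZMod 2) : Prop where
  le : Subgroup.centralizer ({t} : Set G) ≤ M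
  sub : M₀ ≤ M
  conj : ∀ m ∈ M, ∀ x ∈ M₀, m * x * m⁻¹ ∈ M₀
  mul_mem : ∀ a ∈ M, ∀ b ∈ M, a ∉ M₀ → b ∉ M₀ → a * b ∈ M₀
  t_mem : t ∈ M₀
  fused : ∀ x, IsPar (two_dvd h) π p x → x ∈ M₀ ∧ ∃ m ∈ M, m * x * m⁻¹ = t
  unfused : ∀ x, IsPar (two_dvd h) π (p + 1) x → x ∉ M₀
  odd_index : Odd (Subgroup.centralizer ({t} : Set G)).index

variable {h : BGHyp t n π} {M M₀ : Subgroup G} {p : ZMod 2}

theorem exists_conj_centralizer [Finite G] (H : TypeA h M M₀ p) {x : G} (hx : x ∈ M)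
    (hx2 : orderOf x = 2) :
    ∃ m ∈ M, m * x * m⁻¹ ∈ Subgroup.centralizer ({t} : Set G) := by
  have : Fact (Nat.Prime 2) := ⟨Nat.prime_two⟩
  set C : Subgroup M := (Subgroup.centralizer ({t} : Set G)).subgroupOf M with hC
  have hodd : Odd C.index := by
    have h1 : C.index ∣ (Subgroup.centralizer ({t} : Set G)).index := by
      rw [hC]
      exact Subgroup.relIndex_dvd_index_of_le H.le
    exact Odd.of_dvd_nat H.odd_index h1
  set X : Subgroup M := Subgroup.zpowers (⟨x, hx⟩ : M) with hX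
  have hXp : IsPGroup 2 X := by
    rw [IsPGroup.iff_card]
    refine ⟨1, ?_⟩
    rw [hX, Nat.card_zpowers, pow_one, ← Subgroup.orderOf_coe]
    exact hx2
  have hcard : ¬ 2 ∣ Nat.card (M ⧸ C) := by
    change ¬ 2 ∣ C.index
    exact hodd.not_two_dvd_nat
  obtain ⟨q, hq⟩ := hXp.nonempty_fixed_point_of_prime_not_dvd_card (M ⧸ C) hcard
  obtain ⟨m, rfl⟩ := QuotientGroup.mk_surjective q
  have h1 := hq (⟨⟨x, hx⟩, Subgroup.mem_zpowers _⟩ : X)
  have h2 : ((⟨x, hx⟩ * m : M) : M ⧸ C) = (m : M ⧸ C) := h1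
  have h3 : m⁻¹ * (⟨x, hx⟩ * m) ∈ C := QuotientGroup.eq.mp h2.symm
  rw [hC, Subgroup.mem_subgroupOf] at h3
  refine ⟨(m : G)⁻¹, inv_mem m.2, ?_⟩
  have e1 : (m : G)⁻¹ * x * ((m : G)⁻¹)⁻¹ = ((m⁻¹ * (⟨x, hx⟩ * m) : M) : G) := by
    push_cast
    group
  rw [e1]
  exact h3

theorem conj_mem_iff (H : TypeA h M M₀ p) {m : G} (hm : m ∈ M) {x : G} :
    m * x * m⁻¹ ∈ M₀ ↔ x ∈ M₀ := by
  constructor
  · intro h1
    have := H.conj m⁻¹ (inv_mem hm) _ h1
    have e1 : m⁻¹ * (m * x * m⁻¹) * m⁻¹⁻¹ = x := by group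
    rwa [e1] at this
  · exact H.conj m hm x

/-- Involutions of `M₀` are conjugate to `t` in `M`. -/
theorem conj_t_of_mem [Finite G] (H : TypeA h M M₀ p) {x : G} (hx : x ∈ M₀)
    (hx2 : orderOf x = 2) : ∃ m ∈ M, m * x * m⁻¹ = t := by
  obtain ⟨m, hm, hmx⟩ := exists_conj_centralizer H (H.sub hx) hx2
  rcases par_cases h p hmx (by rw [orderOf_conj]; exact hx2) with h1 | h1 | h1
  · exact ⟨m, hm, h1⟩
  · obtain ⟨-, k, hk, hk2⟩ := H.fused _ h1
    refine ⟨k * m, mul_mem hk hm, ?_⟩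
    rw [← hk2]
    group
  · exact absurd (H.conj m hm x hx) (H.unfused _ h1)

/-- Involutions of `M ∖ M₀` are conjugate in `M` to those of the parity `p + 1`. -/
theorem conj_par_of_not_mem [Finite G] (H : TypeA h M M₀ p) {r : G}
    (hr : IsPar (two_dvd h) π (p + 1) r) {x : G} (hxM : x ∈ M) (hx : x ∉ M₀)
    (hx2 : orderOf x = 2) : ∃ m ∈ M, m * x * m⁻¹ = r := by
  obtain ⟨m, hm, hmx⟩ := exists_conj_centralizer H hxM hx2
  have hn : m * x * m⁻¹ ∉ M₀ := fun h1 => hx ((conj_mem_iff H hm).mp h1)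
  rcases par_cases h p hmx (by rw [orderOf_conj]; exact hx2) with h1 | h1 | h1
  · rw [h1] at hn; exact absurd H.t_mem hn
  · exact absurd (H.fused _ h1).1 hn
  · obtain ⟨c, hc, hc2⟩ := par_conj h h1 hr
    refine ⟨c * m, mul_mem (H.le hc) hm, ?_⟩
    rw [← hc2]
    group

end TypeA

end Cfsg.Agent.Classification.DihTypeACount
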