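import Mathlib
import Cfsg.Agent.Classification.DihTypeACount

/-!
# Type A maximal subgroups in the Gorenstein–Walter theorem: the counting identity
-/

set_option autoImplicit false
set_option linter.unusedSectionVars false

namespace Cfsg.Agent.Classification.DihTypeACount2

open DihedralGroup Cfsg.Agent.Classification.BGDefs Cfsg.Agent.Classification.BGBasic
  Cfsg.Agent.Classification.BGOrder Cfsg.Agent.Classification.DihTypeACount

variable {G : Type*} [Group G] {t : G} {n : ℕ} [NeZero n]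
  {π : (Subgroup.centralizer ({t} : Set G)) →* DihedralGroup n}
  {h : BGHyp t n π} {M M₀ : Subgroup G} {p : ZMod 2}

section

open scoped Classical in
/-- the involutions of `M₀` -/
noncomputable def J1 [Fintype G] (M₀ : Subgroup G) : Finset G :=
  Finset.univ.filter fun x => x ∈ M₀ ∧ orderOf x = 2

open scoped Classical in
/-- the involutions of `M ∖ M₀` -/
noncomputable def J2 [Fintype G] (M M₀ : Subgroup G) : Finset G :=
  Finset.univ.filter fun x => x ∈ M ∧ x ∉ M₀ ∧ orderOf x = 2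

theorem mem_J1 [Fintype G] {x : G} : x ∈ J1 M₀ ↔ x ∈ M₀ ∧ orderOf x = 2 := by simp [J1]

theorem mem_J2 [Fintype G] {x : G} : x ∈ J2 M M₀ ↔ x ∈ M ∧ x ∉ M₀ ∧ orderOf x = 2 := by
  simp [J2]

theorem J1_conj [Fintype G] (H : TypeA h M M₀ p) {m x : G} (hm : m ∈ M) (hx : x ∈ J1 M₀) :
    m * x * m⁻¹ ∈ J1 M₀ := by
  rw [mem_J1] at hx ⊢
  exact ⟨H.conj m hm x hx.1, by rw [orderOf_conj]; exact hx.2⟩

theorem J2_conj [Fintype G] (H : TypeA h M M₀ p) {m x : G} (hm : m ∈ M) (hx : x ∈ J2 M M₀) :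
    m * x * m⁻¹ ∈ J2 M M₀ := by
  rw [mem_J2] at hx ⊢
  exact ⟨mul_mem (mul_mem hm hx.1) (inv_mem hm), fun h1 => hx.2.1 ((conj_mem_iff H hm).mp h1),
    by rw [orderOf_conj]; exact hx.2.2⟩

theorem J1_conj' [Fintype G] (H : TypeA h M M₀ p) {m x : G} (hm : m ∈ M) (hx : x ∈ J1 M₀) :
    m⁻¹ * x * m ∈ J1 M₀ := by
  have := J1_conj H (inv_mem hm) hx
  rwa [inv_inv] at this

theorem J2_conj' [Fintype G] (H : TypeA h M M₀ p) {m x : G} (hm : m ∈ M) (hx : x ∈ J2 M M₀) :
    m⁻¹ * x * m ∈ J2 M M₀ := by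
  have := J2_conj H (inv_mem hm) hx
  rwa [inv_inv] at this

theorem comm_conj {m a b : G} (hab : a * b = b * a) :
    (m * a * m⁻¹) * (m * b * m⁻¹) = (m * b * m⁻¹) * (m * a * m⁻¹) := by
  calc (m * a * m⁻¹) * (m * b * m⁻¹) = m * (a * b) * m⁻¹ := by group
    _ = m * (b * a) * m⁻¹ := by rw [hab]
    _ = _ := by group

theorem comm_conj' {m a b : G} (hab : a * b = b * a) :
    (m⁻¹ * a * m) * (m⁻¹ * b * m) = (m⁻¹ * b * m) * (m⁻¹ * a * m) := by
  calc (m⁻¹ * a * m) * (m⁻¹ * b * m) = m⁻¹ * (a * b) * m := by group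
    _ = m⁻¹ * (b * a) * m := by rw [hab]
    _ = _ := by group

open scoped Classical in
/-- the number of involutions of `M₀` commuting with `r` -/
noncomputable def yc [Fintype G] (M₀ : Subgroup G) (r : G) : ℕ :=
  ((J1 M₀).filter fun x => x * r = r * x).card

open scoped Classical in
theorem card_J2_comm_t [Fintype G] (H : TypeA h M M₀ p) :
    ((J2 M M₀).filter fun z => t * z = z * t).card = kcount (two_dvd h) π (p + 1) := by
  rw [kcount_eq]
  rw [← Fintype.card_coe, ← Nat.card_eq_fintype_card]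
  refine Nat.card_congr (Equiv.subtypeEquivRight fun z => ?_)
  rw [Finset.mem_filter, mem_J2]
  constructor
  · rintro ⟨⟨hzM, hz0, hz2⟩, hc⟩
    have hzC : z ∈ Subgroup.centralizer ({t} : Set G) := by
      rw [Subgroup.mem_centralizer_singleton_iff]; exact hc.symm
    rcases par_cases h p hzC hz2 with h1 | h1 | h1
    · rw [h1] at hz0; exact absurd H.t_mem hz0
    · exact absurd (H.fused _ h1).1 hz0
    · exact h1
  · intro hz
    have hzC := hz.choose
    exact ⟨⟨H.le hzC, H.unfused _ hz, hz.choose_spec.1⟩,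
      (Subgroup.mem_centralizer_singleton_iff.mp hzC).symm⟩

/-- **Commuting pairs.** -/
theorem comm_pairs [Fintype G] (H : TypeA h M M₀ p) {r : G}
    (hr : IsPar (two_dvd h) π (p + 1) r) :
    (J1 M₀).card * kcount (two_dvd h) π (p + 1) = (J2 M M₀).card * yc M₀ r := by
  classical
  set A : Finset (G × G) := ((J1 M₀) ×ˢ (J2 M M₀)).filter (fun a => a.1 * a.2 = a.2 * a.1) with hA
  have hAc : ∀ m ∈ M, ∀ a b : G, (a, b) ∈ A → (m * a * m⁻¹, m * b * m⁻¹) ∈ A := by
    intro m hm a b hab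
    rw [hA, Finset.mem_filter, Finset.mem_product] at hab ⊢
    exact ⟨⟨J1_conj H hm hab.1.1, J2_conj H hm hab.1.2⟩, comm_conj hab.2⟩
  have hAc' : ∀ m ∈ M, ∀ a b : G, (a, b) ∈ A → (m⁻¹ * a * m, m⁻¹ * b * m) ∈ A := by
    intro m hm a b hab
    rw [hA, Finset.mem_filter, Finset.mem_product] at hab ⊢
    exact ⟨⟨J1_conj' H hm hab.1.1, J2_conj' H hm hab.1.2⟩, comm_conj' hab.2⟩
  -- first count
  have c1 : A.card = (J1 M₀).card * kcount (two_dvd h) π (p + 1) := by
    rw [Finset.card_eq_sum_card_fiberwise (f := Prod.fst) (t := J1 M₀)]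
    · rw [← smul_eq_mul, ← Finset.sum_const]
      refine Finset.sum_congr rfl ?_
      intro x hx
      obtain ⟨m, hm, hmx⟩ := conj_t_of_mem H (mem_J1.mp hx).1 (mem_J1.mp hx).2
      rw [card_fibre_conj A Prod.fst m (hAc m hm) (hAc' m hm) (fun a b _ => rfl) x, hmx,
        ← card_J2_comm_t H]
      refine Finset.card_bij' (fun a _ => a.2) (fun z _ => (t, z)) ?_ ?_ ?_ ?_
      · rintro ⟨a, b⟩ hab
        rw [Finset.mem_filter, hA, Finset.mem_filter, Finset.mem_product] at hab
        obtain ⟨⟨⟨-, hb⟩, hc⟩, ha⟩ := hab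
        simp only at ha hb hc ⊢
        rw [ha] at hc
        exact Finset.mem_filter.mpr ⟨hb, hc⟩
      · intro z hz
        rw [Finset.mem_filter] at hz
        rw [Finset.mem_filter, hA, Finset.mem_filter, Finset.mem_product]
        exact ⟨⟨⟨mem_J1.mpr ⟨H.t_mem, h.orderOf_t⟩, hz.1⟩, hz.2⟩, rfl⟩
      · rintro ⟨a, b⟩ hab
        rw [Finset.mem_filter] at hab
        exact Prod.ext hab.2.symm rfl
      · intro z _; rfl
    · rintro ⟨a, b⟩ hab
      rw [Finset.mem_coe, hA, Finset.mem_filter, Finset.mem_product] at hab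
      exact hab.1.1
  -- second count
  have c2 : A.card = (J2 M M₀).card * yc M₀ r := by
    rw [Finset.card_eq_sum_card_fiberwise (f := Prod.snd) (t := J2 M M₀)]
    · rw [← smul_eq_mul, ← Finset.sum_const]
      refine Finset.sum_congr rfl ?_
      intro z hz
      obtain ⟨m, hm, hmx⟩ := conj_par_of_not_mem H hr (mem_J2.mp hz).1 (mem_J2.mp hz).2.1
        (mem_J2.mp hz).2.2
      rw [card_fibre_conj A Prod.snd m (hAc m hm) (hAc' m hm) (fun a b _ => rfl) z, hmx, yc]
      have hr2 : r ∈ J2 M M₀ := by rw [← hmx]; exact J2_conj H hm hz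
      refine Finset.card_bij' (fun a _ => a.1) (fun z _ => (z, r)) ?_ ?_ ?_ ?_
      · rintro ⟨a, b⟩ hab
        rw [Finset.mem_filter, hA, Finset.mem_filter, Finset.mem_product] at hab
        obtain ⟨⟨⟨ha, -⟩, hc⟩, hb⟩ := hab
        simp only at ha hb hc ⊢
        rw [hb] at hc
        exact Finset.mem_filter.mpr ⟨ha, hc⟩
      · intro z hz
        rw [Finset.mem_filter] at hz
        rw [Finset.mem_filter, hA, Finset.mem_filter, Finset.mem_product]
        exact ⟨⟨⟨hz.1, hr2⟩, hz.2⟩, rfl⟩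
      · rintro ⟨a, b⟩ hab
        rw [Finset.mem_filter] at hab
        exact Prod.ext rfl hab.2.symm
      · intro z _; rfl
    · rintro ⟨a, b⟩ hab
      rw [Finset.mem_coe, hA, Finset.mem_filter, Finset.mem_product] at hab
      exact hab.1.2
  rw [← c1, ← c2]

theorem commute_inv2 {x z : G} (hx : x * x = 1) (hz : z * z = 1) (hg : orderOf (x * z) ≠ 0)
    (he : Even (orderOf (x * z))) :
    x * inv2 (x * z) = inv2 (x * z) * x ∧ z * inv2 (x * z) = inv2 (x * z) * z := by
  have h2 := mul_self_of_orderOf (orderOf_inv2 hg he)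
  have h1 : x * inv2 (x * z) = inv2 (x * z) * x := commute_of_mem_zpowers h2 hx hz (inv2_mem _)
  refine ⟨h1, ?_⟩
  have h3 : inv2 (x * z) ∈ Subgroup.zpowers (x * z) := inv2_mem _
  have h4 : (x * z) * inv2 (x * z) = inv2 (x * z) * (x * z) := by
    obtain ⟨k, hk⟩ := Subgroup.mem_zpowers_iff.mp h3
    rw [← hk]
    exact (Commute.refl (x * z)).zpow_right k
  calc z * inv2 (x * z) = x * x * z * inv2 (x * z) := by rw [hx, one_mul]
    _ = x * (x * z * inv2 (x * z)) := by group
    _ = x * (inv2 (x * z) * (x * z)) := by rw [h4]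
    _ = (x * inv2 (x * z)) * x * z := by group
    _ = (inv2 (x * z) * x) * x * z := by rw [h1]
    _ = inv2 (x * z) * (x * x) * z := by group
    _ = inv2 (x * z) * z := by rw [hx, mul_one]

theorem even_of_not_mem [Finite G] (H : TypeA h M M₀ p) {g : G} (hgM : g ∈ M) (hg : g ∉ M₀) :
    Even (orderOf g) := by
  by_contra h1
  rw [Nat.not_even_iff_odd] at h1
  obtain ⟨k, hk⟩ := h1
  apply hg
  have h2 : g * g ∈ M₀ := H.mul_mem g hgM g hgM hg hg
  have h3 : (g * g) ^ k * g = 1 := by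
    rw [← sq, ← pow_mul, ← pow_succ, ← hk, pow_orderOf_eq_one]
  have h4 : g = ((g * g) ^ k)⁻¹ := (inv_eq_of_mul_eq_one_right h3).symm
  rw [h4]
  exact inv_mem (pow_mem h2 k)

theorem not_mem_mul [Finite G] (_H : TypeA h M M₀ p) {x z : G} (hx : x ∈ M₀) (hz : z ∉ M₀) :
    x * z ∉ M₀ := fun h1 => hz (by
      have := mul_mem (inv_mem hx) h1
      rwa [inv_mul_cancel_left] at this)

theorem not_mem_mul' [Finite G] (_H : TypeA h M M₀ p) {x z : G} (hx : x ∉ M₀) (hz : z ∈ M₀) :
    x * z ∉ M₀ := fun h1 => hx (by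
      have := mul_mem h1 (inv_mem hz)
      rwa [mul_inv_cancel_right] at this)

open scoped Classical in
/-- the fibre over `t` -/
theorem fibre_t [Fintype G] (H : TypeA h M M₀ p) :
    (((J1 M₀) ×ˢ (J2 M M₀)).filter (fun a => inv2 (a.1 * a.2) = t)).card =
      kcount (two_dvd h) π p * kcount (two_dvd h) π (p + 1) := by
  rw [kcount_eq, kcount_eq, ← Nat.card_prod, ← Fintype.card_coe, ← Nat.card_eq_fintype_card]
  refine Nat.card_congr ⟨fun a => (⟨a.1.1, ?_⟩, ⟨a.1.2, ?_⟩), fun a => ⟨(a.1.1, a.2.1), ?_⟩,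
    fun a => rfl, fun a => rfl⟩
  · obtain ⟨⟨x, z⟩, hxz⟩ := a
    rw [Finset.mem_filter, Finset.mem_product, mem_J1, mem_J2] at hxz
    obtain ⟨⟨⟨hx, hx2⟩, ⟨hzM, hz, hz2⟩⟩, hi⟩ := hxz
    simp only at hx hx2 hzM hz hz2 hi ⊢
    have hn := not_mem_mul H hx hz
    have hev := even_of_not_mem H (mul_mem (H.sub hx) hzM) hn
    have hcm := commute_inv2 (mul_self_of_orderOf hx2) (mul_self_of_orderOf hz2)
      (orderOf_pos _).ne' hev
    rw [hi] at hcm
    have hxC : x ∈ Subgroup.centralizer ({t} : Set G) := by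
      rw [Subgroup.mem_centralizer_singleton_iff]; exact hcm.1
    rcases par_cases h p hxC hx2 with h1 | h1 | h1
    · exfalso
      rw [h1] at hi hcm hn
      have h4 : orderOf (t * z) = 2 := by
        refine orderOf_eq_two ?_ ?_
        · calc t * z * (t * z) = t * (z * t) * z := by group
            _ = t * (t * z) * z := by rw [hcm.2]
            _ = (t * t) * (z * z) := by group
            _ = 1 := by rw [t_mul_t h, mul_self_of_orderOf hz2, one_mul]
        · intro h5
          rw [h5] at hn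
          exact hn (one_mem _)
      rw [inv2, h4] at hi
      norm_num at hi
      exact ne_one_of_orderOf hz2 hi
    · exact h1
    · exact absurd hx (H.unfused _ h1)
  · obtain ⟨⟨x, z⟩, hxz⟩ := a
    rw [Finset.mem_filter, Finset.mem_product, mem_J1, mem_J2] at hxz
    obtain ⟨⟨⟨hx, hx2⟩, ⟨hzM, hz, hz2⟩⟩, hi⟩ := hxz
    simp only at hx hx2 hzM hz hz2 hi ⊢
    have hn := not_mem_mul H hx hz
    have hev := even_of_not_mem H (mul_mem (H.sub hx) hzM) hn
    have hcm := commute_inv2 (mul_self_of_orderOf hx2) (mul_self_of_orderOf hz2)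
      (orderOf_pos _).ne' hev
    rw [hi] at hcm
    have hzC : z ∈ Subgroup.centralizer ({t} : Set G) := by
      rw [Subgroup.mem_centralizer_singleton_iff]; exact hcm.2
    rcases par_cases h p hzC hz2 with h1 | h1 | h1
    · rw [h1] at hz; exact absurd H.t_mem hz
    · exact absurd (H.fused _ h1).1 hz
    · exact h1
  · obtain ⟨⟨x, hx⟩, ⟨z, hz⟩⟩ := a
    rw [Finset.mem_filter, Finset.mem_product, mem_J1, mem_J2]
    refine ⟨⟨⟨(H.fused _ hx).1, hx.choose_spec.1⟩, ⟨H.le hz.choose, H.unfused _ hz,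
      hz.choose_spec.1⟩⟩, ?_⟩
    exact (eq_inv2 h.orderOf_t (par_mul h hx hz) (orderOf_pos _).ne').symm

/-- two involutions of `M₀` commuting with an involution `r ∉ M₀` have product of odd order -/
theorem odd_mul_of_comm [Finite G] (H : TypeA h M M₀ p) {r x x' : G} (hr0 : r ∉ M₀)
    (hr2 : orderOf r = 2) (hx : x ∈ M₀) (hx2 : orderOf x = 2) (hx' : x' ∈ M₀)
    (hx2' : orderOf x' = 2) (hxr : x * r = r * x) (hxr' : x' * r = r * x') :
    Odd (orderOf (x * x')) := by
  by_contra h1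
  rw [Nat.not_odd_iff_even] at h1
  have hne : orderOf (x * x') ≠ 0 := (orderOf_pos _).ne'
  obtain ⟨c1, c2⟩ := commute_inv2 (mul_self_of_orderOf hx2) (mul_self_of_orderOf hx2') hne h1
  set τ := inv2 (x * x') with hτ
  have hτ2 : orderOf τ = 2 := orderOf_inv2 hne h1
  have hτ0 : τ ∈ M₀ := by
    have : Subgroup.zpowers (x * x') ≤ M₀ := by
      rw [Subgroup.zpowers_le]; exact mul_mem hx hx'
    exact this (inv2_mem _)
  have hτr : τ * r = r * τ := by
    obtain ⟨k, hk⟩ := Subgroup.mem_zpowers_iff.mp (inv2_mem (x * x'))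
    rw [hτ, ← hk]
    have : Commute (x * x') r := Commute.mul_left hxr hxr'
    exact this.zpow_left k
  have key : ∀ a : G, a ∈ M₀ → orderOf a = 2 → a * r = r * a → a * τ = τ * a → τ = a := by
    intro a ha ha2 har haτ
    by_contra hne'
    have h3 := rank_two h hr2 ha2 hτ2 har.symm hτr.symm haτ
      (fun h4 => hr0 (h4 ▸ ha)) (fun h4 => hr0 (h4 ▸ hτ0)) hne'
    exact not_mem_mul' H hr0 ha (h3 ▸ hτ0)
  have e1 := key x hx hx2 hxr c1
  have e2 := key x' hx' hx2' hxr' c2
  have e3 : x = x' := e1.symm.trans e2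
  rw [← e3, mul_self_of_orderOf hx2, orderOf_one] at h1
  exact absurd h1 (by decide)

open scoped Classical in
/-- the fibre over `r` -/
theorem fibre_r [Fintype G] (H : TypeA h M M₀ p) {r : G}
    (hrM : r ∈ M) (hr0 : r ∉ M₀) (hr2 : orderOf r = 2) :
    (((J1 M₀) ×ˢ (J2 M M₀)).filter (fun a => inv2 (a.1 * a.2) = r)).card =
      yc M₀ r * yc M₀ r := by
  rw [yc, ← Finset.card_product]
  have hrr := mul_self_of_orderOf hr2
  refine Finset.card_bij' (fun a _ => (a.1, a.2 * r)) (fun a _ => (a.1, a.2 * r)) ?_ ?_ ?_ ?_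
  · rintro ⟨x, z⟩ hxz
    rw [Finset.mem_filter, Finset.mem_product, mem_J1, mem_J2] at hxz
    obtain ⟨⟨⟨hx, hx2⟩, ⟨hzM, hz, hz2⟩⟩, hi⟩ := hxz
    simp only at hx hx2 hzM hz hz2 hi ⊢
    have hn := not_mem_mul H hx hz
    have hev := even_of_not_mem H (mul_mem (H.sub hx) hzM) hn
    have hcm := commute_inv2 (mul_self_of_orderOf hx2) (mul_self_of_orderOf hz2)
      (orderOf_pos _).ne' hev
    rw [hi] at hcm
    rw [Finset.mem_product, Finset.mem_filter, Finset.mem_filter, mem_J1, mem_J1]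
    simp only
    refine ⟨⟨⟨hx, hx2⟩, hcm.1⟩, ⟨⟨H.mul_mem z hzM r hrM hz hr0, orderOf_eq_two ?_ ?_⟩, ?_⟩⟩
    · calc z * r * (z * r) = z * (r * z) * r := by group
        _ = z * (z * r) * r := by rw [hcm.2]
        _ = (z * z) * (r * r) := by group
        _ = 1 := by rw [hrr, mul_self_of_orderOf hz2, one_mul]
    · intro h5
      have hzr : z = r := by
        rw [mul_eq_one_iff_eq_inv] at h5
        rw [h5]
        exact inv_eq_of_mul_eq_one_left hrr
      rw [hzr] at hi hn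
      have h4 : orderOf (x * r) = 2 := by
        refine orderOf_eq_two ?_ ?_
        · calc x * r * (x * r) = x * (r * x) * r := by group
            _ = x * (x * r) * r := by rw [hcm.1]
            _ = (x * x) * (r * r) := by group
            _ = 1 := by rw [hrr, mul_self_of_orderOf hx2, one_mul]
        · intro h5
          rw [h5] at hn
          exact hn (one_mem _)
      rw [inv2, h4] at hi
      norm_num at hi
      exact ne_one_of_orderOf hx2 hi
    · calc z * r * r = z * (r * r) := by group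
        _ = (r * r) * z := by rw [hrr, mul_one, one_mul]
        _ = r * (r * z) := by group
        _ = r * (z * r) := by rw [hcm.2]
  · rintro ⟨x, x'⟩ hxx
    rw [Finset.mem_product, Finset.mem_filter, Finset.mem_filter, mem_J1, mem_J1] at hxx
    obtain ⟨⟨⟨hx, hx2⟩, hxr⟩, ⟨⟨hx', hx2'⟩, hxr'⟩⟩ := hxx
    simp only at hx hx2 hxr hx' hx2' hxr' ⊢
    rw [Finset.mem_filter, Finset.mem_product, mem_J1, mem_J2]
    simp only
    have hn := not_mem_mul H hx' hr0
    refine ⟨⟨⟨hx, hx2⟩, ⟨mul_mem (H.sub hx') hrM, hn, orderOf_eq_two ?_ ?_⟩⟩, ?_⟩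
    · calc x' * r * (x' * r) = x' * (r * x') * r := by group
        _ = x' * (x' * r) * r := by rw [hxr']
        _ = (x' * x') * (r * r) := by group
        _ = 1 := by rw [hrr, mul_self_of_orderOf hx2', one_mul]
    · intro h5
      rw [h5] at hn
      exact hn (one_mem _)
    · have hodd := odd_mul_of_comm H hr0 hr2 hx hx2 hx' hx2' hxr hxr'
      symm
      refine eq_inv2 hr2 ?_ (orderOf_pos _).ne'
      rw [← mul_assoc]
      have hc : Commute (x * x') r := Commute.mul_left hxr hxr'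
      rw [Subgroup.mem_zpowers_iff]
      refine ⟨(orderOf (x * x') : ℤ), ?_⟩
      rw [zpow_natCast, hc.mul_pow, pow_orderOf_eq_one, one_mul]
      obtain ⟨k, hk⟩ := hodd
      rw [hk, pow_succ, pow_mul, sq, hrr, one_pow, one_mul]
  · rintro ⟨x, z⟩ -
    simp only [Prod.mk.injEq, true_and]
    rw [mul_assoc, hrr, mul_one]
  · rintro ⟨x, z⟩ -
    simp only [Prod.mk.injEq, true_and]
    rw [mul_assoc, hrr, mul_one]

/-- **All pairs.** -/
theorem all_pairs [Fintype G] (H : TypeA h M M₀ p) {r : G}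
    (hr : IsPar (two_dvd h) π (p + 1) r) :
    (J1 M₀).card * (J2 M M₀).card =
      (J1 M₀).card * (kcount (two_dvd h) π p * kcount (two_dvd h) π (p + 1)) +
        (J2 M M₀).card * (yc M₀ r * yc M₀ r) := by
  classical
  rw [← Finset.card_product]
  set A : Finset (G × G) := (J1 M₀) ×ˢ (J2 M M₀) with hA
  have hAc : ∀ m ∈ M, ∀ a b : G, (a, b) ∈ A → (m * a * m⁻¹, m * b * m⁻¹) ∈ A := by
    intro m hm a b hab
    rw [hA, Finset.mem_product] at hab ⊢
    exact ⟨J1_conj H hm hab.1, J2_conj H hm hab.2⟩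
  have hAc' : ∀ m ∈ M, ∀ a b : G, (a, b) ∈ A → (m⁻¹ * a * m, m⁻¹ * b * m) ∈ A := by
    intro m hm a b hab
    rw [hA, Finset.mem_product] at hab ⊢
    exact ⟨J1_conj' H hm hab.1, J2_conj' H hm hab.2⟩
  have hF : ∀ m ∈ M, ∀ a b : G, (a, b) ∈ A → (fun a : G × G => inv2 (a.1 * a.2))
      (m * a * m⁻¹, m * b * m⁻¹) = m * (fun a : G × G => inv2 (a.1 * a.2)) (a, b) * m⁻¹ := by
    intro m _ a b _
    simp only
    rw [← inv2_conj]
    congr 1
    group
  have hr2 : orderOf r = 2 := hr.choose_spec.1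
  have hrM : r ∈ M := H.le hr.choose
  have hr0 : r ∉ M₀ := H.unfused _ hr
  have hdisj : Disjoint (J1 M₀) (J2 M M₀) := by
    rw [Finset.disjoint_left]
    intro x hx hx'
    exact (mem_J2.mp hx').2.1 (mem_J1.mp hx).1
  rw [Finset.card_eq_sum_card_fiberwise (f := fun a : G × G => inv2 (a.1 * a.2))
    (t := (J1 M₀) ∪ (J2 M M₀)), Finset.sum_union hdisj]
  · congr 1
    · rw [← smul_eq_mul, ← Finset.sum_const]
      refine Finset.sum_congr rfl ?_
      intro x hx
      obtain ⟨m, hm, hmx⟩ := conj_t_of_mem H (mem_J1.mp hx).1 (mem_J1.mp hx).2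
      rw [card_fibre_conj A _ m (hAc m hm) (hAc' m hm) (hF m hm) x, hmx, hA, fibre_t H]
    · rw [← smul_eq_mul, ← Finset.sum_const]
      refine Finset.sum_congr rfl ?_
      intro z hz
      obtain ⟨m, hm, hmx⟩ := conj_par_of_not_mem H hr (mem_J2.mp hz).1 (mem_J2.mp hz).2.1
        (mem_J2.mp hz).2.2
      rw [card_fibre_conj A _ m (hAc m hm) (hAc' m hm) (hF m hm) z, hmx, hA,
        fibre_r H hrM hr0 hr2]
  · rintro ⟨a, b⟩ hab
    rw [Finset.mem_coe, hA, Finset.mem_product] at hab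
    rw [Finset.mem_coe, Finset.mem_union]
    obtain ⟨ha, hb⟩ := hab
    rw [mem_J1] at ha
    rw [mem_J2] at hb
    simp only at ha hb ⊢
    have hmem : a * b ∈ M := mul_mem (H.sub ha.1) hb.1
    have hev := even_of_not_mem H hmem (not_mem_mul H ha.1 hb.2.1)
    have h2 := orderOf_inv2 (orderOf_pos (a * b)).ne' hev
    have h3 : inv2 (a * b) ∈ M := by
      have : Subgroup.zpowers (a * b) ≤ M := by rw [Subgroup.zpowers_le]; exact hmem
      exact this (inv2_mem _)
    by_cases h4 : inv2 (a * b) ∈ M₀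
    · left; exact mem_J1.mpr ⟨h4, h2⟩
    · right; exact mem_J2.mpr ⟨h3, h4, h2⟩

/-- **The counting identity.** -/
theorem card_J1_eq [Fintype G] (H : TypeA h M M₀ p) {r : G}
    (hr : IsPar (two_dvd h) π (p + 1) r) :
    (J1 M₀).card = yc M₀ r * (yc M₀ r + kcount (two_dvd h) π p) := by
  have h1 := comm_pairs H hr
  have h2 := all_pairs H hr
  have hk : 0 < kcount (two_dvd h) π (p + 1) := BGValues.kcount_pos' h _ _
  have hJ1 : 0 < (J1 M₀).card := Finset.card_pos.mpr ⟨t, mem_J1.mpr ⟨H.t_mem, h.orderOf_t⟩⟩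
  set a := (J1 M₀).card
  set b := (J2 M M₀).card
  set y := yc M₀ r
  set k0 := kcount (two_dvd h) π p
  set k1 := kcount (two_dvd h) π (p + 1)
  -- a b = a k0 k1 + a k1 y
  have h3 : a * b = a * (k1 * (k0 + y)) := by
    calc a * b = a * (k0 * k1) + b * y * y := by rw [h2]; ring
      _ = a * (k0 * k1) + a * k1 * y := by rw [h1]
      _ = a * (k1 * (k0 + y)) := by ring
  have h4 : b = k1 * (k0 + y) := Nat.eq_of_mul_eq_mul_left hJ1 h3
  have h5 : k1 * a = k1 * (y * (y + k0)) := by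
    calc k1 * a = a * k1 := by ring
      _ = b * y := h1
      _ = k1 * (y * (y + k0)) := by rw [h4]; ring
  exact Nat.eq_of_mul_eq_mul_left hk h5

end

end Cfsg.Agent.Classification.DihTypeACount2
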