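import Mathlib
import Cfsg.Agent.Classification.DihTypeACount2
import Cfsg.Agent.Classification.DihLift
import Cfsg.Agent.Classification.BGSylow
import Cfsg.Agent.Classification.BGAverage

/-!
# Type A maximal subgroups in the Gorenstein–Walter theorem: two-parts of the counts
-/

set_option autoImplicit false
set_option linter.unusedSectionVars false

namespace Cfsg.Agent.Classification.DihTypeACount3

open DihedralGroup Cfsg.Agent.Classification.BGDefs Cfsg.Agent.Classification.BGBasic
  Cfsg.Agent.Classification.BGOrder Cfsg.Agent.Classification.DihTypeACount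
  Cfsg.Agent.Classification.DihTypeACount2

variable {G : Type*} [Group G] {t : G} {n : ℕ} [NeZero n]
  {π : (Subgroup.centralizer ({t} : Set G)) →* DihedralGroup n}

theorem exists_par [Finite G] (h : BGHyp t n π) (p : ZMod 2) : ∃ u, IsPar (two_dvd h) π p u := by
  have h1 := BGValues.kcount_pos' h (two_dvd h) p
  rw [kcount_eq] at h1
  obtain ⟨⟨u, hu⟩⟩ : Nonempty {x : G // IsPar (two_dvd h) π p x} := by
    by_contra h2
    rw [not_nonempty_iff] at h2
    rw [Nat.card_of_isEmpty] at h1
    exact absurd h1 (lt_irrefl 0)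
  exact ⟨u, hu⟩

/-- `|C(t) : C(t) ∩ C(u)|` is the number of involutions of the parity of `u`. -/
theorem kcount_mul [Finite G] (h : BGHyp t n π) {p : ZMod 2} {u : G}
    (hu : IsPar (two_dvd h) π p u) :
    kcount (two_dvd h) π p *
      Nat.card (Subgroup.centralizer ({t} : Set G) ⊓ Subgroup.centralizer ({u} : Set G) :
        Subgroup G) = Nat.card (Subgroup.centralizer ({t} : Set G)) := by
  rw [kcount_eq]
  refine DihLift.card_conj_orbit (Subgroup.centralizer ({t} : Set G)) u
    {x | IsPar (two_dvd h) π p x} ?_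
  intro s
  constructor
  · intro hs
    exact par_conj h hu hs
  · rintro ⟨a, ha, rfl⟩
    exact par_conj_mem h hu ha

/-- `|C(t) ∩ C(u)| = 4 · odd`. -/
theorem card_inf_centralizer [Finite G] (h : BGHyp t n π) {p : ZMod 2} {u : G}
    (hu : IsPar (two_dvd h) π p u) : ∃ k, Odd k ∧
      Nat.card (Subgroup.centralizer ({t} : Set G) ⊓ Subgroup.centralizer ({u} : Set G) :
        Subgroup G) = 4 * k := by
  obtain ⟨huC, hu2, j, hj, -⟩ := hu
  set D := Subgroup.centralizer ({t} : Set G) ⊓ Subgroup.centralizer ({u} : Set G) with hD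
  set f : D →* DihedralGroup n := π.comp (Subgroup.inclusion inf_le_left) with hf
  have hfd : ∀ d : D, f d = π ⟨d, (Subgroup.mem_inf.mp d.2).1⟩ := fun _ => rfl
  refine ⟨Nat.card f.ker, ?_, ?_⟩
  · -- the kernel is odd
    have h1 : Nat.card f.ker ∣ Nat.card π.ker := by
      refine Subgroup.card_dvd_of_injective
        (((Subgroup.inclusion (inf_le_left : D ≤ Subgroup.centralizer ({t} : Set G))).comp
          f.ker.subtype).codRestrict π.ker (fun x => x.2)) ?_
      intro x y hxy
      have h2 : ((x : D) : G) = ((y : D) : G) :=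
        congrArg (fun z : π.ker => ((z : Subgroup.centralizer ({t} : Set G)) : G)) hxy
      exact Subtype.ext (Subtype.ext h2)
    exact Odd.of_dvd_nat h.odd_ker h1
  · have h1 := f.ker.card_mul_index
    rw [Subgroup.index_ker] at h1
    rw [← h1, mul_comm]
    congr 1
    have htC := t_mem t
    have htD : t ∈ D := by
      rw [hD, Subgroup.mem_inf]
      refine ⟨htC, ?_⟩
      rw [Subgroup.mem_centralizer_singleton_iff]
      exact (Subgroup.mem_centralizer_singleton_iff.mp huC).symm
    have huD : u ∈ D := by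
      rw [hD, Subgroup.mem_inf]
      exact ⟨huC, by rw [Subgroup.mem_centralizer_singleton_iff]⟩
    have hhalf := half_ne_zero (n := n) (two_dvd h)
    have hh2 := half_add_half (n := n) (two_dvd h)
    set m : ZMod n := ((n / 2 : ℕ) : ZMod n) with hm
    have hrange : (f.range : Set (DihedralGroup n)) = {r 0, r m, sr j, sr (j + m)} := by
      ext d
      simp only [SetLike.mem_coe, MonoidHom.mem_range, Set.mem_insert_iff, Set.mem_singleton_iff]
      constructor
      · rintro ⟨x, rfl⟩
        have hcomm : (x : G) * u = u * x :=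
          Subgroup.mem_centralizer_singleton_iff.mp (Subgroup.mem_inf.mp x.2).2
        have hc : f x * sr j = sr j * f x := by
          rw [hfd, ← hj, ← map_mul, ← map_mul]
          congr 1
          exact Subtype.ext hcomm
        match hfx : f x with
        | r i =>
          rw [hfx, r_mul_sr, sr_mul_r] at hc
          have h3 : j - i = j + i := sr.inj hc
          have h4 : i + i = 0 := by
            have : i + i = (j + i) - (j - i) := by ring
            rw [this, ← h3, sub_self]
          rcases eq_zero_or_half h4 with rfl | rfl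
          · left; rfl
          · right; left; rfl
        | sr i =>
          rw [hfx, sr_mul_sr, sr_mul_sr] at hc
          have h3 : j - i = i - j := r.inj hc
          have h4 : (i - j) + (i - j) = 0 := by
            have : (i - j) + (i - j) = (i - j) - (j - i) := by ring
            rw [this, h3, sub_self]
          rcases eq_zero_or_half h4 with h5 | h5
          · right; right; left
            rw [sub_eq_zero.mp h5]
          · right; right; right
            rw [hm, ← h5]
            congr 1
            ring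
      · rintro (rfl | rfl | rfl | rfl)
        · exact ⟨1, map_one f⟩
        · exact ⟨⟨t, htD⟩, h.map_t _⟩
        · exact ⟨⟨u, huD⟩, hj⟩
        · refine ⟨⟨u, huD⟩ * ⟨t, htD⟩, ?_⟩
          rw [map_mul, hfd, hfd, hj, h.map_t, sr_mul_r]
    have h2 : Nat.card f.range = (f.range : Set (DihedralGroup n)).ncard := rfl
    rw [h2, hrange]
    have e1 : r (0 : ZMod n) ≠ r m := fun h3 => hhalf (r.inj h3).symm
    have e2 : (sr j : DihedralGroup n) ≠ sr (j + m) := by
      intro h3
      have h4 : j = j + m := sr.inj h3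
      exact hhalf (left_eq_add.mp h4)
    rw [Set.ncard_insert_of_notMem, Set.ncard_insert_of_notMem, Set.ncard_pair e2]
    · simp
    · simp only [Set.mem_insert_iff, Set.mem_singleton_iff, not_or]
      exact ⟨e1, (by intro hx; cases hx), (by intro hx; cases hx)⟩

theorem card_centralizer_eq [Finite G] (h : BGHyp t n π) :
    Nat.card (Subgroup.centralizer ({t} : Set G)) = Nat.card π.ker * (2 * n) :=
  BGSylow.card_centralizer h

/-- `2 k_p = n · odd`. -/
theorem two_kcount [Finite G] (h : BGHyp t n π) (p : ZMod 2) :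
    ∃ m, Odd m ∧ 2 * kcount (two_dvd h) π p = n * m := by
  obtain ⟨u, hu⟩ := exists_par h p
  obtain ⟨k, hk, hk4⟩ := card_inf_centralizer h hu
  have h1 := kcount_mul h hu
  rw [hk4, card_centralizer_eq h] at h1
  obtain ⟨l, hl, hnl⟩ := h.pow
  -- kcount * (4 k) = |ker| * 2 n
  set K := kcount (two_dvd h) π p with hK
  have h2 : (2 * K) * k = n * Nat.card π.ker := by
    have : 2 * ((2 * K) * k) = 2 * (n * Nat.card π.ker) := by
      calc 2 * ((2 * K) * k) = K * (4 * k) := by ring
        _ = Nat.card π.ker * (2 * n) := h1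
        _ = 2 * (n * Nat.card π.ker) := by ring
    exact Nat.eq_of_mul_eq_mul_left (by norm_num) this
  have hcop : Nat.Coprime n k := by
    rw [hnl]
    exact Nat.Coprime.pow_left l (Nat.coprime_two_left.mpr hk)
  have h3 : n ∣ 2 * K := hcop.dvd_of_dvd_mul_right (Dvd.intro _ h2.symm)
  obtain ⟨m, hm⟩ := h3
  refine ⟨m, ?_, hm⟩
  have hn0 : 0 < n := Nat.pos_of_ne_zero (NeZero.ne n)
  have h4 : m * k = Nat.card π.ker := by
    apply Nat.eq_of_mul_eq_mul_left hn0
    rw [← h2, hm, mul_assoc]
  exact (Nat.odd_mul.mp (by rw [h4]; exact h.odd_ker)).1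

variable {h : BGHyp t n π} {M M₀ : Subgroup G} {p : ZMod 2}

theorem card_J1_mul [Fintype G] (H : TypeA h M M₀ p) :
    (J1 M₀).card * Nat.card (Subgroup.centralizer ({t} : Set G)) = Nat.card M := by
  have h1 := DihLift.card_conj_orbit M t (J1 M₀ : Set G) (by
    intro s
    rw [Finset.mem_coe]
    constructor
    · intro hs
      obtain ⟨m, hm, hmx⟩ := conj_t_of_mem H (mem_J1.mp hs).1 (mem_J1.mp hs).2
      refine ⟨m⁻¹, inv_mem hm, ?_⟩
      rw [← hmx]; group
    · rintro ⟨a, ha, rfl⟩
      exact J1_conj H ha (mem_J1.mpr ⟨H.t_mem, h.orderOf_t⟩))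
  rw [inf_eq_right.mpr H.le] at h1
  rw [← h1]
  congr 1
  rw [Nat.card_eq_card_toFinset]
  simp

theorem card_J2_mul [Fintype G] (H : TypeA h M M₀ p) {r : G}
    (hr : IsPar (two_dvd h) π (p + 1) r) :
    (J2 M M₀).card * Nat.card (M ⊓ Subgroup.centralizer ({r} : Set G) : Subgroup G) =
      Nat.card M := by
  have h1 := DihLift.card_conj_orbit M r (J2 M M₀ : Set G) (by
    intro s
    rw [Finset.mem_coe]
    constructor
    · intro hs
      obtain ⟨m, hm, hmx⟩ := conj_par_of_not_mem H hr (mem_J2.mp hs).1 (mem_J2.mp hs).2.1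
        (mem_J2.mp hs).2.2
      refine ⟨m⁻¹, inv_mem hm, ?_⟩
      rw [← hmx]; group
    · rintro ⟨a, ha, rfl⟩
      exact J2_conj H ha (mem_J2.mpr ⟨H.le hr.choose, H.unfused _ hr, hr.choose_spec.1⟩))
  rw [← h1]
  congr 1
  rw [Nat.card_eq_card_toFinset]
  simp

/-- `|r^M| = w |t^M|` with an integer `w`. -/
theorem exists_w [Fintype G] (H : TypeA h M M₀ p) {r : G}
    (hr : IsPar (two_dvd h) π (p + 1) r) :
    ∃ w : ℕ, (J2 M M₀).card = w * (J1 M₀).card ∧ kcount (two_dvd h) π (p + 1) = w * yc M₀ r ∧
      w = (Subgroup.centralizer ({r} : Set G) ⊓ M).relIndex (Subgroup.centralizer ({r} : Set G)) := by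
  obtain ⟨g, hg⟩ := isConj_iff.mp (h.one_class r hr.choose_spec.1)
  have hc : Nat.card (Subgroup.centralizer ({r} : Set G)) =
      Nat.card (Subgroup.centralizer ({t} : Set G)) := by
    have := DihLift.card_inf_centralizer_conj (⊤ : Subgroup G) g t
    rw [top_inf_eq, top_inf_eq, hg] at this
    exact this
  set w := (Subgroup.centralizer ({r} : Set G) ⊓ M).relIndex (Subgroup.centralizer ({r} : Set G))
    with hw
  have h1 : Nat.card (M ⊓ Subgroup.centralizer ({r} : Set G) : Subgroup G) * w =
      Nat.card (Subgroup.centralizer ({t} : Set G)) := by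
    have h2 := ((Subgroup.centralizer ({r} : Set G) ⊓ M).subgroupOf
      (Subgroup.centralizer ({r} : Set G))).card_mul_index
    rw [← hc, inf_comm M, ← h2]
    congr 1
    exact (Nat.card_congr (Subgroup.subgroupOfEquivOfLe inf_le_left).toEquiv).symm
  have h3 := card_J1_mul H
  have h4 := card_J2_mul H hr
  have hpos : 0 < Nat.card (M ⊓ Subgroup.centralizer ({r} : Set G) : Subgroup G) := Nat.card_pos
  have h5 : (J2 M M₀).card = w * (J1 M₀).card := by
    apply Nat.eq_of_mul_eq_mul_right hpos
    rw [h4, ← h3, ← h1]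
    ring
  refine ⟨w, h5, ?_, rfl⟩
  have h6 := comm_pairs H hr
  have hJ1 : 0 < (J1 M₀).card := Finset.card_pos.mpr ⟨t, mem_J1.mpr ⟨H.t_mem, h.orderOf_t⟩⟩
  apply Nat.eq_of_mul_eq_mul_left hJ1
  rw [h6, h5]
  ring

theorem index_centralizer [Fintype G] (H : TypeA h M M₀ p) :
    (Subgroup.centralizer ({t} : Set G)).index = M.index * (J1 M₀).card := by
  have h1 := card_J1_mul H
  have h2 := M.card_mul_index
  have h3 := (Subgroup.centralizer ({t} : Set G)).card_mul_index
  have hpos : 0 < Nat.card (Subgroup.centralizer ({t} : Set G)) := Nat.card_pos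
  apply Nat.eq_of_mul_eq_mul_left hpos
  rw [h3, ← h2, ← h1]
  ring

/-- the integrality and parity statements for `w` -/
theorem w_parity [Fintype G] (H : TypeA h M M₀ p) {r : G}
    (hr : IsPar (two_dvd h) π (p + 1) r) {w : ℕ}
    (hw : kcount (two_dvd h) π (p + 1) = w * yc M₀ r) :
    ∃ m, Odd m ∧ 2 * w = n * m := by
  obtain ⟨m, hm, hm2⟩ := two_kcount h (p + 1)
  have h1 := index_centralizer H
  have h2 : Odd (J1 M₀).card := by
    have := H.odd_index
    rw [h1] at this
    exact (Nat.odd_mul.mp this).2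
  rw [card_J1_eq H hr] at h2
  have hy : Odd (yc M₀ r) := (Nat.odd_mul.mp h2).1
  rw [hw] at hm2
  obtain ⟨l, hl, hnl⟩ := h.pow
  have hcop : Nat.Coprime n (yc M₀ r) := by
    rw [hnl]
    exact Nat.Coprime.pow_left l (Nat.coprime_two_left.mpr hy)
  have h3 : n ∣ 2 * w := hcop.dvd_of_dvd_mul_right (Dvd.intro m (by rw [← hm2]; ring))
  obtain ⟨m', hm'⟩ := h3
  refine ⟨m', ?_, hm'⟩
  have hn0 : 0 < n := Nat.pos_of_ne_zero (NeZero.ne n)
  have h4 : m' * yc M₀ r = m := by
    apply Nat.eq_of_mul_eq_mul_left hn0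
    rw [← hm2, ← mul_assoc, ← hm', mul_assoc]
  exact (Nat.odd_mul.mp (by rw [h4]; exact hm)).1

end Cfsg.Agent.Classification.DihTypeACount3
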