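import Mathlib
import Cfsg.Agent.Classification.DihTypeACount3
import Cfsg.Agent.Classification.BGMain
import Cfsg.Agent.Classification.TransferSign

/-!
# Type A maximal subgroups in the Gorenstein–Walter theorem: existence of the data

`M ≥ C(t)`, `ρ : M →* Y` surjective with odd kernel, `N ⊴ Y` of index `2 · odd`, with one class of
involutions and such that every involution of `N` commutes with another one of `N`.
-/

set_option autoImplicit false
set_option linter.unusedSectionVars false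

namespace Cfsg.Agent.Classification.DihTypeAExists

open DihedralGroup Cfsg.Agent.Classification.BGDefs Cfsg.Agent.Classification.BGBasic
  Cfsg.Agent.Classification.BGOrder Cfsg.Agent.Classification.DihTypeACount
  Cfsg.Agent.Classification.DihTypeACount2 Cfsg.Agent.Classification.DihTypeACount3

variable {G : Type*} [Group G] {t : G} {n : ℕ} [NeZero n]
  {π : (Subgroup.centralizer ({t} : Set G)) →* DihedralGroup n}

/-- A normal subgroup of index `2 · odd` is contained in the kernel of a nontrivial sign, and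
contains all the involutions of this kernel. -/
theorem exists_sign {Y : Type*} [Group Y] [Finite Y] (N : Subgroup Y) [N.Normal] {m : ℕ}
    (hm : Odd m) (hN : N.index = 2 * m) :
    ∃ f : Y →* ℤˣ, (∃ y, f y = -1) ∧ (∀ y ∈ N, f y = 1) ∧
      ∀ y, f y = 1 → y * y = 1 → y ∈ N := by
  have h1 : (⊥ : Subgroup (Y ⧸ N)).index = 2 * m := by
    rw [Subgroup.index_bot]; exact hN
  have hcard : Nat.card (Y ⧸ N) = 2 * m := hN
  have : Fact (Nat.Prime 2) := ⟨Nat.prime_two⟩
  obtain ⟨u, hu⟩ := exists_prime_orderOf_dvd_card' (G := Y ⧸ N) 2 (by rw [hcard]; exact ⟨m, rfl⟩)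
  obtain ⟨f, hf⟩ := TransferSign.exists_hom_neg_one_of_index (⊥ : Subgroup (Y ⧸ N)) m hm h1 u hu
    (by
      intro g hg
      rw [Subgroup.mem_bot] at hg
      have hu1 : u = 1 := by
        calc u = g⁻¹ * (g * u * g⁻¹) * g := by group
          _ = 1 := by rw [hg]; group
      rw [hu1] at hu
      simp at hu)
  refine ⟨f.comp (QuotientGroup.mk' N), ?_, ?_, ?_⟩
  · obtain ⟨y, rfl⟩ := QuotientGroup.mk_surjective u
    exact ⟨y, hf⟩
  · intro y hy
    rw [MonoidHom.comp_apply]
    have : QuotientGroup.mk' N y = 1 := (QuotientGroup.eq_one_iff y).mpr hy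
    rw [this, map_one]
  · intro y hy hyy
    rw [MonoidHom.comp_apply] at hy
    by_contra hyN
    set v := QuotientGroup.mk' N y with hv
    have hv1 : v ≠ 1 := fun h2 => hyN ((QuotientGroup.eq_one_iff y).mp h2)
    have hvv : v * v = 1 := by rw [hv, ← map_mul, hyy, map_one]
    have hvo : orderOf v = 2 := DihLift.orderOf_two hvv hv1
    -- the kernel of `f` has odd order
    have h2 : f.ker.index = 2 := by
      rw [Subgroup.index_ker]
      have h3 : Nat.card f.range ∣ Nat.card ℤˣ := Subgroup.card_subgroup_dvd_card _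
      have h4 : Nat.card ℤˣ = 2 := by
        rw [Nat.card_eq_fintype_card]; rfl
      rw [h4] at h3
      rcases (Nat.dvd_prime Nat.prime_two).mp h3 with h5 | h5
      · exfalso
        have h6 : f.range = ⊥ := Subgroup.eq_bot_of_card_eq _ h5
        have h7 : f u ∈ f.range := ⟨u, rfl⟩
        rw [h6, Subgroup.mem_bot, hf] at h7
        exact absurd h7 (by decide)
      · exact h5
    have h3 := f.ker.card_mul_index
    rw [h2, hcard] at h3
    have h4 : Nat.card f.ker = m := by omega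
    have h5 : orderOf (⟨v, hy⟩ : f.ker) ∣ Nat.card f.ker := orderOf_dvd_natCard _
    rw [← Subgroup.orderOf_coe, h4] at h5
    have h6 : Odd (orderOf v) := Odd.of_dvd_nat hm h5
    rw [hvo] at h6
    exact absurd h6 (by decide)

open Cfsg.Agent.Classification.BGOvergroup in
/-- **Existence of the type A data.** -/
theorem exists_typeA [Finite G] (h : BGHyp t n π) (hn : 4 ≤ n)
    (hodd : Odd (Subgroup.centralizer ({t} : Set G)).index) (M : Subgroup G)
    (hM : Subgroup.centralizer ({t} : Set G) ≤ M) {Y : Type*} [Group Y] (ρ : M →* Y)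
    (hρ : Function.Surjective ρ) (hker : Odd (Nat.card ρ.ker)) (N : Subgroup Y) [N.Normal]
    {m : ℕ} (hm : Odd m) (hNm : N.index = 2 * m)
    (hNc : ∀ a b : Y, a ∈ N → b ∈ N → orderOf a = 2 → orderOf b = 2 → ∃ c, c * a * c⁻¹ = b)
    (hNk : ∀ a : Y, a ∈ N → orderOf a = 2 → ∃ v ∈ N, orderOf v = 2 ∧ v ≠ a ∧ v * a = a * v) :
    ρ (tM M hM) ∈ N ∧ ∃ (M₀ : Subgroup G) (p : ZMod 2), TypeA h M M₀ p ∧
      (∀ x : G, (x ∈ M₀ ∧ orderOf x = 2) ↔ ∃ hx : x ∈ M, ρ ⟨x, hx⟩ ∈ N ∧ orderOf x = 2) ∧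
      (∀ x : G, IsPar (two_dvd h) π p x ↔
        ∃ hx : x ∈ M, ρ ⟨x, hx⟩ ∈ N ∧ orderOf x = 2 ∧ x ≠ t ∧ x * t = t * x) := by
  have hYf : Finite Y := Finite.of_surjective ρ hρ
  obtain ⟨f, ⟨y₀, hy₀⟩, hfN, hfi⟩ := exists_sign N hm hNm
  set φ : M →* ℤˣ := f.comp ρ with hφ
  set M₀ : Subgroup G := φ.ker.map M.subtype with hM₀
  have hmem : ∀ x : G, x ∈ M₀ ↔ ∃ hx : x ∈ M, φ ⟨x, hx⟩ = 1 := by
    intro x
    rw [hM₀, Subgroup.mem_map]
    constructor
    · rintro ⟨y, hy, rfl⟩
      exact ⟨y.2, hy⟩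
    · rintro ⟨hx, hx1⟩
      exact ⟨⟨x, hx⟩, hx1, rfl⟩
  have hor : ∀ x : M, φ x = 1 ∨ φ x = -1 := fun x => Int.units_eq_one_or _
  -- involutions of `M₀`
  have hinv : ∀ x : G, (x ∈ M₀ ∧ orderOf x = 2) ↔
      ∃ hx : x ∈ M, ρ ⟨x, hx⟩ ∈ N ∧ orderOf x = 2 := by
    intro x
    rw [hmem]
    constructor
    · rintro ⟨⟨hx, hx1⟩, hx2⟩
      refine ⟨hx, ?_, hx2⟩
      apply hfi _ hx1
      rw [← map_mul]
      have : (⟨x, hx⟩ : M) * ⟨x, hx⟩ = 1 := Subtype.ext (mul_self_of_orderOf hx2)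
      rw [this, map_one]
    · rintro ⟨hx, hx1, hx2⟩
      exact ⟨⟨hx, hfN _ hx1⟩, hx2⟩
  -- `t ∈ M₀`
  have ht0 : t ∈ M₀ := by
    rw [hmem]
    refine ⟨hM (t_mem t), ?_⟩
    obtain ⟨a, ha⟩ := h.surj (r 1)
    have h1 : (1 : ZMod n) ≠ 0 := by
      intro h2
      have : n ∣ 1 := by
        rw [← ZMod.natCast_eq_zero_iff]
        exact_mod_cast h2
      have := Nat.le_of_dvd one_pos this
      omega
    obtain ⟨k, hk⟩ := Subgroup.mem_zpowers_iff.mp (mem_zpowers_of_rot h h1 ha)
    have hk' : a ^ k = tt t := Subtype.ext (by simpa [tt] using hk)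
    have h3 : (r 1 : DihedralGroup n) ^ k = r ((n / 2 : ℕ) : ZMod n) := by
      rw [← ha, ← map_zpow, hk', map_tt h]
    rw [r_one_zpow] at h3
    have h4 : ((k : ℤ) : ZMod n) = ((n / 2 : ℕ) : ZMod n) := r.inj h3
    have h5 : ((k - ((n / 2 : ℕ) : ℤ) : ℤ) : ZMod n) = 0 := by
      rw [Int.cast_sub, h4, Int.cast_natCast, sub_self]
    rw [ZMod.intCast_zmod_eq_zero_iff_dvd] at h5
    have h6 : Even k := by
      obtain ⟨l, hl, hnl⟩ := h.pow
      obtain ⟨l', rfl⟩ : ∃ l', l = l' + 2 := by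
        refine ⟨l - 2, ?_⟩
        have : 2 ≤ l := by
          by_contra h7
          have : l = 1 := by omega
          rw [this] at hnl
          omega
        omega
      have h7 : (n / 2 : ℕ) = 2 * 2 ^ l' := by
        rw [hnl, pow_add]
        omega
      rw [h7] at h5
      have h8 : (2 : ℤ) ∣ (n : ℤ) := by exact_mod_cast two_dvd h
      have h9 := h8.trans h5
      rw [even_iff_two_dvd]
      have h10 : (2 : ℤ) ∣ ((2 * 2 ^ l' : ℕ) : ℤ) := by
        push_cast
        exact Dvd.intro _ rfl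
      have := dvd_add h9 h10
      simpa using this
    have h7 : (⟨t, hM (t_mem t)⟩ : M) = (⟨a, hM a.2⟩ : M) ^ k := by
      apply Subtype.ext
      push_cast
      exact hk.symm
    rw [h7, map_zpow]
    obtain ⟨l, rfl⟩ := h6
    rcases hor ⟨a, hM a.2⟩ with h8 | h8
    · rw [h8, one_zpow]
    · rw [h8, zpow_add, ← mul_zpow]
      norm_num
  have htN : ρ (tM M hM) ∈ N := ((hinv t).mp ⟨ht0, h.orderOf_t⟩).choose_spec.1
  refine ⟨htN, M₀, ?_⟩
  -- an involution commuting with `t`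
  have htM2 : orderOf (tM M hM) = 2 := by
    rw [← Subgroup.orderOf_coe]; exact h.orderOf_t
  have hρt2 := DihLift.orderOf_map ρ hker htM2
  obtain ⟨v, hvN, hv2, hvne, hvc⟩ := hNk _ htN hρt2
  obtain ⟨u, hu2, hρu, huc⟩ := DihLift.exists_commuting_lift ρ hρ hker htM2 hv2 hvc hvne
  have huG2 : orderOf (u : G) = 2 := by rw [Subgroup.orderOf_coe]; exact hu2
  have hu0 : (u : G) ∈ M₀ := ((hinv u).mpr ⟨u.2, by rw [← hρu] at hvN; exact hvN, huG2⟩).1
  have huC : (u : G) ∈ Subgroup.centralizer ({t} : Set G) := by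
    rw [Subgroup.mem_centralizer_singleton_iff]
    exact congrArg Subtype.val huc
  have hut : (u : G) ≠ t := by
    intro h1
    apply hvne
    rw [← hρu]
    congr 1
    exact Subtype.ext h1
  obtain ⟨p, hp⟩ : ∃ p, IsPar (two_dvd h) π p (u : G) := by
    rcases par_cases h 0 huC huG2 with h1 | h1 | h1
    · exact absurd h1 hut
    · exact ⟨0, h1⟩
    · exact ⟨0 + 1, h1⟩
  have hM₀conj : ∀ m ∈ M, ∀ x ∈ M₀, m * x * m⁻¹ ∈ M₀ := by
    intro m hm x hx
    rw [hmem] at hx ⊢
    obtain ⟨hx, hx1⟩ := hx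
    refine ⟨mul_mem (mul_mem hm hx) (inv_mem hm), ?_⟩
    have : (⟨m * x * m⁻¹, mul_mem (mul_mem hm hx) (inv_mem hm)⟩ : M) =
      ⟨m, hm⟩ * ⟨x, hx⟩ * ⟨m, hm⟩⁻¹ := rfl
    rw [this, map_mul, map_mul, map_inv, hx1, mul_one, mul_inv_cancel]
  -- all elements of the parity `p` are in `M₀`
  have hallp : ∀ x, IsPar (two_dvd h) π p x → x ∈ M₀ := by
    intro x hx
    obtain ⟨c, hc, rfl⟩ := par_conj h hp hx
    exact hM₀conj c (hM hc) _ hu0
  have hnot : ∀ x, IsPar (two_dvd h) π (p + 1) x → x ∉ M₀ := by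
    intro x hx hx0
    have hallp' : ∀ x, IsPar (two_dvd h) π (p + 1) x → x ∈ M₀ := by
      intro x' hx'
      obtain ⟨c, hc, rfl⟩ := par_conj h hx hx'
      exact hM₀conj c (hM hc) _ hx0
    obtain ⟨σ, hσ⟩ := BGAverage.exists_section h
    have hsr : ∀ j, ((σ (sr j) : Subgroup.centralizer ({t} : Set G)) : G) ∈ M₀ := by
      intro j
      have h1 : orderOf ((σ (sr j) : Subgroup.centralizer ({t} : Set G)) : G) = 2 := by
        rw [Subgroup.orderOf_coe]
        refine DihLift.orderOf_two ?_ ?_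
        · rw [← map_mul, sr_mul_self, map_one]
        · intro h2
          have h3 := hσ (sr j)
          rw [h2, map_one] at h3
          cases h3
      rcases par_cases h p (σ (sr j)).2 h1 with h2 | h2 | h2
      · rw [h2]; exact ht0
      · exact hallp _ h2
      · exact hallp' _ h2
    have hall : ∀ d, ((σ d : Subgroup.centralizer ({t} : Set G)) : G) ∈ M₀ := by
      intro d
      match d with
      | sr j => exact hsr j
      | r j =>
        have : (r j : DihedralGroup n) = sr 0 * sr j := by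
          rw [sr_mul_sr, sub_zero]
        rw [this, map_mul]
        exact mul_mem (hsr 0) (hsr j)
    -- orders
    have h1 : 2 * n ∣ Nat.card M₀ := by
      rw [← DihedralGroup.nat_card]
      refine Subgroup.card_dvd_of_injective
        (((Subgroup.subtype _).comp σ).codRestrict M₀ (fun d => hall d)) ?_
      intro a b hab
      have h2 : ((σ a : Subgroup.centralizer ({t} : Set G)) : G) = σ b :=
        congrArg (Subtype.val : M₀ → G) hab
      have h3 : σ a = σ b := Subtype.ext h2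
      rw [← hσ a, ← hσ b, h3]
    have h2 : Nat.card M = 2 * Nat.card M₀ := by
      have e1 : Nat.card M₀ = Nat.card φ.ker := by
        rw [hM₀]
        exact (Nat.card_congr (φ.ker.equivMapOfInjective M.subtype M.subtype_injective).toEquiv).symm
      rw [e1]
      have h3 : φ.ker.index = 2 := by
        rw [Subgroup.index_ker]
        have h3 : Nat.card φ.range ∣ Nat.card ℤˣ := Subgroup.card_subgroup_dvd_card _
        have h4 : Nat.card ℤˣ = 2 := by
          rw [Nat.card_eq_fintype_card]; rfl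
        rw [h4] at h3
        rcases (Nat.dvd_prime Nat.prime_two).mp h3 with h5 | h5
        · exfalso
          have h6 : φ.range = ⊥ := Subgroup.eq_bot_of_card_eq _ h5
          obtain ⟨y, rfl⟩ := hρ y₀
          have h7 : φ y ∈ φ.range := ⟨y, rfl⟩
          rw [h6, Subgroup.mem_bot, hφ, MonoidHom.comp_apply, hy₀] at h7
          exact absurd h7 (by decide)
        · exact h5
      rw [← φ.ker.card_mul_index, h3, mul_comm]
    have h3 : 4 * n ∣ Nat.card M := by
      rw [h2]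
      obtain ⟨c, hc⟩ := h1
      rw [hc]
      exact ⟨c, by ring⟩
    have h4 : 4 * n ∣ Nat.card G := h3.trans (Subgroup.card_subgroup_dvd_card _)
    rw [← (Subgroup.centralizer ({t} : Set G)).card_mul_index, card_centralizer_eq h] at h4
    obtain ⟨c, hc⟩ := h4
    have hn0 : 0 < n := Nat.pos_of_ne_zero (NeZero.ne n)
    have h5 : Nat.card π.ker * (Subgroup.centralizer ({t} : Set G)).index = 2 * c := by
      have : (2 * n) * (Nat.card π.ker * (Subgroup.centralizer ({t} : Set G)).index) =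
          (2 * n) * (2 * c) := by
        rw [← mul_assoc, mul_comm (2 * n) (Nat.card π.ker), hc]; ring
      exact Nat.eq_of_mul_eq_mul_left (by omega) this
    have h6 : Odd (Nat.card π.ker * (Subgroup.centralizer ({t} : Set G)).index) :=
      Nat.odd_mul.mpr ⟨h.odd_ker, hodd⟩
    rw [h5] at h6
    exact absurd h6 (by simp)
  have hfus : ∀ x, x ∈ M₀ → orderOf x = 2 → ∃ m ∈ M, m * x * m⁻¹ = t := by
    intro x hx hx2
    obtain ⟨hxM, hxN, -⟩ := (hinv x).mp ⟨hx, hx2⟩
    have hxM2 : orderOf (⟨x, hxM⟩ : M) = 2 := by rw [Subgroup.orderOf_mk]; exact hx2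
    obtain ⟨c, hc⟩ := hNc _ _ hxN htN (DihLift.orderOf_map ρ hker hxM2) hρt2
    obtain ⟨b, hb⟩ := DihLift.conj_of_map_conj ρ hρ hker hxM2 htM2 hc
    exact ⟨b, b.2, congrArg Subtype.val hb⟩
  refine ⟨p, ⟨hM, ?_, hM₀conj, ?_, ht0, ?_, hnot, hodd⟩, hinv, ?_⟩
  · intro x hx
    exact ((hmem x).mp hx).choose
  · intro a ha b hb ha0 hb0
    rw [hmem] at ha0 hb0 ⊢
    refine ⟨mul_mem ha hb, ?_⟩
    have h1 : φ ⟨a, ha⟩ = -1 := (hor _).resolve_left (fun h2 => ha0 ⟨ha, h2⟩)
    have h2 : φ ⟨b, hb⟩ = -1 := (hor _).resolve_left (fun h2 => hb0 ⟨hb, h2⟩)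
    have : (⟨a * b, mul_mem ha hb⟩ : M) = ⟨a, ha⟩ * ⟨b, hb⟩ := rfl
    rw [this, map_mul, h1, h2]
    norm_num
  · intro x hx
    exact ⟨hallp x hx, hfus x (hallp x hx) hx.choose_spec.1⟩
  · intro x
    constructor
    · intro hx
      have hx2 : orderOf x = 2 := hx.choose_spec.1
      obtain ⟨h1, h2, h3⟩ := (hinv x).mp ⟨hallp x hx, hx2⟩
      exact ⟨h1, h2, h3, par_ne_t h hx, Subgroup.mem_centralizer_singleton_iff.mp hx.choose⟩
    · rintro ⟨hxM, hxN, hx2, hxt, hxc⟩
      have hx0 : x ∈ M₀ := ((hinv x).mpr ⟨hxM, hxN, hx2⟩).1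
      rcases par_cases h p (by rw [Subgroup.mem_centralizer_singleton_iff]; exact hxc) hx2 with
        h1 | h1 | h1
      · exact absurd h1 hxt
      · exact h1
      · exact absurd hx0 (hnot x h1)

end Cfsg.Agent.Classification.DihTypeAExists
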