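import Mathlib
import Cfsg.Agent.Classification.DihTypeAExists
import Cfsg.Agent.Classification.DihTypeAArith2
import Cfsg.Agent.Classification.BGDegrees

/-!
# Type A maximal subgroups in the Gorenstein–Walter theorem: the numerical possibilities
-/

set_option autoImplicit false
set_option linter.unusedSectionVars false

namespace Cfsg.Agent.Classification.DihTypeANumbers

open DihedralGroup Cfsg.Agent.Classification.BGDefs Cfsg.Agent.Classification.BGBasic
  Cfsg.Agent.Classification.BGOrder Cfsg.Agent.Classification.DihTypeACount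
  Cfsg.Agent.Classification.DihTypeACount2 Cfsg.Agent.Classification.DihTypeACount3
  Cfsg.Agent.Classification.DihTypeAExists Cfsg.Agent.Classification.BGDegrees
  Cfsg.Agent.Classification.BGOvergroup

/-- The data of `PSL(2,q)` (or of the normal four-group of `S₄`, with `q = 3`, `e = -1`). -/
structure CoreHyp {Y : Type*} [Group Y] (N : Subgroup Y) (q e : ℤ) : Prop where
  he : e = 1 ∨ e = -1
  hq : 3 ≤ q
  conj : ∀ a b : Y, a ∈ N → b ∈ N → orderOf a = 2 → orderOf b = 2 → ∃ c, c * a * c⁻¹ = b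
  count : 2 * (Nat.card {s : Y // s ∈ N ∧ orderOf s = 2} : ℤ) = q * (q + e)
  comm : ∀ a ∈ N, orderOf a = 2 →
    2 * (Nat.card {v : Y // v ∈ N ∧ orderOf v = 2 ∧ v ≠ a ∧ v * a = a * v} : ℤ) = q - e

theorem CoreHyp.exists_comm {Y : Type*} [Group Y] {N : Subgroup Y} {q e : ℤ} (H : CoreHyp N q e)
    {a : Y} (ha : a ∈ N) (ha2 : orderOf a = 2) :
    ∃ v ∈ N, orderOf v = 2 ∧ v ≠ a ∧ v * a = a * v := by
  have h1 := H.comm a ha ha2
  obtain ⟨⟨v, h2, h3, h4, h5⟩⟩ :
      Nonempty {v : Y // v ∈ N ∧ orderOf v = 2 ∧ v ≠ a ∧ v * a = a * v} := by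
    by_contra h2
    rw [not_nonempty_iff] at h2
    rw [Nat.card_of_isEmpty] at h1
    have := H.hq
    rcases H.he with h3 | h3 <;> rw [h3] at h1 <;> push_cast at h1 <;> omega
  exact ⟨v, h2, h3, h4, h5⟩

variable {G : Type*} [Group G] {t : G} {n : ℕ} [NeZero n]
  {π : (Subgroup.centralizer ({t} : Set G)) →* DihedralGroup n}

/-- **The numbers of a type A subgroup.** -/
theorem numbers [Fintype G] (h : BGHyp t n π) (hn : 4 ≤ n)
    (hodd : Odd (Subgroup.centralizer ({t} : Set G)).index) (M : Subgroup G)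
    (hM : Subgroup.centralizer ({t} : Set G) ≤ M) {Y : Type*} [Group Y] (ρ : M →* Y)
    (hρ : Function.Surjective ρ) (hker : Odd (Nat.card ρ.ker)) (hsolv : Group.IsSolvable ρ.ker)
    (N : Subgroup Y) [N.Normal] {m : ℕ} (hm : Odd m) (hNm : N.index = 2 * m) {q e : ℤ}
    (HN : CoreHyp N q e) :
    ∃ (M₀ : Subgroup G) (p : ZMod 2) (x w y : ℕ), TypeA h M M₀ p ∧
      (∀ x : G, (x ∈ M₀ ∧ orderOf x = 2) ↔ ∃ hx : x ∈ M, ρ ⟨x, hx⟩ ∈ N ∧ orderOf x = 2) ∧
      0 < x ∧ 2 * ((J1 M₀).card : ℤ) = x ^ 2 * (q * (q + e)) ∧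
      2 * (kcount (two_dvd h) π p : ℤ) = x * (q - e) ∧
      2 * (y : ℤ) = x * (q + e) ∧
      kcount (two_dvd h) π (p + 1) = w * y ∧
      (J2 M M₀).card = w * (J1 M₀).card ∧
      (∃ r, IsPar (two_dvd h) π (p + 1) r ∧
        w = (Subgroup.centralizer ({r} : Set G) ⊓ M).relIndex (Subgroup.centralizer ({r} : Set G))) ∧
      (∃ a, Odd a ∧ 2 * w = n * a) ∧ (∃ a : ℤ, Odd a ∧ q - e = n * a) ∧
      Nat.card ρ.ker = x ^ 2 * Nat.card (ρ.ker ⊓ Subgroup.centralizer ({tM M hM} : Set M) :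
        Subgroup M) := by
  obtain ⟨htN, M₀, p, HA, hinv, hpar⟩ := exists_typeA h hn hodd M hM ρ hρ hker N hm hNm HN.conj
    (fun a ha ha2 => HN.exists_comm ha ha2)
  have htM2 : orderOf (tM M hM) = 2 := by
    rw [← Subgroup.orderOf_coe]; exact h.orderOf_t
  have hρt2 := DihLift.orderOf_map ρ hker htM2
  have hYf : Finite Y := Finite.of_surjective ρ hρ
  obtain ⟨x, hx0, hx1, hx2, hx3⟩ := DihLift.exists_counts ρ hρ hker hsolv N HN.conj htM2 htN
    (by
      obtain ⟨v, h1, h2, h3, h4⟩ := HN.exists_comm htN hρt2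
      have : Nonempty {v : Y // v ∈ N ∧ orderOf v = 2 ∧ v ≠ ρ (tM M hM) ∧
        v * ρ (tM M hM) = ρ (tM M hM) * v} := ⟨⟨v, h1, h2, h3, h4⟩⟩
      exact Nat.card_pos)
  -- cardinality of `J1`
  have hJ1 : (J1 M₀).card = Nat.card {s : M // ρ s ∈ N ∧ orderOf s = 2} := by
    rw [← Fintype.card_coe, ← Nat.card_eq_fintype_card]
    refine Nat.card_congr ⟨fun s => ⟨⟨s.1, ?_⟩, ?_, ?_⟩, fun s => ⟨s.1.1, ?_⟩, fun s => rfl,
      fun s => rfl⟩
    · exact ((hinv s.1).mp (mem_J1.mp s.2)).choose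
    · exact ((hinv s.1).mp (mem_J1.mp s.2)).choose_spec.1
    · rw [Subgroup.orderOf_mk]; exact (mem_J1.mp s.2).2
    · rw [mem_J1, hinv]
      exact ⟨s.1.2, s.2.1, by rw [Subgroup.orderOf_coe]; exact s.2.2⟩
  have hK : kcount (two_dvd h) π p =
      Nat.card {s : M // ρ s ∈ N ∧ orderOf s = 2 ∧ s ≠ tM M hM ∧ s * tM M hM = tM M hM * s} := by
    rw [kcount_eq]
    refine Nat.card_congr ⟨fun s => ⟨⟨s.1, ?_⟩, ?_, ?_, ?_, ?_⟩, fun s => ⟨s.1.1, ?_⟩, fun s => rfl,
      fun s => rfl⟩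
    · exact ((hpar s.1).mp s.2).choose
    · exact ((hpar s.1).mp s.2).choose_spec.1
    · rw [Subgroup.orderOf_mk]; exact ((hpar s.1).mp s.2).choose_spec.2.1
    · intro h1
      exact ((hpar s.1).mp s.2).choose_spec.2.2.1 (congrArg Subtype.val h1)
    · exact Subtype.ext ((hpar s.1).mp s.2).choose_spec.2.2.2
    · rw [hpar]
      refine ⟨s.1.2, s.2.1, by rw [Subgroup.orderOf_coe]; exact s.2.2.1, ?_, ?_⟩
      · intro h1
        exact s.2.2.2.1 (Subtype.ext h1)
      · exact congrArg Subtype.val s.2.2.2.2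
  obtain ⟨r, hr⟩ := exists_par h (p + 1)
  obtain ⟨w, hw1, hw2, hw3⟩ := exists_w HA hr
  have hI : 2 * ((J1 M₀).card : ℤ) = x ^ 2 * (q * (q + e)) := by
    rw [hJ1, hx1, ← HN.count]
    push_cast
    ring
  have hKp : 2 * (kcount (two_dvd h) π p : ℤ) = x * (q - e) := by
    rw [hK, hx2, ← HN.comm _ htN hρt2]
    push_cast
    ring
  have hx0' : (0 : ℤ) < x := by exact_mod_cast hx0
  have hq := HN.hq
  have hqe : 0 < q + e := by rcases HN.he with h1 | h1 <;> rw [h1] <;> linarith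
  -- `2 y = x (q + e)`
  have hy : 2 * ((yc M₀ r : ℕ) : ℤ) = x * (q + e) := by
    have h1 : ((J1 M₀).card : ℤ) = yc M₀ r * (yc M₀ r + kcount (two_dvd h) π p) := by
      exact_mod_cast card_J1_eq HA hr
    set y : ℤ := (yc M₀ r : ℤ) with hydef
    have hy0 : 0 ≤ y := by rw [hydef]; positivity
    have h2 : (2 * y - x * (q + e)) * (2 * y + 2 * (x * q)) = 0 := by
      linear_combination (-4) * h1 + 2 * hI - 2 * y * hKp
    rcases mul_eq_zero.mp h2 with h3 | h3
    · linarith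
    · exfalso
      have : 0 < (x : ℤ) * q := mul_pos hx0' (by linarith)
      linarith
  refine ⟨M₀, p, x, w, yc M₀ r, HA, hinv, hx0, hI, hKp, hy, hw2, hw1, ⟨r, hr, hw3⟩,
    w_parity HA hr hw2, ?_, hx3⟩
  -- `q - e = n a`
  obtain ⟨a, ha, ha2⟩ := two_kcount h p
  have hJodd : Odd (J1 M₀).card := by
    have := HA.odd_index
    rw [index_centralizer HA] at this
    exact (Nat.odd_mul.mp this).2
  have hxodd : Odd x := by
    rw [hJ1, hx1] at hJodd
    have h3 := (Nat.odd_mul.mp hJodd).1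
    rw [sq] at h3
    exact (Nat.odd_mul.mp h3).1
  have h1 : (n : ℤ) * a = x * (q - e) := by
    rw [← hKp]
    exact_mod_cast ha2.symm
  obtain ⟨l, hl, hnl⟩ := h.pow
  have hcop : IsCoprime (n : ℤ) (x : ℤ) := by
    rw [Int.isCoprime_iff_gcd_eq_one]
    have : Nat.Coprime n x := by
      rw [hnl]
      exact Nat.Coprime.pow_left l (Nat.coprime_two_left.mpr hxodd)
    exact_mod_cast this
  obtain ⟨b, hb⟩ := hcop.dvd_of_dvd_mul_left (Dvd.intro _ h1)
  refine ⟨b, ?_, hb⟩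
  have hn0 : (n : ℤ) ≠ 0 := by
    have := NeZero.ne n
    exact_mod_cast this
  have h2 : (a : ℤ) = x * b := by
    apply mul_left_cancel₀ hn0
    rw [h1, hb]; ring
  have h3 : Odd ((a : ℕ) : ℤ) := by exact_mod_cast ha
  rw [h2] at h3
  exact (Int.odd_mul.mp h3).2

/-- **The numerical possibilities.** -/
theorem possibilities [Fintype G] (h : BGHyp t n π) (hn : 4 ≤ n) {M M₀ : Subgroup G} {p : ZMod 2}
    (HA : TypeA h M M₀ p) {q e : ℤ} (he : e = 1 ∨ e = -1) (hq : 3 ≤ q) {x w y : ℕ} (hx0 : 0 < x)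
    (hI : 2 * ((J1 M₀).card : ℤ) = x ^ 2 * (q * (q + e)))
    (hKp : 2 * (kcount (two_dvd h) π p : ℤ) = x * (q - e))
    (hy : 2 * (y : ℤ) = x * (q + e)) (hw : kcount (two_dvd h) π (p + 1) = w * y)
    (hwn : ∃ a, Odd a ∧ 2 * w = n * a) (hqn : ∃ a : ℤ, Odd a ∧ q - e = n * a)
    {X₁ X₂ X₃ : G → ℂ} {T : ZMod n → G → ℂ} {f g₂ g₃ : ℤ} (H : BGChars h X₁ X₂ X₃ T f g₂ g₃) :
    f = -7 ∨ (n = 4 ∧ q = 3 ∧ e = -1 ∧ w = 2 ∧ f = 9 ∧ M.index = 15) ∨
      (n = 4 ∧ q = 5 ∧ e = 1 ∧ w = 2 ∧ f = -15 ∧ M.index = 7) ∨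
      (n = 4 ∧ q = 3 ∧ e = -1 ∧ w = 6 ∧ f = -15 ∧ M.index = 35) := by
  have hidx := index_centralizer HA
  have hNodd : Odd M.index := by
    have := HA.odd_index
    rw [hidx] at this
    exact (Nat.odd_mul.mp this).1
  have hx0' : (0 : ℤ) < x := by exact_mod_cast hx0
  obtain ⟨hg2, hg3⟩ := H.g_dvd hn
  have horder := H.order
  have horder₂ := H.order₂
  have hgg := H.g_add
  -- the sum and the product of the two counts
  have hp01 : p = 0 ∨ p = 1 := by
    have : ∀ a : ZMod 2, a = 0 ∨ a = 1 := by decide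
    exact this p
  set K : ZMod 2 → ℤ := fun c => (kcount (two_dvd h) π c : ℤ) with hKdef
  have hs : K 0 + K 1 = K p + K (p + 1) := by
    rcases hp01 with rfl | rfl
    · rw [zero_add]
    · have : (1 : ZMod 2) + 1 = 0 := by decide
      rw [this, add_comm]
  have hpr : K 0 * K 1 = K p * K (p + 1) := by
    rcases hp01 with rfl | rfl
    · rw [zero_add]
    · have : (1 : ZMod 2) + 1 = 0 := by decide
      rw [this, mul_comm]
  have hwpos : 0 < w := by
    rcases Nat.eq_zero_or_pos w with h1 | h1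
    · exfalso
      rw [h1, zero_mul] at hw
      have := BGValues.kcount_pos' h (two_dvd h) (p + 1)
      omega
    · exact h1
  have key := DihTypeAArith2.main (n := n) (q := q) (e := e) (x := x) (w := w) (f := f) (g := g₂)
    (h := g₃) (N := M.index) (I₁ := (J1 M₀).card) (K₁ := K p) (K₂ := K (p + 1)) (y := y)
    (idx := (Subgroup.centralizer ({t} : Set G)).index)
    (by
      obtain ⟨l, hl, hnl⟩ := h.pow
      refine ⟨l, ?_, by rw [hnl]; push_cast; rfl⟩
      by_contra h1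
      have : l = 1 := by omega
      rw [this] at hnl
      omega)
    he hq hqn hx0' hI hKp hy (by simp only [hKdef]; rw [hw]; push_cast; ring)
    (by
      obtain ⟨a, ha, ha2⟩ := hwn
      refine ⟨a, by exact_mod_cast ha, ?_, by exact_mod_cast ha2⟩
      have : 0 < a := ha.pos
      exact_mod_cast this)
    (by rw [hidx]; push_cast; ring) (by exact_mod_cast hNodd) H.f_dvd H.f_ne
    (by
      rw [← hs]
      exact horder)
    hgg
    (by
      have h1 : g₂ - 1 - n = g₂ - (1 + n) := by ring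
      rw [h1]; exact hg2)
    (by
      have h1 : g₃ - 1 - n = g₃ - (1 + n) := by ring
      rw [h1]; exact hg3)
    (by
      have h1 : (g₂ - 1) * (g₃ - 1) = g₂ * g₃ - f := by linear_combination (-1) * hgg
      rw [h1]
      have h2 : (8 : ℤ) * K p * K (p + 1) = 8 * (K 0 * K 1) := by rw [hpr]; ring
      rw [h2]
      have h3 : ((Subgroup.centralizer ({t} : Set G)).index : ℤ) * (1 + f) * (g₂ * g₃ - f) =
        8 * K 0 * K 1 * (f * g₂ * g₃) := horder₂
      linear_combination h3)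
  rcases key with h1 | ⟨h1, h2, h3, h4, h5, h6⟩ | ⟨h1, h2, h3, h4, h5, h6⟩ |
    ⟨h1, h2, h3, h4, h5, h6⟩
  · exact Or.inl h1
  · exact Or.inr (Or.inl ⟨by exact_mod_cast h1, h2, h3, by exact_mod_cast h4, h5,
      by exact_mod_cast h6⟩)
  · exact Or.inr (Or.inr (Or.inl ⟨by exact_mod_cast h1, h2, h3, by exact_mod_cast h4, h5,
      by exact_mod_cast h6⟩))
  · exact Or.inr (Or.inr (Or.inr ⟨by exact_mod_cast h1, h2, h3, by exact_mod_cast h4, h5,
      by exact_mod_cast h6⟩))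

end Cfsg.Agent.Classification.DihTypeANumbers
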