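import Mathlib
import Cfsg.Agent.Classification.DihReduction
import Cfsg.Agent.Lib.MinNormalNonabelian
import Cfsg.Agent.SmallSimple.KleinFourAut

/-!
# Structure of groups all of whose 2-subgroups are subgroups of dihedral groups

`structure_of_core_free`: if `Y` is finite, `SubDihedral` and `O(Y) = 1`, then `Y` is a 2-group, or
`Y` has a self-centralizing normal Klein four-group of index `3` or `6`, or `Y` has a simple normal
subgroup `L` with `C_Y(L) = 1`, dihedral Sylow 2-subgroups and `¬ 4 ∣ |Y : L|`.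
-/

set_option autoImplicit false

namespace Cfsg.Agent.Classification.DihStructure

open Subgroup Cfsg.Agent.Classification.DihedralCentral Cfsg.Agent.Classification.TransferSign
open Cfsg.Agent.Classification.DihReduction
open Cfsg.Agent.TwoFusion.DihedralFusion Cfsg.Agent.TwoFusion.DihedralSylow

universe u

theorem oddClosed_subgroup {G : Type*} [Group G] (h : OddClosed G) (H : Subgroup G) :
    OddClosed H := by
  intro x y hx hy
  have := h x y (by rwa [Subgroup.orderOf_coe]) (by rwa [Subgroup.orderOf_coe])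
  rwa [← Subgroup.coe_mul, Subgroup.orderOf_coe] at this

theorem oddClosed_of_le {G : Type*} [Group G] {H K : Subgroup G} (h : OddClosed K) (hHK : H ≤ K) :
    OddClosed H := by
  intro x y hx hy
  have := h ⟨x, hHK x.2⟩ ⟨y, hHK y.2⟩ (by rw [Subgroup.orderOf_mk]; rwa [Subgroup.orderOf_coe])
    (by rw [Subgroup.orderOf_mk]; rwa [Subgroup.orderOf_coe])
  have h2 : (⟨(x : G), hHK x.2⟩ * ⟨(y : G), hHK y.2⟩ : K) = ⟨((x * y : H) : G), hHK (x * y).2⟩ := rfl
  rw [h2, Subgroup.orderOf_mk, Subgroup.orderOf_coe] at this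
  exact this

/-- The centralizer of an involution has a normal 2-complement. -/
theorem oddClosed_centralizer {G : Type*} [Group G] [Finite G] (hG : SubDihedral G) {z : G}
    (hz1 : z ≠ 1) (hzz : z * z = 1) : OddClosed (centralizer ({z} : Set G)) := by
  refine oddClosed_of_subDihedral _ le_rfl
    (subDihedral_of_injective (centralizer ({z} : Set G)).subtype (Subtype.val_injective) hG)
    ⟨z, by rw [Subgroup.mem_centralizer_singleton_iff]⟩ ?_ ?_ ?_
  · intro h
    exact hz1 (congrArg Subtype.val h)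
  · exact Subtype.ext hzz
  · intro g
    have := Subgroup.mem_centralizer_singleton_iff.1 g.2
    exact Subtype.ext this

/-- An `OddClosed` simple group is abelian (odd order theorem). -/
theorem isSolvable_of_oddClosed (hFT : OddOrder.{u}) {T : Type u} [Group T] [Finite T]
    (h : OddClosed T) : Group.IsSolvable T := by
  obtain ⟨N, hN, hodd, k, hk⟩ := exists_of_oddClosed h
  have h1 : Group.IsSolvable N := hFT N hodd
  have h2 : IsPGroup 2 (T ⧸ N) := IsPGroup.of_card (n := k) hk
  have : Fact (Nat.Prime 2) := ⟨Nat.prime_two⟩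
  have h3 : Group.IsNilpotent (T ⧸ N) := h2.isNilpotent
  have h4 : Group.IsSolvable (T ⧸ N) := inferInstance
  exact Group.isSolvable_of_ker_le_range N.subtype (QuotientGroup.mk' N)
    (by rw [QuotientGroup.ker_mk', Subgroup.range_subtype])

/-- A nontrivial centreless simple subgroup has even order and contains an involution; it is not
`OddClosed`. -/
theorem not_oddClosed (hFT : OddOrder.{u}) {G : Type u} [Group G] [Finite G] (T : Subgroup G)
    [hs : IsSimpleGroup T] (hc : ∀ z ∈ T, (∀ t ∈ T, Commute z t) → z = 1) : ¬ OddClosed T := by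
  intro h
  have h1 := isSolvable_of_oddClosed hFT h
  have h2 : ∀ a b : T, a * b = b * a := IsSimpleGroup.comm_iff_isSolvable.2 h1
  obtain ⟨x, y, hxy⟩ := hs.exists_pair_ne
  apply hxy
  have h3 : ∀ w : T, w = 1 := fun w => Subtype.ext (hc w w.2 (fun t ht =>
    congrArg Subtype.val (h2 w (⟨t, ht⟩ : T))))
  rw [h3 x, h3 y]

/-- A 2-subgroup containing a Klein four-group and centralizing it equals it. -/
theorem eq_of_centralizes {G : Type*} [Group G] [Finite G] (hG : SubDihedral G) (V T : Subgroup G)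
    (hV : IsKleinFour V) (hVT : V ≤ T) (hT : IsPGroup 2 T) (hc : T ≤ centralizer (V : Set G)) :
    T = V := by
  obtain ⟨R, hR, hRT⟩ := hG T hT
  have hVR : ¬ V ≤ R := by
    intro h
    have : IsCyclic R := hR
    exact IsKleinFour.not_isCyclic (G := V) (Subgroup.isCyclic_of_le h)
  obtain ⟨x, hxV, hxR⟩ := Set.not_subset.mp hVR
  have hxV : x ∈ V := hxV
  have hxR : x ∉ R := hxR
  -- all elements of `T` square to `1`
  have hsq : ∀ y ∈ T, y * y = 1 := by
    intro y hy
    by_cases hyR : y ∈ R
    · have h1 : x * y ∉ R := fun h => hxR (by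
        have := R.mul_mem h (R.inv_mem hyR)
        rwa [mul_assoc, mul_inv_cancel, mul_one] at this)
      have h2 := (hRT (x * y) (T.mul_mem (hVT hxV) hy) h1).1
      have h3 : x * y = y * x := Subgroup.mem_centralizer_iff.1 (hc hy) x hxV
      have h4 : x * x = 1 := sq_of_isKleinFour hV hxV
      calc y * y = x * x * (y * y) := by rw [h4, one_mul]
        _ = x * (x * y) * y := by group
        _ = x * (y * x) * y := by rw [h3]
        _ = (x * y) * (x * y) := by group
        _ = 1 := h2
    · exact (hRT y hy hyR).1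
  have h1 := card_le_four hG T hsq
  have h2 : Nat.card V = 4 := hV.card_four
  exact (Subgroup.eq_of_le_of_card_ge hVT (by rw [h2]; exact h1)).symm

/-- A normal Klein four-group of a `SubDihedral` group with trivial odd core is self-centralizing of
index dividing `6`. -/
theorem normal_kleinFour {Y : Type*} [Group Y] [Finite Y] (hY : SubDihedral Y)
    (hO : Cfsg.oddCore Y = ⊥) (V : Subgroup Y) [V.Normal] (hV : IsKleinFour V) :
    centralizer (V : Set Y) = V ∧ V.index ∣ 6 := by
  have hV4 : Nat.card V = 4 := hV.card_four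
  have hVc : V ≤ centralizer (V : Set Y) := by
    intro x hx
    rw [Subgroup.mem_centralizer_iff]
    intro y hy
    exact comm_of_isKleinFour hV hy hx
  obtain ⟨z, hz⟩ : ∃ z : V, z ≠ 1 := by
    by_contra h
    push Not at h
    have : Subsingleton V := ⟨fun a b => by rw [h a, h b]⟩
    rw [Nat.card_of_subsingleton (1 : V)] at hV4
    omega
  have hz1 : (z : Y) ≠ 1 := fun h => hz (Subtype.ext h)
  have hCz : centralizer (V : Set Y) ≤ centralizer ({(z : Y)} : Set Y) := by
    apply Subgroup.centralizer_le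
    rintro _ rfl
    exact z.2
  have hodd : OddClosed (centralizer (V : Set Y)) :=
    oddClosed_of_le (oddClosed_centralizer hY hz1 (sq_of_isKleinFour hV z.2)) hCz
  have hCn : (centralizer (V : Set Y)).Normal := inferInstance
  -- the centralizer is a 2-group
  have hC2 : IsPGroup 2 (centralizer (V : Set Y)) := by
    apply isPGroup_of_oddClosed hodd
    have h1 := Cfsg.Agent.Lib.Cores.map_subtype_pPrimeCore (G := Y) 2 hCn
    have h2 : (Cfsg.oddCore (centralizer (V : Set Y))).map
        (centralizer (V : Set Y)).subtype = ⊥ := by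
      rw [h1]
      change _ ⊓ Cfsg.oddCore Y = ⊥
      rw [hO, inf_bot_eq]
    exact (Subgroup.map_eq_bot_iff_of_injective _ (Subtype.val_injective)).1 h2
  have hCV : centralizer (V : Set Y) = V := eq_of_centralizes hY V _ hV hVc hC2 le_rfl
  refine ⟨hCV, ?_⟩
  -- index
  have h1 : (MulAut.conjNormal : Y →* MulAut V).ker = V := by
    refine Eq.trans ?_ hCV
    ext g
    rw [MonoidHom.mem_ker, Subgroup.mem_centralizer_iff]
    constructor
    · intro h x hx
      have h2 := congrArg (fun f : MulAut V => ((f ⟨x, hx⟩ : V) : Y)) h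
      simp only [MulAut.conjNormal_apply, MulAut.one_apply] at h2
      rw [mul_inv_eq_iff_eq_mul] at h2
      exact h2.symm
    · intro h
      ext x
      rw [MulAut.conjNormal_apply, MulAut.one_apply, mul_inv_eq_iff_eq_mul]
      exact (h x x.2).symm
  have h2 : (MulAut.conjNormal : Y →* MulAut V).ker.index ∣ Nat.card (MulAut V) := by
    rw [Subgroup.index_ker]
    exact Subgroup.card_subgroup_dvd_card _
  have h3 := Cfsg.Agent.SmallSimple.KleinFourAut.card_mulAut_dvd V
  rw [h1] at h2
  rw [hV4] at h3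
  exact h2.trans h3

/-- A nontrivial centreless simple subgroup that is not `OddClosed` contains an involution, and it is
not contained in the centralizer of an involution. -/
theorem not_commute_involution (hFT : OddOrder.{u}) {G : Type u} [Group G] [Finite G]
    (hG : SubDihedral G) (T : Subgroup G)
    [hs : IsSimpleGroup T] (hc : ∀ z ∈ T, (∀ t ∈ T, Commute z t) → z = 1) (z : G) (hz1 : z ≠ 1)
    (hzz : z * z = 1) : ¬ T ≤ centralizer ({z} : Set G) := fun h =>
  not_oddClosed hFT T hc (oddClosed_of_le (oddClosed_centralizer hG hz1 hzz) h)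

theorem exists_involution_of_not_odd {G : Type*} [Group G] [Finite G] (T : Subgroup G)
    (h : ¬ Odd (Nat.card T)) : ∃ z ∈ T, z ≠ 1 ∧ z * z = 1 := by
  have : Fact (Nat.Prime 2) := ⟨Nat.prime_two⟩
  rw [Nat.not_odd_iff_even, even_iff_two_dvd] at h
  obtain ⟨z, hz⟩ := exists_prime_orderOf_dvd_card' (G := T) 2 h
  refine ⟨z, z.2, ?_, ?_⟩
  · intro h1
    have : z = 1 := Subtype.ext h1
    rw [this, orderOf_one] at hz
    omega
  · have h2 : z ^ 2 = 1 := by rw [← hz]; exact pow_orderOf_eq_one z
    rw [sq] at h2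
    exact congrArg Subtype.val h2

/-- A normal subgroup containing a Klein four-group has index not divisible by `4`. -/
theorem not_four_dvd_index {Y : Type*} [Group Y] [Finite Y] (hY : SubDihedral Y)
    (L : Subgroup Y) [L.Normal] (V : Subgroup Y) (hV : IsKleinFour V) (hVL : V ≤ L) :
    ¬ 4 ∣ L.index := by
  have : Fact (Nat.Prime 2) := ⟨Nat.prime_two⟩
  have hVp : IsPGroup 2 V := IsPGroup.of_card (n := 2) (by rw [hV.card_four]; norm_num)
  obtain ⟨S, hVS⟩ := hVp.exists_le_sylow
  obtain ⟨R, hR, hRS⟩ := hY S S.2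
  have hRc : IsCyclic R := hR
  have hVR : ¬ V ≤ R := by
    intro h
    exact IsKleinFour.not_isCyclic (G := V) (Subgroup.isCyclic_of_le h)
  obtain ⟨x, hxV, hxR⟩ := Set.not_subset.mp hVR
  have hxV : x ∈ V := hxV
  have hxR : x ∉ R := hxR
  have hxS : x ∈ (S : Subgroup Y) := hVS hxV
  have hxL : x ∈ L := hVL hxV
  have hxx : x * x = 1 := (hRS x hxS hxR).1
  have hc : IsCyclic ((S : Subgroup Y) ⊓ R : Subgroup Y) := Subgroup.isCyclic_of_le inf_le_right
  obtain ⟨⟨r, hrT⟩, hr⟩ := hc.exists_generator
  have hrR : r ∈ R := hrT.2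
  have hrS : r ∈ (S : Subgroup Y) := hrT.1
  have hrL : r * r ∈ L := by
    have h1 : x * r ∉ R := fun h => hxR (by
      have := R.mul_mem h (R.inv_mem hrR)
      rwa [mul_assoc, mul_inv_cancel, mul_one] at this)
    have h2 := (hRS (x * r) (mul_mem hxS hrS) h1).1
    have h3 : x * r * x = r⁻¹ := by
      rw [← mul_assoc] at h2
      exact eq_inv_of_mul_eq_one_left h2
    have h4 : r * x * r⁻¹ ∈ L := Subgroup.Normal.conj_mem inferInstance x hxL r
    have h5 : r * r = r * x * r⁻¹ * x := by
      have h6 : r⁻¹ * x = x * r := by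
        rw [← h3, mul_assoc, hxx, mul_one]
      calc r * r = r * (x * x) * r := by rw [hxx]; group
        _ = r * x * (x * r) := by group
        _ = r * x * (r⁻¹ * x) := by rw [h6]
        _ = r * x * r⁻¹ * x := by group
    rw [h5]
    exact mul_mem h4 hxL
  intro h4
  let S' : Sylow 2 (Y ⧸ L) := S.mapSurjective (QuotientGroup.mk'_surjective L)
  have h5 : 2 ^ 2 ∣ Nat.card S' := by
    apply S'.pow_dvd_card_of_pow_dvd_card
    exact h4
  have h6 : ∀ s ∈ (S' : Subgroup (Y ⧸ L)), s = 1 ∨ s = (r : Y ⧸ L) := by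
    intro s hs
    rw [Sylow.coe_mapSurjective] at hs
    obtain ⟨a, ha, rfl⟩ := hs
    have hRr : ∀ y ∈ (S : Subgroup Y), y ∈ R →
        (y : Y ⧸ L) = 1 ∨ (y : Y ⧸ L) = (r : Y ⧸ L) := by
      intro y hy hyR
      obtain ⟨k, hk⟩ := Subgroup.mem_zpowers_iff.1 (hr ⟨y, hy, hyR⟩)
      have hk' : r ^ k = y := congrArg Subtype.val hk
      have hrr : (r : Y ⧸ L) ^ (2 : ℤ) = 1 := by
        have : ((r * r : Y) : Y ⧸ L) = 1 := (QuotientGroup.eq_one_iff _).2 hrL
        rw [show (2 : ℤ) = 1 + 1 from rfl, zpow_add, zpow_one]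
        exact this
      rw [← hk', QuotientGroup.mk_zpow]
      rcases Int.even_or_odd' k with ⟨l, rfl | rfl⟩
      · left; rw [zpow_mul, hrr, one_zpow]
      · right; rw [zpow_add, zpow_mul, hrr, one_zpow, one_mul, zpow_one]
    by_cases haR : a ∈ R
    · exact hRr a ha haR
    · have h7 : x * a ∈ R := (hRS x hxS hxR).2 a ha haR
      have h8 := hRr (x * a) (mul_mem hxS ha) h7
      have h9 : ((x * a : Y) : Y ⧸ L) = (a : Y ⧸ L) := by
        rw [QuotientGroup.mk_mul, (QuotientGroup.eq_one_iff x).2 hxL, one_mul]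
      rw [h9] at h8
      exact h8
  have h7 : Nat.card (S' : Subgroup (Y ⧸ L)) ≤ 2 := by
    have hsub : ((S' : Subgroup (Y ⧸ L)) : Set (Y ⧸ L)) ⊆ {1, (r : Y ⧸ L)} := by
      intro s hs
      simpa using h6 s hs
    have h8 := Set.ncard_le_ncard hsub (Set.toFinite _)
    have h9 : ({1, (r : Y ⧸ L)} : Set (Y ⧸ L)).ncard ≤ 2 :=
      (Set.ncard_insert_le _ _).trans (by rw [Set.ncard_singleton])
    have h10 : Nat.card (S' : Subgroup (Y ⧸ L)) = ((S' : Subgroup (Y ⧸ L)) : Set (Y ⧸ L)).ncard :=
      Nat.card_coe_set_eq _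
    omega
  have h8 := Nat.le_of_dvd Nat.card_pos h5
  have h9 : Nat.card S' ≤ 2 := h7
  omega

/-- A Klein four-group inside a subgroup with dihedral Sylow 2-subgroups. -/
theorem exists_kleinFour_of_dihedral {G : Type*} [Group G] (T : Subgroup G) (hT : IsPGroup 2 T)
    (m : ℕ) (hm : 2 ≤ m) (e : T ≃* DihedralGroup m) [Finite G] :
    ∃ V : Subgroup G, V ≤ T ∧ IsKleinFour V := by
  obtain ⟨k, hk⟩ := IsPGroup.iff_card.1 hT
  have hc : Nat.card T = 2 * m := by
    rw [Nat.card_congr e.toEquiv, DihedralGroup.nat_card]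
  have hk' : 2 ^ k = 2 * m := by rw [← hc]; exact hk.symm
  have h2 : 2 ∣ m := by
    rcases k with _ | _ | k
    · omega
    · omega
    · rw [pow_succ, pow_succ] at hk'
      omega
  obtain ⟨q, rfl⟩ := h2
  obtain ⟨r, z, hD⟩ := exists_dihData T q (by omega) e
  obtain ⟨t, htT, ht⟩ := hD.exists_refl
  have hzT : z ∈ T := hD.zpowers_le hD.z_mem
  have ht1 : t ≠ 1 := fun h => ht (h ▸ one_mem _)
  have htz : t ≠ z := fun h => ht (h ▸ hD.z_mem)
  exact ⟨fourGroup z t hD.z_sq (hD.refl_sq t htT ht) (hD.z_comm t htT).symm,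
    fourGroup_le _ _ _ hzT htT, isKleinFour_fourGroup _ _ _ hD.z_ne ht1 htz.symm⟩

/-- **Structure of core-free `SubDihedral` groups.** -/
theorem structure_of_core_free (hFT : OddOrder.{u}) {Y : Type u} [Group Y] [Finite Y]
    (hY : SubDihedral Y) (hO : Cfsg.oddCore Y = ⊥) :
    IsPGroup 2 Y ∨
    (∃ V : Subgroup Y, V.Normal ∧ IsKleinFour V ∧ centralizer (V : Set Y) = V ∧
      (V.index = 3 ∨ V.index = 6)) ∨
    (∃ L : Subgroup Y, L.Normal ∧ IsSimpleGroup L ∧ centralizer (L : Set Y) = ⊥ ∧
      ¬ 4 ∣ L.index ∧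
      ∃ (S : Sylow 2 L) (m : ℕ), 2 ≤ m ∧ Nonempty ((S : Subgroup L) ≃* DihedralGroup m)) := by
  have : Fact (Nat.Prime 2) := ⟨Nat.prime_two⟩
  by_cases hYt : (⊤ : Subgroup Y) = ⊥
  · left
    intro g
    refine ⟨0, ?_⟩
    have : g ∈ (⊤ : Subgroup Y) := mem_top g
    rw [hYt, Subgroup.mem_bot] at this
    rw [this, one_pow]
  obtain ⟨N, -, hN1, hNn, hNmin⟩ :=
    Cfsg.Agent.Lib.MinNormal.exists_minimal_normal_le (⊤ : Subgroup Y) hYt
  have hNnorm : N.Normal := by
    rw [← Subgroup.normalizer_eq_top_iff]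
    exact top_le_iff.1 hNn
  have hmin : ∀ M : Subgroup Y, M.Normal → M ≤ N → M = ⊥ ∨ M = N := by
    intro M hM hMN
    apply hNmin M hMN
    rw [Subgroup.normalizer_eq_top_iff.2 hM]
  have hnotodd : ¬ Odd (Nat.card N) := by
    intro h
    apply hN1
    rw [← le_bot_iff, ← hO]
    exact Cfsg.Agent.Lib.Cores.le_pPrimeCore hNnorm (Nat.coprime_two_right.2 h)
  by_cases hab : ∀ x ∈ N, ∀ y ∈ N, Commute x y
  · -- abelian minimal normal subgroup
    obtain ⟨p, hp, hNp, hxp⟩ :=
      Cfsg.Agent.Lib.MinNormalNonabelian.abelian_structure N hN1 hmin hab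
    obtain ⟨z, hzN, hz1, hzz⟩ := exists_involution_of_not_odd N hnotodd
    have hp2 : p = 2 := by
      have h1 : orderOf z ∣ p := orderOf_dvd_of_pow_eq_one (hxp z hzN)
      have h2 : orderOf z = 2 := orderOf_eq_prime (by rw [sq, hzz]) hz1
      rw [h2] at h1
      exact ((Nat.prime_dvd_prime_iff_eq Nat.prime_two hp).1 h1).symm
    subst hp2
    have hsq : ∀ x ∈ N, x * x = 1 := fun x hx => by rw [← sq]; exact hxp x hx
    have hle := card_le_four hY N hsq
    by_cases h2 : ∀ w ∈ N, w = 1 ∨ w = z
    · -- central involution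
      left
      apply isPGroup_of_oddClosed _ hO
      refine oddClosed_of_subDihedral _ le_rfl hY z hz1 hzz ?_
      intro g
      have h3 := hNnorm.conj_mem z hzN g
      rcases h2 _ h3 with h4 | h4
      · exfalso
        apply hz1
        rw [mul_inv_eq_one] at h4
        exact mul_eq_left.1 h4
      · exact mul_inv_eq_iff_eq_mul.1 h4
    · push Not at h2
      obtain ⟨w, hwN, hw1, hwz⟩ := h2
      have hzw := (hab z hzN w hwN).eq
      have hVN : fourGroup z w hzz (hsq w hwN) hzw ≤ N := fourGroup_le _ _ _ hzN hwN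
      have hV := isKleinFour_fourGroup hzz (hsq w hwN) hzw hz1 hw1 hwz.symm
      have hVeq : fourGroup z w hzz (hsq w hwN) hzw = N :=
        Subgroup.eq_of_le_of_card_ge hVN (by rw [hV.card_four]; exact hle)
      rw [hVeq] at hV
      obtain ⟨h3, h4⟩ := normal_kleinFour hY hO N hV
      have h5 := Subgroup.card_mul_index N
      rw [hV.card_four] at h5
      have h6 : N.index = 1 ∨ N.index = 2 ∨ N.index = 3 ∨ N.index = 6 := by
        have h7 := Nat.le_of_dvd (by norm_num) h4
        have h8 : N.index ≠ 0 := Subgroup.index_ne_zero_of_finite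
        have h9 : N.index ≠ 4 := by intro h; rw [h] at h4; omega
        have h10 : N.index ≠ 5 := by intro h; rw [h] at h4; omega
        omega
      rcases h6 with h6 | h6 | h6 | h6
      · left
        exact IsPGroup.of_card (n := 2) (by rw [← h5, h6]; norm_num)
      · left
        exact IsPGroup.of_card (n := 3) (by rw [← h5, h6]; norm_num)
      · right; left
        exact ⟨N, hNnorm, hV, h3, Or.inl h6⟩
      · right; left
        exact ⟨N, hNnorm, hV, h3, Or.inr h6⟩
  · -- nonabelian minimal normal subgroup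
    right; right
    obtain ⟨hne, hind, hsup, hsimple, hcent, -⟩ :=
      Cfsg.Agent.Lib.MinNormalNonabelian.nonabelian_structure N hmin hab
    obtain ⟨T, hT⟩ := hne
    have hTs := hsimple T hT
    have hTc := hcent T hT
    -- the simple factor is unique
    have huniq : ∀ T' ∈ Cfsg.Agent.Lib.MinNormalNonabelian.minSet N, T' = T := by
      intro T' hT'
      by_contra hne'
      have hT's := hsimple T' hT'
      have hT'not : ¬ Odd (Nat.card T') := by
        intro h
        apply not_oddClosed hFT T' (hcent T' hT')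
        intro x y _ _
        exact h.of_dvd_nat (orderOf_dvd_natCard _)
      obtain ⟨z, hz, hz1, hzz⟩ := exists_involution_of_not_odd T' hT'not
      apply not_commute_involution hFT hY T hTc z hz1 hzz
      intro t ht
      rw [Subgroup.mem_centralizer_singleton_iff]
      exact (Cfsg.Agent.Lib.MinNormal.commute_of_mem hind
        (fun S hS => (Cfsg.Agent.Lib.MinNormalNonabelian.mem_minSet.1 hS).2.2.1)
        (fun S hS => (Cfsg.Agent.Lib.MinNormalNonabelian.mem_minSet.1 hS).1) hT hT'
        (fun h => hne' h.symm) ht hz).eq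
    have hNT : N = T := by
      rw [← hsup]
      apply le_antisymm
      · exact sSup_le fun T' hT' => (huniq T' hT').le
      · exact le_sSup hT
    have hTN : T = N := hNT.symm
    subst hTN
    have hTD : SubDihedral T := subDihedral_of_injective T.subtype T.subtype_injective hY
    obtain ⟨P⟩ : Nonempty (Sylow 2 T) := inferInstance
    have hPD : ∃ m : ℕ, 2 ≤ m ∧ Nonempty ((P : Subgroup T) ≃* DihedralGroup m) := by
      rcases isCyclic_or_dihedral hTD P P.2 with h | h
      · exact absurd (oddClosed_of_isCyclic P h) (not_oddClosed hFT T hTc)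
      · exact h
    obtain ⟨m, hm, ⟨e⟩⟩ := hPD
    refine ⟨T, hNnorm, hTs, ?_, ?_, ⟨P, m, hm, ⟨e⟩⟩⟩
    · -- centralizer
      have hCn : (centralizer (T : Set Y)).Normal := inferInstance
      by_contra hC
      have hCnot : ¬ Odd (Nat.card (centralizer (T : Set Y))) := by
        intro h
        apply hC
        rw [← le_bot_iff, ← hO]
        exact Cfsg.Agent.Lib.Cores.le_pPrimeCore hCn (Nat.coprime_two_right.2 h)
      obtain ⟨z, hz, hz1, hzz⟩ := exists_involution_of_not_odd _ hCnot
      apply not_commute_involution hFT hY T hTc z hz1 hzz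
      intro t ht
      rw [Subgroup.mem_centralizer_singleton_iff]
      exact Subgroup.mem_centralizer_iff.1 hz t ht
    · obtain ⟨V, hVP, hV⟩ := exists_kleinFour_of_dihedral (P : Subgroup T) P.2 m hm e
      have hV' : IsKleinFour (V.map T.subtype) := by
        have e2 := V.equivMapOfInjective T.subtype T.subtype_injective
        refine ⟨?_, ?_⟩
        · rw [← Nat.card_congr e2.toEquiv]; exact hV.card_four
        · rw [← Monoid.exponent_eq_of_mulEquiv e2]; exact hV.exponent_two
      exact not_four_dvd_index hY T _ hV' (Subgroup.map_subtype_le V)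

end Cfsg.Agent.Classification.DihStructure
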