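import Mathlib
import Cfsg.Agent.Classification.DihLift

/-!
# `A₇` does not occur as a normal subgroup of index `2 · odd` in the type A case
-/

set_option autoImplicit false

namespace Cfsg.Agent.Classification.DihNoSeven

open Equiv Equiv.Perm

/-- `(0 1)(2 3)` -/
def t7 : Perm (Fin 7) := swap 0 1 * swap 2 3
/-- `(0 2)(1 3)` -/
def u7 : Perm (Fin 7) := swap 0 2 * swap 1 3
/-- `(0 1)(4 5)` -/
def v7 : Perm (Fin 7) := swap 0 1 * swap 4 5
/-- a cycle on `4, 5, 6` -/
def z7 : Perm (Fin 7) := swap 4 5 * swap 5 6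

theorem t7_mem : t7 ∈ alternatingGroup (Fin 7) := by rw [mem_alternatingGroup]; decide
theorem u7_mem : u7 ∈ alternatingGroup (Fin 7) := by rw [mem_alternatingGroup]; decide
theorem v7_mem : v7 ∈ alternatingGroup (Fin 7) := by rw [mem_alternatingGroup]; decide
theorem z7_mem : z7 ∈ alternatingGroup (Fin 7) := by rw [mem_alternatingGroup]; decide

/-- No element of order three commutes with `(0 1)(2 3)` and `(0 1)(4 5)`. -/
theorem eq_one_of_comm {z : Perm (Fin 7)} (h1 : z * t7 = t7 * z) (h2 : z * v7 = v7 * z)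
    (h3 : z * (z * z) = 1) : z = 1 := by
  have ht : ∀ i, z (t7 i) = t7 (z i) := fun i => congrArg (fun g : Perm (Fin 7) => g i) h1
  have hv : ∀ i, z (v7 i) = v7 (z i) := fun i => congrArg (fun g : Perm (Fin 7) => g i) h2
  have hz : ∀ i, z (z (z i)) = i := fun i => congrArg (fun g : Perm (Fin 7) => g i) h3
  have t0 := ht 0
  have t2 := ht 2
  have t4 := ht 4
  have v0 := hv 0
  have v2 := hv 2
  have v4 := hv 4
  have e1 : t7 0 = 1 := by decide
  have e2 : t7 2 = 3 := by decide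
  have e3 : t7 4 = 4 := by decide
  have e4 : v7 0 = 1 := by decide
  have e5 : v7 2 = 2 := by decide
  have e6 : v7 4 = 5 := by decide
  rw [e1] at t0
  rw [e2] at t2
  rw [e3] at t4
  rw [e4] at v0
  rw [e5] at v2
  rw [e6] at v4
  -- `z 0 = 0`
  have k0 : ∀ a b : Fin 7, b = t7 a → b = v7 a → a ≠ b → a = 0 ∨ a = 1 := by decide
  have n01 : z 0 ≠ z 1 := fun h => absurd (z.injective h) (by decide)
  have z0 : z 0 = 0 := by
    rcases k0 _ _ t0 v0 n01 with h | h
    · exact h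
    · exfalso
      rw [h] at t0
      have : t7 1 = 0 := by decide
      rw [this] at t0
      have h4 := hz 0
      rw [h, t0, h] at h4
      exact absurd h4 (by decide)
  have z1 : z 1 = 1 := by rw [t0, z0]; decide
  -- `z 2 = 2`
  have k2 : ∀ a b : Fin 7, b = t7 a → a = v7 a → a ≠ b → a = 2 ∨ a = 3 := by decide
  have n23 : z 2 ≠ z 3 := fun h => absurd (z.injective h) (by decide)
  have z2 : z 2 = 2 := by
    rcases k2 _ _ t2 v2 n23 with h | h
    · exact h
    · exfalso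
      rw [h] at t2
      have : t7 3 = 2 := by decide
      rw [this] at t2
      have h4 := hz 2
      rw [h, t2, h] at h4
      exact absurd h4 (by decide)
  have z3 : z 3 = 3 := by rw [t2, z2]; decide
  -- `z 4 = 4`
  have k4 : ∀ a b : Fin 7, a = t7 a → b = v7 a → a ≠ b → a = 4 ∨ a = 5 := by decide
  have n45 : z 4 ≠ z 5 := fun h => absurd (z.injective h) (by decide)
  have z4 : z 4 = 4 := by
    rcases k4 _ _ t4 v4 n45 with h | h
    · exact h
    · exfalso
      rw [h] at v4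
      have : v7 5 = 4 := by decide
      rw [this] at v4
      have h4 := hz 4
      rw [h, v4, h] at h4
      exact absurd h4 (by decide)
  have z5 : z 5 = 5 := by rw [v4, z4]; decide
  have z6 : z 6 = 6 := by
    have key : ∀ a : Fin 7, a ≠ 0 → a ≠ 1 → a ≠ 2 → a ≠ 3 → a ≠ 4 → a ≠ 5 → a = 6 := by omega
    have n : ∀ i : Fin 7, z i = i → i ≠ 6 → z 6 ≠ i := by
      intro i hi hi6 h
      exact hi6 (z.injective (by rw [hi, h]))
    exact key _ (n 0 z0 (by decide)) (n 1 z1 (by decide)) (n 2 z2 (by decide))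
      (n 3 z3 (by decide)) (n 4 z4 (by decide)) (n 5 z5 (by decide))
  ext i
  fin_cases i
  · simp [z0]
  · simp [z1]
  · simp [z2]
  · simp [z3]
  · simp [z4]
  · simp [z5]
  · simp [z6]

/-- **Exclusion of `A₇`.** -/
theorem no_seven {Y : Type*} [Group Y] (N : Subgroup Y) [hn : N.Normal]
    (E : N ≃* alternatingGroup (Fin 7))
    (hN : ∀ a b : N, orderOf a = 2 → orderOf b = 2 → IsConj a b) {τ : Y} (hτ : τ ∈ N)
    (hτ2 : orderOf τ = 2)
    (hfus : ∀ u v : Y, u ∈ N → v ∈ N → orderOf u = 2 → orderOf v = 2 → u ≠ τ → v ≠ τ →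
      u * τ = τ * u → v * τ = τ * v → ∃ c : Y, c * τ = τ * c ∧ c * u * c⁻¹ = v) : False := by
  set T : alternatingGroup (Fin 7) := ⟨t7, t7_mem⟩ with hT
  set U : alternatingGroup (Fin 7) := ⟨u7, u7_mem⟩ with hU
  set V : alternatingGroup (Fin 7) := ⟨v7, v7_mem⟩ with hV
  set Z : alternatingGroup (Fin 7) := ⟨z7, z7_mem⟩ with hZ
  have o2 : ∀ A : alternatingGroup (Fin 7), A * A = 1 → A ≠ 1 → orderOf (E.symm A) = 2 := by
    intro A h1 h2
    rw [MulEquiv.orderOf_eq]
    exact DihLift.orderOf_two h1 h2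
  have hTT : T * T = 1 := Subtype.ext (by change t7 * t7 = 1; decide)
  have hUU : U * U = 1 := Subtype.ext (by change u7 * u7 = 1; decide)
  have hVV : V * V = 1 := Subtype.ext (by change v7 * v7 = 1; decide)
  have hT1 : T ≠ 1 := fun h => absurd (congrArg Subtype.val h) (by change t7 ≠ 1; decide)
  have hU1 : U ≠ 1 := fun h => absurd (congrArg Subtype.val h) (by change u7 ≠ 1; decide)
  have hV1 : V ≠ 1 := fun h => absurd (congrArg Subtype.val h) (by change v7 ≠ 1; decide)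
  have hZ1 : Z ≠ 1 := fun h => absurd (congrArg Subtype.val h) (by change z7 ≠ 1; decide)
  have hUT : U ≠ T := fun h => absurd (congrArg Subtype.val h) (by change u7 ≠ t7; decide)
  have hVT : V ≠ T := fun h => absurd (congrArg Subtype.val h) (by change v7 ≠ t7; decide)
  have cUT : U * T = T * U := Subtype.ext (by change u7 * t7 = t7 * u7; decide)
  have cVT : V * T = T * V := Subtype.ext (by change v7 * t7 = t7 * v7; decide)
  have cZT : Z * T = T * Z := Subtype.ext (by change z7 * t7 = t7 * z7; decide)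
  have cZU : Z * U = U * Z := Subtype.ext (by change z7 * u7 = u7 * z7; decide)
  have hZ3 : Z * (Z * Z) = 1 := Subtype.ext (by change z7 * (z7 * z7) = 1; decide)
  obtain ⟨c, hc⟩ := isConj_iff.mp (hN (E.symm T) ⟨τ, hτ⟩ (o2 T hTT hT1)
    (by rw [Subgroup.orderOf_mk]; exact hτ2))
  -- the map `A ↦ c (E⁻¹ A) c⁻¹`
  let φ : alternatingGroup (Fin 7) → Y := fun A => ((c * E.symm A * c⁻¹ : N) : Y)
  have hφτ : φ T = τ := congrArg Subtype.val hc
  have hφm : ∀ A, φ A ∈ N := fun A => (c * E.symm A * c⁻¹ : N).2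
  have hφinj : ∀ A B, φ A = φ B → A = B := by
    intro A B hAB
    have h1 : c * E.symm A * c⁻¹ = c * E.symm B * c⁻¹ := Subtype.ext hAB
    exact E.symm.injective (mul_left_cancel (mul_right_cancel h1))
  have hφmul : ∀ A B, φ (A * B) = φ A * φ B := by
    intro A B
    change ((c * E.symm (A * B) * c⁻¹ : N) : Y) = ((c * E.symm A * c⁻¹ * (c * E.symm B * c⁻¹) : N) : Y)
    congr 1
    rw [map_mul]
    group
  have hφo : ∀ A, A * A = 1 → A ≠ 1 → orderOf (φ A) = 2 := by
    intro A h1 h2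
    change orderOf ((c * E.symm A * c⁻¹ : N) : Y) = 2
    rw [Subgroup.orderOf_coe, DihLift.orderOf_conj']
    exact o2 A h1 h2
  have hφsurj : ∀ y ∈ N, ∃ A, φ A = y := by
    intro y hy
    refine ⟨E (c⁻¹ * ⟨y, hy⟩ * c), ?_⟩
    change ((c * E.symm (E (c⁻¹ * ⟨y, hy⟩ * c)) * c⁻¹ : N) : Y) = y
    rw [E.symm_apply_apply]
    have : c * (c⁻¹ * ⟨y, hy⟩ * c) * c⁻¹ = ⟨y, hy⟩ := by group
    rw [this]
  have hφ1 : φ 1 = 1 := by
    change ((c * E.symm 1 * c⁻¹ : N) : Y) = 1
    rw [map_one, mul_one, mul_inv_cancel]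
    rfl
  obtain ⟨d, hd1, hd2⟩ := hfus (φ U) (φ V) (hφm U) (hφm V) (hφo U hUU hU1) (hφo V hVV hV1)
    (fun h => hUT (hφinj _ _ (h.trans hφτ.symm))) (fun h => hVT (hφinj _ _ (h.trans hφτ.symm)))
    (by rw [← hφτ, ← hφmul, ← hφmul, cUT]) (by rw [← hφτ, ← hφmul, ← hφmul, cVT])
  obtain ⟨A, hA⟩ := hφsurj (d * φ Z * d⁻¹) (hn.conj_mem _ (hφm Z) d)
  have hA1 : A ≠ 1 := by
    intro h
    rw [h, hφ1] at hA
    apply hZ1
    apply hφinj
    rw [hφ1]
    calc φ Z = d⁻¹ * (d * φ Z * d⁻¹) * d := by group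
      _ = 1 := by rw [← hA]; group
  have hA3 : A * (A * A) = 1 := by
    apply hφinj
    rw [hφmul, hφmul, hA, hφ1]
    calc d * φ Z * d⁻¹ * (d * φ Z * d⁻¹ * (d * φ Z * d⁻¹)) = d * (φ Z * (φ Z * φ Z)) * d⁻¹ := by
          group
      _ = 1 := by rw [← hφmul, ← hφmul, hZ3, hφ1]; group
  have hdτ : d * τ * d⁻¹ = τ := by rw [hd1]; group
  have hAT : A * T = T * A := by
    apply hφinj
    rw [hφmul, hφmul, hA, hφτ]
    calc d * φ Z * d⁻¹ * τ = d * φ Z * d⁻¹ * (d * τ * d⁻¹) := by rw [hdτ]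
      _ = d * (φ Z * φ T) * d⁻¹ := by rw [hφτ]; group
      _ = d * (φ T * φ Z) * d⁻¹ := by rw [← hφmul, cZT, hφmul]
      _ = (d * τ * d⁻¹) * (d * φ Z * d⁻¹) := by rw [hφτ]; group
      _ = τ * (d * φ Z * d⁻¹) := by rw [hdτ]
  have hAV : A * V = V * A := by
    apply hφinj
    rw [hφmul, hφmul, hA, ← hd2]
    calc d * φ Z * d⁻¹ * (d * φ U * d⁻¹) = d * (φ Z * φ U) * d⁻¹ := by group
      _ = d * (φ U * φ Z) * d⁻¹ := by rw [← hφmul, cZU, hφmul]
      _ = d * φ U * d⁻¹ * (d * φ Z * d⁻¹) := by group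
  apply hA1
  apply Subtype.ext
  exact eq_one_of_comm (congrArg Subtype.val hAT) (congrArg Subtype.val hAV)
    (congrArg Subtype.val hA3)

end Cfsg.Agent.Classification.DihNoSeven
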