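import Mathlib
import Cfsg.Agent.Classification.DihTypeANumbers

/-!
# Type A maximal subgroups in the Gorenstein–Walter theorem: small cases
-/

set_option autoImplicit false
set_option linter.unusedSectionVars false

namespace Cfsg.Agent.Classification.DihTypeAEnd

open DihedralGroup Cfsg.Agent.Classification.BGDefs Cfsg.Agent.Classification.BGBasic
  Cfsg.Agent.Classification.BGOrder Cfsg.Agent.Classification.DihTypeACount
  Cfsg.Agent.Classification.DihTypeACount2 Cfsg.Agent.Classification.DihTypeACount3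
  Cfsg.Agent.Classification.BGDegrees

/-- A subgroup of odd index contains a Sylow 2-subgroup. -/
theorem exists_sylow_le_of_odd {G : Type*} [Group G] [Finite G] (H : Subgroup G)
    (hH : Odd H.index) : ∃ P : Sylow 2 G, (P : Subgroup G) ≤ H := by
  have : Fact (Nat.Prime 2) := ⟨Nat.prime_two⟩
  obtain ⟨P⟩ : Nonempty (Sylow 2 G) := inferInstance
  have hcard : ¬ 2 ∣ Nat.card (G ⧸ H) := hH.not_two_dvd_nat
  obtain ⟨q, hq⟩ := P.2.nonempty_fixed_point_of_prime_not_dvd_card (G ⧸ H) hcard
  obtain ⟨g, rfl⟩ := QuotientGroup.mk_surjective q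
  refine ⟨g⁻¹ • P, ?_⟩
  intro x hx
  rw [Sylow.coe_subgroup_smul, Subgroup.mem_pointwise_smul_iff_inv_smul_mem, ← map_inv, inv_inv,
    MulAut.smul_def, MulAut.conj_apply] at hx
  have h1 := hq (⟨g * x * g⁻¹, hx⟩ : P)
  have h2 : ((g * x * g⁻¹ * g : G) : G ⧸ H) = (g : G ⧸ H) := h1
  have h3 : g⁻¹ * (g * x * g⁻¹ * g) ∈ H := QuotientGroup.eq.mp h2.symm
  have e1 : g⁻¹ * (g * x * g⁻¹ * g) = x := by group
  rwa [e1] at h3

variable {G : Type*} [Group G] {t : G} {n : ℕ} [NeZero n]
  {π : (Subgroup.centralizer ({t} : Set G)) →* DihedralGroup n}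

/-- If `f = 1 ± 2 n` then `O(C(t)) = 1`. -/
theorem ker_eq_one_of_small [Fintype G] [IsSimpleGroup G] (h : BGHyp t n π) (hn : 4 ≤ n)
    (hodd : Odd (Subgroup.centralizer ({t} : Set G)).index)
    {X₁ X₂ X₃ : G → ℂ} {T : ZMod n → G → ℂ} {f g₂ g₃ : ℤ} (H : BGChars h X₁ X₂ X₃ T f g₂ g₃)
    (hf : f = 1 + 2 * n ∨ f = 1 - 2 * n) : Nat.card π.ker = 1 := by
  obtain ⟨P, hP⟩ := exists_sylow_le_of_odd _ hodd
  set Y : Subgroup G := π.ker.map (Subgroup.subtype _) with hY
  have hcard : Nat.card Y = Nat.card π.ker := by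
    rw [hY]
    exact (Nat.card_congr (π.ker.equivMapOfInjective _ (Subgroup.subtype_injective _)).toEquiv).symm
  have hle : Subgroup.centralizer ({t} : Set G) ≤ Subgroup.normalizer (Y : Set G) := by
    intro c hc
    rw [Subgroup.mem_normalizer_iff]
    intro x
    have key : ∀ c ∈ Subgroup.centralizer ({t} : Set G), ∀ x ∈ Y, c * x * c⁻¹ ∈ Y := by
      rintro c hc x ⟨y, hy, rfl⟩
      exact ⟨⟨c, hc⟩ * y * ⟨c, hc⟩⁻¹, (inferInstance : π.ker.Normal).conj_mem y hy _, rfl⟩
    constructor
    · exact key c hc x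
    · intro hx
      have := key c⁻¹ (inv_mem hc) _ hx
      have e1 : c⁻¹ * (c * x * c⁻¹) * c⁻¹⁻¹ = x := by group
      rwa [e1] at this
  have h1 := H.eq_bot_of_small hn hf Y (by rw [hcard]; exact h.odd_ker) P (hP.trans hle)
  rw [← hcard, h1]
  simp

theorem n_eq_four (_h : BGHyp t n π) (hn : 4 ≤ n) {f : ℤ} (hf : (2 * n : ℤ) ∣ f - 1)
    (h7 : f = -7) : n = 4 := by
  rw [h7] at hf
  have h1 : (2 * n : ℤ) ∣ 8 := by
    have := hf.neg_right
    simpa using this
  have h2 : (2 * n) ∣ 8 := by exact_mod_cast h1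
  have := Nat.le_of_dvd (by norm_num) h2
  omega

/-- A simple group of order divisible by `840` with a subgroup of index `7` is `A₇`. -/
theorem iso_of_index_seven [Finite G] [IsSimpleGroup G] (M : Subgroup G) (hM : M.index = 7)
    (h840 : 840 ∣ Nat.card G) : Nonempty (G ≃* alternatingGroup (Fin 7)) := by
  classical
  have : Fintype G := Fintype.ofFinite G
  have : Fintype (G ⧸ M) := Fintype.ofFinite _
  have hcard : Fintype.card (G ⧸ M) = 7 := by rw [← Nat.card_eq_fintype_card]; exact hM
  let e : G ⧸ M ≃ Fin 7 := Fintype.equivFinOfCardEq hcard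
  let φ : G →* Equiv.Perm (Fin 7) :=
    (e.permCongrHom.toMonoidHom).comp (MulAction.toPermHom G (G ⧸ M))
  have hMt : M ≠ ⊤ := by
    rintro rfl
    rw [Subgroup.index_top] at hM
    omega
  have hinj : Function.Injective φ := by
    have h1 : Function.Injective (MulAction.toPermHom G (G ⧸ M)) := by
      rw [← MonoidHom.ker_eq_bot_iff, ← Subgroup.normalCore_eq_ker]
      rcases (Subgroup.normalCore_normal M).eq_bot_or_eq_top with h2 | h2
      · exact h2
      · exfalso
        apply hMt
        rw [eq_top_iff, ← h2]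
        exact Subgroup.normalCore_le M
    exact (e.permCongrHom.injective).comp h1
  -- the image is in the alternating group
  have hsign : ∀ g, Equiv.Perm.sign (φ g) = 1 := by
    intro g
    let ψ : G →* ℤˣ := Equiv.Perm.sign.comp φ
    rcases (inferInstance : ψ.ker.Normal).eq_bot_or_eq_top with h2 | h2
    · exfalso
      have h3 : Nat.card G ∣ Nat.card ℤˣ :=
        Subgroup.card_dvd_of_injective ψ ((MonoidHom.ker_eq_bot_iff ψ).mp h2)
      have h4 : Nat.card ℤˣ = 2 := by rw [Nat.card_eq_fintype_card]; rfl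
      rw [h4] at h3
      have := Nat.le_of_dvd (by norm_num) (h840.trans h3)
      omega
    · have h3 : g ∈ ψ.ker := by rw [h2]; trivial
      exact h3
  let θ : G →* alternatingGroup (Fin 7) :=
    φ.codRestrict (alternatingGroup (Fin 7)) (fun g => Equiv.Perm.mem_alternatingGroup.mpr (hsign g))
  have hθ : Function.Injective θ := fun a b hab => hinj (congrArg Subtype.val hab)
  have hA7 : Nat.card (alternatingGroup (Fin 7)) = 2520 := by
    have h1 := two_mul_card_alternatingGroup (α := Fin 7)
    rw [Fintype.card_perm, Fintype.card_fin] at h1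
    rw [Nat.card_eq_fintype_card]
    have h2 : Nat.factorial 7 = 5040 := rfl
    omega
  have hdvd : Nat.card θ.range ∣ 2520 := by rw [← hA7]; exact Subgroup.card_subgroup_dvd_card _
  have hcr : Nat.card θ.range = Nat.card G := (Nat.card_congr (θ.ofInjective hθ).toEquiv).symm
  have hidx : θ.range.index = 3 ∨ θ.range.index = 1 := by
    have h1 := θ.range.card_mul_index
    rw [hA7, hcr] at h1
    obtain ⟨c, hc⟩ := h840
    rw [hc] at h1
    have h2 : c * θ.range.index = 3 := by
      have : 840 * (c * θ.range.index) = 840 * 3 := by rw [← mul_assoc, h1]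
      omega
    have h3 : θ.range.index ∣ 3 := Dvd.intro_left c h2
    rcases (Nat.dvd_prime Nat.prime_three).mp h3 with h4 | h4
    · exact Or.inr h4
    · exact Or.inl h4
  have htop : θ.range = ⊤ := by
    rcases hidx with h1 | h1
    · exfalso
      have hs : IsSimpleGroup (alternatingGroup (Fin 7)) :=
        alternatingGroup.isSimpleGroup (α := Fin 7) (by simp)
      have h2 : θ.range.normalCore = ⊥ := by
        rcases (Subgroup.normalCore_normal θ.range).eq_bot_or_eq_top with h3 | h3
        · exact h3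
        · exfalso
          have h4 : θ.range = ⊤ := by
            rw [eq_top_iff, ← h3]; exact Subgroup.normalCore_le _
          rw [h4, Subgroup.index_top] at h1
          omega
      have h3 : Function.Injective (MulAction.toPermHom (alternatingGroup (Fin 7))
          (alternatingGroup (Fin 7) ⧸ θ.range)) := by
        rw [← MonoidHom.ker_eq_bot_iff, ← Subgroup.normalCore_eq_ker, h2]
      have h4 := Nat.card_le_card_of_injective _ h3
      rw [hA7, Nat.card_perm] at h4
      have h5 : Nat.card (alternatingGroup (Fin 7) ⧸ θ.range) = 3 := h1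
      rw [h5] at h4
      have h6 : Nat.factorial 3 = 6 := rfl
      omega
    · exact Subgroup.index_eq_one.mp h1
  exact ⟨MulEquiv.ofBijective θ ⟨hθ, MonoidHom.range_eq_top.mp htop⟩⟩

end Cfsg.Agent.Classification.DihTypeAEnd
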