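import Mathlib
import Cfsg.Agent.Classification.DihTypeAEnd

/-!
# A Sylow 2-subgroup in the centralizer of `t`
-/

set_option autoImplicit false
set_option linter.unusedSectionVars false

namespace Cfsg.Agent.Classification.DihTypeASylow

open DihedralGroup Cfsg.Agent.Classification.BGDefs Cfsg.Agent.Classification.BGBasic
  Cfsg.Agent.Classification.BGOrder Cfsg.Agent.Classification.DihTypeACount
  Cfsg.Agent.Classification.DihTypeACount2 Cfsg.Agent.Classification.DihTypeACount3

/-- Two subgroups of `M` of order `8` are conjugate in `M` if `16` does not divide `|M|`. -/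
theorem conj_of_card_eight {G : Type*} [Group G] [Finite G] {M A B : Subgroup G} (hA : A ≤ M)
    (hB : B ≤ M) (hA8 : Nat.card A = 8) (hB8 : Nat.card B = 8) (h16 : ¬ 16 ∣ Nat.card M) :
    ∃ m ∈ M, ∀ a ∈ A, m * a * m⁻¹ ∈ B := by
  have : Fact (Nat.Prime 2) := ⟨Nat.prime_two⟩
  have hA' : Nat.card (A.subgroupOf M) = 8 := by
    rw [← hA8]; exact Nat.card_congr (Subgroup.subgroupOfEquivOfLe hA).toEquiv
  have hB' : Nat.card (B.subgroupOf M) = 8 := by
    rw [← hB8]; exact Nat.card_congr (Subgroup.subgroupOfEquivOfLe hB).toEquiv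
  have h8 : 8 ∣ Nat.card M := by rw [← hA8]; exact Subgroup.card_dvd_of_le hA
  have hM0 : Nat.card M ≠ 0 := Nat.card_pos.ne'
  have hf : (Nat.card M).factorization 2 = 3 := by
    have h1 : 3 ≤ (Nat.card M).factorization 2 :=
      (Nat.prime_two.pow_dvd_iff_le_factorization hM0).mp h8
    have h2 : ¬ 4 ≤ (Nat.card M).factorization 2 := fun h3 =>
      h16 ((Nat.prime_two.pow_dvd_iff_le_factorization hM0).mpr h3)
    omega
  let SA : Sylow 2 M := Sylow.ofCard (A.subgroupOf M) (by rw [hf, hA']; norm_num)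
  let SB : Sylow 2 M := Sylow.ofCard (B.subgroupOf M) (by rw [hf, hB']; norm_num)
  obtain ⟨m, hm⟩ := MulAction.exists_smul_eq M SA SB
  refine ⟨m, m.2, ?_⟩
  intro a ha
  have h1 : (⟨a, hA ha⟩ : M) ∈ A.subgroupOf M := ha
  have h2 : m * ⟨a, hA ha⟩ * m⁻¹ ∈ (SB : Subgroup M) := by
    rw [← hm, Sylow.coe_subgroup_smul, Subgroup.mem_pointwise_smul_iff_inv_smul_mem, ← map_inv,
      MulAut.smul_def, MulAut.conj_apply]
    have e1 : m⁻¹ * (m * ⟨a, hA ha⟩ * m⁻¹) * m⁻¹⁻¹ = ⟨a, hA ha⟩ := by group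
    rw [e1]
    exact h1
  exact h2

variable {G : Type*} [Group G] {t : G} {n : ℕ} [NeZero n]
  {π : (Subgroup.centralizer ({t} : Set G)) →* DihedralGroup n}

/-- A copy of the dihedral group in `C(t)`. -/
structure IsSec (h : BGHyp t n π) (σ : DihedralGroup n →* G) : Prop where
  mem : ∀ d, σ d ∈ Subgroup.centralizer ({t} : Set G)
  eq : ∀ d, π ⟨σ d, mem d⟩ = d

theorem exists_isSec [Finite G] (h : BGHyp t n π) : ∃ σ : DihedralGroup n →* G, IsSec h σ := by
  obtain ⟨σ, hσ⟩ := BGAverage.exists_section h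
  exact ⟨(Subgroup.subtype _).comp σ, fun d => (σ d).2, hσ⟩

variable {h : BGHyp t n π} {σ : DihedralGroup n →* G}

theorem IsSec.injective (H : IsSec h σ) : Function.Injective σ := by
  intro a b hab
  rw [← H.eq a, ← H.eq b]
  congr 1
  exact Subtype.ext hab

theorem IsSec.card_range (H : IsSec h σ) : Nat.card σ.range = 2 * n := by
  rw [← DihedralGroup.nat_card]
  exact (Nat.card_congr (σ.ofInjective H.injective).toEquiv).symm

theorem IsSec.range_le (H : IsSec h σ) : σ.range ≤ Subgroup.centralizer ({t} : Set G) := by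
  rintro _ ⟨d, rfl⟩
  exact H.mem d

theorem IsSec.map_half (H : IsSec h σ) : σ (r ((n / 2 : ℕ) : ZMod n)) = t := by
  have hhalf := half_ne_zero (n := n) (two_dvd h)
  have hh2 := half_add_half (n := n) (two_dvd h)
  set d : DihedralGroup n := r ((n / 2 : ℕ) : ZMod n) with hd
  have hdd : d * d = 1 := by rw [hd, r_mul_r, hh2]; rfl
  have hd1 : d ≠ 1 := by
    intro h1
    exact hhalf (r.inj h1)
  have h1 : orderOf (⟨σ d, H.mem d⟩ : Subgroup.centralizer ({t} : Set G)) = 2 := by
    rw [Subgroup.orderOf_mk]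
    refine DihLift.orderOf_two (by rw [← map_mul, hdd, map_one]) ?_
    intro h2
    apply hd1
    apply H.injective
    rw [h2, map_one]
  rcases eq_tt_or_sr h h1 with h2 | ⟨j, hj⟩
  · exact congrArg Subtype.val h2
  · rw [H.eq d, hd] at hj
    cases hj

theorem IsSec.t_mem (H : IsSec h σ) : t ∈ σ.range := ⟨_, H.map_half⟩

/-- `t` is the only central involution. -/
theorem IsSec.eq_t (H : IsSec h σ) (hn : 4 ≤ n) {s : G} (hs : s ∈ σ.range) (hs2 : orderOf s = 2)
    (hc : ∀ u ∈ σ.range, s * u = u * s) : s = t := by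
  obtain ⟨d, rfl⟩ := hs
  have hdc : ∀ d', d * d' = d' * d := by
    intro d'
    apply H.injective
    rw [map_mul, map_mul]
    exact hc _ ⟨d', rfl⟩
  have hd1 : d ≠ 1 := by
    rintro rfl
    rw [map_one] at hs2
    simp at hs2
  have hdd : d * d = 1 := by
    apply H.injective
    rw [map_mul, map_one]
    exact DihLift.mul_self_of hs2
  match d with
  | r i =>
    have h1 : i + i = 0 := by
      rw [r_mul_r] at hdd
      exact r.inj hdd
    rcases eq_zero_or_half h1 with h2 | h2
    · exfalso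
      apply hd1
      rw [h2]; rfl
    · rw [h2]; exact H.map_half
  | sr i =>
    exfalso
    have h1 := hdc (r 1)
    rw [sr_mul_r, r_mul_sr] at h1
    have h2 : i + 1 = i - 1 := sr.inj h1
    have h3 : ((2 : ℕ) : ZMod n) = 0 := by
      push_cast
      linear_combination h2
    rw [ZMod.natCast_eq_zero_iff] at h3
    have := Nat.le_of_dvd (by norm_num) h3
    omega

theorem IsSec.orderOf_sr (H : IsSec h σ) (j : ZMod n) : orderOf (σ (sr j)) = 2 := by
  refine DihLift.orderOf_two (by rw [← map_mul, sr_mul_self, map_one]) ?_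
  intro h1
  have h2 : sr j = (1 : DihedralGroup n) := by
    apply H.injective
    rw [h1, map_one]
  cases h2

theorem IsSec.isPar (H : IsSec h σ) (j : ZMod n) :
    IsPar (two_dvd h) π (ZMod.castHom (two_dvd h) (ZMod 2) j) (σ (sr j)) :=
  ⟨H.mem _, H.orderOf_sr j, j, H.eq _, rfl⟩

/-- A subgroup containing all involutions of the copy contains it. -/
theorem IsSec.range_le_of_sr (_H : IsSec h σ) {Z : Subgroup G} (hZ : ∀ j, σ (sr j) ∈ Z) :
    σ.range ≤ Z := by
  rintro _ ⟨d, rfl⟩
  match d with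
  | sr j => exact hZ j
  | r j =>
    have : (r j : DihedralGroup n) = sr 0 * sr j := by
      rw [sr_mul_sr, sub_zero]
    rw [this, map_mul]
    exact mul_mem (hZ 0) (hZ j)

/-- A subgroup containing one reflection and all those of the other parity contains all. -/
theorem IsSec.range_le_of_par (H : IsSec h σ) {Z : Subgroup G} {j₀ : ZMod n}
    (h0 : σ (sr j₀) ∈ Z) (hZ : ∀ j, ZMod.castHom (two_dvd h) (ZMod 2) j =
      ZMod.castHom (two_dvd h) (ZMod 2) j₀ + 1 → σ (sr j) ∈ Z) : σ.range ≤ Z := by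
  apply H.range_le_of_sr
  intro j
  have hcase : ∀ a b : ZMod 2, a = b ∨ a = b + 1 := by decide
  rcases hcase (ZMod.castHom (two_dvd h) (ZMod 2) j) (ZMod.castHom (two_dvd h) (ZMod 2) j₀) with
    h1 | h1
  · -- `sr j = sr (j₀ + 1) * r(...)`; use `r a` with `a` even
    -- conjugate `sr j₀` by products of the reflections of the other parity
    have h2 : σ (sr (j₀ + 1)) ∈ Z := hZ _ (by rw [map_add, map_one])
    have h3 : σ (sr (j + 1)) ∈ Z := hZ _ (by rw [map_add, map_one, h1])
    have h4 : (sr j : DihedralGroup n) = sr j₀ * (sr (j₀ + 1) * sr (j + 1)) := by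
      rw [sr_mul_sr, sr_mul_r]
      congr 1
      ring
    rw [h4, map_mul, map_mul]
    exact mul_mem h0 (mul_mem h2 h3)
  · exact hZ j h1

end Cfsg.Agent.Classification.DihTypeASylow
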