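import Mathlib
import Cfsg.Agent.Classification.DihTypeASylow
import Cfsg.Agent.Classification.DihNoFive
import Cfsg.Agent.Classification.DihFour

/-!
# Type A maximal subgroups in the Gorenstein–Walter theorem: index 35, local part
-/

set_option autoImplicit false
set_option linter.unusedSectionVars false

namespace Cfsg.Agent.Classification.DihTypeA35

open DihedralGroup Cfsg.Agent.Classification.BGDefs Cfsg.Agent.Classification.BGBasic
  Cfsg.Agent.Classification.BGOrder Cfsg.Agent.Classification.DihTypeACount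
  Cfsg.Agent.Classification.DihTypeACount2 Cfsg.Agent.Classification.DihTypeACount3
  Cfsg.Agent.Classification.BGOvergroup Cfsg.Agent.Classification.DihTypeASylow

variable {G : Type*} [Group G] [Fintype G] {t : G} {n : ℕ} [NeZero n]
  {π : (Subgroup.centralizer ({t} : Set G)) →* DihedralGroup n}
  {Y : Type*} [Group Y]

/-- The situation of the case `|G : M| = 35`. -/
structure Hyp (h : BGHyp t n π) (M M₀ : Subgroup G) (p : ZMod 2) (ρ : M →* Y) (x : ℕ) :
    Prop where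
  A : TypeA h M M₀ p
  n4 : n = 4
  surj : Function.Surjective ρ
  odd : Odd (Nat.card ρ.ker)
  cardY : Nat.card Y = 24
  J1 : (J1 M₀).card = 3 * x ^ 2
  J2 : (J2 M M₀).card = 6 * (DihTypeACount2.J1 M₀).card
  index : M.index = 35
  ker : Nat.card ρ.ker =
    x ^ 2 * Nat.card (ρ.ker ⊓ Subgroup.centralizer ({tM M A.le} : Set M) : Subgroup M)

/-- the core of `M` -/
def core {M : Subgroup G} (ρ : M →* Y) : Subgroup G := ρ.ker.map M.subtype

variable {h : BGHyp t n π} {M M₀ : Subgroup G} {p : ZMod 2} {ρ : M →* Y} {x : ℕ}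

theorem mem_core {y : G} : y ∈ core ρ ↔ ∃ hy : y ∈ M, ρ ⟨y, hy⟩ = 1 := by
  rw [core, Subgroup.mem_map]
  constructor
  · rintro ⟨z, hz, rfl⟩
    exact ⟨z.2, hz⟩
  · rintro ⟨hy, hy1⟩
    exact ⟨⟨y, hy⟩, hy1, rfl⟩

theorem core_le : core ρ ≤ M := fun _ hy => (mem_core.mp hy).choose

theorem core_conj {m l : G} (hm : m ∈ M) (hl : l ∈ core ρ) : m * l * m⁻¹ ∈ core ρ := by
  rw [mem_core] at hl ⊢
  obtain ⟨hl, hl1⟩ := hl
  refine ⟨mul_mem (mul_mem hm hl) (inv_mem hm), ?_⟩
  have : (⟨m * l * m⁻¹, mul_mem (mul_mem hm hl) (inv_mem hm)⟩ : M) =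
    ⟨m, hm⟩ * ⟨l, hl⟩ * ⟨m, hm⟩⁻¹ := rfl
  rw [this, map_mul, map_mul, map_inv, hl1, mul_one, mul_inv_cancel]

theorem card_core : Nat.card (core ρ) = Nat.card ρ.ker :=
  (Nat.card_congr (ρ.ker.equivMapOfInjective M.subtype M.subtype_injective).toEquiv).symm

namespace Hyp

variable (H : Hyp h M M₀ p ρ x)
include H

theorem odd_core : Odd (Nat.card (core ρ)) := by rw [card_core]; exact H.odd

theorem card_M : Nat.card M = Nat.card (core ρ) * 24 := by
  rw [card_core, ← ρ.ker.card_mul_index, Subgroup.index_ker, MonoidHom.range_eq_top.mpr H.surj,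
    Subgroup.card_top, H.cardY]

theorem card_C : Nat.card (Subgroup.centralizer ({t} : Set G)) = 8 * Nat.card π.ker := by
  have h1 := card_centralizer_eq h
  have h2 := H.n4
  rw [h1]
  generalize Nat.card π.ker = k
  rw [h2]; ring

theorem x_pos : 0 < x := by
  rcases Nat.eq_zero_or_pos x with h1 | h1
  · exfalso
    have h2 := H.ker
    have h3 : x ^ 2 = 0 := by rw [h1]; rfl
    rw [h3, zero_mul] at h2
    exact Nat.card_pos.ne' h2
  · exact h1

theorem card_M' : Nat.card M = 24 * (x ^ 2 * Nat.card π.ker) := by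
  rw [← card_J1_mul H.A, H.J1, H.card_C]; ring

theorem card_core' : Nat.card (core ρ) = x ^ 2 * Nat.card π.ker := by
  have h1 := H.card_M
  rw [H.card_M'] at h1
  omega

theorem card_core_inf :
    Nat.card (core ρ ⊓ Subgroup.centralizer ({t} : Set G) : Subgroup G) = Nat.card π.ker := by
  have h1 : Nat.card (core ρ ⊓ Subgroup.centralizer ({t} : Set G) : Subgroup G) =
      Nat.card (ρ.ker ⊓ Subgroup.centralizer ({tM M H.A.le} : Set M) : Subgroup M) := by
    refine Nat.card_congr ⟨fun y => ⟨⟨y.1, core_le (Subgroup.mem_inf.mp y.2).1⟩, ?_⟩,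
      fun y => ⟨y.1.1, ?_⟩, fun y => rfl, fun y => rfl⟩
    · obtain ⟨h1, h2⟩ := Subgroup.mem_inf.mp y.2
      rw [Subgroup.mem_inf]
      refine ⟨(mem_core.mp h1).choose_spec, ?_⟩
      rw [Subgroup.mem_centralizer_singleton_iff]
      exact Subtype.ext (Subgroup.mem_centralizer_singleton_iff.mp h2)
    · obtain ⟨h1, h2⟩ := Subgroup.mem_inf.mp y.2
      rw [Subgroup.mem_inf]
      refine ⟨mem_core.mpr ⟨y.1.2, h1⟩, ?_⟩
      rw [Subgroup.mem_centralizer_singleton_iff]
      exact congrArg Subtype.val (Subgroup.mem_centralizer_singleton_iff.mp h2)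
  have h2 := H.ker
  rw [← h1, ← card_core, H.card_core'] at h2
  have h3 : 0 < x ^ 2 := by have := H.x_pos; positivity
  exact (Nat.eq_of_mul_eq_mul_left h3 h2).symm

theorem card_G : Nat.card G = 35 * 24 * Nat.card (core ρ) := by
  rw [← M.card_mul_index, H.index, H.card_M]; ring

theorem not_sixteen : ¬ 16 ∣ Nat.card M := by
  rw [H.card_M]
  intro h1
  have h2 : 2 ∣ Nat.card (core ρ) := by
    obtain ⟨c, hc⟩ := h1
    have : 3 * Nat.card (core ρ) = 2 * c := by omega
    have h3 : 2 ∣ 3 * Nat.card (core ρ) := ⟨c, this⟩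
    exact (Nat.Coprime.dvd_mul_left (by norm_num : Nat.Coprime 2 3)).mp h3
  exact (Nat.not_even_iff_odd.mpr H.odd_core) (even_iff_two_dvd.mpr h2)

theorem mem_of_fused {a : G} (ha : a * t * a⁻¹ ∈ M₀) :
    a ∈ M := by
  obtain ⟨m, hm, hma⟩ := conj_t_of_mem H.A ha (by rw [orderOf_conj]; exact h.orderOf_t)
  have h1 : m * a ∈ Subgroup.centralizer ({t} : Set G) := by
    rw [Subgroup.mem_centralizer_singleton_iff]
    calc m * a * t = m * (a * t * a⁻¹) * m⁻¹ * (m * a) := by group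
      _ = t * (m * a) := by rw [hma]
  have h2 := mul_mem (inv_mem hm) (H.A.le h1)
  rwa [inv_mul_cancel_left] at h2

/-- Subgroups of `M` with Sylow 2-subgroup `⟨t, r₁⟩`. -/
theorem card_four {X₁ : Subgroup G} (hX : X₁ ≤ M) (ht : t ∈ X₁) {r₁ : G} (hr : r₁ ∈ X₁)
    (hrJ : r₁ ∈ DihTypeACount2.J2 M M₀) (hc : r₁ * t = t * r₁) (h8 : ¬ 8 ∣ Nat.card X₁) :
    Nat.card X₁ = 4 * Nat.card (X₁ ⊓ core ρ : Subgroup G) := by
  obtain ⟨hrM, hr0, hr2⟩ := mem_J2.mp hrJ
  set f : X₁ →* Y := ρ.comp (Subgroup.inclusion hX) with hf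
  have hfd : ∀ y : X₁, f y = ρ ⟨y.1, hX y.2⟩ := fun _ => rfl
  have hkc : Nat.card f.ker = Nat.card (X₁ ⊓ core ρ : Subgroup G) := by
    refine Nat.card_congr ⟨fun y => ⟨y.1.1, ?_⟩, fun y => ⟨⟨y.1, (Subgroup.mem_inf.mp y.2).1⟩, ?_⟩,
      fun y => rfl, fun y => rfl⟩
    · exact Subgroup.mem_inf.mpr ⟨y.1.2, mem_core.mpr ⟨hX y.1.2, y.2⟩⟩
    · obtain ⟨h1, h2⟩ := Subgroup.mem_inf.mp y.2
      exact (mem_core.mp h2).choose_spec
  have hcard : Nat.card X₁ = Nat.card (X₁ ⊓ core ρ : Subgroup G) * Nat.card f.range := by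
    rw [← hkc, ← Subgroup.index_ker, Subgroup.card_mul_index]
  have hkodd : Odd (Nat.card (X₁ ⊓ core ρ : Subgroup G)) :=
    Odd.of_dvd_nat H.odd_core (Subgroup.card_dvd_of_le inf_le_right)
  have htr : t ≠ r₁ := fun h1 => hr0 (h1 ▸ H.A.t_mem)
  obtain ⟨V, hV4, hVm⟩ := DihFour.exists_four (t_mul_t h) (mul_self_of_orderOf hr2) (t_ne_one h)
    (ne_one_of_orderOf hr2) htr hc.symm
  have hVX : V ≤ X₁ := by
    intro v hv
    rcases (hVm v).mp hv with rfl | rfl | rfl | rfl
    · exact one_mem _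
    · exact ht
    · exact hr
    · exact mul_mem ht hr
  have h4 : 4 ∣ Nat.card X₁ := by rw [← hV4]; exact Subgroup.card_dvd_of_le hVX
  have h4r : 4 ∣ Nat.card f.range := by
    rw [hcard] at h4
    have h5 : Nat.Coprime 4 (Nat.card (X₁ ⊓ core ρ : Subgroup G)) := by
      have : Nat.Coprime (2 ^ 2) (Nat.card (X₁ ⊓ core ρ : Subgroup G)) :=
        Nat.Coprime.pow_left 2 (Nat.coprime_two_left.mpr hkodd)
      simpa using this
    exact h5.dvd_of_dvd_mul_left h4
  have hYf : Finite Y := Finite.of_surjective ρ H.surj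
  have h24 : Nat.card f.range ∣ 24 := by
    rw [← H.cardY]; exact Subgroup.card_subgroup_dvd_card _
  have hn8 : ¬ 8 ∣ Nat.card f.range := by
    intro h5
    apply h8
    rw [hcard]
    exact Dvd.dvd.mul_left h5 _
  have hcases : Nat.card f.range = 4 ∨ Nat.card f.range = 12 := by
    have hle := Nat.le_of_dvd (by norm_num) h24
    obtain ⟨c, hc⟩ := h4r
    obtain ⟨d, hd⟩ := h24
    rw [hc] at hd hn8 hle
    have hc6 : c ≤ 6 := by omega
    interval_cases c <;> omega
  rcases hcases with h5 | h5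
  · rw [hcard, h5, mul_comm]
  · exfalso
    -- the image has index two
    have hZi : f.range.index = 2 := by
      have h6 := f.range.card_mul_index
      rw [h5, H.cardY] at h6
      omega
    have hZn : f.range.Normal := Subgroup.normal_of_index_eq_two hZi
    have htZ : ρ ⟨t, hX ht⟩ ∈ f.range := ⟨⟨t, ht⟩, rfl⟩
    have hrZ : ρ ⟨r₁, hX hr⟩ ∈ f.range := ⟨⟨r₁, hr⟩, rfl⟩
    obtain ⟨r₂, hr₂⟩ := exists_par h (p + 1)
    obtain ⟨m₁, hm₁, hmr⟩ := conj_par_of_not_mem H.A hr₂ hrM hr0 hr2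
    have hall : ∀ j (hj : j ∈ M), orderOf j = 2 → ρ ⟨j, hj⟩ ∈ f.range := by
      intro j hj hj2
      by_cases hj0 : j ∈ M₀
      · obtain ⟨m, hm, hmj⟩ := conj_t_of_mem H.A hj0 hj2
        have e1 : (⟨j, hj⟩ : M) = ⟨m, hm⟩⁻¹ * ⟨t, hX ht⟩ * ⟨m, hm⟩ := by
          apply Subtype.ext
          push_cast
          rw [← hmj]; group
        rw [e1, map_mul, map_mul, map_inv]
        have := hZn.conj_mem _ htZ (ρ ⟨m, hm⟩)⁻¹
        rwa [inv_inv] at this
      · obtain ⟨m, hm, hmj⟩ := conj_par_of_not_mem H.A hr₂ hj hj0 hj2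
        have e1 : (⟨j, hj⟩ : M) = (⟨m, hm⟩⁻¹ * ⟨m₁, hm₁⟩) * ⟨r₁, hX hr⟩ *
            (⟨m, hm⟩⁻¹ * ⟨m₁, hm₁⟩)⁻¹ := by
          apply Subtype.ext
          push_cast
          have : j = m⁻¹ * r₂ * m := by rw [← hmj]; group
          rw [this, ← hmr]; group
        rw [e1, map_mul, map_mul, map_inv]
        exact hZn.conj_mem _ hrZ _
    obtain ⟨σ, hσ⟩ := exists_isSec h
    have hσM : ∀ d, σ d ∈ M := fun d => H.A.le (hσ.mem d)
    have hσZ : ∀ d, ρ ⟨σ d, hσM d⟩ ∈ f.range := by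
      have h6 : σ.range ≤ (f.range.comap ρ).map M.subtype := by
        apply hσ.range_le_of_sr
        intro j
        exact ⟨⟨σ (sr j), hσM _⟩, hall _ _ (hσ.orderOf_sr j), rfl⟩
      intro d
      obtain ⟨y, hy, hyd⟩ := h6 ⟨d, rfl⟩
      have : (⟨σ d, hσM d⟩ : M) = y := Subtype.ext hyd.symm
      rw [this]
      exact hy
    let θ : DihedralGroup n →* f.range :=
      (ρ.comp (σ.codRestrict M hσM)).codRestrict f.range hσZ
    have hθ : Function.Injective θ := by
      rw [injective_iff_map_eq_one]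
      intro d hd
      have h6 : ρ ⟨σ d, hσM d⟩ = 1 := congrArg Subtype.val hd
      have h7 := DihLift.odd_orderOf_of_ker ρ H.odd h6
      rw [Subgroup.orderOf_mk] at h7
      have h8 : orderOf (σ d) = orderOf d := orderOf_injective σ hσ.injective d
      rw [h8] at h7
      obtain ⟨k, hk⟩ := h7
      exact BGAverage.eq_one_of_odd h (k := orderOf d) ⟨k, hk⟩ (pow_orderOf_eq_one d)
    have h6 := Subgroup.card_dvd_of_injective θ hθ
    rw [DihedralGroup.nat_card, H.n4, h5] at h6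
    omega

/-- The intersection of two different conjugates of `M` has no subgroup of order `8`. -/
theorem mem_of_eight {g : G} (h8 : 8 ∣ Nat.card (M ⊓ M.map (MulAut.conj g).toMonoidHom :
    Subgroup G)) : g ∈ M := by
  have : Fact (Nat.Prime 2) := ⟨Nat.prime_two⟩
  obtain ⟨S, hS⟩ := Sylow.exists_subgroup_card_pow_prime 2 (n := 3)
    (G := (M ⊓ M.map (MulAut.conj g).toMonoidHom : Subgroup G)) (by simpa using h8)
  set S₁ : Subgroup G := S.map (Subgroup.subtype _) with hS₁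
  have hS₁c : Nat.card S₁ = 8 := by
    rw [hS₁, ← Nat.card_congr (S.equivMapOfInjective _ (Subgroup.subtype_injective _)).toEquiv, hS]
    norm_num
  have hS₁M : ∀ s ∈ S₁, s ∈ M ∧ g⁻¹ * s * g ∈ M := by
    rintro _ ⟨s, hs, rfl⟩
    obtain ⟨h1, h2⟩ := Subgroup.mem_inf.mp s.2
    refine ⟨h1, ?_⟩
    obtain ⟨y, hy, hyg⟩ := h2
    have h3 : g * y * g⁻¹ = s := hyg
    have : g⁻¹ * (s : G) * g = y := by rw [← h3]; group
    exact this ▸ hy
  obtain ⟨σ, hσ⟩ := exists_isSec h
  have hP8 : Nat.card σ.range = 8 := by rw [hσ.card_range, H.n4]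
  have hPM : σ.range ≤ M := hσ.range_le.trans H.A.le
  -- first conjugation
  obtain ⟨m, hm, hm2⟩ := conj_of_card_eight (fun s hs => (hS₁M s hs).1) hPM hS₁c hP8 H.not_sixteen
  -- second conjugation
  set S₂ : Subgroup G := S₁.map (MulAut.conj g⁻¹).toMonoidHom with hS₂
  have hS₂c : Nat.card S₂ = 8 := by
    rw [hS₂, ← Nat.card_congr (S₁.equivMapOfInjective _ (MulAut.conj g⁻¹).injective).toEquiv, hS₁c]
  have hS₂M : S₂ ≤ M := by
    rintro _ ⟨s, hs, rfl⟩
    have h1 := (hS₁M s hs).2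
    have e1 : (MulAut.conj g⁻¹).toMonoidHom s = g⁻¹ * s * g := by
      simp
    rw [e1]; exact h1
  obtain ⟨m', hm', hm'2⟩ := conj_of_card_eight hPM hS₂M hP8 hS₂c H.not_sixteen
  -- the composite normalises `σ.range`
  set a := m * g * m' with ha
  have haP : ∀ s ∈ σ.range, a * s * a⁻¹ ∈ σ.range := by
    intro s hs
    obtain ⟨s₁, hs₁, hs₁e⟩ := hm'2 s hs
    have e1 : (MulAut.conj g⁻¹).toMonoidHom s₁ = g⁻¹ * s₁ * g := by
      simp
    rw [e1] at hs₁e
    have e2 : a * s * a⁻¹ = m * s₁ * m⁻¹ := by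
      have : s₁ = g * (m' * s * m'⁻¹) * g⁻¹ := by rw [← hs₁e]; group
      rw [this, ha]; group
    rw [e2]
    exact hm2 s₁ hs₁
  have hat : a * t * a⁻¹ = t := by
    refine hσ.eq_t (by rw [H.n4]) (haP t hσ.t_mem) (by rw [orderOf_conj]; exact h.orderOf_t) ?_
    -- conjugation by `a` is a bijection of `σ.range`
    have hsurj : ∀ u ∈ σ.range, ∃ s ∈ σ.range, a * s * a⁻¹ = u := by
      have hinj : Function.Injective (fun s : σ.range => (⟨a * s * a⁻¹, haP s s.2⟩ : σ.range)) := by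
        intro s s' hss
        have h1 : a * (s : G) * a⁻¹ = a * s' * a⁻¹ := congrArg Subtype.val hss
        exact Subtype.ext (mul_left_cancel (mul_right_cancel h1))
      have hb := Finite.surjective_of_injective hinj
      intro u hu
      obtain ⟨s, hs⟩ := hb ⟨u, hu⟩
      exact ⟨s, s.2, congrArg Subtype.val hs⟩
    intro u hu
    obtain ⟨s, hs, rfl⟩ := hsurj u hu
    have hc : t * s = s * t :=
      (Subgroup.mem_centralizer_singleton_iff.mp (hσ.range_le hs)).symm
    exact comm_conj hc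
  have haM : a ∈ M := by
    apply H.A.le
    rw [Subgroup.mem_centralizer_singleton_iff]
    calc a * t = a * t * a⁻¹ * a := by group
      _ = t * a := by rw [hat]
  have : g = m⁻¹ * a * m'⁻¹ := by rw [ha]; group
  rw [this]
  exact mul_mem (mul_mem (inv_mem hm) haM) (inv_mem hm')

end Hyp

end Cfsg.Agent.Classification.DihTypeA35
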