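import Mathlib
import Cfsg.Agent.Classification.DihTypeA35

/-!
# Type A maximal subgroups in the Gorenstein–Walter theorem: index 35, two conjugates of `M`
-/

set_option autoImplicit false
set_option linter.unusedSectionVars false

namespace Cfsg.Agent.Classification.DihTypeA35b

open DihedralGroup Cfsg.Agent.Classification.BGDefs Cfsg.Agent.Classification.BGBasic
  Cfsg.Agent.Classification.BGOrder Cfsg.Agent.Classification.DihTypeACount
  Cfsg.Agent.Classification.DihTypeACount2 Cfsg.Agent.Classification.DihTypeACount3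
  Cfsg.Agent.Classification.BGOvergroup Cfsg.Agent.Classification.DihTypeASylow
  Cfsg.Agent.Classification.DihTypeA35

section Gen

variable {G : Type*} [Group G]

/-- the conjugate `g A g⁻¹` -/
def cj (g : G) (A : Subgroup G) : Subgroup G := A.map (MulAut.conj g).toMonoidHom

theorem mem_cj {g y : G} {A : Subgroup G} : y ∈ cj g A ↔ g⁻¹ * y * g ∈ A := by
  constructor
  · rintro ⟨a, ha, rfl⟩
    have : g⁻¹ * (MulAut.conj g).toMonoidHom a * g = a := by
      change g⁻¹ * (g * a * g⁻¹) * g = a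
      group
    rw [this]; exact ha
  · intro h
    refine ⟨g⁻¹ * y * g, h, ?_⟩
    change g * (g⁻¹ * y * g) * g⁻¹ = y
    group

theorem card_cj (g : G) (A : Subgroup G) : Nat.card (cj g A) = Nat.card A :=
  (Nat.card_congr (A.equivMapOfInjective _ (MulAut.conj g).injective).toEquiv).symm

theorem cj_inf (g : G) (A B : Subgroup G) : cj g (A ⊓ B) = cj g A ⊓ cj g B := by
  ext y
  rw [Subgroup.mem_inf, mem_cj, mem_cj, mem_cj, Subgroup.mem_inf]

theorem cj_cj_inv (g : G) (A : Subgroup G) : cj g (cj g⁻¹ A) = A := by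
  ext y
  rw [mem_cj, mem_cj]
  have : g⁻¹⁻¹ * (g⁻¹ * y * g) * g⁻¹ = y := by group
  rw [this]

/-- The number of cosets `m g M`, `m ∈ M`, for `g ∉ M`. -/
theorem relIndex_lt [Finite G] (M : Subgroup G) {g : G} (hg : g ∉ M) :
    (M ⊓ cj g M).relIndex M < M.index := by
  set B : Subgroup M := (M ⊓ cj g M).subgroupOf M with hB
  have hmem : ∀ a b : M, a⁻¹ * b ∈ B ↔ ((a : G) * g : G ⧸ M) = ((b : G) * g : G) := by
    intro a b
    rw [hB, Subgroup.mem_subgroupOf, Subgroup.mem_inf, mem_cj]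
    have e1 : g⁻¹ * ((a⁻¹ * b : M) : G) * g = ((a : G) * g)⁻¹ * ((b : G) * g) := by
      push_cast; group
    rw [e1]
    constructor
    · intro h
      exact QuotientGroup.eq.mpr h.2
    · intro h
      exact ⟨(a⁻¹ * b).2, QuotientGroup.eq.mp h⟩
  let f : M ⧸ B → G ⧸ M := fun q => Quotient.liftOn' q (fun a => (((a : G) * g : G) : G ⧸ M))
    (by
      intro a b hab
      rw [QuotientGroup.leftRel_apply] at hab
      exact (hmem a b).mp hab)
  have hf : Function.Injective f := by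
    rintro ⟨a⟩ ⟨b⟩ hab
    exact Quotient.sound' (QuotientGroup.leftRel_apply.mpr ((hmem a b).mpr hab))
  have hne : ∀ q, f q ≠ ((1 : G) : G ⧸ M) := by
    rintro ⟨a⟩ h
    have h1 : (((a : G) * g : G) : G ⧸ M) = ((1 : G) : G ⧸ M) := h
    have h2 := QuotientGroup.eq.mp h1.symm
    rw [inv_one, one_mul] at h2
    apply hg
    have := mul_mem (inv_mem a.2) h2
    rwa [inv_mul_cancel_left] at this
  have : Finite (G ⧸ M) := inferInstance
  have h1 : Nat.card (M ⧸ B) < Nat.card (G ⧸ M) := by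
    classical
    have : Fintype (M ⧸ B) := Fintype.ofFinite _
    have : Fintype (G ⧸ M) := Fintype.ofFinite _
    rw [Nat.card_eq_fintype_card, Nat.card_eq_fintype_card]
    exact Fintype.card_lt_of_injective_of_notMem f hf (b := ((1 : G) : G ⧸ M)) (by
      rintro ⟨q, hq⟩
      exact hne q hq)
  exact h1

end Gen

variable {G : Type*} [Group G] [Fintype G] {t : G} {n : ℕ} [NeZero n]
  {π : (Subgroup.centralizer ({t} : Set G)) →* DihedralGroup n}
  {Y : Type*} [Group Y]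
  {h : BGHyp t n π} {M M₀ : Subgroup G} {p : ZMod 2} {ρ : M →* Y} {x : ℕ}

/-- Two conjugates of `M`. -/
structure Config (h : BGHyp t n π) (M M₀ : Subgroup G) (p : ZMod 2) (ρ : M →* Y)
    (σ : DihedralGroup n →* G) (j₀ : ZMod n) (g : G) (D : Subgroup G) : Prop where
  sec : IsSec h σ
  par : ZMod.castHom (two_dvd h) (ZMod 2) j₀ = p + 1
  conj : g * t * g⁻¹ = σ (sr j₀)
  notMem : g ∉ M
  t_mem : t ∈ M ⊓ cj g M
  r_mem : σ (sr j₀) ∈ M ⊓ cj g M
  eq_left : D = (M ⊓ cj g M) ⊓ core ρ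
  eq_right : D = (M ⊓ cj g M) ⊓ cj g (core ρ)
  card_X : Nat.card (M ⊓ cj g M : Subgroup G) = 4 * Nat.card D
  card_core : Nat.card (core ρ) = 3 * Nat.card D

theorem exists_config (H : Hyp h M M₀ p ρ x) :
    ∃ (σ : DihedralGroup n →* G) (j₀ : ZMod n) (g : G) (D : Subgroup G),
      Config h M M₀ p ρ σ j₀ g D := by
  obtain ⟨σ, hσ⟩ := exists_isSec h
  obtain ⟨j₀, hj₀⟩ : ∃ j : ZMod n, ZMod.castHom (two_dvd h) (ZMod 2) j = p + 1 :=
    ZMod.castHom_surjective (two_dvd h) (p + 1)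
  set r := σ (sr j₀) with hr
  have hrp : IsPar (two_dvd h) π (p + 1) r := by
    rw [← hj₀]; exact hσ.isPar j₀
  have hr2 : orderOf r = 2 := hrp.choose_spec.1
  have hrC : r ∈ Subgroup.centralizer ({t} : Set G) := hrp.choose
  have hrM : r ∈ M := H.A.le hrC
  have hr0 : r ∉ M₀ := H.A.unfused _ hrp
  have hrJ : r ∈ DihTypeACount2.J2 M M₀ := mem_J2.mpr ⟨hrM, hr0, hr2⟩
  have hrt : r * t = t * r := Subgroup.mem_centralizer_singleton_iff.mp hrC
  have htM : t ∈ M := H.A.le (BGBasic.t_mem t)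
  obtain ⟨g, hg⟩ := isConj_iff.mp (h.one_class r hr2)
  have hgM : g ∉ M := fun h1 => hr0 (hg ▸ H.A.conj g h1 t H.A.t_mem)
  set M' := cj g M with hM'
  have hCr : ∀ y, y * r = r * y → y ∈ M' := by
    intro y hy
    rw [hM', mem_cj]
    apply H.A.le
    rw [Subgroup.mem_centralizer_singleton_iff]
    rw [← hg] at hy
    calc g⁻¹ * y * g * t = g⁻¹ * (y * (g * t * g⁻¹)) * g := by group
      _ = g⁻¹ * (g * t * g⁻¹ * y) * g := by rw [hy]
      _ = t * (g⁻¹ * y * g) := by group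
  have htM' : t ∈ M' := hCr t hrt.symm
  have hrM' : r ∈ M' := hCr r rfl
  set r₁ := g⁻¹ * t * g with hr₁
  have hr₁M : r₁ ∈ M := mem_cj.mp htM'
  have hr₁2 : orderOf r₁ = 2 := by
    have := orderOf_conj t g⁻¹
    rw [inv_inv] at this
    rw [hr₁, this, h.orderOf_t]
  have hr₁0 : r₁ ∉ M₀ := by
    intro h1
    apply hgM
    have h2 := H.mem_of_fused (a := g⁻¹) (by rw [inv_inv]; exact h1)
    simpa using inv_mem h2
  have hr₁J : r₁ ∈ DihTypeACount2.J2 M M₀ := mem_J2.mpr ⟨hr₁M, hr₁0, hr₁2⟩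
  set X := M ⊓ M' with hX
  have hX8 : ¬ 8 ∣ Nat.card X := fun h1 => hgM (H.mem_of_eight h1)
  have htX : t ∈ X := Subgroup.mem_inf.mpr ⟨htM, htM'⟩
  have hrX : r ∈ X := Subgroup.mem_inf.mpr ⟨hrM, hrM'⟩
  have c1 := H.card_four (X₁ := X) inf_le_left htX hrX hrJ hrt hX8
  -- the other side
  have htg : g⁻¹ * r * g = t := by rw [← hg]; group
  have hX₂ : cj g⁻¹ X ≤ M := by
    intro y hy
    rw [mem_cj, inv_inv] at hy
    have h1 := mem_cj.mp (Subgroup.mem_inf.mp hy).2
    have e1 : g⁻¹ * (g * y * g⁻¹) * g = y := by group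
    rwa [e1] at h1
  have htX₂ : t ∈ cj g⁻¹ X := by
    rw [mem_cj, inv_inv]
    have : g * t * g⁻¹ = r := hg
    rw [this]; exact hrX
  have hr₁X₂ : r₁ ∈ cj g⁻¹ X := by
    rw [mem_cj, inv_inv, hr₁]
    have : g * (g⁻¹ * t * g) * g⁻¹ = t := by group
    rw [this]; exact htX
  have hr₁t : r₁ * t = t * r₁ := by
    calc r₁ * t = g⁻¹ * t * g * (g⁻¹ * r * g) := by rw [htg]
      _ = g⁻¹ * (t * r) * g := by group
      _ = g⁻¹ * (r * t) * g := by rw [hrt]
      _ = g⁻¹ * r * g * (g⁻¹ * t * g) := by group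
      _ = t * r₁ := by rw [htg]
  have c2 := H.card_four (X₁ := cj g⁻¹ X) hX₂ htX₂ hr₁X₂ hr₁J hr₁t (by rw [card_cj]; exact hX8)
  have c2' : Nat.card X = 4 * Nat.card (X ⊓ cj g (core ρ) : Subgroup G) := by
    rw [card_cj] at c2
    rw [c2]
    congr 1
    rw [← card_cj g, cj_inf, cj_cj_inv]
  -- they coincide
  have hn1 : ∀ a ∈ X, ∀ d ∈ X ⊓ core ρ, a * d * a⁻¹ ∈ X ⊓ core ρ := by
    intro a ha d hd
    obtain ⟨h1, h2⟩ := Subgroup.mem_inf.mp hd
    exact Subgroup.mem_inf.mpr ⟨mul_mem (mul_mem ha h1) (inv_mem ha),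
      core_conj (Subgroup.mem_inf.mp ha).1 h2⟩
  have hn2 : ∀ a ∈ X, ∀ d ∈ X ⊓ cj g (core ρ), a * d * a⁻¹ ∈ X ⊓ cj g (core ρ) := by
    intro a ha d hd
    obtain ⟨h1, h2⟩ := Subgroup.mem_inf.mp hd
    refine Subgroup.mem_inf.mpr ⟨mul_mem (mul_mem ha h1) (inv_mem ha), ?_⟩
    rw [mem_cj] at h2 ⊢
    have h3 := core_conj (mem_cj.mp (Subgroup.mem_inf.mp ha).2) h2
    have e1 : g⁻¹ * a * g * (g⁻¹ * d * g) * (g⁻¹ * a * g)⁻¹ = g⁻¹ * (a * d * a⁻¹) * g := by group
    rwa [e1] at h3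
  have ho1 : Odd (Nat.card (X ⊓ core ρ : Subgroup G)) :=
    Odd.of_dvd_nat H.odd_core (Subgroup.card_dvd_of_le inf_le_right)
  have ho2 : Odd (Nat.card (X ⊓ cj g (core ρ) : Subgroup G)) :=
    Odd.of_dvd_nat (by rw [card_cj]; exact H.odd_core)
      (Subgroup.card_dvd_of_le (inf_le_right : X ⊓ cj g (core ρ) ≤ cj g (core ρ)))
  have hDD : X ⊓ core ρ = X ⊓ cj g (core ρ) :=
    DihFour.eq_of_index_four inf_le_left inf_le_left hn1 hn2 ho1 ho2 c1 c2'
  set D := X ⊓ core ρ with hD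
  -- `3 |A| = 4 k` for `A = C(t) ∩ X`
  have htr : t ≠ r := fun h1 => hr0 (h1 ▸ H.A.t_mem)
  obtain ⟨V, hV4, hVm⟩ := DihFour.exists_four (t_mul_t h) (mul_self_of_orderOf hr2) (t_ne_one h)
    (ne_one_of_orderOf hr2) htr hrt.symm
  set A := Subgroup.centralizer ({t} : Set G) ⊓ X with hA
  have hVA : V ≤ A := by
    have h1 : t ∈ A := Subgroup.mem_inf.mpr ⟨BGBasic.t_mem t, htX⟩
    have h2 : r ∈ A := Subgroup.mem_inf.mpr ⟨hrC, hrX⟩
    intro v hv
    rcases (hVm v).mp hv with rfl | rfl | rfl | rfl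
    · exact one_mem _
    · exact h1
    · exact h2
    · exact mul_mem h1 h2
  have c3 : Nat.card A = 4 * Nat.card (A ⊓ D : Subgroup G) :=
    DihFour.card_eq_four_mul hV4 hVA inf_le_right inf_le_left hn1 ho1 c1
  have c4 : Nat.card A = Nat.card (M ⊓ Subgroup.centralizer ({r₁} : Set G) : Subgroup G) := by
    rw [← card_cj g (M ⊓ Subgroup.centralizer ({r₁} : Set G))]
    congr 2
    ext y
    rw [hA, Subgroup.mem_inf, hX, Subgroup.mem_inf, hM', mem_cj, mem_cj, Subgroup.mem_inf,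
      Subgroup.mem_centralizer_singleton_iff, Subgroup.mem_centralizer_singleton_iff]
    have key : g⁻¹ * y * g * r₁ = r₁ * (g⁻¹ * y * g) ↔ y * t = t * y := by
      rw [hr₁]
      constructor
      · intro h1
        calc y * t = g * (g⁻¹ * y * g * (g⁻¹ * t * g)) * g⁻¹ := by group
          _ = g * (g⁻¹ * t * g * (g⁻¹ * y * g)) * g⁻¹ := by rw [h1]
          _ = t * y := by group
      · intro h1
        calc g⁻¹ * y * g * (g⁻¹ * t * g) = g⁻¹ * (y * t) * g := by group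
          _ = g⁻¹ * (t * y) * g := by rw [h1]
          _ = g⁻¹ * t * g * (g⁻¹ * y * g) := by group
    rw [key]
    constructor
    · rintro ⟨h1, h2, h3⟩
      exact ⟨h3, h1⟩
    · rintro ⟨h1, h2⟩
      exact ⟨h2, H.A.le (Subgroup.mem_centralizer_singleton_iff.mpr h2), h1⟩
  have c5 : (DihTypeACount2.J2 M M₀).card *
      Nat.card (M ⊓ Subgroup.centralizer ({r₁} : Set G) : Subgroup G) = Nat.card M := by
    have h1 := DihLift.card_conj_orbit M r₁ (DihTypeACount2.J2 M M₀ : Set G) (by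
      intro s
      rw [Finset.mem_coe]
      constructor
      · intro hs
        obtain ⟨m, hm, hmx⟩ := conj_par_of_not_mem H.A hrp (mem_J2.mp hs).1 (mem_J2.mp hs).2.1
          (mem_J2.mp hs).2.2
        obtain ⟨m₁, hm₁, hmx₁⟩ := conj_par_of_not_mem H.A hrp hr₁M hr₁0 hr₁2
        refine ⟨m⁻¹ * m₁, mul_mem (inv_mem hm) hm₁, ?_⟩
        calc m⁻¹ * m₁ * r₁ * (m⁻¹ * m₁)⁻¹ = m⁻¹ * (m₁ * r₁ * m₁⁻¹) * m := by group
          _ = m⁻¹ * (m * s * m⁻¹) * m := by rw [hmx₁, hmx]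
          _ = s := by group
      · rintro ⟨a, ha, rfl⟩
        exact J2_conj H.A ha hr₁J)
    rw [← h1]
    congr 1
    rw [Nat.card_eq_card_toFinset]
    simp
  have c6 : 3 * Nat.card A = 4 * Nat.card π.ker := by
    rw [← c4, H.J2, H.J1, H.card_M'] at c5
    have hx := H.x_pos
    have h3 : 0 < 6 * x ^ 2 := by positivity
    apply Nat.eq_of_mul_eq_mul_left h3
    linarith
  have c7 : 3 * Nat.card (A ⊓ D : Subgroup G) = Nat.card π.ker := by
    rw [c3] at c6
    omega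
  have hAD : A ⊓ D = D ⊓ Subgroup.centralizer ({t} : Set G) := by
    ext y
    rw [hA, Subgroup.mem_inf, Subgroup.mem_inf, Subgroup.mem_inf]
    constructor
    · rintro ⟨⟨h1, -⟩, h2⟩
      exact ⟨h2, h1⟩
    · rintro ⟨h1, h2⟩
      exact ⟨⟨h2, (Subgroup.mem_inf.mp h1).1⟩, h1⟩
  rw [hAD] at c7
  have hDL : D ≤ core ρ := inf_le_right
  -- the index of `D`
  have e1 : Nat.card (core ρ) = Nat.card D * D.relIndex (core ρ) := by
    rw [Subgroup.relIndex, ← Subgroup.card_mul_index (D.subgroupOf (core ρ))]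
    congr 1
    exact Nat.card_congr (Subgroup.subgroupOfEquivOfLe hDL).toEquiv
  have hXM : X ≤ M := inf_le_left
  have e2 : Nat.card M = Nat.card X * X.relIndex M := by
    rw [Subgroup.relIndex, ← Subgroup.card_mul_index (X.subgroupOf M)]
    congr 1
    exact Nat.card_congr (Subgroup.subgroupOfEquivOfLe hXM).toEquiv
  have e3 : X.relIndex M < 35 := by rw [← H.index]; exact relIndex_lt M hgM
  set e := D.relIndex (core ρ) with he
  have hDpos : 0 < Nat.card D := Nat.card_pos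
  have e4 : X.relIndex M = 6 * e := by
    rw [H.card_M, e1, c1] at e2
    have : 4 * Nat.card D * (X.relIndex M) = 4 * Nat.card D * (6 * e) := by rw [← e2]; ring
    exact Nat.eq_of_mul_eq_mul_left (by omega) this
  have e5 : e ≤ 5 := by omega
  have e6 : Odd e := by
    have h1 := H.odd_core
    rw [e1] at h1
    exact (Nat.odd_mul.mp h1).2
  -- the index of `D` in `C_L(t)`
  have e7 : D.relIndex (core ρ ⊓ Subgroup.centralizer ({t} : Set G)) = 3 := by
    have h1 : Nat.card (core ρ ⊓ Subgroup.centralizer ({t} : Set G) : Subgroup G) =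
        Nat.card (D ⊓ Subgroup.centralizer ({t} : Set G) : Subgroup G) *
          D.relIndex (core ρ ⊓ Subgroup.centralizer ({t} : Set G)) := by
      rw [Subgroup.relIndex, ← Subgroup.card_mul_index
        (D.subgroupOf (core ρ ⊓ Subgroup.centralizer ({t} : Set G)))]
      congr 1
      rw [← Subgroup.inf_subgroupOf_right]
      have h2 : D ⊓ (core ρ ⊓ Subgroup.centralizer ({t} : Set G)) =
          D ⊓ Subgroup.centralizer ({t} : Set G) := by
        rw [← inf_assoc, inf_eq_left.mpr hDL]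
      rw [h2]
      exact Nat.card_congr (Subgroup.subgroupOfEquivOfLe
        (le_inf (inf_le_left.trans hDL) inf_le_right)).toEquiv
    rw [H.card_core_inf, ← c7] at h1
    have hpos : 0 < Nat.card (D ⊓ Subgroup.centralizer ({t} : Set G) : Subgroup G) := Nat.card_pos
    apply Nat.eq_of_mul_eq_mul_left hpos
    rw [← h1]; ring
  have e8 : e = 3 := by
    have hcases : e = 1 ∨ e = 3 ∨ e = 5 := by
      obtain ⟨c, hc⟩ := e6
      omega
    rcases hcases with h1 | h1 | h1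
    · exfalso
      have h2 : D.relIndex (core ρ ⊓ Subgroup.centralizer ({t} : Set G)) = 1 := by
        rw [Subgroup.relIndex_eq_one] at h1 ⊢
        exact inf_le_left.trans h1
      omega
    · exact h1
    · exfalso
      refine DihNoFive.no_index_five (L := core ρ) H.odd_core (D.subgroupOf (core ρ))
        ((core ρ ⊓ Subgroup.centralizer ({t} : Set G)).subgroupOf (core ρ)) h1 ?_
      rw [Subgroup.relIndex_subgroupOf inf_le_left]
      exact e7
  refine ⟨σ, j₀, g, D, ⟨hσ, hj₀, hg, hgM, htX, hrX, rfl, hDD, c1, ?_⟩⟩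
  rw [e1, e8, mul_comm]

end Cfsg.Agent.Classification.DihTypeA35b
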