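import Mathlib
import Cfsg.Agent.Classification.DihTypeA35b
import Cfsg.Agent.Classification.DihTypeARep
import Cfsg.Agent.S0984

/-!
# Type A maximal subgroups in the Gorenstein–Walter theorem: index 35, the end
-/

set_option autoImplicit false
set_option linter.unusedSectionVars false

namespace Cfsg.Agent.Classification.DihTypeA35c

open DihedralGroup Cfsg.Agent.Classification.BGDefs Cfsg.Agent.Classification.BGBasic
  Cfsg.Agent.Classification.BGOrder Cfsg.Agent.Classification.DihTypeACount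
  Cfsg.Agent.Classification.DihTypeACount2 Cfsg.Agent.Classification.DihTypeACount3
  Cfsg.Agent.Classification.BGOvergroup Cfsg.Agent.Classification.DihTypeASylow
  Cfsg.Agent.Classification.DihTypeA35 Cfsg.Agent.Classification.DihTypeA35b
  Cfsg.Agent.Classification.BGDegrees Cfsg.Agent.Classification.BGAverage
  Cfsg.Agent.Classification.DihTypeARep

open Module

variable {G : Type*} [Group G] [Fintype G] {t : G} {n : ℕ} [NeZero n]
  {π : (Subgroup.centralizer ({t} : Set G)) →* DihedralGroup n}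
  {h : BGHyp t n π}
  {X₁ X₂ X₃ : G → ℂ} {T : ZMod n → G → ℂ} {f g₂ g₃ : ℤ}

/-- `X₁` is `1` on elements of even order. -/
theorem apply_even (H : BGChars h X₁ X₂ X₃ T f g₂ g₃) {x : G} (hx : Even (orderOf x)) :
    X₁ x = 1 := by
  have h2 := orderOf_inv2 (orderOf_pos x).ne' hx
  obtain ⟨c, hc⟩ := isConj_iff.mp (h.one_class _ h2)
  set y := c⁻¹ * x * c with hy
  have hty : t ∈ Subgroup.zpowers y := by
    obtain ⟨k, hk⟩ := Subgroup.mem_zpowers_iff.mp (inv2_mem x)
    rw [Subgroup.mem_zpowers_iff]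
    refine ⟨k, ?_⟩
    have e1 : y = c⁻¹ * x * c⁻¹⁻¹ := by rw [inv_inv]
    rw [e1, conj_zpow, hk, ← hc]
    group
  have hyC : y ∈ Subgroup.centralizer ({t} : Set G) := by
    rw [Subgroup.mem_centralizer_singleton_iff]
    obtain ⟨k, hk⟩ := Subgroup.mem_zpowers_iff.mp hty
    rw [← hk]
    exact (Commute.refl y).zpow_right k
  obtain ⟨j, hj, hj2⟩ := rot_of_mem_zpowers h (x := ⟨y, hyC⟩) hty
  have h3 := H.vals₁ ⟨y, hyC⟩ j hj hj2
  have h4 := H.class₁ x c⁻¹
  have e1 : c⁻¹ * x * c⁻¹⁻¹ = y := by rw [inv_inv]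
  have h4' : X₁ (c⁻¹ * x * c⁻¹⁻¹) = X₁ x := h4
  rw [e1] at h4'
  rw [← h4']
  exact h3

/-- The irreducible representation of degree `15`. -/
theorem exists_rep (H : BGChars h X₁ X₂ X₃ T f g₂ g₃) (hf : f = -15) :
    ∃ (m : ℕ) (ρ : Representation ℂ G (Fin m → ℂ)), ρ.IsIrreducible ∧ ρ.character = -X₁ ∧
      finrank ℂ (Fin m → ℂ) = 15 := by
  have key : ∀ (m : ℕ) (ρ : Representation ℂ G (Fin m → ℂ)) (k : ℤ), ρ.character 1 = k →
      (finrank ℂ (Fin m → ℂ) : ℤ) = k := by
    intro m ρ k hk
    rw [Representation.char_one] at hk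
    exact_mod_cast hk
  rcases H.s₁ with h1 | h1
  · exfalso
    obtain ⟨m, ρ, -, hρ⟩ := h1
    have := key m ρ (-15) (by rw [hρ, H.one₁, hf])
    omega
  · obtain ⟨m, ρ, hirr, hρ⟩ := h1
    refine ⟨m, ρ, hirr, hρ, ?_⟩
    have := key m ρ 15 (by rw [hρ, Pi.neg_apply, H.one₁, hf]; push_cast; ring)
    exact_mod_cast this

variable {m : ℕ} {ρW : Representation ℂ G (Fin m → ℂ)}

theorem finrank_eq_avg (hρ : ρW.character = -X₁) (Z : Subgroup G) :
    (finrank ℂ (fix ρW Z) : ℂ) = -avg Z X₁ 1 := by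
  rw [finrank_fix, hρ, avg_neg]

/-- odd subgroups normalised by a Sylow 2-subgroup -/
theorem finrank_sylow [IsSimpleGroup G] (H : BGChars h X₁ X₂ X₃ T f g₂ g₃) (hn : n = 4)
    (hf : f = -15) (hρ : ρW.character = -X₁) (hV : finrank ℂ (Fin m → ℂ) = 15) (Z : Subgroup G)
    (hZ : Odd (Nat.card Z)) (P : Sylow 2 G)
    (hP : (P : Subgroup G) ≤ Subgroup.normalizer (Z : Set G)) (hZ1 : Z ≠ ⊥) :
    finrank ℂ (fix ρW Z) = 7 := by
  obtain ⟨a, m₂, m₃, h1, -, -, -, -, -, hneg, -⟩ := H.fixed_dims (by omega) Z hZ P hP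
  have ha := hneg (by omega)
  have h2 := finrank_eq_avg hρ Z
  rw [h1, hn] at h2
  have h3 : (finrank ℂ (fix ρW Z) : ℤ) = -(1 + 8 * a) := by
    have h4 : ((finrank ℂ (fix ρW Z) : ℤ) : ℂ) = ((-(1 + 8 * a) : ℤ) : ℂ) := by
      push_cast
      rw [h2]
      push_cast
      ring
    exact_mod_cast h4
  have h5 : finrank ℂ (fix ρW Z) ≤ 15 := by rw [← hV]; exact Submodule.finrank_le _
  have h6 : a = -1 ∨ a = -2 := by omega
  rcases h6 with h6 | h6
  · rw [h6] at h3
    omega
  · exfalso
    apply hZ1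
    refine eq_bot_of_avg_eq H.s₁ H.ortho.one₁ Z ?_
    rw [h1, H.one₁, hf, hn, h6]
    push_cast
    ring

/-- `|Z|` times the average as a sum over `Z`. -/
theorem sum_filter_eq (Z : Subgroup G) [DecidablePred fun y : G => y ∈ Z] (X : G → ℂ) :
    ∑ y ∈ Finset.univ.filter (fun y : G => y ∈ Z), X y = (Nat.card Z : ℂ) * avg Z X 1 := by
  have : Fintype Z := Fintype.ofFinite _
  have hc : (Nat.card Z : ℂ) ≠ 0 := by exact_mod_cast Nat.card_pos.ne'
  rw [avg_eq_sum, ← mul_assoc, mul_inv_cancel₀ hc, one_mul]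
  refine Finset.sum_bij' (fun y hy => (⟨y, (Finset.mem_filter.mp hy).2⟩ : Z)) (fun y _ => (y : G))
    ?_ ?_ ?_ ?_ ?_
  · intro y hy; exact Finset.mem_univ _
  · intro y _; exact Finset.mem_filter.mpr ⟨Finset.mem_univ _, y.2⟩
  · intro y hy; rfl
  · intro y hy; rfl
  · intro y hy
    simp

/-- The dimension of the fixed space of `D` modulo `4`. -/
theorem finrank_four (H : BGChars h X₁ X₂ X₃ T f g₂ g₃) (hρ : ρW.character = -X₁)
    {D X : Subgroup G} (hDX : D ≤ X) (hn : ∀ a ∈ X, ∀ d ∈ D, a * d * a⁻¹ ∈ D)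
    (hX : Nat.card X = 4 * Nat.card D) :
    finrank ℂ (fix ρW D) = 4 * finrank ℂ (fix ρW X) + 3 := by
  classical
  have hN : (D.subgroupOf X).Normal := ⟨fun d hd a => hn a a.2 d hd⟩
  have hDpos : 0 < Nat.card D := Nat.card_pos
  have hidx : (D.subgroupOf X).index = 4 := by
    have h1 := (D.subgroupOf X).card_mul_index
    rw [Nat.card_congr (Subgroup.subgroupOfEquivOfLe hDX).toEquiv, hX] at h1
    apply Nat.eq_of_mul_eq_mul_left hDpos
    rw [h1]; ring
  have heven : ∀ y ∈ X, y ∉ D → Even (orderOf y) := by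
    intro y hy hyD
    by_contra h1
    rw [Nat.not_even_iff_odd] at h1
    apply hyD
    have h2 : (⟨y, hy⟩ : X) ^ 4 ∈ D.subgroupOf X := by
      rw [← hidx]; exact Subgroup.pow_index_mem _ _
    have h3 : y ^ 4 ∈ D := h2
    have h4 : Nat.Coprime (orderOf y) 4 := by
      have : Nat.Coprime (orderOf y) (2 ^ 2) :=
        Nat.Coprime.pow_right 2 (Nat.coprime_two_right.mpr h1)
      simpa using this
    obtain ⟨k, hk⟩ := exists_pow_eq_self_of_coprime h4.symm
    rw [← hk]
    exact pow_mem h3 k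
  have hsplit : ∑ y ∈ Finset.univ.filter (fun y : G => y ∈ X), X₁ y =
      ∑ y ∈ Finset.univ.filter (fun y : G => y ∈ D), X₁ y +
        ∑ y ∈ Finset.univ.filter (fun y : G => y ∈ X ∧ y ∉ D), X₁ y := by
    rw [← Finset.sum_union]
    · congr 1
      ext y
      simp only [Finset.mem_filter, Finset.mem_univ, true_and, Finset.mem_union]
      constructor
      · intro h1
        by_cases h2 : y ∈ D
        · exact Or.inl h2
        · exact Or.inr ⟨h1, h2⟩
      · rintro (h1 | h1)
        · exact hDX h1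
        · exact h1.1
    · rw [Finset.disjoint_left]
      intro y h1 h2
      simp only [Finset.mem_filter, Finset.mem_univ, true_and] at h1 h2
      exact h2.2 h1
  have hones : ∑ y ∈ Finset.univ.filter (fun y : G => y ∈ X ∧ y ∉ D), X₁ y =
      3 * (Nat.card D : ℂ) := by
    have h1 : ∀ y ∈ Finset.univ.filter (fun y : G => y ∈ X ∧ y ∉ D), X₁ y = 1 := by
      intro y hy
      simp only [Finset.mem_filter, Finset.mem_univ, true_and] at hy
      exact apply_even H (heven y hy.1 hy.2)
    rw [Finset.sum_congr rfl h1, Finset.sum_const, nsmul_eq_mul, mul_one]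
    have hX' : (Finset.univ.filter (fun y : G => y ∈ X)).card = Nat.card X := by
      rw [Nat.card_eq_fintype_card]
      exact (Fintype.card_of_subtype _ (fun y => by simp)).symm
    have hD' : (Finset.univ.filter (fun y : G => y ∈ D)).card = Nat.card D := by
      rw [Nat.card_eq_fintype_card]
      exact (Fintype.card_of_subtype _ (fun y => by simp)).symm
    have h2 : (Finset.univ.filter (fun y : G => y ∈ X)).card =
        (Finset.univ.filter (fun y : G => y ∈ D)).card +
          (Finset.univ.filter (fun y : G => y ∈ X ∧ y ∉ D)).card := by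
      rw [← Finset.card_union_of_disjoint]
      · congr 1
        ext y
        simp only [Finset.mem_filter, Finset.mem_univ, true_and, Finset.mem_union]
        constructor
        · intro h1
          by_cases h2 : y ∈ D
          · exact Or.inl h2
          · exact Or.inr ⟨h1, h2⟩
        · rintro (h1 | h1)
          · exact hDX h1
          · exact h1.1
      · rw [Finset.disjoint_left]
        intro y h1 h2
        simp only [Finset.mem_filter, Finset.mem_univ, true_and] at h1 h2
        exact h2.2 h1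
    rw [hX', hD', hX] at h2
    have h3 : (Finset.univ.filter (fun y : G => y ∈ X ∧ y ∉ D)).card = 3 * Nat.card D := by omega
    rw [h3]
    push_cast
    ring
  rw [sum_filter_eq, sum_filter_eq, hones, hX] at hsplit
  have e1 := finrank_eq_avg hρ D
  have e2 := finrank_eq_avg hρ X
  have hDc : (Nat.card D : ℂ) ≠ 0 := by exact_mod_cast hDpos.ne'
  have h4 : (finrank ℂ (fix ρW D) : ℂ) = 4 * finrank ℂ (fix ρW X) + 3 := by
    rw [e1, e2]
    apply mul_left_cancel₀ hDc
    push_cast at hsplit
    linear_combination hsplit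
  exact_mod_cast h4

theorem card_le_of_index_three {D E L : Subgroup G} (hD : D ≤ L) (hE : E ≤ L)
    (hDL : Nat.card L = 3 * Nat.card D) (hEL : Nat.card L = 3 * Nat.card E) (hne : D ≠ E) :
    L ≤ D ⊔ E := by
  have hle : D ⊔ E ≤ L := sup_le hD hE
  have h1 : Nat.card D ∣ Nat.card (D ⊔ E : Subgroup G) := Subgroup.card_dvd_of_le le_sup_left
  have h2 : Nat.card (D ⊔ E : Subgroup G) ∣ Nat.card L := Subgroup.card_dvd_of_le hle
  obtain ⟨a, ha⟩ := h1
  obtain ⟨b, hb⟩ := h2
  have hDpos : 0 < Nat.card D := Nat.card_pos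
  have h3 : a * b = 3 := by
    apply Nat.eq_of_mul_eq_mul_left hDpos
    rw [← mul_assoc, ← ha, ← hb, hDL]; ring
  have h4 : a ∣ 3 := Dvd.intro b h3
  rcases (Nat.dvd_prime Nat.prime_three).mp h4 with h5 | h5
  · exfalso
    apply hne
    have h6 : Nat.card (D ⊔ E : Subgroup G) = Nat.card D := by rw [ha, h5, mul_one]
    have h7 : D = D ⊔ E := Subgroup.eq_of_le_of_card_ge le_sup_left h6.le
    have h8 : E ≤ D := by rw [h7]; exact le_sup_right
    exact (Subgroup.eq_of_le_of_card_ge h8 (by omega)).symm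
  · have h6 : b = 1 := by rw [h5] at h3; omega
    have h7 : Nat.card (D ⊔ E : Subgroup G) = Nat.card L := by rw [hb, h6, mul_one]
    exact (Subgroup.eq_of_le_of_card_ge hle h7.ge).ge

variable {Y : Type*} [Group Y] {M M₀ : Subgroup G} {p : ZMod 2} {ρ : M →* Y} {x : ℕ}
  {σ : DihedralGroup n →* G} {j₀ : ZMod n} {g : G} {D : Subgroup G}

theorem cj_eq_iff {a : G} {A : Subgroup G} (hA : cj a A = A) : cj a⁻¹ A = A := by
  conv_lhs => rw [← hA]
  have := cj_cj_inv a⁻¹ A
  rwa [inv_inv] at this

theorem cj_mul (a b : G) (A : Subgroup G) : cj (a * b) A = cj a (cj b A) := by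
  ext y
  rw [mem_cj, mem_cj, mem_cj]
  have : (a * b)⁻¹ * y * (a * b) = b⁻¹ * (a⁻¹ * y * a) * b := by group
  rw [this]

theorem cj_injective (a : G) {A B : Subgroup G} (hAB : cj a A = cj a B) : A = B := by
  have h1 := congrArg (cj a⁻¹) hAB
  rw [← cj_mul, ← cj_mul, inv_mul_cancel] at h1
  have h2 : ∀ A : Subgroup G, cj 1 A = A := by
    intro A
    ext y
    rw [mem_cj]
    simp
  rwa [h2, h2] at h1

set_option maxHeartbeats 400000 in
/-- **`D = 1`.** -/
theorem D_eq_bot [IsSimpleGroup G] (H : Hyp h M M₀ p ρ x) (hM : IsCoatom M)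
    (HC : BGChars h X₁ X₂ X₃ T f g₂ g₃) (hf : f = -15)
    (C : Config h M M₀ p ρ σ j₀ g D) : D = ⊥ := by
  by_contra hD1
  obtain ⟨m, ρW, hirr, hρ, hV⟩ := exists_rep HC hf
  have hn4 := H.n4
  have hDcore : D ≤ core ρ := by rw [C.eq_left]; exact inf_le_right
  have hDX : D ≤ M ⊓ cj g M := by
    have := C.eq_left
    intro d hd
    rw [this] at hd
    exact (Subgroup.mem_inf.mp hd).1
  have hDcore' : D ≤ cj g (core ρ) := by rw [C.eq_right]; exact inf_le_right
  have hDodd : Odd (Nat.card D) := Odd.of_dvd_nat H.odd_core (Subgroup.card_dvd_of_le hDcore)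
  have hDn : ∀ a ∈ M ⊓ cj g M, ∀ d ∈ D, a * d * a⁻¹ ∈ D := by
    intro a ha d hd
    rw [C.eq_left] at hd ⊢
    obtain ⟨h1, h2⟩ := Subgroup.mem_inf.mp hd
    exact Subgroup.mem_inf.mpr ⟨mul_mem (mul_mem ha h1) (inv_mem ha),
      core_conj (Subgroup.mem_inf.mp ha).1 h2⟩
  have hcore1 : core ρ ≠ ⊥ := fun h1 => hD1 (le_bot_iff.mp (h1 ▸ hDcore))
  have hMn : M ≤ Subgroup.normalizer (core ρ : Set G) := by
    intro a ha
    rw [Subgroup.mem_normalizer_iff]
    intro y
    constructor
    · exact core_conj ha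
    · intro hy
      have := core_conj (inv_mem ha) hy
      have e1 : a⁻¹ * (a * y * a⁻¹) * a⁻¹⁻¹ = y := by group
      rwa [e1] at this
  obtain ⟨P, hP⟩ := DihTypeAEnd.exists_sylow_le_of_odd M (by rw [H.index]; decide)
  have dL : finrank ℂ (fix ρW (core ρ)) = 7 :=
    finrank_sylow HC hn4 hf hρ hV (core ρ) H.odd_core P (hP.trans hMn) hcore1
  have dL' : finrank ℂ (fix ρW (cj g (core ρ))) = 7 := by
    apply le_antisymm
    · rw [← dL]
      refine finrank_fix_conj ρW (cj g (core ρ)) (core ρ) g⁻¹ ?_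
      intro z hz
      rw [mem_cj]
      have e1 : g⁻¹ * (g⁻¹⁻¹ * z * g⁻¹) * g = z := by group
      rwa [e1]
    · rw [← dL]
      exact finrank_fix_conj ρW (core ρ) (cj g (core ρ)) g (fun z hz => mem_cj.mp hz)
  have d4 := finrank_four HC hρ hDX hDn C.card_X
  have dle : finrank ℂ (fix ρW D) ≤ 15 := by rw [← hV]; exact Submodule.finrank_le _
  have dge : 7 ≤ finrank ℂ (fix ρW D) := by
    rw [← dL]; exact Submodule.finrank_mono (fix_mono ρW hDcore)
  have hd15 : finrank ℂ (fix ρW D) ≠ 15 := by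
    intro h1
    apply hD1
    refine eq_bot_of_avg_eq HC.s₁ HC.ortho.one₁ D ?_
    have h2 := finrank_eq_avg hρ D
    rw [h1] at h2
    rw [HC.one₁, hf]
    push_cast at h2 ⊢
    linear_combination h2
  have hcases : finrank ℂ (fix ρW D) = 7 ∨ finrank ℂ (fix ρW D) = 11 := by omega
  rcases hcases with hd | hd
  · -- the fixed space is stable
    refine no_common (hirr := hirr) ρW hDcore hDcore' (M := M) (M' := cj g M) ?_ ?_ ?_
      (by rw [dL, hd]) (by rw [dL', hd]) (by rw [hd]; norm_num) (by rw [hd, hV]; norm_num)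
    · intro a ha l hl
      exact core_conj ha hl
    · intro a ha l hl
      rw [mem_cj] at ha hl ⊢
      have := core_conj ha hl
      have e1 : g⁻¹ * a * g * (g⁻¹ * l * g) * (g⁻¹ * a * g)⁻¹ = g⁻¹ * (a * l * a⁻¹) * g := by group
      rwa [e1] at this
    · by_contra h1
      have h2 : M ⊔ cj g M = M := by
        rcases (le_sup_left : M ≤ M ⊔ cj g M).eq_or_lt with h3 | h3
        · exact h3.symm
        · exact absurd (hM.2 _ h3) h1
      have h3 : cj g M ≤ M := sup_eq_left.mp h2
      have h4 := C.card_X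
      rw [inf_eq_right.mpr h3, card_cj, H.card_M, C.card_core] at h4
      have : 0 < Nat.card D := Nat.card_pos
      omega
  · -- `D` is not normalised by a Sylow 2-subgroup
    have hnot : ¬ σ.range ≤ Subgroup.normalizer (D : Set G) := by
      intro h1
      have h2 : Odd (Subgroup.normalizer (D : Set G)).index := by
        have h3 : (Subgroup.normalizer (D : Set G)).index ∣ σ.range.index :=
          Subgroup.index_dvd_of_le h1
        refine Odd.of_dvd_nat ?_ h3
        have h4 := σ.range.card_mul_index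
        have h4' := C.sec.card_range
        have h8 : Nat.card σ.range = 8 := by omega
        rw [h8, H.card_G] at h4
        have h5 : σ.range.index = 105 * Nat.card (core ρ) := by omega
        rw [h5]
        exact Nat.odd_mul.mpr ⟨by decide, H.odd_core⟩
      obtain ⟨Q, hQ⟩ := DihTypeAEnd.exists_sylow_le_of_odd _ h2
      have := finrank_sylow HC hn4 hf hρ hV D hDodd Q hQ hD1
      omega
    have hXn : M ⊓ cj g M ≤ Subgroup.normalizer (D : Set G) := by
      intro a ha
      rw [Subgroup.mem_normalizer_iff]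
      intro y
      constructor
      · exact hDn a ha y
      · intro hy
        have := hDn a⁻¹ (inv_mem ha) _ hy
        have e1 : a⁻¹ * (a * y * a⁻¹) * a⁻¹⁻¹ = y := by group
        rwa [e1] at this
    obtain ⟨j, hj, hjn⟩ : ∃ j, ZMod.castHom (two_dvd h) (ZMod 2) j =
        ZMod.castHom (two_dvd h) (ZMod 2) j₀ + 1 ∧ σ (sr j) ∉ Subgroup.normalizer (D : Set G) := by
      by_contra h1
      push Not at h1
      exact hnot (C.sec.range_le_of_par (hXn C.r_mem) h1)
    set s := σ (sr j) with hs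
    have hsp : IsPar (two_dvd h) π p s := by
      have h1 := C.sec.isPar j
      rw [hj, C.par] at h1
      have h2 : ∀ a : ZMod 2, a + 1 + 1 = a := by decide
      rwa [h2] at h1
    obtain ⟨hs0, m₁, hm₁, hm₁s⟩ := H.A.fused s hsp
    have hsM : s ∈ M := H.A.sub hs0
    have htn : cj t D = D := by
      ext y
      rw [mem_cj]
      have h1 := (Subgroup.mem_normalizer_iff.mp (hXn C.t_mem))
      have h2 := h1 (t⁻¹ * y * t)
      have e1 : t * (t⁻¹ * y * t) * t⁻¹ = y := by group
      rw [e1] at h2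
      exact h2
    have hsn : cj s D ≠ D := by
      intro h1
      apply hjn
      rw [Subgroup.mem_normalizer_iff]
      intro y
      have h2 : s * y * s⁻¹ ∈ cj s D ↔ y ∈ D := by
        rw [mem_cj]
        have e1 : s⁻¹ * (s * y * s⁻¹) * s = y := by group
        rw [e1]
      rw [h1] at h2
      exact h2.symm
    -- a third conjugate
    obtain ⟨m₂, hm₂, hne₁, hne₂⟩ : ∃ m₂ ∈ M, cj m₂ D ≠ D ∧ cj m₂ D ≠ cj s D := by
      by_contra h1
      push Not at h1
      have key : ∀ a ∈ M, cj a D = D ∨ cj a D = cj s D := by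
        intro a ha
        by_cases h2 : cj a D = D
        · exact Or.inl h2
        · exact Or.inr (h1 a ha h2)
      have hseq : s = m₁⁻¹ * t * m₁ := by rw [← hm₁s]; group
      have htM : t ∈ M := H.A.sub H.A.t_mem
      have h2 : cj t (cj m₁ D) = cj m₁ D := by
        rcases key m₁ hm₁ with h3 | h3
        · rw [h3, htn]
        · rw [h3, ← cj_mul]
          rcases key (t * s) (mul_mem htM hsM) with h4 | h4
          · exfalso
            apply hsn
            apply cj_injective t
            rw [← cj_mul, h4, htn]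
          · exact h4
      apply hsn
      rw [hseq, cj_mul, cj_mul, h2, ← cj_mul, inv_mul_cancel]
      ext y
      rw [mem_cj]; simp
    -- all of them are normal of index three in the core
    have hidx : (D.subgroupOf (core ρ)).index = 3 := by
      have h1 := (D.subgroupOf (core ρ)).card_mul_index
      rw [Nat.card_congr (Subgroup.subgroupOfEquivOfLe hDcore).toEquiv, C.card_core] at h1
      have : 0 < Nat.card D := Nat.card_pos
      apply Nat.eq_of_mul_eq_mul_left this
      rw [h1]; ring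
    have hnorm : (D.subgroupOf (core ρ)).Normal := by
      apply Subgroup.normal_of_index_eq_minFac_card
      rw [hidx]
      have h3 : 3 ∣ Nat.card (core ρ) := by rw [C.card_core]; exact Dvd.intro _ rfl
      have hmf := Nat.minFac_le_of_dvd (by norm_num) h3
      have hp : (Nat.card (core ρ)).minFac.Prime := Nat.minFac_prime (by
        intro h4
        rw [h4] at h3
        omega)
      have h2 : (Nat.card (core ρ)).minFac ≠ 2 := by
        intro h4
        have h5 := Nat.minFac_dvd (Nat.card (core ρ))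
        rw [h4] at h5
        exact (Nat.not_even_iff_odd.mpr H.odd_core) (even_iff_two_dvd.mpr h5)
      have := hp.two_le
      omega
    have hnorm' : ∀ l ∈ core ρ, ∀ d ∈ D, l * d * l⁻¹ ∈ D := by
      intro l hl d hd
      exact hnorm.conj_mem ⟨d, hDcore hd⟩ hd ⟨l, hl⟩
    have hcj : ∀ a ∈ M, (cj a D ≤ core ρ) ∧ (∀ l ∈ core ρ, ∀ d ∈ cj a D, l * d * l⁻¹ ∈ cj a D) ∧
        Nat.card (core ρ) = 3 * Nat.card (cj a D) ∧ finrank ℂ (fix ρW (cj a D)) = 11 := by
      intro a ha
      refine ⟨?_, ?_, ?_, ?_⟩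
      · intro y hy
        have h1 := core_conj ha (hDcore (mem_cj.mp hy))
        have e1 : a * (a⁻¹ * y * a) * a⁻¹ = y := by group
        rwa [e1] at h1
      · intro l hl d hd
        rw [mem_cj] at hd ⊢
        have h1 : a⁻¹ * l * a ∈ core ρ := by
          have := core_conj (inv_mem ha) hl
          rwa [inv_inv] at this
        have h2 := hnorm' _ h1 _ hd
        have e1 : a⁻¹ * l * a * (a⁻¹ * d * a) * (a⁻¹ * l * a)⁻¹ = a⁻¹ * (l * d * l⁻¹) * a := by
          group
        rwa [e1] at h2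
      · rw [card_cj]; exact C.card_core
      · apply le_antisymm
        · rw [← hd]
          refine finrank_fix_conj ρW (cj a D) D a⁻¹ ?_
          intro z hz
          rw [mem_cj]
          have e1 : a⁻¹ * (a⁻¹⁻¹ * z * a⁻¹) * a = z := by group
          rwa [e1]
        · rw [← hd]
          exact finrank_fix_conj ρW D (cj a D) a (fun z hz => mem_cj.mp hz)
    obtain ⟨s1, s2, s3, s4⟩ := hcj s hsM
    obtain ⟨u1, u2, u3, u4⟩ := hcj m₂ hm₂
    exact no_three ρW hnorm' s2 u1
      (card_le_of_index_three hDcore s1 C.card_core s3 hsn.symm)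
      (card_le_of_index_three hDcore u1 C.card_core u3 hne₁.symm)
      (card_le_of_index_three s1 u1 s3 u3 hne₂.symm) dL hV hd s4 u4

/-- **The case of index `35`**: `G ≅ A₇`. -/
theorem iso_of_index_35 [IsSimpleGroup G] (H : Hyp h M M₀ p ρ x) (hM : IsCoatom M)
    (HC : BGChars h X₁ X₂ X₃ T f g₂ g₃) (hf : f = -15) :
    Nonempty (G ≃* alternatingGroup (Fin 7)) := by
  obtain ⟨σ, j₀, g, D, C⟩ := exists_config H
  have hD := D_eq_bot H hM HC hf C
  have h1 := C.card_core
  rw [hD, Subgroup.card_bot] at h1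
  have h2 := H.card_G
  rw [h1] at h2
  exact Cfsg.Agent.S0984.result h2

end Cfsg.Agent.Classification.DihTypeA35c
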