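import Mathlib

/-!
# Arithmetic of the order formula for a Klein four Sylow 2-subgroup

Triples `f₁, f₂, f₃ ≡ 1 mod 4` of integers with `1 + f₁ + f₂ + f₃ = 0`; the quotient
`R = ∏ fᵢ / ∏ (fᵢ + 1)`. Two such quotients have ratio `c` odd only if `c = 1` or `c = 5`
(for `c ≥ 1`).
-/

set_option autoImplicit false

namespace Cfsg.Agent.Classification.BGFourArith

/-- Normal form of a triple. -/
theorem normal_form {f g h : ℤ} (hf : (4 : ℤ) ∣ f - 1) (hg : (4 : ℤ) ∣ g - 1)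
    (hh : (4 : ℤ) ∣ h - 1) (hs : 1 + f + g + h = 0) :
    (∃ x y : ℤ, 1 ≤ x ∧ 1 ≤ y ∧ (4 : ℤ) ∣ x - 1 ∧ (4 : ℤ) ∣ y - 1 ∧
      f * g * h = -(x * y * (x + y + 1)) ∧
      (f + 1) * (g + 1) * (h + 1) = -((x + 1) * (y + 1) * (x + y))) ∨
    (∃ u v : ℤ, 3 ≤ u ∧ 3 ≤ v ∧ (4 : ℤ) ∣ u - 3 ∧ (4 : ℤ) ∣ v - 3 ∧
      f * g * h = u * v * (u + v - 1) ∧
      (f + 1) * (g + 1) * (h + 1) = (u - 1) * (v - 1) * (u + v)) := by
  have hh' : h = -1 - f - g := by linarith
  have hg' : g = -1 - f - h := by linarith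
  have hf' : f = -1 - g - h := by linarith
  rcases lt_trichotomy f 0 with h1 | h1 | h1
  · rcases lt_trichotomy g 0 with h2 | h2 | h2
    · -- both negative, `h` positive
      right
      refine ⟨-f, -g, by omega, by omega, by omega, by omega, ?_, ?_⟩ <;> subst hh' <;> ring
    · omega
    · rcases lt_trichotomy h 0 with h3 | h3 | h3
      · right
        refine ⟨-f, -h, by omega, by omega, by omega, by omega, ?_, ?_⟩ <;> subst hg' <;> ring
      · omega
      · left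
        refine ⟨g, h, by omega, by omega, hg, hh, ?_, ?_⟩ <;> subst hf' <;> ring
  · omega
  · rcases lt_trichotomy g 0 with h2 | h2 | h2
    · rcases lt_trichotomy h 0 with h3 | h3 | h3
      · right
        refine ⟨-g, -h, by omega, by omega, by omega, by omega, ?_, ?_⟩ <;> subst hf' <;> ring
      · omega
      · left
        refine ⟨f, h, by omega, by omega, hf, hh, ?_, ?_⟩ <;> subst hg' <;> ring
    · omega
    · left
      refine ⟨f, g, by omega, by omega, hf, hg, ?_, ?_⟩ <;> subst hh' <;> ring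

/-- No solution with quotient `9/8`. -/
theorem no_nine_eighths {u v : ℤ} (hu : 7 ≤ u) (hv : 7 ≤ v) (huv : u ≤ v)
    (hu4 : (4 : ℤ) ∣ u - 3)
    (h : 8 * (u * v * (u + v - 1)) = 9 * ((u - 1) * (v - 1) * (u + v))) : False := by
  have hu19 : u < 19 := by
    by_contra hcon
    push Not at hcon
    obtain ⟨a, rfl⟩ : ∃ a, u = 19 + a := ⟨u - 19, by ring⟩
    obtain ⟨b, rfl⟩ : ∃ b, v = 19 + b := ⟨v - 19, by ring⟩
    have ha : 0 ≤ a := by omega
    have hb : 0 ≤ b := by omega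
    have hab := mul_nonneg ha hb
    nlinarith [mul_nonneg hab ha, mul_nonneg hab hb, mul_nonneg ha ha, mul_nonneg hb hb]
  obtain ⟨k, hk⟩ := hu4
  have hcase : u = 7 ∨ u = 11 ∨ u = 15 := by omega
  rcases hcase with rfl | rfl | rfl
  · nlinarith
  · have h2 : (v + 5) ^ 2 = 520 := by linarith
    have h3 : v + 5 < 23 := by nlinarith
    have h4 : 22 < v + 5 := by nlinarith
    omega
  · have h2 : (v + 7) ^ 2 = 364 := by linarith
    have h3 : v + 7 < 20 := by nlinarith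
    have h4 : 19 < v + 7 := by nlinarith
    omega

theorem one_neg_lower {x y : ℤ} (hx : 1 ≤ x) (hy : 1 ≤ y) :
    3 * ((x + 1) * (y + 1) * (x + y)) ≤ 8 * (x * y * (x + y + 1)) := by
  obtain ⟨a, rfl⟩ : ∃ a, x = 1 + a := ⟨x - 1, by ring⟩
  obtain ⟨b, rfl⟩ : ∃ b, y = 1 + b := ⟨y - 1, by ring⟩
  have ha : 0 ≤ a := by omega
  have hb : 0 ≤ b := by omega
  have hab := mul_nonneg ha hb
  nlinarith [mul_nonneg hab ha, mul_nonneg hab hb, mul_nonneg ha ha, mul_nonneg hb hb]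

theorem one_neg_lower_five {x y : ℤ} (hx : 5 ≤ x) (hy : 5 ≤ y) :
    25 * ((x + 1) * (y + 1) * (x + y)) ≤ 36 * (x * y * (x + y + 1)) := by
  obtain ⟨a, rfl⟩ : ∃ a, x = 5 + a := ⟨x - 5, by ring⟩
  obtain ⟨b, rfl⟩ : ∃ b, y = 5 + b := ⟨y - 5, by ring⟩
  have ha : 0 ≤ a := by omega
  have hb : 0 ≤ b := by omega
  have hab := mul_nonneg ha hb
  nlinarith [mul_nonneg hab ha, mul_nonneg hab hb, mul_nonneg ha ha, mul_nonneg hb hb]

theorem one_neg_upper {x y : ℤ} (hx : 1 ≤ x) (hy : 1 ≤ y) :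
    x * y * (x + y + 1) < (x + 1) * (y + 1) * (x + y) := by
  have hx0 : 0 < x := by omega
  have hy0 : 0 < y := by omega
  nlinarith [mul_pos hx0 hy0]

theorem two_neg_lower {u v : ℤ} (hu : 3 ≤ u) (hv : 3 ≤ v) :
    (u - 1) * (v - 1) * (u + v) < u * v * (u + v - 1) := by
  obtain ⟨a, rfl⟩ : ∃ a, u = 3 + a := ⟨u - 3, by ring⟩
  obtain ⟨b, rfl⟩ : ∃ b, v = 3 + b := ⟨v - 3, by ring⟩
  have ha : 0 ≤ a := by omega
  have hb : 0 ≤ b := by omega
  have hab := mul_nonneg ha hb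
  nlinarith [mul_nonneg hab ha, mul_nonneg hab hb, mul_nonneg ha ha, mul_nonneg hb hb]

theorem two_neg_upper {u v : ℤ} (hu : 3 ≤ u) (hv : 3 ≤ v) :
    8 * (u * v * (u + v - 1)) ≤ 15 * ((u - 1) * (v - 1) * (u + v)) := by
  obtain ⟨a, rfl⟩ : ∃ a, u = 3 + a := ⟨u - 3, by ring⟩
  obtain ⟨b, rfl⟩ : ∃ b, v = 3 + b := ⟨v - 3, by ring⟩
  have ha : 0 ≤ a := by omega
  have hb : 0 ≤ b := by omega
  have hab := mul_nonneg ha hb
  nlinarith [mul_nonneg hab ha, mul_nonneg hab hb, mul_nonneg ha ha, mul_nonneg hb hb]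

theorem two_neg_upper_seven {u v : ℤ} (hu : 7 ≤ u) (hv : 7 ≤ v) :
    72 * (u * v * (u + v - 1)) ≤ 91 * ((u - 1) * (v - 1) * (u + v)) := by
  obtain ⟨a, rfl⟩ : ∃ a, u = 7 + a := ⟨u - 7, by ring⟩
  obtain ⟨b, rfl⟩ : ∃ b, v = 7 + b := ⟨v - 7, by ring⟩
  have ha : 0 ≤ a := by omega
  have hb : 0 ≤ b := by omega
  have hab := mul_nonneg ha hb
  nlinarith [mul_nonneg hab ha, mul_nonneg hab hb, mul_nonneg ha ha, mul_nonneg hb hb]

/-- `x = 1` in the "one negative" triple, ratio three. -/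
theorem not_three_aux {u v y : ℤ} (hu : 3 ≤ u) (hv : 3 ≤ v) (hu4 : (4 : ℤ) ∣ u - 3)
    (hv4 : (4 : ℤ) ∣ v - 3) (hy : 1 ≤ y) (hy4 : (4 : ℤ) ∣ y - 1)
    (h : 3 * ((u - 1) * (v - 1) * (u + v)) * (y * (y + 2)) =
      (u * v * (u + v - 1)) * (2 * (y + 1) ^ 2)) : False := by
  have hy0 : 0 < y * (y + 2) := by positivity
  rcases eq_or_lt_of_le hu with rfl | hu3
  · have h1 : (v ^ 2 + 2 * v - 3) * (y ^ 2 + 2 * y) = (v ^ 2 + 2 * v) * (y ^ 2 + 2 * y + 1) := by
      linarith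
    nlinarith [mul_pos (show (0 : ℤ) < v by omega) (show (0 : ℤ) < y by omega)]
  rcases eq_or_lt_of_le hv with rfl | hv3
  · have h1 : (u ^ 2 + 2 * u - 3) * (y ^ 2 + 2 * y) = (u ^ 2 + 2 * u) * (y ^ 2 + 2 * y + 1) := by
      linarith
    nlinarith [mul_pos (show (0 : ℤ) < u by omega) (show (0 : ℤ) < y by omega)]
  have hu7 : 7 ≤ u := by omega
  have hv7 : 7 ≤ v := by omega
  have hq : 0 < (u - 1) * (v - 1) * (u + v) :=
    mul_pos (mul_pos (by omega) (by omega)) (by omega)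
  have hb := two_neg_upper_seven hu7 hv7
  set p := u * v * (u + v - 1) with hp
  set q := (u - 1) * (v - 1) * (u + v) with hqdef
  have h2 : q * (216 * (y * (y + 2))) ≤ q * (182 * (y + 1) ^ 2) := by
    have h3 : (72 * p) * (2 * (y + 1) ^ 2) ≤ (91 * q) * (2 * (y + 1) ^ 2) :=
      mul_le_mul_of_nonneg_right hb (by positivity)
    linarith
  have h4 : 216 * (y * (y + 2)) ≤ 182 * (y + 1) ^ 2 := le_of_mul_le_mul_left h2 hq
  have hy1 : y = 1 := by
    have : y < 5 := by nlinarith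
    omega
  subst hy1
  have h5 : 8 * p = 9 * q := by linarith
  rcases le_total u v with huv | huv
  · exact no_nine_eighths hu7 hv7 huv hu4 h5
  · refine no_nine_eighths hv7 hu7 huv hv4 ?_
    rw [hp, hqdef] at h5
    linarith

/-- **Arithmetic of the four-group order formula.** -/
theorem four_ratio {a a' c K f g h f' g' h' : ℤ} (ha' : 0 < a') (hK : 0 < K)
    (hodd : ¬ (2 : ℤ) ∣ c) (hac : a = c * a')
    (hf : (4 : ℤ) ∣ f - 1) (hg : (4 : ℤ) ∣ g - 1) (hh : (4 : ℤ) ∣ h - 1)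
    (hs : 1 + f + g + h = 0)
    (hf' : (4 : ℤ) ∣ f' - 1) (hg' : (4 : ℤ) ∣ g' - 1) (hh' : (4 : ℤ) ∣ h' - 1)
    (hs' : 1 + f' + g' + h' = 0)
    (h1 : a * ((f + 1) * (g + 1) * (h + 1)) = K * (f * g * h))
    (h2 : a' * ((f' + 1) * (g' + 1) * (h' + 1)) = K * (f' * g' * h')) : c = 1 ∨ c = 5 := by
  -- reduce to positive numbers
  obtain ⟨p', q', hp', hq', hlow, hrel', hcase'⟩ : ∃ p' q' : ℤ, 0 < p' ∧ 0 < q' ∧
      3 * q' ≤ 8 * p' ∧ a' * q' = K * p' ∧ ((∃ x y : ℤ, 1 ≤ x ∧ 1 ≤ y ∧ (4 : ℤ) ∣ x - 1 ∧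
        (4 : ℤ) ∣ y - 1 ∧ p' = x * y * (x + y + 1) ∧ q' = (x + 1) * (y + 1) * (x + y)) ∨
        q' < p') := by
    rcases normal_form hf' hg' hh' hs' with ⟨x, y, hx, hy, hx4, hy4, e1, e2⟩ |
      ⟨u, v, hu, hv, hu4, hv4, e1, e2⟩
    · refine ⟨x * y * (x + y + 1), (x + 1) * (y + 1) * (x + y), ?_, ?_, one_neg_lower hx hy, ?_,
        Or.inl ⟨x, y, hx, hy, hx4, hy4, rfl, rfl⟩⟩
      · exact mul_pos (mul_pos (by omega) (by omega)) (by omega)
      · exact mul_pos (mul_pos (by omega) (by omega)) (by omega)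
      · rw [e1, e2] at h2; linarith
    · have hq : 0 < (u - 1) * (v - 1) * (u + v) :=
        mul_pos (mul_pos (by omega) (by omega)) (by omega)
      have hl := two_neg_lower hu hv
      refine ⟨u * v * (u + v - 1), (u - 1) * (v - 1) * (u + v), by linarith, hq, by linarith, ?_,
        Or.inr hl⟩
      rw [e1, e2] at h2; exact h2
  obtain ⟨p, q, hp, hq, hup, hrel, hcase⟩ : ∃ p q : ℤ, 0 < p ∧ 0 < q ∧
      8 * p ≤ 15 * q ∧ a * q = K * p ∧ (p < q ∨ (∃ u v : ℤ, 3 ≤ u ∧ 3 ≤ v ∧ (4 : ℤ) ∣ u - 3 ∧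
        (4 : ℤ) ∣ v - 3 ∧ p = u * v * (u + v - 1) ∧ q = (u - 1) * (v - 1) * (u + v))) := by
    rcases normal_form hf hg hh hs with ⟨x, y, hx, hy, hx4, hy4, e1, e2⟩ |
      ⟨u, v, hu, hv, hu4, hv4, e1, e2⟩
    · have hl := one_neg_upper hx hy
      have hpp : 0 < x * y * (x + y + 1) := mul_pos (mul_pos (by omega) (by omega)) (by omega)
      refine ⟨x * y * (x + y + 1), (x + 1) * (y + 1) * (x + y), hpp, by linarith, by linarith, ?_,
        Or.inl hl⟩
      rw [e1, e2] at h1; linarith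
    · have hq : 0 < (u - 1) * (v - 1) * (u + v) :=
        mul_pos (mul_pos (by omega) (by omega)) (by omega)
      have hl := two_neg_lower hu hv
      refine ⟨u * v * (u + v - 1), (u - 1) * (v - 1) * (u + v), by linarith, hq,
        two_neg_upper hu hv, ?_, Or.inr ⟨u, v, hu, hv, hu4, hv4, rfl, rfl⟩⟩
      rw [e1, e2] at h1; exact h1
  subst hac
  -- main relation
  have hmain : c * (q * p') = p * q' := by
    have h3 : (a' * K) * (c * (q * p')) = (a' * K) * (p * q') := by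
      have e1 : (c * a' * q) * (K * p') = (K * p) * (a' * q') := by rw [hrel, hrel']
      linarith
    exact mul_left_cancel₀ (mul_pos ha' hK).ne' h3
  have hqp : 0 < q * p' := mul_pos hq hp'
  have hpq : 0 < p * q' := mul_pos hp hq'
  have hc0 : 0 < c := by
    by_contra hcon
    push Not at hcon
    have := mul_nonpos_of_nonpos_of_nonneg hcon hqp.le
    linarith
  have hc5 : c ≤ 5 := by
    have h3 : (8 * p) * (3 * q') ≤ (15 * q) * (8 * p') :=
      mul_le_mul hup hlow (by positivity) (by positivity)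
    by_contra hcon
    push Not at hcon
    nlinarith [mul_le_mul_of_nonneg_right (show 6 ≤ c by omega) hqp.le]
  have hc3 : c ≠ 3 := by
    rintro rfl
    rcases hcase with hlt | ⟨u, v, hu, hv, hu4, hv4, rfl, rfl⟩
    · -- `p < q`
      have : p * q' < q * q' := mul_lt_mul_of_pos_right hlt hq'
      nlinarith
    · rcases hcase' with ⟨x, y, hx, hy, hx4, hy4, rfl, rfl⟩ | hlt
      · rcases eq_or_lt_of_le hx with rfl | hx1
        · refine not_three_aux hu hv hu4 hv4 hy hy4 ?_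
          linarith
        rcases eq_or_lt_of_le hy with rfl | hy1
        · refine not_three_aux hu hv hu4 hv4 hx hx4 ?_
          linarith
        have hb := one_neg_lower_five (show 5 ≤ x by omega) (show 5 ≤ y by omega)
        set P := u * v * (u + v - 1)
        set Q := (u - 1) * (v - 1) * (u + v)
        set P' := x * y * (x + y + 1)
        set Q' := (x + 1) * (y + 1) * (x + y)
        have h4 : Q * (25 * Q') ≤ Q * (36 * P') := mul_le_mul_of_nonneg_left hb hq.le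
        have h5 : (8 * P) * Q' ≤ (15 * Q) * Q' := mul_le_mul_of_nonneg_right hup hq'.le
        have h6 : 0 < Q * Q' := mul_pos hq hq'
        nlinarith
      · have h4 := mul_lt_mul_of_pos_left hlt hq
        have h5 := mul_le_mul_of_nonneg_right hup hq'.le
        nlinarith [mul_pos hq hq']
  clear hcase hcase' hrel hrel' h1 h2 hmain
  omega

end Cfsg.Agent.Classification.BGFourArith
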