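import Mathlib
import Cfsg.Prelude.Def_Characters
import Cfsg.Prelude.Def_Blocks
import Cfsg.Prelude.Def_Local
import Cfsg.Agent.Characters.Core
import Cfsg.Agent.Classification.BGDefs
import Cfsg.Agent.Classification.BGBasic
import Cfsg.Agent.Classification.BGIsometry
import Cfsg.Agent.Classification.BGOrder
import Cfsg.Agent.Classification.BGOvergroup
import Cfsg.Agent.Classification.BGFourArith
import Cfsg.Agent.Blocks.ExistsModular
import Cfsg.Agent.Blocks.Basic
import Cfsg.Agent.OddOrderCharacters.Clifford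
import Cfsg.Agent.S0942
import Cfsg.Agent.S0948

/-!
# Bender–Glauberman: Klein four Sylow 2-subgroups

The order formula `|G : C(t)| ∏ (fᵢ + 1) = 8 k₀ k₁ ∏ fᵢ` and the consequence: if `C(t) ≤ M` and
`M`, `G` have one class of involutions, then `M = G` or `|G : M| = 5`.
-/

set_option autoImplicit false
set_option linter.unusedSectionVars false

namespace Cfsg.Agent.Classification.BGFour

open DihedralGroup Cfsg Cfsg.Agent.Classification.BGDefs Cfsg.Agent.Classification.BGBasic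
  Cfsg.Agent.Classification.BGOrder Cfsg.Agent.Classification.BGOvergroup Cfsg.Agent.Characters

theorem mem_core {G : Type*} [Group G] {t : G} {n : ℕ}
    {π : (Subgroup.centralizer ({t} : Set G)) →* DihedralGroup n} (h : BGHyp t n π)
    {u : Subgroup.centralizer ({t} : Set G)} (hu : π u = 1) :
    (u : G) ∈ Cfsg.centralizerPPrimeCore 2 t := by
  have h1 : π.ker ≤ Cfsg.pPrimeCore 2 (Subgroup.centralizer ({t} : Set G)) :=
    le_sSup ⟨inferInstance, Nat.coprime_two_right.mpr h.odd_ker⟩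
  exact ⟨u, h1 hu, rfl⟩

/-- Pointwise characterization of the induced function. -/
theorem indFun_eq {G : Type*} [Group G] [Fintype G] {t : G} (ht : orderOf t = 2)
    (hone : ∀ x : G, orderOf x = 2 → IsConj t x)
    (β : Subgroup.centralizer ({t} : Set G) → ℂ)
    (hβc : IsClassFunction (Subgroup.centralizer ({t} : Set G)) β)
    (hβ : BGIsometry.Supp t β) (F : G → ℂ) (hF : IsClassFunction G F)
    (h0 : ∀ g, Odd (orderOf g) → F g = 0)
    (h2 : ∀ x : Subgroup.centralizer ({t} : Set G), t ∈ Subgroup.zpowers (x : G) → F x = β x) :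
    indFun (Subgroup.centralizer ({t} : Set G)) β = F := by
  funext g
  rcases Nat.even_or_odd (orderOf g) with heven | hodd
  · obtain ⟨x, hx⟩ := BGIsometry.exists_conj_of_even hone heven
    have hmem := BGIsometry.mem_centralizer_of_mem_zpowers hx
    rw [← (OddOrderCharacters.Clifford.isClassFunction_indFun _ β) g x, ← hF g x]
    rw [h2 ⟨_, hmem⟩ hx]
    exact BGIsometry.indFun_eq ht hβc hβ (h := ⟨_, hmem⟩) hx
  · rw [BGIsometry.indFun_eq_zero_of_odd ht hβ hodd, h0 g hodd]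

theorem one_ne_zero_two : ¬ ((1 : ZMod 2) = 0) := by decide

theorem eq_one_of_ne_zero : ∀ j : ZMod 2, j ≠ 0 → j = 1 := by decide

/-- In the four-group case, `π x = r 1` implies `x = t u` with `u ∈ ker π`. -/
theorem exists_mul {G : Type*} [Group G] {t : G}
    {π : (Subgroup.centralizer ({t} : Set G)) →* DihedralGroup 2} (h : BGHyp t 2 π)
    {x : Subgroup.centralizer ({t} : Set G)} (hx : π x = r 1) :
    ∃ u : Subgroup.centralizer ({t} : Set G), π u = 1 ∧ (x : G) = t * u := by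
  refine ⟨(tt t)⁻¹ * x, ?_, ?_⟩
  · rw [map_mul, map_inv, map_tt h, hx]
    decide
  · simp [tt]

/-- **Order formula for a Klein four Sylow 2-subgroup.** -/
theorem four_formula {G : Type*} [Group G] [Finite G] {t : G}
    {π : (Subgroup.centralizer ({t} : Set G)) →* DihedralGroup 2} (h : BGHyp t 2 π)
    (P : Sylow 2 G) (hP : IsKleinFour (P : Subgroup G)) :
    ∃ f₁ f₂ f₃ : ℤ, (4 : ℤ) ∣ f₁ - 1 ∧ (4 : ℤ) ∣ f₂ - 1 ∧ (4 : ℤ) ∣ f₃ - 1 ∧
      1 + f₁ + f₂ + f₃ = 0 ∧
      ((Subgroup.centralizer ({t} : Set G)).index : ℤ) * ((f₁ + 1) * (f₂ + 1) * (f₃ + 1)) =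
        (8 * (kcount (two_dvd h) π 0 : ℤ) * (kcount (two_dvd h) π 1 : ℤ)) * (f₁ * f₂ * f₃) := by
  classical
  let _ : Fintype G := Fintype.ofFinite G
  have : Fact (Nat.Prime 2) := ⟨Nat.prime_two⟩
  obtain ⟨M, hM⟩ := Blocks.ExistsModular.exists_isPModular Nat.prime_two
  have hone : ∀ s u : G, orderOf s = 2 → orderOf u = 2 → IsConj s u := fun s u hs hu =>
    (h.one_class s hs).symm.trans (h.one_class u hu)
  obtain ⟨ζ₂, ζ₃, ζ₄, ε, hε, -, -, -, -, -, hB, hval, hd2, hd3, hd4, hreg⟩ :=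
    S0948.result M hM P hP hone
  have hεε : (ε : ℂ) * ε = 1 := by rcases hε with rfl | rfl <;> norm_num
  have hεε' : ε * ε = 1 := by rcases hε with rfl | rfl <;> norm_num
  have hB2 : ζ₂ ∈ Cfsg.principalBlock M G := by rw [hB]; exact Or.inr (Or.inl rfl)
  have hB3 : ζ₃ ∈ Cfsg.principalBlock M G := by rw [hB]; exact Or.inr (Or.inr (Or.inl rfl))
  have hB4 : ζ₄ ∈ Cfsg.principalBlock M G := by rw [hB]; exact Or.inr (Or.inr (Or.inr rfl))
  have htval := hval t h.orderOf_t
  -- the induced function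
  have hind : indFun (Subgroup.centralizer ({t} : Set G)) (fun x => bmu (π x)) =
      fun g => 1 + (ζ₂ : G → ℂ) g + (ε : ℂ) * (ζ₃ : G → ℂ) g - (ζ₄ : G → ℂ) g := by
    refine indFun_eq h.orderOf_t h.one_class _ ?_ (BGIsometry.supp_bmu h) _ ?_ hreg ?_
    · exact BGIsometry.isClassFunction_comp π
        (BGIsometry.isClassFunction_of_generalized (BGIsometry.isGeneralized_bmu (two_dvd h)))
    · intro g y
      have e2 := Core.isIrr_isClassFunction ζ₂.2 g y
      have e3 := Core.isIrr_isClassFunction ζ₃.2 g y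
      have e4 := Core.isIrr_isClassFunction ζ₄.2 g y
      simp only [e2, e3, e4]
    · intro x hx
      obtain ⟨j, hj, hxj⟩ := rot_of_mem_zpowers h hx
      have hj1 : j = 1 := eq_one_of_ne_zero j hj
      subst hj1
      obtain ⟨u, hu, hxu⟩ := exists_mul h hxj
      have hcore := mem_core h hu
      have hpow : ∃ k : ℕ, orderOf t = 2 ^ k := ⟨1, by rw [h.orderOf_t, pow_one]⟩
      have e2 := S0942.result 2 M hM t hpow u hcore ζ₂ hB2
      have e3 := S0942.result 2 M hM t hpow u hcore ζ₃ hB3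
      have e4 := S0942.result 2 M hM t hpow u hcore ζ₄ hB4
      rw [hxj, hxu, e2, e3, e4, htval.1, htval.2.1, htval.2.2, bmu_r]
      have e5 : e 2 (((2 / 2 : ℕ) : ZMod 2) * 1) = -1 := by
        rw [mul_one]; exact e_half (by norm_num)
      rw [e5]
      linear_combination hεε
  have key := pair_formula h bmu bmu_one bmu_sr (fun p => if p = 0 then 0 else 2 * ((2 : ℕ) : ℂ))
    (sum_bmu_parity (two_dvd h)) (Finset.univ : Finset (Fin 4)) ![1, 1, (ε : ℂ), -1]
    ![1, (ζ₂ : G → ℂ), (ζ₃ : G → ℂ), (ζ₄ : G → ℂ)]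
    (by
      intro j _
      fin_cases j
      · exact signedIrr_one
      · exact Or.inl ζ₂.2
      · exact Or.inl ζ₃.2
      · exact Or.inl ζ₄.2)
    (by
      rw [hind]
      funext g
      simp [Fin.sum_univ_four]
      ring)
  have hζ2 := Blocks.Basic.irr_one_eq_charDegree ζ₂.2
  have hζ3 := Blocks.Basic.irr_one_eq_charDegree ζ₃.2
  have hζ4 := Blocks.Basic.irr_one_eq_charDegree ζ₄.2
  have hn2 : (Cfsg.charDegree (ζ₂ : G → ℂ) : ℂ) ≠ 0 := by
    rw [← hζ2]; exact Core.isIrr_apply_one_ne_zero ζ₂.2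
  have hn3 : (Cfsg.charDegree (ζ₃ : G → ℂ) : ℂ) ≠ 0 := by
    rw [← hζ3]; exact Core.isIrr_apply_one_ne_zero ζ₃.2
  have hn4 : (Cfsg.charDegree (ζ₄ : G → ℂ) : ℂ) ≠ 0 := by
    rw [← hζ4]; exact Core.isIrr_apply_one_ne_zero ζ₄.2
  have hsum := hreg 1 (by rw [orderOf_one]; exact odd_one)
  rw [hζ2, hζ3, hζ4] at hsum
  simp only [Fin.sum_univ_four, Matrix.cons_val_zero, Matrix.cons_val_one, Matrix.cons_val,
    Pi.one_apply, hζ2, hζ3, hζ4, htval.1, htval.2.1, htval.2.2] at key
  set a := Cfsg.charDegree (ζ₂ : G → ℂ) with ha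
  set b := Cfsg.charDegree (ζ₃ : G → ℂ) with hb
  set c := Cfsg.charDegree (ζ₄ : G → ℂ) with hc
  refine ⟨a, ε * b, -c, hd2, ?_, ?_, ?_, ?_⟩
  · obtain ⟨k, hk⟩ := hd3
    exact ⟨ε * k, by linear_combination ε * hk + hεε'⟩
  · obtain ⟨k, hk⟩ := hd4
    exact ⟨-k, by linear_combination -hk⟩
  · have : (1 : ℂ) + a + ε * b - c = 0 := hsum
    have h2 : (1 : ℤ) + a + ε * b + -(c : ℤ) = 0 := by
      have h3 : ((1 + a + ε * b + -(c : ℤ) : ℤ) : ℂ) = 0 := by
        push_cast; linear_combination this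
      exact_mod_cast h3
    exact h2
  · have h5 : ((Subgroup.centralizer ({t} : Set G)).index : ℂ) *
        (((a : ℂ) + 1) * (ε * b + 1) * (-(c : ℂ) + 1)) =
        (8 * (kcount (two_dvd h) π 0 : ℂ) * (kcount (two_dvd h) π 1 : ℂ)) *
          ((a : ℂ) * (ε * b) * (-(c : ℂ))) := by
      have hB0 : (ε : ℂ) * (b : ℂ) ≠ 0 :=
        mul_ne_zero (by rintro h0; rw [h0, zero_mul] at hεε; exact zero_ne_one hεε) hn3
      have e1 : (ε : ℂ) * ((ε : ℂ) ^ 2 / (b : ℂ)) = 1 / ((ε : ℂ) * b) := by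
        have e2 : (ε : ℂ) ^ 2 = 1 := by rw [sq]; exact hεε
        rw [e2, mul_one_div, div_eq_div_iff hn3 hB0]
        linear_combination (b : ℂ) * hεε
      rw [e1] at key
      have e3 : (c : ℂ) = 1 + a + ε * b := by linear_combination -hsum
      generalize (ε : ℂ) * (b : ℂ) = B at hB0 key e3 ⊢
      rw [if_pos trivial, if_neg one_ne_zero_two] at key
      have e4 : ((Subgroup.centralizer ({t} : Set G)).index : ℂ) *
          (1 + 1 / (a : ℂ) + 1 / B - 1 / (c : ℂ)) =
          8 * (kcount (two_dvd h) π 0 : ℂ) * (kcount (two_dvd h) π 1 : ℂ) := by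
        push_cast at key
        linear_combination key / 2
      rw [← e4]
      field_simp
      rw [e3]
      ring
    exact_mod_cast h5

/-- **Overgroups of `C(t)`, Klein four Sylow 2-subgroups**: if `C(t) ≤ M` and `G`, `M` have one
class of involutions, then `M = G` or `|G : M| = 5`. -/
theorem index_eq_five {G : Type*} [Group G] [Finite G] {t : G}
    {π : (Subgroup.centralizer ({t} : Set G)) →* DihedralGroup 2} (h : BGHyp t 2 π)
    (P : Sylow 2 G) (hP : IsKleinFour (P : Subgroup G))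
    (hk : 0 < kcount (two_dvd h) π 0 ∧ 0 < kcount (two_dvd h) π 1)
    (M : Subgroup G) (hM : Subgroup.centralizer ({t} : Set G) ≤ M)
    (hone : ∀ x y : M, orderOf x = 2 → orderOf y = 2 → IsConj x y)
    (hodd : Odd M.index) (Q : Sylow 2 M) (hQ : IsKleinFour (Q : Subgroup M)) :
    M = ⊤ ∨ M.index = 5 := by
  obtain ⟨f₁, f₂, f₃, a1, a2, a3, a4, a5⟩ := four_formula h P hP
  obtain ⟨g₁, g₂, g₃, b1, b2, b3, b4, b5⟩ := four_formula (bgHyp_over h M hM hone) Q hQ
  rw [kcount_over, kcount_over] at b5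
  have hidx := index_over M hM
  have hK : (0 : ℤ) < 8 * (kcount (two_dvd h) π 0 : ℤ) * (kcount (two_dvd h) π 1 : ℤ) := by
    have h1 : (0 : ℤ) < kcount (two_dvd h) π 0 := by exact_mod_cast hk.1
    have h2 : (0 : ℤ) < kcount (two_dvd h) π 1 := by exact_mod_cast hk.2
    positivity
  have h3 := BGFourArith.four_ratio (c := (M.index : ℤ))
    (by exact_mod_cast Nat.pos_of_ne_zero Subgroup.index_ne_zero_of_finite) hK
    (by
      intro h4
      have h5 : 2 ∣ M.index := by exact_mod_cast h4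
      exact (Nat.not_even_iff_odd.mpr hodd) (even_iff_two_dvd.mpr h5))
    (by exact_mod_cast hidx) a1 a2 a3 a4 b1 b2 b3 b4 a5 b5
  rcases h3 with h3 | h3
  · left
    rw [← Subgroup.index_eq_one]
    exact_mod_cast h3
  · right
    exact_mod_cast h3

end Cfsg.Agent.Classification.BGFour
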