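import Mathlib
import Cfsg.Agent.Classification.BGDefs
import Cfsg.Agent.Classification.BGBasic
import Cfsg.Agent.Classification.BGStructure
import Cfsg.Agent.Classification.BGSylow
import Cfsg.Agent.Classification.BGValues
import Cfsg.Agent.Classification.BGFour

/-!
# Overgroups of the centralizer of an involution, Klein four Sylow 2-subgroups
-/

set_option autoImplicit false
set_option linter.unusedSectionVars false

namespace Cfsg.Agent.Classification.BGMainFour

open DihedralGroup Cfsg Cfsg.Agent.Classification.BGDefs Cfsg.Agent.Classification.BGBasic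
  Cfsg.Agent.Classification.BGOrder Cfsg.Agent.Classification.BGOvergroup

/-- A Klein four-group is isomorphic to `DihedralGroup (2 ^ 1)`. -/
theorem nonempty_equiv_of_four {K : Type*} [Group K] (hK : IsKleinFour K) :
    Nonempty (K ≃* DihedralGroup (2 ^ 1)) := by
  have h2 : IsKleinFour (DihedralGroup (2 ^ 1)) := by
    rw [pow_one]; infer_instance
  exact IsKleinFour.nonempty_mulEquiv

theorem isKleinFour_of_equiv {K L : Type*} [Group K] [Group L] (e : K ≃* L)
    (hK : IsKleinFour K) : IsKleinFour L := by
  refine ⟨?_, ?_⟩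
  · rw [← Nat.card_congr e.toEquiv]; exact hK.card_four
  · rw [← Monoid.exponent_eq_of_mulEquiv e]; exact hK.exponent_two

/-- **Overgroups of `C(t)`** for a Klein four Sylow 2-subgroup: if `C(t) ≤ M` and both `G` and `M`
have one class of involutions, then `M = G` or `|G : M| = 5`. -/
theorem overgroup_of_four {G : Type*} [Group G] [Finite G] (P : Sylow 2 G)
    (hP : IsKleinFour (P : Subgroup G))
    (hone : ∀ x y : G, orderOf x = 2 → orderOf y = 2 → IsConj x y) (t : G) (ht : orderOf t = 2)
    (M : Subgroup G) (hM : Subgroup.centralizer ({t} : Set G) ≤ M)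
    (honeM : ∀ x y : M, orderOf x = 2 → orderOf y = 2 → IsConj x y) :
    M = ⊤ ∨ M.index = 5 := by
  obtain ⟨π, h⟩ := BGStructure.exists_hyp P 1 le_rfl (nonempty_equiv_of_four hP) hone t ht
  have hcard : Nat.card P = 2 * 2 ^ 1 := by
    have := hP.card_four
    rw [pow_one]
    exact this
  have hodd : Odd M.index := BGSylow.odd_index_of_le h P hcard M hM
  obtain ⟨Q, ⟨e⟩⟩ := BGSylow.exists_sylow_equiv P M hodd
  exact BGFour.index_eq_five h P hP (BGValues.kcount_pos h _) M hM honeM hodd Q
    (isKleinFour_of_equiv e.symm hP)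

end Cfsg.Agent.Classification.BGMainFour
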