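import Mathlib
import Cfsg.Agent.Classification.TypeZ.Comp
import Cfsg.Agent.Classification.TypeB.Main
import Cfsg.Agent.Classification.BGMainFour
import Cfsg.Agent.Classification.DihLift
import Cfsg.Agent.S0494
import Cfsg.Agent.S0493
import Cfsg.Agent.S0253
import Cfsg.Agent.S0508
import Cfsg.Agent.ClassicalGeometry.PSL2Basic

/-!
# Overgroups of the centraliser of an involution in the Gorenstein–Walter theorem

`G` finite simple with dihedral Sylow 2-subgroups and `SubAlt G`.
-/

set_option autoImplicit false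

namespace Cfsg.Agent.Classification.GWAbove

open Subgroup Cfsg
open Cfsg.Agent.Classification.DihedralCentral Cfsg.Agent.Classification.TransferSign
open Cfsg.Agent.Classification.DihReduction Cfsg.Agent.Classification.DihStructure
open Cfsg.Agent.Classification.DihMinimal Cfsg.Agent.Classification.GWDefs
open Cfsg.Agent.TwoFusion.DihedralFusion Cfsg.Agent.TwoFusion.DihedralSylow
open Cfsg.Agent.Classification.TypeB.Basic

universe u

section basics

variable {G : Type*} [Group G]

theorem card_eq_of_dihedral [Finite G] (S : Sylow 2 G) (n : ℕ)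
    (hS : Nonempty ((S : Subgroup G) ≃* DihedralGroup n)) : Nat.card (S : Subgroup G) = 2 * n := by
  obtain ⟨e⟩ := hS
  rw [Nat.card_congr e.toEquiv, DihedralGroup.nat_card]

/-- `n` is a power of two. -/
theorem exists_pow [Finite G] (S : Sylow 2 G) (n : ℕ) (hn : 2 ≤ n)
    (hS : Nonempty ((S : Subgroup G) ≃* DihedralGroup n)) : ∃ m, 1 ≤ m ∧ n = 2 ^ m := by
  have hc := card_eq_of_dihedral S n hS
  obtain ⟨k, hk⟩ := IsPGroup.iff_card.1 S.2
  have hk' : 2 ^ k = 2 * n := by rw [← hc]; exact hk.symm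
  rcases k with _ | _ | k
  · omega
  · omega
  · refine ⟨k + 1, by omega, ?_⟩
    rw [pow_succ] at hk'
    omega

theorem four_dvd_card [Finite G] (S : Sylow 2 G) (n : ℕ) (hn : 2 ≤ n)
    (hS : Nonempty ((S : Subgroup G) ≃* DihedralGroup n)) : 4 ∣ Nat.card G := by
  obtain ⟨m, hm, rfl⟩ := exists_pow S n hn hS
  have hc := card_eq_of_dihedral S _ hS
  obtain ⟨m, rfl⟩ := Nat.exists_eq_add_of_le hm
  have h1 : 4 ∣ Nat.card (S : Subgroup G) := by
    rw [hc, pow_add]
    exact ⟨2 ^ m, by ring⟩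
  exact h1.trans (card_subgroup_dvd_card _)

theorem index_ne_two [Finite G] [IsSimpleGroup G] (h4 : 4 ∣ Nat.card G) (H : Subgroup G) :
    H.index ≠ 2 := by
  intro h
  have hn : H.Normal := normal_of_index_eq_two h
  have h1 := H.card_mul_index
  rcases hn.eq_bot_or_eq_top with h2 | h2
  · rw [h2, card_bot, h2.symm, h] at h1
    rw [← h1] at h4
    omega
  · rw [h2, index_top] at h
    omega

/-- A simple group with dihedral Sylow 2-subgroups has one class of involutions. -/
theorem isConj_of_simple [Finite G] [IsSimpleGroup G] (S : Sylow 2 G) (n : ℕ) (hn : 2 ≤ n)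
    (hS : Nonempty ((S : Subgroup G) ≃* DihedralGroup n)) (u v : G) (hu : orderOf u = 2)
    (hv : orderOf v = 2) : IsConj u v := by
  obtain ⟨m, r, z, hD⟩ := exists_dihData_sylow S n hn hS
  have h4 := four_dvd_card S n hn hS
  have h1 := isConj_z_of_no_index_two S hD (fun H => index_ne_two h4 H) u hu
  have h2 := isConj_z_of_no_index_two S hD (fun H => index_ne_two h4 H) v hv
  exact h1.trans h2.symm

theorem not_isMulCommutative [Finite G] [hs : IsSimpleGroup G] (h4 : 4 ∣ Nat.card G) :
    ¬ IsMulCommutative G := by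
  intro h
  let _ : CommGroup G := { (inferInstance : Group G) with mul_comm := h.is_comm.comm }
  have h1 : (Nat.card G).Prime := IsSimpleGroup.prime_card
  have h2 : 2 ∣ Nat.card G := (by decide : 2 ∣ 4).trans h4
  have h3 := (Nat.prime_dvd_prime_iff_eq Nat.prime_two h1).1 h2
  rw [← h3] at h4
  omega

/-- Every involution of a dihedral 2-group of order at least four commutes with another one. -/
theorem exists_commuting [Finite G] (S : Sylow 2 G) (n : ℕ) (hn : 2 ≤ n)
    (hS : Nonempty ((S : Subgroup G) ≃* DihedralGroup n)) (a : G) (ha : orderOf a = 2) :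
    ∃ v : G, orderOf v = 2 ∧ v ≠ a ∧ v * a = a * v := by
  have : Fact (Nat.Prime 2) := ⟨Nat.prime_two⟩
  obtain ⟨m, r, z, hD⟩ := exists_dihData_sylow S n hn hS
  have ha2 : IsPGroup 2 (zpowers a) := by
    rw [IsPGroup.iff_card]
    exact ⟨1, by rw [Nat.card_zpowers, ha, pow_one]⟩
  obtain ⟨Q, hQ⟩ := ha2.exists_le_sylow
  obtain ⟨g, hg⟩ := MulAction.exists_smul_eq G Q S
  have hgaS : g * a * g⁻¹ ∈ (S : Subgroup G) := by
    rw [← hg]
    rw [Sylow.coe_subgroup_smul, Subgroup.mem_pointwise_smul_iff_inv_smul_mem]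
    have : (MulAut.conj g)⁻¹ • (g * a * g⁻¹) = a := by
      rw [MulAut.smul_def, ← map_inv, MulAut.conj_apply]
      group
    rw [this]
    exact hQ (mem_zpowers a)
  -- the statement is invariant under conjugation
  suffices h : ∃ v : G, orderOf v = 2 ∧ v ≠ g * a * g⁻¹ ∧ v * (g * a * g⁻¹) = (g * a * g⁻¹) * v by
    obtain ⟨v, hv, hne, hc⟩ := h
    refine ⟨g⁻¹ * v * g, ?_, ?_, ?_⟩
    · have h1 := DihLift.orderOf_conj' g⁻¹ v
      rw [inv_inv] at h1
      rw [h1, hv]
    · intro h
      apply hne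
      rw [← h]
      group
    · calc g⁻¹ * v * g * a = g⁻¹ * (v * (g * a * g⁻¹)) * g := by group
        _ = g⁻¹ * ((g * a * g⁻¹) * v) * g := by rw [hc]
        _ = _ := by group
  by_cases haz : g * a * g⁻¹ = z
  · obtain ⟨t, htS, ht⟩ := hD.exists_refl
    refine ⟨t, orderOf_eq_prime (by rw [sq]; exact hD.refl_sq t htS ht) ?_, ?_, ?_⟩
    · rintro rfl
      exact ht (one_mem _)
    · rw [haz]
      rintro rfl
      exact ht hD.z_mem
    · rw [haz]
      exact hD.z_comm t htS
  · exact ⟨z, orderOf_eq_prime (by rw [sq]; exact hD.z_sq) hD.z_ne, Ne.symm haz,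
      (hD.z_comm _ hgaS).symm⟩

/-- `X / O(X)` a 2-group implies that products of odd order elements have odd order. -/
theorem oddClosed_of_quotient {X : Type*} [Group X] [Finite X]
    (h : IsPGroup 2 (X ⧸ Cfsg.oddCore X)) : OddClosed X := by
  have hodd : Odd (Nat.card (Cfsg.oddCore X)) := odd_card_oddCore X
  have key : ∀ x : X, Odd (orderOf x) → x ∈ Cfsg.oddCore X := by
    intro x hx
    rw [← QuotientGroup.eq_one_iff, ← orderOf_eq_one_iff, ← Nat.dvd_one]
    obtain ⟨k, hk⟩ := IsPGroup.iff_card.1 h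
    have h2 : orderOf (x : X ⧸ Cfsg.oddCore X) ∣ orderOf x :=
      orderOf_map_dvd (QuotientGroup.mk' (Cfsg.oddCore X)) x
    have h3 : orderOf (x : X ⧸ Cfsg.oddCore X) ∣ 2 ^ k := by
      rw [← hk]
      exact orderOf_dvd_natCard _
    have h4 : Nat.Coprime (orderOf x) (2 ^ k) :=
      Nat.Coprime.pow_right k (Nat.coprime_two_right.2 hx)
    rw [← h4.gcd_eq_one]
    exact Nat.dvd_gcd h2 h3
  intro x y hx hy
  have h1 : x * y ∈ Cfsg.oddCore X := mul_mem (key x hx) (key y hy)
  have h2 : orderOf (⟨x * y, h1⟩ : Cfsg.oddCore X) ∣ Nat.card (Cfsg.oddCore X) :=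
    orderOf_dvd_natCard _
  rw [Subgroup.orderOf_mk] at h2
  exact hodd.of_dvd_nat h2

/-- The involutions of a self-centralising normal four-group of index divisible by three are
conjugate. -/
theorem conj_of_kleinFour {Y : Type*} [Group Y] [Finite Y] (V : Subgroup Y) (hn : V.Normal)
    (hV : IsKleinFour V) (hc : centralizer (V : Set Y) = V) (h3 : 3 ∣ V.index) (a b : Y)
    (ha : a ∈ V) (hb : b ∈ V) (ha1 : a ≠ 1) (hb1 : b ≠ 1) : ∃ c, c * a * c⁻¹ = b := by
  have : Fact (Nat.Prime 3) := ⟨Nat.prime_three⟩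
  have h3Y : 3 ∣ Nat.card Y := h3.trans V.index_dvd_card
  obtain ⟨y, hy⟩ := exists_prime_orderOf_dvd_card' (G := Y) 3 h3Y
  have hy3 : y ^ 3 = 1 := by rw [← hy]; exact pow_orderOf_eq_one y
  have hsq : ∀ x ∈ V, x * x = 1 := fun x hx => sq_of_isKleinFour hV hx
  have hyV : y ∉ V := by
    intro h
    have h1 := hsq y h
    have h2 : y = 1 := by
      calc y = y ^ 3 * (y * y)⁻¹ := by rw [pow_succ, sq]; group
        _ = 1 := by rw [hy3, h1]; group
    rw [h2, orderOf_one] at hy
    omega
  have hcomm : ∀ p ∈ V, ∀ q ∈ V, p * q = q * p := fun p hp q hq => comm_of_isKleinFour hV hp hq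
  have hconj : ∀ x ∈ V, y * x * y⁻¹ ∈ V := fun x hx => hn.conj_mem x hx y
  have hex : ∀ p q : Y, p ∈ V → q ∈ V → p ≠ 1 → q ≠ 1 → p ≠ q → ∀ x ∈ V,
      x = 1 ∨ x = p ∨ x = q ∨ x = p * q := by
    intro p q hp hq hp1 hq1 hpq x hx
    have h4 : Nat.card (fourGroup p q (hsq p hp) (hsq q hq) (hcomm p hp q hq)) = 4 :=
      (isKleinFour_fourGroup _ _ _ hp1 hq1 hpq).card_four
    have h5 : fourGroup p q (hsq p hp) (hsq q hq) (hcomm p hp q hq) = V := by
      apply Subgroup.eq_of_le_of_card_ge (fourGroup_le _ _ _ hp hq)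
      rw [h4, hV.card_four]
    rw [← h5, mem_fourGroup] at hx
    exact hx
  -- an element `w` of order 3 fixes no involution of `V`
  have hfix : ∀ w : Y, w ^ 3 = 1 → w ∉ V → ∀ x ∈ V, x ≠ 1 → w * x * w⁻¹ ≠ x := by
    intro w hw3 hwV x hx hx1 hwx
    apply hwV
    rw [← hc, mem_centralizer_iff]
    have hwx' : x * w = w * x := by
      calc x * w = (w * x * w⁻¹) * w := by rw [hwx]
        _ = _ := by group
    intro p hp
    by_cases hp1 : p = 1
    · rw [hp1, one_mul, mul_one]
    by_cases hpx : p = x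
    · rw [hpx]; exact hwx'
    have h1 := hex x p hx hp hx1 hp1 (Ne.symm hpx) _ (hn.conj_mem p hp w)
    rcases h1 with h1 | h1 | h1 | h1
    · exfalso
      apply hp1
      calc p = w⁻¹ * (w * p * w⁻¹) * w := by group
        _ = 1 := by rw [h1]; group
    · exfalso
      apply hpx
      calc p = w⁻¹ * (w * p * w⁻¹) * w := by group
        _ = w⁻¹ * x * w := by rw [h1]
        _ = w⁻¹ * (x * w) := by group
        _ = x := by rw [hwx']; group
    · calc p * w = (w * p * w⁻¹) * w := by rw [h1]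
        _ = w * p := by group
    · exfalso
      have h2 : w * (x * p) * w⁻¹ = p := by
        calc w * (x * p) * w⁻¹ = (w * x * w⁻¹) * (w * p * w⁻¹) := by group
          _ = x * (x * p) := by rw [hwx, h1]
          _ = (x * x) * p := by group
          _ = p := by rw [hsq x hx, one_mul]
      have h3 : w ^ 3 * p * (w ^ 3)⁻¹ = x * p := by
        calc w ^ 3 * p * (w ^ 3)⁻¹ = w * (w * (w * p * w⁻¹) * w⁻¹) * w⁻¹ := by
              rw [pow_succ, sq]; group
          _ = x * p := by rw [h1, h2, h1]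
      rw [hw3] at h3
      apply hx1
      have h4 : p = x * p := by simpa using h3
      exact (mul_eq_right.1 h4.symm)
  have hy' : (y⁻¹) ^ 3 = 1 := by rw [inv_pow, hy3, inv_one]
  have hyV' : y⁻¹ ∉ V := fun h => hyV (by simpa using inv_mem h)
  by_cases hab : a = b
  · exact ⟨1, by rw [hab]; group⟩
  have h1 := hex a b ha hb ha1 hb1 hab _ (hconj a ha)
  have hne1 : y * a * y⁻¹ ≠ 1 := by
    intro h
    apply ha1
    calc a = y⁻¹ * (y * a * y⁻¹) * y := by group
      _ = 1 := by rw [h]; group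
  rcases h1 with h1 | h1 | h1 | h1
  · exact absurd h1 hne1
  · exact absurd h1 (hfix y hy3 hyV a ha ha1)
  · exact ⟨y, h1⟩
  · refine ⟨y⁻¹, ?_⟩
    have h2 : y⁻¹ * a * (y⁻¹)⁻¹ ∈ V := hn.conj_mem a ha _
    have hab1 : a * b ≠ 1 := h1 ▸ hne1
    rcases hex a b ha hb ha1 hb1 hab _ h2 with h3 | h3 | h3 | h3
    · exfalso
      apply ha1
      calc a = y * (y⁻¹ * a * (y⁻¹)⁻¹) * y⁻¹ := by group
        _ = 1 := by rw [h3]; group
    · exact absurd h3 (hfix _ hy' hyV' a ha ha1)
    · exact h3
    · exfalso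
      -- `y` would swap `a` and `a * b`
      have h4 : y * (a * b) * y⁻¹ = a := by
        rw [← h3]; group
      have h5 : y ^ 3 * a * (y ^ 3)⁻¹ = a * b := by
        calc y ^ 3 * a * (y ^ 3)⁻¹ = y * (y * (y * a * y⁻¹) * y⁻¹) * y⁻¹ := by
              rw [pow_succ, sq]; group
          _ = a * b := by rw [h1, h4, h1]
      rw [hy3] at h5
      apply hb1
      have h6 : a = a * b := by simpa using h5
      exact (mul_eq_left.1 h6.symm)

end basics

section cases

/-- The alternatives for an overgroup of the centraliser of an involution. -/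
theorem cases_of_dihAlt {Y : Type u} [Group Y] [Finite Y] (h : DihAlt Y) :
    IsPGroup 2 Y ∨ ∃ N : Subgroup Y, N.Normal ∧
      (∀ a b : Y, a ∈ N → b ∈ N → orderOf a = 2 → orderOf b = 2 → ∃ c, c * a * c⁻¹ = b) ∧
      (∀ a : Y, a ∈ N → orderOf a = 2 → ∃ v ∈ N, orderOf v = 2 ∧ v ≠ a ∧ v * a = a * v) ∧
      (Odd N.index ∨ ∃ m, Odd m ∧ N.index = 2 * m) ∧ 4 ∣ Nat.card N := by
  rcases h with h | ⟨V, hn, hV, hc, hi⟩ | ⟨L, hn, hs, -, h4, -, S, m, hm, hS⟩
  · exact Or.inl h
  · right
    refine ⟨V, hn, ?_, ?_, ?_, by rw [hV.card_four]⟩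
    · intro a b ha hb ha2 hb2
      refine conj_of_kleinFour V hn hV hc ?_ a b ha hb ?_ ?_
      · rcases hi with h1 | h1
        · rw [h1]
        · rw [h1]; decide
      · rintro rfl; rw [orderOf_one] at ha2; omega
      · rintro rfl; rw [orderOf_one] at hb2; omega
    · intro a ha ha2
      have ha1 : a ≠ 1 := by rintro rfl; rw [orderOf_one] at ha2; omega
      -- a third element of `V`
      obtain ⟨v, hv, hv1, hva⟩ : ∃ v ∈ V, v ≠ 1 ∧ v ≠ a := by
        by_contra hcon
        push Not at hcon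
        have h1 : (V : Set Y) ⊆ {1, a} := by
          intro x hx
          by_cases hx1 : x = 1
          · left; exact hx1
          · right; exact hcon x hx hx1
        have h2 := Set.ncard_le_ncard h1 (Set.toFinite _)
        have h3 : ({1, a} : Set Y).ncard ≤ 2 :=
          (Set.ncard_insert_le _ _).trans (by rw [Set.ncard_singleton])
        have h4 : (V : Set Y).ncard = Nat.card V := (Nat.card_coe_set_eq _).symm
        have h5 : Nat.card V = 4 := hV.card_four
        omega
      exact ⟨v, hv, orderOf_eq_prime (by rw [sq]; exact sq_of_isKleinFour hV hv) hv1, hva,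
        comm_of_isKleinFour hV hv ha⟩
    · rcases hi with h1 | h1
      · left; rw [h1]; decide
      · right; exact ⟨3, by decide, h1⟩
  · right
    have := hs
    refine ⟨L, hn, ?_, ?_, ?_, four_dvd_card S m hm hS⟩
    · intro a b ha hb ha2 hb2
      have h1 := isConj_of_simple S m hm hS ⟨a, ha⟩ ⟨b, hb⟩ (by rwa [Subgroup.orderOf_mk])
        (by rwa [Subgroup.orderOf_mk])
      obtain ⟨c, hc⟩ := isConj_iff.1 h1
      exact ⟨c, congrArg Subtype.val hc⟩
    · intro a ha ha2
      obtain ⟨v, hv, hne, hc⟩ := exists_commuting S m hm hS ⟨a, ha⟩ (by rwa [Subgroup.orderOf_mk])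
      exact ⟨v, v.2, by rwa [Subgroup.orderOf_coe], fun h => hne (Subtype.ext h),
        congrArg Subtype.val hc⟩
    · by_cases ho : Odd L.index
      · exact Or.inl ho
      · right
        rw [Nat.not_odd_iff_even, even_iff_two_dvd] at ho
        obtain ⟨m, hm⟩ := ho
        refine ⟨m, ?_, hm⟩
        by_contra hmo
        rw [Nat.not_odd_iff_even, even_iff_two_dvd] at hmo
        obtain ⟨k, rfl⟩ := hmo
        apply h4
        exact ⟨k, by rw [hm]; ring⟩

/-- If the normal subgroup `N` of `Y` has odd index and the involutions of `N` are conjugate in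
`Y`, the same holds for the involutions of `X`, `ρ : X →* Y` with odd kernel. -/
theorem conj_of_odd_index {X Y : Type*} [Group X] [Finite X] [Group Y] [Finite Y] (ρ : X →* Y)
    (hρ : Function.Surjective ρ) (hker : Odd (Nat.card ρ.ker)) (N : Subgroup Y) (hN : N.Normal)
    (hNc : ∀ a b : Y, a ∈ N → b ∈ N → orderOf a = 2 → orderOf b = 2 → ∃ c, c * a * c⁻¹ = b)
    (hi : Odd N.index) (x y : X) (hx : orderOf x = 2) (hy : orderOf y = 2) : IsConj x y := by
  have key : ∀ a : Y, orderOf a = 2 → a ∈ N := by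
    intro a ha
    rw [← QuotientGroup.eq_one_iff, ← orderOf_eq_one_iff, ← Nat.dvd_one]
    have h2 : orderOf (a : Y ⧸ N) ∣ orderOf a := orderOf_map_dvd (QuotientGroup.mk' N) a
    have h3 : orderOf (a : Y ⧸ N) ∣ Nat.card (Y ⧸ N) := orderOf_dvd_natCard _
    have h4 : Nat.Coprime 2 (Nat.card (Y ⧸ N)) := Nat.coprime_two_left.2 hi
    rw [ha] at h2
    rw [← h4.gcd_eq_one]
    exact Nat.dvd_gcd h2 h3
  have h1 := DihLift.orderOf_map ρ hker hx
  have h2 := DihLift.orderOf_map ρ hker hy
  obtain ⟨c, hc⟩ := hNc (ρ x) (ρ y) (key _ h1) (key _ h2) h1 h2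
  exact isConj_iff.2 (DihLift.conj_of_map_conj ρ hρ hker hx hy hc)

end cases

section five

/-- A nonabelian finite simple group with a subgroup of index five is `PSL(2, 5)`. -/
theorem gwConcl_of_index_five {G : Type u} [Group G] [Finite G] [IsSimpleGroup G]
    (hna : ¬ IsMulCommutative G) (M : Subgroup G) (hM : M.index = 5) : GWConcl G := by
  have hMt : M ≠ ⊤ := by
    rintro rfl
    rw [index_top] at hM
    omega
  have hex := Cfsg.Agent.S0991.result hna M hMt
  rw [hM] at hex
  obtain ⟨f, hf⟩ := hex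
  have hA5 : Nat.card (alternatingGroup (Fin 5)) = 60 := by
    have h2 : 2 * Nat.card (alternatingGroup (Fin 5)) = 120 := by
      rw [Nat.card_eq_fintype_card, two_mul_card_alternatingGroup, Fintype.card_perm,
        Fintype.card_fin]
      rfl
    omega
  have hle : Nat.card G ≤ 60 := by
    rw [← hA5]
    exact Nat.card_le_card_of_injective f hf
  have hnc : ¬ IsCyclic G := by
    intro h
    apply hna
    let _ := IsCyclic.commGroup (α := G)
    infer_instance
  have h60 : Nat.card G = 60 := Cfsg.Agent.S0493.result hnc (by omega)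
  obtain ⟨e⟩ := Cfsg.Agent.S0494.result h60
  obtain ⟨e'⟩ := Cfsg.Agent.S0253.psl_zmod5
  have : Fact (Nat.Prime 5) := ⟨by norm_num⟩
  left
  exact ⟨ZMod 5, inferInstance, inferInstance, by rw [ZMod.card]; decide, by rw [ZMod.card]; omega,
    ⟨e.trans e'.symm⟩⟩

end five

section four

variable {G : Type u} [Group G] [Finite G] [IsSimpleGroup G]

/-- The case of Sylow 2-subgroups of order four. -/
theorem above_four (S : Sylow 2 G) (hS : Nonempty ((S : Subgroup G) ≃* DihedralGroup 2))
    (hA : SubAlt G) : GWConcl G ∨ ∀ w, IsInv w → ∀ X : Subgroup G, X ≠ ⊤ →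
      centralizer ({w} : Set G) ≤ X → OddClosed X := by
  by_cases hG : GWConcl G
  · exact Or.inl hG
  right
  intro w hw X hX hwX
  have h4 := four_dvd_card S 2 le_rfl hS
  have hna := not_isMulCommutative h4
  have hcS : Nat.card (S : Subgroup G) = 4 := by rw [card_eq_of_dihedral S 2 hS]
  have hV : IsKleinFour (S : Subgroup G) := by
    obtain ⟨e⟩ := hS
    exact BGMainFour.isKleinFour_of_equiv e.symm (by infer_instance)
  have hone : ∀ x y : G, orderOf x = 2 → orderOf y = 2 → IsConj x y :=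
    fun x y => isConj_of_simple S 2 le_rfl hS x y
  rcases cases_of_dihAlt (hA X hX) with h | ⟨N, hN, hNc, -, hi, hN4⟩
  · exact oddClosed_of_quotient h
  exfalso
  -- `|X : N|` is odd, as `|X|` is not divisible by `8`
  have hi' : Odd N.index := by
    rcases hi with hi | ⟨m, hm, hi⟩
    · exact hi
    exfalso
    have h8 : 2 ^ 3 ∣ Nat.card G := by
      have h1 : Nat.card N * N.index = Nat.card (X ⧸ Cfsg.oddCore X) := N.card_mul_index
      have h2 : Nat.card (X ⧸ Cfsg.oddCore X) ∣ Nat.card X := (Cfsg.oddCore X).index_dvd_card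
      have h3 : Nat.card X ∣ Nat.card G := card_subgroup_dvd_card X
      refine Dvd.dvd.trans ?_ (h2.trans h3)
      rw [← h1, hi]
      obtain ⟨k, hk⟩ := hN4
      rw [hk]
      exact ⟨k * m, by ring⟩
    have h9 : 2 ^ 3 ∣ Nat.card (S : Subgroup G) := S.pow_dvd_card_of_pow_dvd_card h8
    rw [hcS] at h9
    omega
  have honeX : ∀ x y : X, orderOf x = 2 → orderOf y = 2 → IsConj x y := by
    refine conj_of_odd_index (QuotientGroup.mk' (Cfsg.oddCore X))
      (QuotientGroup.mk'_surjective _) ?_ N hN hNc hi'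
    rw [QuotientGroup.ker_mk']
    exact odd_card_oddCore X
  rcases BGMainFour.overgroup_of_four S hV hone w hw.orderOf_eq X hwX honeX with h | h
  · exact hX h
  · exact hG (gwConcl_of_index_five hna X h)

end four

section core

/-- A simple group `PSL(2, F)`, `|F|` odd, whose order is divisible by four satisfies `GWConcl`. -/
theorem gwConcl_of_psl {G : Type u} [Group G] [Finite G] [IsSimpleGroup G] (h4 : 4 ∣ Nat.card G)
    {F : Type} [Field F] [Fintype F] (hodd : Odd (Fintype.card F))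
    (e : G ≃* Matrix.ProjectiveSpecialLinearGroup (Fin 2) F) : GWConcl G := by
  have hna := not_isMulCommutative h4
  left
  refine ⟨F, inferInstance, inferInstance, hodd, ?_, ⟨e⟩⟩
  have h1 : 1 < Fintype.card F := Fintype.one_lt_card
  by_contra h3
  have h3' : Fintype.card F = 3 := by
    obtain ⟨k, hk⟩ := hodd
    omega
  have h12 : Nat.card G = 12 := by
    rw [Nat.card_congr e.toEquiv]
    have h := ClassicalGeometry.PSL2Basic.card_PSL2_odd F hodd
    rw [h3'] at h
    omega
  have hnc : ¬ IsCyclic G := by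
    intro h
    apply hna
    let _ := IsCyclic.commGroup (α := G)
    infer_instance
  have h60 := Cfsg.Agent.S0493.result hnc (by omega)
  omega

/-- `O(C(t)) = 1`: the theorem of Brauer, Suzuki and Wall. -/
theorem gwConcl_of_core {G : Type u} [Group G] [Finite G] [IsSimpleGroup G] (S : Sylow 2 G) (n : ℕ)
    (hn : 2 ≤ n) (hS : Nonempty ((S : Subgroup G) ≃* DihedralGroup n)) {t : G} (ht : IsInv t)
    (htS : t ∈ (S : Subgroup G)) (htZ : ∀ s ∈ (S : Subgroup G), s * t = t * s)
    (hO : Cfsg.oddCore (centralizer ({t} : Set G)) = ⊥) : GWConcl G := by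
  have h4 := four_dvd_card S n hn hS
  obtain ⟨F, i1, i2, hodd, ⟨e⟩⟩ := Cfsg.Agent.S0508.result S n hn hS t ht.orderOf_eq htS htZ ⊥
    (by rw [hO, Subgroup.map_bot]) (fun h => absurd rfl h) (by
      intro s _ hs
      exact absurd (by rw [mem_centralizer_iff]; rintro _ rfl; rw [one_mul, mul_one]) hs)
    (fun Y hY hY1 => absurd (le_bot_iff.1 hY) hY1)
  exact gwConcl_of_psl h4 hodd e

end core

section final

variable {G : Type u} [Group G] [Finite G] [IsSimpleGroup G]

/-- The hypothesis on overgroups of centralisers of involutions. -/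
def Above (G : Type u) [Group G] : Prop :=
  ∀ w : G, IsInv w → ∀ X : Subgroup G, X ≠ ⊤ → centralizer ({w} : Set G) ≤ X → OddClosed X

theorem above_def (G : Type u) [Group G] : Above G ↔ ∀ w : G, IsInv w → ∀ X : Subgroup G, X ≠ ⊤ →
    centralizer ({w} : Set G) ≤ X → OddClosed X := Iff.rfl

/-- The signalizer condition used for type B. -/
def SigHyp (G : Type u) [Group G] : Prop :=
  ∀ w : G, IsInv w → ∀ H : Subgroup G, H ≠ ⊤ → w ∈ H → ∀ B ≤ H, Odd (Nat.card B) →
    w ∈ normalizer (B : Set G) → H ⊓ centralizer ({w} : Set G) ≤ normalizer (B : Set G) →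
    ⁅B, zpowers w⁆ ≤ TypeB.Core.oc H

theorem sigHyp_def (G : Type u) [Group G] : SigHyp G ↔ ∀ w : G, IsInv w → ∀ H : Subgroup G,
    H ≠ ⊤ → w ∈ H → ∀ B ≤ H, Odd (Nat.card B) → w ∈ normalizer (B : Set G) →
    H ⊓ centralizer ({w} : Set G) ≤ normalizer (B : Set G) →
    ⁅B, zpowers w⁆ ≤ TypeB.Core.oc H := Iff.rfl

/-- From `Above` and the signalizer condition to type Z. -/
theorem exists_zhyp (hFT : OddOrder.{u}) (S : Sylow 2 G) (n : ℕ) (hn : 2 ≤ n)
    (hS : Nonempty ((S : Subgroup G) ≃* DihedralGroup n)) (hA : SubAlt G) (hab : Above G)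
    (hsig : SigHyp G) : ∃ t : G, t ∈ (S : Subgroup G) ∧ (∀ s ∈ (S : Subgroup G), s * t = t * s) ∧
      TypeZ.Bender.ZHyp G t := by
  obtain ⟨m, r, z, hD⟩ := exists_dihData_sylow S n hn hS
  obtain ⟨u, huS, hur⟩ := hD.exists_refl
  have hsub : SubDihedral G := subDihedral_of_sylow S n hS.some
  have h4 := four_dvd_card S n hn hS
  have hz : IsInv z := ⟨hD.z_sq, hD.z_ne⟩
  have hone : ∀ x y : G, IsInv x → IsInv y → IsConj x y :=
    fun x y hx hy => isConj_of_simple S n hn hS x y hx.orderOf_eq hy.orderOf_eq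
  have hyp : TypeB.Main.Hyp S z u :=
    { sub := hsub
      simple := fun N hN => hN.eq_bot_or_eq_top
      solv := fun X hX => hFT X hX
      trans := fun x y hx hy => isConj_iff.1 (hone x y hx hy)
      memt := hD.zpowers_le hD.z_mem
      memu := huS
      invt := hz
      invu := ⟨hD.refl_sq u huS hur, fun h => hur (h ▸ one_mem _)⟩
      ne := fun h => hur (h ▸ hD.z_mem)
      central := hD.z_comm
      above := hab
      sig := hsig }
  exact ⟨z, hD.zpowers_le hD.z_mem, hD.z_comm,
    ⟨hFT, inferInstance, not_isMulCommutative h4, hsub, hA, hone, hz, hyp.isCoatom_centralizer⟩⟩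

open Cfsg.Agent.Classification.TypeZ.Bender in
/-- If `O(C(t)) = 1` for one involution `t`, then `G` is `PSL(2, q)`. -/
theorem gwConcl_of_Kc (S : Sylow 2 G) (n : ℕ) (hn : 2 ≤ n)
    (hS : Nonempty ((S : Subgroup G) ≃* DihedralGroup n)) {t : G} (ht : IsInv t)
    (hK : Kc t = ⊥) : GWConcl G := by
  obtain ⟨m, r, z, hD⟩ := exists_dihData_sylow S n hn hS
  have hsub : SubDihedral G := subDihedral_of_sylow S n hS.some
  have hz : IsInv z := ⟨hD.z_sq, hD.z_ne⟩
  obtain ⟨g, hg⟩ := isConj_iff.1 (isConj_of_simple S n hn hS t z ht.orderOf_eq hz.orderOf_eq)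
  have h1 : Kc z = ⊥ := by
    rw [← hg, ← conj_Kc hsub ht, hK, Subgroup.map_bot]
  have h2 : Cfsg.oddCore (centralizer ({z} : Set G)) = ⊥ := by
    rw [kc_def, TypeZ.Comp.oc_eq_map] at h1
    exact (Subgroup.map_eq_bot_iff_of_injective _ (Subtype.val_injective)).1 h1
  exact gwConcl_of_core S n hn hS hz (hD.zpowers_le hD.z_mem) hD.z_comm h2

/-- The reduction to type Z: `hE` is the result on type A for Sylow 2-subgroups of order at least
eight. -/
theorem gw_or_zhyp (hFT : OddOrder.{u}) (S : Sylow 2 G) (n : ℕ) (hn : 2 ≤ n)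
    (hS : Nonempty ((S : Subgroup G) ≃* DihedralGroup n)) (hA : SubAlt G) (hsig : SigHyp G)
    (hE : 4 ≤ n → GWConcl G ∨ (∃ t : G, IsInv t ∧ TypeZ.Bender.Kc t = ⊥) ∨ Above G) :
    GWConcl G ∨ ∃ t : G, t ∈ (S : Subgroup G) ∧ (∀ s ∈ (S : Subgroup G), s * t = t * s) ∧
      TypeZ.Bender.ZHyp G t := by
  by_cases h2 : n = 2
  · subst h2
    rcases above_four S hS hA with h | h
    · exact Or.inl h
    · exact Or.inr (exists_zhyp hFT S 2 hn hS hA h hsig)
  · have h4 : 4 ≤ n := by
      obtain ⟨m, hm, rfl⟩ := exists_pow S n hn hS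
      rcases m with _ | _ | m
      · omega
      · omega
      · rw [pow_add]
        have : 0 < 2 ^ m := by positivity
        omega
    rcases hE h4 with h | ⟨t, ht, hK⟩ | h
    · exact Or.inl h
    · exact Or.inl (gwConcl_of_Kc S n hn hS ht hK)
    · exact Or.inr (exists_zhyp hFT S n hn hS hA h hsig)

end final

end Cfsg.Agent.Classification.GWAbove
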