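import Mathlib
import Cfsg.Agent.Classification.GWAbove
import Cfsg.Agent.Classification.DihTypeAMain
import Cfsg.Agent.Classification.GWSolvable.FourEnd
import Cfsg.Agent.Classification.GWSolvable.LocInst
import Cfsg.Agent.Classification.GWSolvable.Induct
import Cfsg.Agent.Classification.TypeB.Sig

/-!
# Assembly of the Gorenstein–Walter theorem (S0483) and of its `N`-group version

* `typeA`: `|S| ≥ 8`: `GWConcl G`, or `O(C(t)) = 1`, or every proper overgroup of the centraliser
  of an involution has a normal 2-complement;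
* `gw_or_zhyp`: `GWConcl G` or type Z;
* `main`: S0483 from the theorem on type Z;
* `nGroup`: the `N`-group version.
-/

set_option autoImplicit false

namespace Cfsg.Agent.Classification.GWMain

open Subgroup Cfsg
open Cfsg.Agent.Classification.DihedralCentral Cfsg.Agent.Classification.TransferSign
open Cfsg.Agent.Classification.DihReduction Cfsg.Agent.Classification.DihStructure
open Cfsg.Agent.Classification.DihMinimal Cfsg.Agent.Classification.GWDefs
open Cfsg.Agent.Classification.GWAbove Cfsg.Agent.Classification.TypeB.Basic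
open Cfsg.Agent.Classification.TypeZ.Bender Cfsg.Agent.Classification.BGDefs

universe u

theorem oddClosed_of_le {G : Type*} [Group G] {X M : Subgroup G} (hXM : X ≤ M)
    (h : OddClosed M) : OddClosed X := by
  rw [oddClosed_def] at h ⊢
  intro x y hx hy
  have h1 : ∀ z : X, orderOf (inclusion hXM z) = orderOf z :=
    fun z => orderOf_injective _ (inclusion_injective hXM) z
  have h2 := h (inclusion hXM x) (inclusion hXM y) (by rwa [h1]) (by rwa [h1])
  rwa [← map_mul, h1] at h2

/-- `O(C(t)) ≤ ker π` -/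
theorem Kc_eq_bot {G : Type*} [Group G] [Finite G] {t : G} {n : ℕ} [NeZero n]
    {π : (centralizer ({t} : Set G)) →* DihedralGroup n} (h : BGHyp t n π)
    (h1 : Nat.card π.ker = 1) : Kc t = ⊥ := by
  rw [eq_bot_iff]
  intro k hk
  have hkC := Kc_le t hk
  have h2 : (⟨k, hkC⟩ : centralizer ({t} : Set G)) ∈ π.ker := by
    rw [MonoidHom.mem_ker, ← orderOf_eq_one_iff, ← Nat.dvd_one]
    obtain ⟨m, -, hm⟩ := h.pow
    have h3 : orderOf (π ⟨k, hkC⟩) ∣ orderOf k := by
      have := orderOf_map_dvd π ⟨k, hkC⟩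
      rwa [Subgroup.orderOf_mk] at this
    have h4 : orderOf (π ⟨k, hkC⟩) ∣ 2 ^ (m + 1) := by
      have h5 : orderOf (π ⟨k, hkC⟩) ∣ Nat.card (DihedralGroup n) := orderOf_dvd_natCard _
      have h7 : Nat.card (DihedralGroup n) = 2 ^ (m + 1) := by
        rw [DihedralGroup.nat_card, hm, ← pow_succ']
      rwa [h7] at h5
    have h6 : Nat.Coprime (orderOf k) (2 ^ (m + 1)) := Nat.Coprime.pow_right _
      (Nat.coprime_two_right.2 (odd_orderOf_of_mem (odd_Kc t) hk))
    rw [← h6.gcd_eq_one]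
    exact Nat.dvd_gcd h3 h4
  rw [Subgroup.card_eq_one] at h1
  rw [h1, mem_bot] at h2
  exact congrArg Subtype.val h2

section

variable {G : Type u} [Group G] [Finite G] [IsSimpleGroup G]

/-- Type A. -/
theorem typeA (hFT : OddOrder.{u}) (S : Sylow 2 G) (n : ℕ) (hn : 4 ≤ n)
    (hS : Nonempty ((S : Subgroup G) ≃* DihedralGroup n)) (hA : SubAlt G) :
    GWConcl G ∨ (∃ t : G, IsInv t ∧ Kc t = ⊥) ∨ Above G := by
  let _ : Fintype G := Fintype.ofFinite G
  obtain ⟨m, hm, rfl⟩ := exists_pow S n (by omega) hS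
  by_cases h1 : GWConcl G
  · exact Or.inl h1
  by_cases h2 : ∃ t : G, IsInv t ∧ Kc t = ⊥
  · exact Or.inr (Or.inl h2)
  right; right
  intro w hw X hX hwX
  obtain ⟨π, hπ⟩ := BGStructure.exists_hyp S m hm hS
    (fun x y hx hy => isConj_of_simple S _ (by omega) hS x y hx hy) w hw.orderOf_eq
  obtain ⟨M, hMc, hXM⟩ : ∃ M : Subgroup G, IsCoatom M ∧ X ≤ M := by
    rcases eq_top_or_exists_le_coatom X with h | ⟨M, hM, hle⟩
    · exact absurd h hX
    · exact ⟨M, hM, hle⟩
  rcases DihTypeAMain.main hFT hA hn hπ S hS M hMc (hwX.trans hXM) with h | h | h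
  · exact absurd ⟨w, hw, Kc_eq_bot hπ h⟩ h2
  · exact absurd h h1
  · exact oddClosed_of_le hXM (oddClosed_of_quotient h)

/-- `GWConcl G` or type Z. -/
theorem gw_or_zhyp (hFT : OddOrder.{u}) (hsig : SigHyp G) (S : Sylow 2 G) (n : ℕ) (hn : 2 ≤ n)
    (hS : Nonempty ((S : Subgroup G) ≃* DihedralGroup n)) (hA : SubAlt G) :
    GWConcl G ∨ ∃ t : G, t ∈ (S : Subgroup G) ∧ (∀ s ∈ (S : Subgroup G), s * t = t * s) ∧
      ZHyp G t :=
  GWAbove.gw_or_zhyp hFT S n hn hS hA hsig (fun h => typeA hFT S n h hS hA)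

omit [IsSimpleGroup G] in
/-- Type Z for groups with solvable local subgroups. -/
theorem typeZ_solvable (hfix : GWSolvable.FourEnd.FixFour G) {t : G} (h : ZHyp G t)
    (hs : LocSol G) (S : Sylow 2 G) (n : ℕ) (hn : 2 ≤ n)
    (hS : Nonempty ((S : Subgroup G) ≃* DihedralGroup n)) (htS : t ∈ (S : Subgroup G))
    (hc : ∀ s ∈ (S : Subgroup G), s * t = t * s) : GWConcl G := by
  by_cases h2 : n = 2
  · subst h2
    exact GWSolvable.FourEnd.gwConcl_of_fixFour hfix h hs hS htS
      (fun s hs' => mem_centralizer_singleton_iff.2 (hc s hs'))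
  · have h4 : 4 ≤ n := by
      obtain ⟨m, hm, rfl⟩ := exists_pow S n hn hS
      rcases m with _ | _ | m
      · omega
      · omega
      · rw [pow_add]
        have : 0 < 2 ^ m := by positivity
        omega
    exact GWSolvable.LocInst.gwConcl_of_eight h hs S n h4 hS

end

/-- The signalizer condition of type B. -/
theorem sigHyp (hFT : OddOrder.{u}) {G : Type u} [Group G] [Finite G] (hG : SubDihedral G)
    (hA : SubAlt G) : SigHyp G :=
  TypeB.Sig.sig_of_subAlt hG (fun X hX => hFT X hX) hA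

/-- The theorem on type Z. -/
def ZAll : Prop := ∀ (G : Type u) [Group G] [Finite G] (t : G) (S : Sylow 2 G) (n : ℕ), 2 ≤ n →
  Nonempty ((S : Subgroup G) ≃* DihedralGroup n) → t ∈ (S : Subgroup G) →
  (∀ s ∈ (S : Subgroup G), s * t = t * s) → ZHyp G t → GWConcl G

/-- The fixed point lemma (L1*) for `|S| = 4`. -/
def FixAll : Prop := ∀ (G : Type u) [Group G] [Finite G] [IsSimpleGroup G],
  GWSolvable.FourEnd.FixFour G

/-- **S0483** -/
theorem main (hFT : OddOrder.{u}) (hZ : ZAll.{u})
    {X : Type u} [Group X] [Finite X] [Group.IsPerfect X]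
    (S : Sylow 2 X) (n : ℕ) (hn : 2 ≤ n) (hS : Nonempty ((S : Subgroup X) ≃* DihedralGroup n)) :
    (∃ (F : Type) (_ : Field F) (_ : Fintype F), Odd (Fintype.card F) ∧ 3 < Fintype.card F ∧
        Nonempty (X ⧸ Cfsg.oddCore X ≃* Matrix.ProjectiveSpecialLinearGroup (Fin 2) F)) ∨
      Nonempty (X ⧸ Cfsg.oddCore X ≃* alternatingGroup (Fin 7)) := by
  refine reduction hFT ?_ S n hn hS
  intro G _ _ _ S n hn hS hB
  have hsub : SubDihedral G := subDihedral_of_sylow S n hS.some
  have hA : SubAlt G := subAlt_of_below hFT hsub hB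
  rcases gw_or_zhyp hFT (sigHyp hFT hsub hA) S n hn hS hA with h | ⟨t, htS, htZ, h⟩
  · exact h
  · exact hZ G t S n hn hS htS htZ h

/-- **The Gorenstein–Walter theorem for `N`-groups.** -/
theorem nGroup (hFT : OddOrder.{u}) (hfix : FixAll.{u})
    {G : Type u} [Group G] [Finite G] [IsSimpleGroup G] (S : Sylow 2 G) (n : ℕ) (hn : 2 ≤ n)
    (hS : Nonempty ((S : Subgroup G) ≃* DihedralGroup n)) (hs : LocSol G) : GWConcl G := by
  refine GWSolvable.Induct.main hFT ?_ G S n hn hS hs
  intro G _ _ _ S n hn hS hs hA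
  have hsub : SubDihedral G := subDihedral_of_sylow S n hS.some
  rcases gw_or_zhyp hFT (sigHyp hFT hsub hA) S n hn hS hA with h | ⟨t, htS, htZ, h⟩
  · exact h
  · exact typeZ_solvable (hfix G) h hs S n hn hS htS htZ

end Cfsg.Agent.Classification.GWMain
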