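import Mathlib
import Cfsg.Prelude.Def_Local
import Cfsg.Agent.Lib.Cores
import Cfsg.Agent.S0016
import Cfsg.Agent.TwoFusion.OddAut
import Cfsg.Agent.TwoFusion.LocalIndex
import Cfsg.Agent.Lib.SylowNormalInf
import Cfsg.Agent.S0520
import Cfsg.Agent.S0502

/-!
2-constrained groups whose `O_{2',2}` has a Sylow 2-subgroup with a unique involution.
-/

set_option autoImplicit false

namespace Cfsg.Agent.Classification.RankOneCore

open Cfsg Cfsg.Agent.TwoFusion.OddAut

/-- Automorphisms of odd order of a cyclic 2-group are trivial. -/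
theorem fix_of_cyclic {S : Type*} [Group S] {X : Subgroup S} {A : S → S} (h : IsOddAut X A)
    {g : S} (hg : g ∈ X) {j : ℤ} {m : ℕ} (e : A g = g ^ j) (h2 : g ^ (2 ^ m) = 1) : A g = g := by
  have hk : g ^ (j - 1) ∈ X := X.zpow_mem hg _
  have h1 : A g = g * g ^ (j - 1) := by
    rw [e, ← zpow_one_add]
    congr 1
    ring
  have h3 : A (g ^ (j - 1)) = (g ^ (j - 1)) ^ j := by
    rw [h.zpow hg, e, ← zpow_mul, ← zpow_mul, mul_comm]
  have h4 : (g ^ (j - 1)) ^ (2 ^ m) = 1 := by
    rw [← zpow_natCast, ← zpow_mul, mul_comm, zpow_mul, zpow_natCast, h2, one_zpow]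
  have h5 := h.eq_one_of_eq_mul hg hk h1 h3 h4
  rw [h1, h5, mul_one]

theorem a_pow {N : ℕ} (i : ZMod (2 * N)) (k : ℕ) :
    (QuaternionGroup.a i : QuaternionGroup N) ^ k = QuaternionGroup.a ((k : ZMod (2 * N)) * i) := by
  induction k with
  | zero => rw [pow_zero, Nat.cast_zero, zero_mul]; rfl
  | succ k ih => rw [pow_succ, ih, QuaternionGroup.a_mul_a]; congr 1; push_cast; ring

theorem a_pow_two_pow {n : ℕ} (i : ZMod (2 * 2 ^ n)) :
    (QuaternionGroup.a i : QuaternionGroup (2 ^ n)) ^ (2 ^ (n + 1)) = 1 := by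
  rw [a_pow, QuaternionGroup.one_def]
  congr 1
  have h : ((2 ^ (n + 1) : ℕ) : ZMod (2 * 2 ^ n)) = 0 := by
    rw [pow_succ, mul_comm]
    exact ZMod.natCast_self _
  rw [h, zero_mul]

/-- Automorphisms of odd order of a generalized quaternion group of order at least 16 are trivial. -/
theorem fix_of_quaternion {n : ℕ} (hn : 2 ≤ n) {A : QuaternionGroup (2 ^ n) → QuaternionGroup (2 ^ n)}
    (h : IsOddAut ⊤ A) (x : QuaternionGroup (2 ^ n)) : A x = x := by
  have hmem : ∀ x : QuaternionGroup (2 ^ n), x ∈ (⊤ : Subgroup (QuaternionGroup (2 ^ n))) :=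
    fun x => Subgroup.mem_top x
  have hne : NeZero (2 ^ n) := ⟨by positivity⟩
  -- the cyclic subgroup
  have h1 : ∃ j, A (QuaternionGroup.a 1) = QuaternionGroup.a j := by
    rcases hj : A (QuaternionGroup.a 1) with j | j
    · exact ⟨j, rfl⟩
    · exfalso
      have h2 : A ((QuaternionGroup.a 1) ^ 4) = A 1 := by
        rw [h.pow (hmem _), hj, h.one]
        exact QuaternionGroup.xa_pow_four j
      have h3 := h.inj (hmem _) (hmem _) h2
      have h4 : orderOf (QuaternionGroup.a 1 : QuaternionGroup (2 ^ n)) ∣ 4 :=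
        orderOf_dvd_of_pow_eq_one h3
      rw [QuaternionGroup.orderOf_a_one] at h4
      have h5 := Nat.le_of_dvd (by norm_num) h4
      have h6 : 2 ^ 2 ≤ 2 ^ n := Nat.pow_le_pow_right (by norm_num) hn
      omega
  obtain ⟨j, hj⟩ := h1
  have h2 : A (QuaternionGroup.a 1) = QuaternionGroup.a 1 := by
    refine fix_of_cyclic h (hmem _) (j := (j.val : ℤ)) (m := n + 1) ?_ (a_pow_two_pow 1)
    rw [hj, zpow_natCast, QuaternionGroup.a_one_pow]
    congr 1
    exact (ZMod.natCast_rightInverse j).symm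
  have h3 : ∀ i, A (QuaternionGroup.a i) = QuaternionGroup.a i := by
    intro i
    have h4 : (QuaternionGroup.a i : QuaternionGroup (2 ^ n)) = (QuaternionGroup.a 1) ^ i.val := by
      rw [QuaternionGroup.a_one_pow]
      congr 1
      exact (ZMod.natCast_rightInverse i).symm
    rw [h4, h.pow (hmem _), h2]
  have h4 : A (QuaternionGroup.xa 0) = QuaternionGroup.xa 0 := by
    rcases hj : A (QuaternionGroup.xa 0) with j | j
    · exfalso
      rw [← h3 j] at hj
      have := h.inj (hmem _) (hmem _) hj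
      simp at this
    · have h5 : A (QuaternionGroup.xa 0) = QuaternionGroup.xa 0 * QuaternionGroup.a j := by
        rw [hj, QuaternionGroup.xa_mul_a, zero_add]
      have h6 := h.fix_of_eq_mul (hmem _) (hmem _) h5 (h3 j) (a_pow_two_pow j)
      rw [← hj, h5, h6, mul_one]
  rcases x with i | i
  · exact h3 i
  · have h5 : (QuaternionGroup.xa i : QuaternionGroup (2 ^ n)) =
        QuaternionGroup.xa 0 * QuaternionGroup.a i := by
      rw [QuaternionGroup.xa_mul_a, zero_add]
    rw [h5, h.mul _ (hmem _) _ (hmem _), h4, h3]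

/-- Conjugation by an element of odd order normalising `Q` is an odd automorphism. -/
theorem isOddAut_conj {X : Type*} [Group X] {Q : Subgroup X} {x : X}
    (hx : x ∈ Subgroup.normalizer (Q : Set X)) (ho : Odd (orderOf x)) :
    IsOddAut Q (fun q => x * q * x⁻¹) := by
  refine ⟨fun q hq => (Subgroup.mem_normalizer_iff.mp hx q).mp hq, fun a _ b _ => by group, ?_⟩
  refine ⟨orderOf x, ho, ?_⟩
  have key : ∀ k : ℕ, ∀ q : X, (fun q => x * q * x⁻¹)^[k] q = x ^ k * q * (x ^ k)⁻¹ := by
    intro k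
    induction k with
    | zero => intro q; simp
    | succ k ih => intro q; rw [Function.iterate_succ_apply', ih, pow_succ']; group
  intro q _
  rw [key, pow_orderOf_eq_one]
  simp

/-- If a 2-subgroup `Q` is cyclic, or generalized quaternion of order at least 16, then every element of
odd order normalising `Q` centralises `Q`. -/
theorem mem_centralizer_of_odd {X : Type*} [Group X] [Finite X] {Q : Subgroup X} (hQ : IsPGroup 2 Q)
    (h : IsCyclic Q ∨ ∃ n : ℕ, 2 ≤ n ∧ Nonempty (Q ≃* QuaternionGroup (2 ^ n))) {x : X}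
    (hx : x ∈ Subgroup.normalizer (Q : Set X)) (ho : Odd (orderOf x)) :
    x ∈ Subgroup.centralizer (Q : Set X) := by
  have hA := isOddAut_conj hx ho
  suffices hs : ∀ q ∈ Q, x * q * x⁻¹ = q by
    rw [Subgroup.mem_centralizer_iff]
    intro q hq
    have := hs q hq
    rw [mul_inv_eq_iff_eq_mul] at this
    exact this.symm
  rcases h with hc | ⟨n, hn, ⟨e⟩⟩
  · obtain ⟨⟨g, hg⟩, hgen⟩ := hc.exists_generator
    obtain ⟨m, hm⟩ := hQ ⟨g, hg⟩
    have hm' : g ^ (2 ^ m) = 1 := congrArg Subtype.val hm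
    have hfix : x * g * x⁻¹ = g := by
      obtain ⟨j, hj⟩ := hgen ⟨x * g * x⁻¹, hA.mem g hg⟩
      have hj' : x * g * x⁻¹ = g ^ j := (congrArg Subtype.val hj).symm
      exact fix_of_cyclic hA hg (j := j) hj' hm'
    intro q hq
    obtain ⟨j, hj⟩ := hgen ⟨q, hq⟩
    have hj' : g ^ j = q := congrArg Subtype.val hj
    rw [← hj', ← conj_zpow, hfix]
  · -- transport to the quaternion group
    let A' : QuaternionGroup (2 ^ n) → QuaternionGroup (2 ^ n) := fun y =>
      e ⟨x * (e.symm y : X) * x⁻¹, hA.mem _ (e.symm y).2⟩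
    have hval : ∀ y, ((e.symm (A' y) : Q) : X) = x * (e.symm y : X) * x⁻¹ := by
      intro y
      simp [A']
    have hA' : IsOddAut ⊤ A' := by
      refine ⟨fun _ _ => Subgroup.mem_top _, ?_, ?_⟩
      · intro a _ b _
        apply e.symm.injective
        apply Subtype.ext
        rw [map_mul, Subgroup.coe_mul, hval, hval, hval, map_mul, Subgroup.coe_mul]
        group
      · obtain ⟨r, hr, hr'⟩ := hA.odd
        refine ⟨r, hr, ?_⟩
        have key : ∀ k : ℕ, ∀ y, ((e.symm (A'^[k] y) : Q) : X) =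
            (fun q => x * q * x⁻¹)^[k] (e.symm y : X) := by
          intro k
          induction k with
          | zero => intro y; rfl
          | succ k ih =>
            intro y
            rw [Function.iterate_succ_apply', Function.iterate_succ_apply', hval, ih]
        intro y _
        apply e.symm.injective
        apply Subtype.ext
        rw [key]
        exact hr' _ (e.symm y).2
    intro q hq
    have h1 := fix_of_quaternion hn hA' (e ⟨q, hq⟩)
    have h2 := hval (e ⟨q, hq⟩)
    rw [h1] at h2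
    simpa using h2.symm

theorem relIndex_dvd {X : Type*} [Group X] [Finite X] {K N A : Subgroup X}
    (hn : (K.subgroupOf N).Normal) (hAN : A ≤ N) : K.relIndex A ∣ K.relIndex N := by
  let f : A →* N ⧸ K.subgroupOf N := (QuotientGroup.mk' (K.subgroupOf N)).comp (Subgroup.inclusion hAN)
  have key := Subgroup.card_dvd_of_injective _ (QuotientGroup.kerLift_injective f)
  have hk : f.ker = K.subgroupOf A := by
    ext a
    rw [MonoidHom.mem_ker]
    show (QuotientGroup.mk' (K.subgroupOf N)) (Subgroup.inclusion hAN a) = 1 ↔ _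
    rw [QuotientGroup.mk'_apply, QuotientGroup.eq_one_iff]
    rfl
  have h1 : f.ker.index ∣ (K.subgroupOf N).index := key
  rw [hk] at h1
  exact h1

theorem exists_of_card_two {P : Type*} [Group P] {H : Subgroup P} (hH : Nat.card H = 2) :
    ∃ a ∈ H, a ≠ 1 ∧ a ^ 2 = 1 := by
  have hf : Finite H := Nat.finite_of_card_ne_zero (by omega)
  have : Nontrivial H := by
    rw [← Finite.one_lt_card_iff_nontrivial, hH]; norm_num
  obtain ⟨⟨a, ha⟩, hne⟩ := exists_ne (1 : H)
  refine ⟨a, ha, fun h => hne (Subtype.ext h), ?_⟩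
  have h1 : (⟨a, ha⟩ : H) ^ 2 = 1 := by
    rw [← hH]; exact pow_card_eq_one'
  exact congrArg Subtype.val h1

theorem eq_of_card_two {P : Type*} [Group P] {H K : Subgroup P} (hH : Nat.card H = 2)
    (hK : Nat.card K = 2) {a : P} (haH : a ∈ H) (haK : a ∈ K) (ha : a ≠ 1) : H = K := by
  have hfH : Finite H := Nat.finite_of_card_ne_zero (by omega)
  have hfK : Finite K := Nat.finite_of_card_ne_zero (by omega)
  have key : ∀ L : Subgroup P, Nat.card L = 2 → a ∈ L → Subgroup.zpowers a = L := by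
    intro L hL haL
    have hfL : Finite L := Nat.finite_of_card_ne_zero (by omega)
    have hle : Subgroup.zpowers a ≤ L := by rwa [Subgroup.zpowers_le]
    refine Subgroup.eq_of_le_of_card_ge hle ?_
    rw [hL]
    have h1 : Nat.card (Subgroup.zpowers a) ∣ Nat.card L := Subgroup.card_dvd_of_le hle
    rw [hL] at h1
    rcases (Nat.dvd_prime Nat.prime_two).mp h1 with h2 | h2
    · exfalso
      rw [Nat.card_zpowers, orderOf_eq_one_iff] at h2
      exact ha h2
    · omega
  rw [← key H hH haH, ← key K hK haK]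

theorem exists_central_involution {P : Type*} [Group P] [Finite P] (hP : IsPGroup 2 P) {a : P}
    (ha : a ≠ 1) : ∃ z : P, z ≠ 1 ∧ z ^ 2 = 1 ∧ ∀ g : P, z * g = g * z := by
  have h2 : Fact (Nat.Prime 2) := ⟨Nat.prime_two⟩
  have hnt : Nontrivial P := ⟨a, 1, ha⟩
  have := hP.center_nontrivial
  obtain ⟨n, hn0, hn⟩ := (IsPGroup.nontrivial_iff_card (hP.to_subgroup (Subgroup.center P))).mp this
  obtain ⟨z, hz⟩ := exists_prime_orderOf_dvd_card' (G := Subgroup.center P) 2
    (by rw [hn]; exact dvd_pow_self 2 hn0.ne')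
  refine ⟨z, ?_, ?_, ?_⟩
  · intro h
    have : z = 1 := Subtype.ext h
    rw [this, orderOf_one] at hz
    norm_num at hz
  · have : z ^ 2 = 1 := by rw [← hz]; exact pow_orderOf_eq_one z
    exact congrArg Subtype.val this
  · intro g
    exact (Subgroup.mem_center_iff.mp z.2 g).symm

/-- A nontrivial 2-subgroup of 2-rank one has a unique involution, which is central. -/
theorem exists_unique_involution {X : Type*} [Group X] [Finite X] {Q : Subgroup X} (hQ : IsPGroup 2 Q)
    (h : PRankLE 2 1 Q) (hne : Q ≠ ⊥) :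
    ∃ z ∈ Q, z ≠ 1 ∧ z ^ 2 = 1 ∧ (∀ g ∈ Q, z * g = g * z) ∧ ∀ c ∈ Q, c ≠ 1 → c ^ 2 = 1 → c = z := by
  obtain ⟨⟨a, haQ⟩, ha⟩ : ∃ a : Q, a ≠ 1 := by
    have : Nontrivial Q := (Subgroup.nontrivial_iff_ne_bot Q).mpr hne
    exact exists_ne 1
  obtain ⟨z, hz1, hz2, hzc⟩ := exists_central_involution hQ ha
  refine ⟨z, z.2, fun h => hz1 (Subtype.ext h), congrArg Subtype.val hz2,
    fun g hg => congrArg Subtype.val (hzc ⟨g, hg⟩), ?_⟩
  intro c hc hc1 hc2
  by_contra hcz
  obtain ⟨W, hW, -⟩ := Cfsg.Agent.S0502.exists_klein (a := (⟨c, hc⟩ : Q)) (b := z)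
    (Subtype.ext hc2) hz2 (fun h => hc1 (congrArg Subtype.val h)) hz1
    (fun h => hcz (congrArg Subtype.val h)) (hzc _).symm
  have hW' : IsKleinFour (W.map Q.subtype) := Cfsg.Agent.S0520.isKleinFour_map Q.subtype_injective hW
  exact Cfsg.Agent.S0520.not_rank_of_kleinFour hW' (Subgroup.map_subtype_le W) h

/-- A 2-subgroup without Klein four-subgroups is cyclic or generalized quaternion. -/
theorem cyclic_or_quaternion {X : Type*} [Group X] [Finite X] {Q : Subgroup X} (hQ : IsPGroup 2 Q)
    (h : PRankLE 2 1 Q) : IsCyclic Q ∨ ∃ n : ℕ, Nonempty (Q ≃* QuaternionGroup (2 ^ n)) := by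
  have h2 : Fact (Nat.Prime 2) := ⟨Nat.prime_two⟩
  suffices huniq : ∀ H K : Subgroup Q, Nat.card H = 2 → Nat.card K = 2 → H = K by
    rcases Cfsg.Agent.S0016.result 2 hQ huniq with h1 | ⟨-, h1⟩
    · exact Or.inl h1
    · exact Or.inr h1
  intro H K hH hK
  by_contra hne
  obtain ⟨a, ha, ha1, ha2⟩ := exists_of_card_two hH
  obtain ⟨b, hb, hb1, hb2⟩ := exists_of_card_two hK
  obtain ⟨z, hz1, hz2, hzc⟩ := exists_central_involution hQ (a := a) ha1
  have key : ∀ c : Q, c ≠ 1 → c ^ 2 = 1 → c = z := by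
    intro c hc1 hc2
    by_contra hcz
    obtain ⟨W, hW, -⟩ := Cfsg.Agent.S0502.exists_klein hc2 hz2 hc1 hz1 hcz (hzc c).symm
    have hW' : IsKleinFour (W.map Q.subtype) := Cfsg.Agent.S0520.isKleinFour_map Q.subtype_injective hW
    exact Cfsg.Agent.S0520.not_rank_of_kleinFour hW' (Subgroup.map_subtype_le W) h
  have hab : a = b := (key a ha1 ha2).trans (key b hb1 hb2).symm
  subst hab
  exact hne (eq_of_card_two hH hK ha hb ha1)

/-- Let `X` be a 2-constrained finite group with a Sylow 2-subgroup `T` containing an elementary abelian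
subgroup of order at least 8. Then either `T ∩ O_{2',2}(X)` contains a Klein four-group, or
`X = O(X) T`. -/
theorem rank_or_sup {X : Type*} [Group X] [Finite X] (hc : IsPConstrained 2 X) {A : Subgroup X}
    (hA : IsElementaryAbelian 2 A) (hA8 : 8 ≤ Nat.card A) (T : Sylow 2 X) (hAT : A ≤ T) :
    (¬ PRankLE 2 1 ((T : Subgroup X) ⊓ pPrimePCore 2 X : Subgroup X)) ∨
      pPrimeCore 2 X ⊔ (T : Subgroup X) = ⊤ := by
  have h2 : Fact (Nat.Prime 2) := ⟨Nat.prime_two⟩
  by_cases hr : PRankLE 2 1 ((T : Subgroup X) ⊓ pPrimePCore 2 X : Subgroup X)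
  swap
  · exact Or.inl hr
  right
  have hKn : (pPrimePCore 2 X).Normal := by
    unfold pPrimePCore
    infer_instance
  have hOn : (pPrimeCore 2 X).Normal := inferInstance
  set K := pPrimePCore 2 X with hK
  set Q : Subgroup X := (T : Subgroup X) ⊓ K with hQ
  have hQp : IsPGroup 2 Q := T.2.to_le inf_le_left
  -- the centralizer of Q
  have hCQ : Subgroup.centralizer (Q : Set X) ≤ K := by
    have h := hc ((Lib.SylowNormalInf.isPGroup_subgroupOf T K).toSylow
      (Lib.SylowNormalInf.not_dvd_relIndex T K))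
    have h2 : (((Lib.SylowNormalInf.isPGroup_subgroupOf T K).toSylow
      (Lib.SylowNormalInf.not_dvd_relIndex T K) : Sylow 2 K) :
      Subgroup K).map K.subtype = Q := Subgroup.subgroupOf_map_subtype _ _
    rw [h2] at h
    exact h
  -- elements of K have a 2-power in O(X)
  have hKO : ∀ x ∈ K, ∃ k : ℕ, x ^ 2 ^ k ∈ pPrimeCore 2 X := by
    intro x hx
    have hx' : QuotientGroup.mk' (pPrimeCore 2 X) x ∈ pCore 2 (X ⧸ pPrimeCore 2 X) := hx
    obtain ⟨k, hk⟩ := Lib.Cores.pCore_isPGroup (G := X ⧸ pPrimeCore 2 X) 2 ⟨_, hx'⟩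
    refine ⟨k, ?_⟩
    have h3 : (QuotientGroup.mk' (pPrimeCore 2 X) x) ^ 2 ^ k = 1 := congrArg Subtype.val hk
    rw [← map_pow, QuotientGroup.mk'_apply, QuotientGroup.eq_one_iff] at h3
    exact h3
  have hTN : (T : Subgroup X) ≤ Subgroup.normalizer (Q : Set X) := by
    intro t ht
    rw [Subgroup.mem_normalizer_iff]
    intro q
    constructor
    · rintro ⟨h3, h4⟩
      exact ⟨(T : Subgroup X).mul_mem ((T : Subgroup X).mul_mem ht h3) ((T : Subgroup X).inv_mem ht),
        hKn.conj_mem q h4 t⟩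
    · rintro ⟨h3, h4⟩
      refine ⟨?_, ?_⟩
      · have h5 := (T : Subgroup X).mul_mem ((T : Subgroup X).mul_mem ((T : Subgroup X).inv_mem ht) h3) ht
        have e : t⁻¹ * (t * q * t⁻¹) * t = q := by group
        rwa [e] at h5
      · have := hKn.conj_mem _ h4 t⁻¹
        simpa [mul_assoc] using this
  -- the structure of Q
  have hstr : IsCyclic Q ∨ ∃ n : ℕ, 2 ≤ n ∧ Nonempty (Q ≃* QuaternionGroup (2 ^ n)) := by
    rcases cyclic_or_quaternion hQp hr with h | ⟨n, ⟨e⟩⟩
    · exact Or.inl h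
    · rcases Nat.lt_or_ge n 2 with hn | hn
      · interval_cases n
        · left
          have h3 : IsCyclic (QuaternionGroup 1) := QuaternionGroup.quaternionGroup_one_isCyclic
          have e' : Q ≃* QuaternionGroup 1 := e
          exact isCyclic_of_surjective e'.symm e'.symm.surjective
        · exfalso
          have e' : Q ≃* QuaternionGroup 2 := e
          have h3 := TwoFusion.LocalIndex.relIndex_quaternion_dvd Q e'
          have h4 : (Q ⊔ Subgroup.centralizer (Q : Set X)).relIndex A ∣ 6 :=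
            (relIndex_dvd (TwoFusion.LocalIndex.sup_centralizer_subgroupOf_normal Q)
              (hAT.trans hTN)).trans h3
          have h5 := Lib.SylowNormalInf.card_inf_mul_relIndex
            (Q ⊔ Subgroup.centralizer (Q : Set X)) A
          have hAp : IsPGroup 2 A := T.2.to_le hAT
          obtain ⟨m, hm⟩ := IsPGroup.iff_card.mp hAp
          have h6 : (Q ⊔ Subgroup.centralizer (Q : Set X)).relIndex A ∣ 2 ^ m := by
            rw [← hm, ← h5]; exact dvd_mul_left _ _
          have h7 : (Q ⊔ Subgroup.centralizer (Q : Set X)).relIndex A ≤ 2 := by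
            obtain ⟨j, -, hj⟩ := (Nat.dvd_prime_pow Nat.prime_two).1 h6
            rw [hj] at h4 ⊢
            rcases Nat.lt_or_ge j 2 with h8 | h8
            · interval_cases j <;> norm_num
            · exfalso
              have h9 : 2 ^ 2 ∣ 6 := (pow_dvd_pow 2 h8).trans h4
              norm_num at h9
          have h8 : (Q ⊔ Subgroup.centralizer (Q : Set X)) ⊓ A ≤ Q := by
            intro x hx
            refine ⟨hAT hx.2, ?_⟩
            have h9 : Q ⊔ Subgroup.centralizer (Q : Set X) ≤ K := sup_le inf_le_right hCQ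
            exact h9 hx.1
          have h9 := hr (((Q ⊔ Subgroup.centralizer (Q : Set X)) ⊓ A).subgroupOf Q) ?_ ?_
          · rw [Nat.card_congr (Subgroup.subgroupOfEquivOfLe h8).toEquiv] at h9
            have h10 : 8 ≤ Nat.card ((Q ⊔ Subgroup.centralizer (Q : Set X)) ⊓ A : Subgroup X) * 2 := by
              calc 8 ≤ Nat.card A := hA8
                _ = _ := h5.symm
                _ ≤ _ := Nat.mul_le_mul_left _ h7
            omega
          · have := hA.1
            refine IsMulCommutative.of_setLike_mul_comm ?_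
            intro a ha b hb
            apply Subtype.ext
            have ha' : (a : X) ∈ A := (Subgroup.mem_subgroupOf.mp ha).2
            have hb' : (b : X) ∈ A := (Subgroup.mem_subgroupOf.mp hb).2
            exact setLike_mul_comm ha' hb'
          · intro a ha
            apply Subtype.ext
            have ha' : (a : X) ∈ A := (Subgroup.mem_subgroupOf.mp ha).2
            exact hA.2 _ ha'
      · exact Or.inr ⟨n, hn, ⟨e⟩⟩
  have hodd : ∀ x ∈ Subgroup.normalizer (Q : Set X), Odd (orderOf x) → x ∈ K := fun x hx ho =>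
    hCQ (mem_centralizer_of_odd hQp hstr hx ho)
  -- every element of X has a 2-power in K
  have hXK : ∀ x : X, ∃ k : ℕ, x ^ 2 ^ k ∈ K := by
    intro x
    have hfr := Lib.SylowNormalInf.normalizer_inf_sup_eq_top T K
    have hx : x ∈ Subgroup.normalizer (Q : Set X) ⊔ K := by
      rw [hQ, hfr]; exact Subgroup.mem_top x
    obtain ⟨n, hn, k, hk, rfl⟩ := Subgroup.mem_sup_of_normal_right.mp hx
    obtain ⟨m, hm⟩ : ∃ m, Odd (orderOf (n ^ 2 ^ m)) := by
      obtain ⟨m, r, hr, hmr⟩ := Nat.exists_eq_two_pow_mul_odd (n := orderOf n) (orderOf_pos n).ne'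
      refine ⟨m, ?_⟩
      rw [orderOf_pow_of_dvd (by positivity) (by rw [hmr]; exact dvd_mul_right _ _), hmr,
        Nat.mul_div_cancel_left _ (by positivity)]
      exact hr
    refine ⟨m, ?_⟩
    have h3 : n ^ 2 ^ m ∈ K := hodd _ (Subgroup.pow_mem _ hn _) hm
    have h4 : QuotientGroup.mk' K ((n * k) ^ 2 ^ m) = 1 := by
      rw [map_pow, map_mul]
      have h5 : QuotientGroup.mk' K k = 1 := (QuotientGroup.eq_one_iff k).mpr hk
      rw [h5, mul_one, ← map_pow]
      exact (QuotientGroup.eq_one_iff _).mpr h3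
    exact (QuotientGroup.eq_one_iff _).mp h4
  have hXO : ∀ x ∈ (⊤ : Subgroup X), ∃ k : ℕ, x ^ 2 ^ k ∈ pPrimeCore 2 X := by
    intro x _
    obtain ⟨k, hk⟩ := hXK x
    obtain ⟨j, hj⟩ := hKO _ hk
    refine ⟨k + j, ?_⟩
    rw [pow_add, pow_mul]
    exact hj
  have h3 := Lib.SylowNormalInf.le_sup_inf T ⊤ (pPrimeCore 2 X) hXO
  rw [inf_top_eq] at h3
  exact top_le_iff.mp h3

end Cfsg.Agent.Classification.RankOneCore
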