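import Mathlib
import Cfsg.Agent.SmallSimple.Burnside

set_option autoImplicit false
set_option linter.unusedSectionVars false
namespace Cfsg.Agent.Classification.Order360
open Subgroup

theorem arith4 {n m c : ℕ} (hm : m ≤ 6) (h40 : 9 * m * c = 360) (hnd : n ∣ m)
    (hn1 : n ≠ 1) (hnm : n % 3 = 1 % 3) : n = 4 ∧ m = 4 := by
  have hm0 : m ≠ 0 := by rintro rfl; omega
  have hle := Nat.le_of_dvd (Nat.pos_of_ne_zero hm0) hnd
  interval_cases m <;> interval_cases n <;> simp_all

variable {G : Type*} [Group G] [Finite G] [IsSimpleGroup G]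

/-- A proper subgroup of a simple group: the order divides the factorial of the index. -/
theorem card_dvd_factorial_index (H : Subgroup G) (hH : H ≠ ⊤) :
    Nat.card G ∣ Nat.factorial H.index := by
  have hinj : Function.Injective (MulAction.toPermHom G (G ⧸ H)) := by
    rw [← MonoidHom.ker_eq_bot_iff]
    refine (Subgroup.Normal.eq_bot_or_eq_top (H := (MulAction.toPermHom G (G ⧸ H)).ker) inferInstance).resolve_right ?_
    intro h
    apply hH
    have := H.normalCore_eq_ker
    rw [h] at this
    exact eq_top_iff.2 (this ▸ H.normalCore_le)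
  have := Subgroup.card_dvd_of_injective _ hinj
  rwa [Nat.card_perm] at this

section
variable (h : Nat.card G = 360)
include h

theorem six_le_index (H : Subgroup G) (hH : H ≠ ⊤) : 6 ≤ H.index := by
  have h1 := card_dvd_factorial_index H hH
  rw [h] at h1
  by_contra h2
  have h3 : H.index ≤ 5 := by omega
  have h4 := h1.trans (Nat.factorial_dvd_factorial h3)
  revert h4
  decide

theorem eq_top_of_dvd {H : Subgroup G} (h1 : 72 ∣ Nat.card H) : H = ⊤ := by
  by_contra hH
  have h2 := six_le_index h H hH
  have h3 := H.card_mul_index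
  rw [h] at h3
  obtain ⟨m, hm⟩ := h1
  rw [hm] at h3
  have : m * H.index = 5 := by nlinarith
  rcases Nat.eq_zero_or_pos m with h0 | h0
  · subst h0; omega
  · nlinarith

theorem eq_bot_of_normal {H : Subgroup G} (hN : H.Normal) (hc : Nat.card H ≠ 360) : H = ⊥ := by
  rcases hN.eq_bot_or_eq_top with h1 | h1
  · exact h1
  · rw [h1, card_top] at hc
    exact absurd h hc

theorem center_eq_bot : center G = ⊥ := by
  rcases Subgroup.Normal.eq_bot_or_eq_top (H := center G) inferInstance with h1 | h1
  · exact h1
  · let _ : CommGroup G := Group.commGroupOfCenterEqTop h1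
    have hprime : (Nat.card G).Prime := IsSimpleGroup.prime_card
    rw [h] at hprime
    revert hprime
    norm_num

theorem card_sylow (P : Sylow 3 G) : Nat.card P = 9 := by
  have := P.card_eq_multiplicity
  rw [this, h]
  have : (360 : ℕ) = 3 ^ 2 * 40 := by norm_num
  rw [this, Nat.factorization_mul (by norm_num) (by norm_num), Finsupp.add_apply,
    Nat.Prime.factorization_pow (by norm_num), Finsupp.single_eq_same,
    Nat.factorization_eq_zero_of_not_dvd (by norm_num)]
  norm_num

theorem comm_sylow (P : Sylow 3 G) {x y : G} (hx : x ∈ P) (hy : y ∈ P) : x * y = y * x := by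
  have h1 : IsMulCommutative P := IsPGroup.isMulCommutative_of_card_eq_prime_sq (p := 3)
    (by rw [card_sylow h]; norm_num)
  have := h1.is_comm.comm ⟨x, hx⟩ ⟨y, hy⟩
  simpa using this

theorem le_centralizer_sylow (P : Sylow 3 G) : (P : Subgroup G) ≤ centralizer (P : Set G) := by
  intro x hx
  rw [mem_centralizer_iff]
  intro y hy
  exact comm_sylow h P hy hx

theorem card_sylow_three : Nat.card (Sylow 3 G) = 10 := by
  obtain ⟨P⟩ : Nonempty (Sylow 3 G) := inferInstance
  have h1 : Nat.card (Sylow 3 G) ≡ 1 [MOD 3] := card_sylow_modEq_one 3 G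
  have h2 : Nat.card (Sylow 3 G) ∣ 40 := by
    have h2 := P.card_dvd_index
    have h3 := (P : Subgroup G).card_mul_index
    rw [card_sylow h, h] at h3
    have : (P : Subgroup G).index = 40 := by omega
    rwa [this] at h2
  have h3 := P.card_eq_index_normalizer
  have hN : normalizer (P : Set G) ≠ ⊤ := by
    intro hN
    have : (P : Subgroup G).Normal := normalizer_eq_top_iff.1 hN
    have h4 := eq_bot_of_normal h this (by rw [card_sylow h]; norm_num)
    have h5 := card_sylow h P
    rw [h4, card_bot] at h5
    norm_num at h5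
  have h4 := six_le_index h _ hN
  have h5 : (normalizer (P : Set G)).index ≠ 40 := by
    intro h5
    have h6 := (normalizer (P : Set G)).card_mul_index
    rw [h5, h] at h6
    have h7 : (P : Subgroup G) = normalizer (P : Set G) :=
      Subgroup.eq_of_le_of_card_ge le_normalizer (by rw [card_sylow h]; omega)
    have h8 : normalizer (P : Set G) ≤ centralizer (P : Set G) := by
      rw [← h7]
      exact le_centralizer_sylow h P
    have := SmallSimple.Burnside.card_eq_of_normalizer_le_centralizer (by rw [h]; norm_num) P h8
    omega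
  have h6 := Nat.le_of_dvd (by norm_num) h2
  rw [← h3] at h4 h5
  unfold Nat.ModEq at h1
  generalize Nat.card (Sylow 3 G) = n at *
  interval_cases n <;> omega

/-- The Sylow 3-subgroups intersect trivially. -/
theorem inf_sylow (P Q : Sylow 3 G) (hPQ : P ≠ Q) : (P : Subgroup G) ⊓ Q = ⊥ := by
  by_contra hD
  set D := (P : Subgroup G) ⊓ Q with hDdef
  set C := centralizer (D : Set G) with hC
  have hPC : (P : Subgroup G) ≤ C := by
    intro x hx
    rw [hC, mem_centralizer_iff]
    intro y hy
    exact comm_sylow h P hy.1 hx
  have hQC : (Q : Subgroup G) ≤ C := by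
    intro x hx
    rw [hC, mem_centralizer_iff]
    intro y hy
    exact comm_sylow h Q hy.2 hx
  set S := P.subtype hPC with hS
  have hcS : Nat.card S = 9 := by
    rw [← card_sylow h P]
    exact Nat.card_congr (Subgroup.subgroupOfEquivOfLe hPC).toEquiv
  have hn1 : Nat.card (Sylow 3 C) ≠ 1 := by
    intro h1
    have := (Nat.card_eq_one_iff_unique.1 h1).1
    exact hPQ (Sylow.subtype_injective (this.elim (P.subtype hPC) (Q.subtype hQC)))
  have hCtop : C ≠ ⊤ := by
    intro hCt
    apply hD
    rw [eq_bot_iff, ← center_eq_bot h]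
    intro x hx
    rw [mem_center_iff]
    intro g
    have hg : g ∈ C := hCt ▸ mem_top g
    rw [hC, mem_centralizer_iff] at hg
    exact (hg x hx).symm
  have h6 := six_le_index h C hCtop
  have hci := C.card_mul_index
  have hci2 := (S : Subgroup C).card_mul_index
  rw [hcS] at hci2
  rw [h, ← hci2] at hci
  have hm : (S : Subgroup C).index ≤ 6 := by
    by_contra hlt
    push Not at hlt
    nlinarith
  obtain ⟨hn4, hm4⟩ := arith4 hm hci S.card_dvd_index hn1 (card_sylow_modEq_one 3 C)
  have hcC : Nat.card C = 36 := by omega
  have hNS : normalizer (S : Set C) = (S : Subgroup C) := by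
    symm
    apply Subgroup.eq_of_le_of_card_ge le_normalizer
    have h1 := (normalizer (S : Set C)).card_mul_index
    rw [← Sylow.card_eq_index_normalizer S, hn4, hcC] at h1
    rw [hcS]
    change Nat.card (normalizer (S : Set C)) ≤ 9
    omega
  have hcent : normalizer (S : Set C) ≤ centralizer (S : Set C) := by
    rw [hNS]
    intro x hx
    rw [mem_centralizer_iff]
    intro y hy
    apply Subtype.ext
    have h1 : (y : G) ∈ P := hy
    have h2 : (x : G) ∈ P := hx
    exact comm_sylow h P h1 h2
  have hcompl := MonoidHom.ker_transferSylow_isComplement' S hcent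
  set V := (MonoidHom.transferSylow S hcent).ker with hV
  have hcV : Nat.card V = 4 := by
    have := hcompl.card_mul_card
    rw [hcS, hcC] at this
    omega
  set V' := V.map C.subtype with hV'
  have hcV' : Nat.card V' = 4 := by
    rw [← hcV]
    exact (Nat.card_congr (V.equivMapOfInjective C.subtype C.subtype_injective).toEquiv).symm
  have hCN : C ≤ normalizer (V' : Set G) := by
    have h1 : normalizer (V : Set C) = ⊤ := normalizer_eq_top_iff.2 inferInstance
    have h2 := Subgroup.le_normalizer_map (H := V) C.subtype
    rw [h1] at h2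
    intro x hx
    exact h2 ⟨⟨x, hx⟩, mem_top _, rfl⟩
  have h36 : 36 ∣ Nat.card (normalizer (V' : Set G)) := by
    rw [← hcC]
    exact Subgroup.card_dvd_of_le hCN
  have h8 : 8 ∣ Nat.card (normalizer (V' : Set G)) := by
    have := Sylow.prime_pow_dvd_card_normalizer (p := 2) (n := 2) (by rw [h]; norm_num) (H := V')
      (by rw [hcV']; norm_num)
    norm_num at this
    exact this
  have h72 : 72 ∣ Nat.card (normalizer (V' : Set G)) := by omega
  have htop := eq_top_of_dvd h h72
  have hnV : V'.Normal := normalizer_eq_top_iff.1 htop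
  have := eq_bot_of_normal h hnV (by rw [hcV']; norm_num)
  rw [this, card_bot] at hcV'
  norm_num at hcV'

end
end Cfsg.Agent.Classification.Order360
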