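import Mathlib
import Cfsg.Agent.Classification.Order360

set_option autoImplicit false
set_option linter.unusedSectionVars false
namespace Cfsg.Agent.Classification.Order360Action
open Subgroup MulAction Order360

variable {G : Type*} [Group G] [Finite G] [IsSimpleGroup G] (h : Nat.card G = 360)
include h

theorem eq_one_of_smul {P Q : Sylow 3 G} (hPQ : P ≠ Q) {x : G} (hx : x ∈ P) (hQ : x • Q = Q) :
    x = 1 := by
  have h1 : x ∈ normalizer (Q : Set G) := by
    rw [← Sylow.stabilizer_eq_normalizer]; exact hQ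
  have h2 : x ∈ (P : Subgroup G) ⊓ normalizer (Q : Set G) := ⟨hx, h1⟩
  rw [P.isPGroup'.inf_normalizer_sylow Q, inf_sylow h P Q hPQ] at h2
  exact h2

omit [Finite G] [IsSimpleGroup G] h in
theorem smul_self {P : Sylow 3 G} {x : G} (hx : x ∈ P) : x • P = P := by
  have : x ∈ stabilizer G P := by
    rw [Sylow.stabilizer_eq_normalizer]
    exact le_normalizer hx
  exact this

theorem ncard_compl (P : Sylow 3 G) : ({P}ᶜ : Set (Sylow 3 G)).ncard = 9 := by
  have h1 := Set.ncard_add_ncard_compl ({P} : Set (Sylow 3 G))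
  rw [card_sylow_three h, Set.ncard_singleton] at h1
  omega

theorem image_smul {P Q : Sylow 3 G} (hPQ : P ≠ Q) :
    (fun x : G => x • Q) '' (P : Set G) = {P}ᶜ := by
  apply Set.eq_of_subset_of_ncard_le
  · rintro _ ⟨x, hx, rfl⟩ h1
    simp only [Set.mem_singleton_iff] at h1
    apply hPQ
    have : Q = x⁻¹ • P := by rw [← h1, inv_smul_smul]
    rw [this, smul_self (inv_mem hx)]
  · rw [ncard_compl h, Set.InjOn.ncard_image]
    · have := card_sylow h P
      rw [← this]
      exact le_of_eq (Nat.card_coe_set_eq (P : Set G)).symm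
    · intro x hx y hy hxy
      have h1 : (y⁻¹ * x) • Q = Q := by
        simp only at hxy
        rw [mul_smul, hxy, inv_smul_smul]
      have := eq_one_of_smul h hPQ (mul_mem (inv_mem hy) hx) h1
      exact (inv_mul_eq_one.1 this).symm
  · exact Set.toFinite _

theorem exists_smul_eq {P Q R : Sylow 3 G} (hQ : P ≠ Q) (hR : P ≠ R) : ∃ x ∈ P, x • Q = R := by
  have : R ∈ ({P}ᶜ : Set (Sylow 3 G)) := fun h1 => hR h1.symm
  rw [← image_smul h hQ] at this
  exact this

theorem card_stab (P : Sylow 3 G) : Nat.card (stabilizer G P) = 36 := by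
  rw [Sylow.stabilizer_eq_normalizer]
  have h1 := (normalizer (P : Set G)).card_mul_index
  rw [← Sylow.card_eq_index_normalizer P, card_sylow_three h, h] at h1
  omega

theorem faithful {x : G} (hx : ∀ R : Sylow 3 G, x • R = R) : x = 1 := by
  have h1 : (toPermHom G (Sylow 3 G)).ker = ⊥ := by
    apply eq_bot_of_normal h inferInstance
    intro h1
    have h2 : (toPermHom G (Sylow 3 G)).ker = ⊤ :=
      Subgroup.eq_top_of_card_eq _ (by rw [h1, h])
    obtain ⟨P⟩ : Nonempty (Sylow 3 G) := inferInstance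
    have h3 := card_stab h P
    have h4 : stabilizer G P = ⊤ := by
      rw [eq_top_iff]
      intro g _
      have : g ∈ (toPermHom G (Sylow 3 G)).ker := h2 ▸ mem_top g
      rw [MonoidHom.mem_ker] at this
      exact Equiv.Perm.congr_fun this P
    rw [h4, card_top, h] at h3
    norm_num at h3
  have h2 : x ∈ (toPermHom G (Sylow 3 G)).ker := by
    rw [MonoidHom.mem_ker]
    ext R : 1
    exact hx R
  rw [h1] at h2
  exact h2

theorem card_stab2 {P Q : Sylow 3 G} (hPQ : P ≠ Q) :
    Nat.card (stabilizer G P ⊓ stabilizer G Q : Subgroup G) = 4 := by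
  have h1 : (orbit (stabilizer G P) Q).ncard = 9 := by
    rw [← ncard_compl h P]
    congr 1
    ext R
    constructor
    · rintro ⟨g, rfl⟩ h1
      simp only [Set.mem_singleton_iff] at h1
      have h2 : (g : G) • P = P := g.2
      have h3 : (g : G) • Q = P := h1
      exact hPQ (MulAction.injective (g : G) (h2.trans h3.symm))
    · intro h1
      obtain ⟨x, hx, rfl⟩ := exists_smul_eq h hPQ (fun h2 => h1 h2.symm)
      exact ⟨⟨x, smul_self hx⟩, rfl⟩
  have h2 := index_stabilizer (stabilizer G P) Q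
  have h3 := (stabilizer (stabilizer G P) Q).card_mul_index
  rw [h2, h1, card_stab h P] at h3
  have h4 : (stabilizer G P ⊓ stabilizer G Q : Subgroup G).subgroupOf (stabilizer G P) = stabilizer (stabilizer G P) Q := by
    ext g
    simp only [mem_subgroupOf, mem_inf, g.2, true_and]
    rfl
  have h5 := Nat.card_congr (Subgroup.subgroupOfEquivOfLe (inf_le_left : stabilizer G P ⊓ stabilizer G Q ≤ stabilizer G P)).toEquiv
  rw [h4] at h5
  omega

theorem sign_eq_one [Fintype (Sylow 3 G)] [DecidableEq (Sylow 3 G)] (g : G) :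
    Equiv.Perm.sign (toPermHom G (Sylow 3 G) g) = 1 := by
  have hk : (Equiv.Perm.sign.comp (toPermHom G (Sylow 3 G))).ker = ⊤ := by
    rcases Subgroup.Normal.eq_bot_or_eq_top
      (H := (Equiv.Perm.sign.comp (toPermHom G (Sylow 3 G))).ker) inferInstance with h1 | h1
    · have := Nat.card_le_card_of_injective _ ((MonoidHom.ker_eq_bot_iff _).1 h1)
      rw [h] at this
      have h2 : Nat.card ℤˣ = 2 := by simp
      omega
    · exact h1
  have : g ∈ (Equiv.Perm.sign.comp (toPermHom G (Sylow 3 G))).ker := hk ▸ mem_top g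
  exact this

/-- The number of fixed points of an involution is not `4`, it is congruent to `2` modulo `4`. -/
theorem fixed_mod (x : G) (hx : x ≠ 1) (hxx : x * x = 1) :
    ({R | x • R = R} : Set (Sylow 3 G)).ncard % 4 = 2 := by
  classical
  have := Fintype.ofFinite (Sylow 3 G)
  set σ := toPermHom G (Sylow 3 G) x with hσ
  have hσ2 : σ ^ 2 = 1 := by rw [hσ, ← map_pow, pow_two, hxx, map_one]
  have hσ1 : σ ≠ 1 := by
    intro h1
    apply hx
    apply faithful h
    intro R
    exact Equiv.Perm.congr_fun h1 R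
  have ho : orderOf σ = 2 := orderOf_eq_prime hσ2 hσ1
  obtain ⟨n, hn⟩ := Equiv.Perm.cycleType_prime_order (by rw [ho]; exact Nat.prime_two)
  have hs := sign_eq_one h x
  rw [← hσ, Equiv.Perm.sign_of_cycleType, hn, ho] at hs
  simp only [Multiset.sum_replicate, Multiset.card_replicate, smul_eq_mul] at hs
  have hsum := σ.sum_cycleType
  rw [hn, ho] at hsum
  simp only [Multiset.sum_replicate, smul_eq_mul] at hsum
  have heven : Even ((n + 1) * 2 + (n + 1)) := by
    by_contra hodd
    rw [Nat.not_even_iff_odd] at hodd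
    rw [hodd.neg_one_pow] at hs
    exact absurd hs (by decide)
  have hF : ({R | x • R = R} : Set (Sylow 3 G)).ncard + σ.support.card = 10 := by
    have h1 : ({R | x • R = R} : Set (Sylow 3 G)) = ((σ.supportᶜ : Finset (Sylow 3 G)) : Set (Sylow 3 G)) := by
      ext R
      simp [hσ]
    rw [h1, Set.ncard_coe_finset, Finset.card_compl, ← Nat.card_eq_fintype_card, card_sylow_three h]
    have h2 := Finset.card_le_univ σ.support
    rw [← Nat.card_eq_fintype_card, card_sylow_three h] at h2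
    omega
  rw [Nat.even_iff] at heven
  omega

theorem conj_mem {P : Sylow 3 G} {x : G} (hx : x • P = P) {a : G} (ha : a ∈ P) :
    x * a * x⁻¹ ∈ P := by
  have : x ∈ normalizer (P : Set G) := by
    rw [← Sylow.stabilizer_eq_normalizer]; exact hx
  exact ((mem_normalizer_iff.1 this) a).1 ha

theorem smul_smul_eq_iff {P Q : Sylow 3 G} (hPQ : P ≠ Q) {x : G} (hxP : x • P = P)
    (hxQ : x • Q = Q) {a : G} (ha : a ∈ P) : x • a • Q = a • Q ↔ x * a * x⁻¹ = a := by
  have h1 : x • a • Q = (x * a * x⁻¹) • Q := by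
    conv_rhs => rw [← hxQ]
    rw [← mul_smul, ← mul_smul]
    congr 1
    group
  rw [h1]
  constructor
  · intro h2
    have h3 : (a⁻¹ * (x * a * x⁻¹)) • Q = Q := by rw [mul_smul, h2, inv_smul_smul]
    have h4 := eq_one_of_smul h hPQ (mul_mem (inv_mem ha) (conj_mem h hxP ha)) h3
    exact (inv_mul_eq_one.1 h4).symm
  · intro h2
    rw [h2]

theorem fixed_ncard {P Q : Sylow 3 G} (hPQ : P ≠ Q) {x : G} (hxP : x • P = P) (hxQ : x • Q = Q) :
    ({R | x • R = R} : Set (Sylow 3 G)).ncard =
      1 + Nat.card ((P : Subgroup G) ⊓ centralizer {x} : Subgroup G) := by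
  have h1 : ({R | x • R = R} : Set (Sylow 3 G)) =
      insert P ((fun a : G => a • Q) '' ((P : Subgroup G) ⊓ centralizer {x} : Subgroup G)) := by
    ext R
    simp only [Set.mem_ofPred_eq, Set.mem_insert_iff, Set.mem_image, SetLike.mem_coe, mem_inf,
      mem_centralizer_singleton_iff]
    constructor
    · intro h1
      by_cases h2 : P = R
      · exact Or.inl h2.symm
      · right
        obtain ⟨a, ha, rfl⟩ := exists_smul_eq h hPQ h2
        refine ⟨a, ⟨ha, ?_⟩, rfl⟩
        have := (smul_smul_eq_iff h hPQ hxP hxQ ha).1 h1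
        rw [mul_inv_eq_iff_eq_mul] at this
        exact this.symm
    · rintro (rfl | ⟨a, ⟨ha, ha2⟩, rfl⟩)
      · exact hxP
      · rw [smul_smul_eq_iff h hPQ hxP hxQ ha, mul_inv_eq_iff_eq_mul]
        exact ha2.symm
  rw [h1, Set.ncard_insert_of_notMem, Set.InjOn.ncard_image, add_comm]
  · rfl
  · intro a ha b hb hab
    simp only at hab
    have h2 : (b⁻¹ * a) • Q = Q := by rw [mul_smul, hab, inv_smul_smul]
    have := eq_one_of_smul h hPQ (mul_mem (inv_mem hb.1) ha.1) h2
    exact (inv_mul_eq_one.1 this).symm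
  · rintro ⟨a, ha, h2⟩
    simp only at h2
    apply hPQ
    have : Q = a⁻¹ • P := by rw [← h2, inv_smul_smul]
    rw [this, smul_self (inv_mem ha.1)]

/-- An involution fixing two points fixes exactly these and inverts the Sylow subgroup. -/
theorem inf_centralizer {P Q : Sylow 3 G} (hPQ : P ≠ Q) {x : G} (hxP : x • P = P) (hxQ : x • Q = Q)
    (hx : x ≠ 1) (hxx : x * x = 1) : (P : Subgroup G) ⊓ centralizer {x} = ⊥ := by
  have h1 := fixed_mod h x hx hxx
  have h2 := fixed_ncard h hPQ hxP hxQ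
  have h3 : Nat.card ((P : Subgroup G) ⊓ centralizer {x} : Subgroup G) ∣ 9 := by
    rw [← card_sylow h P]
    exact Subgroup.card_dvd_of_le inf_le_left
  have h4 : ({R | x • R = R} : Set (Sylow 3 G)).ncard ≠ 10 := by
    intro h4
    apply hx
    apply faithful h
    intro R
    have h5 : ({R | x • R = R} : Set (Sylow 3 G)) = Set.univ := by
      apply Set.eq_of_subset_of_ncard_le (Set.subset_univ _)
      rw [h4, Set.ncard_univ, card_sylow_three h]
    have : R ∈ ({R | x • R = R} : Set (Sylow 3 G)) := h5 ▸ Set.mem_univ R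
    exact this
  rw [← Subgroup.card_eq_one]
  have h5 := Nat.le_of_dvd (by norm_num) h3
  generalize Nat.card ((P : Subgroup G) ⊓ centralizer {x} : Subgroup G) = c at *
  generalize ({R | x • R = R} : Set (Sylow 3 G)).ncard = d at *
  interval_cases c <;> omega

theorem conj_eq_inv {P Q : Sylow 3 G} (hPQ : P ≠ Q) {x : G} (hxP : x • P = P) (hxQ : x • Q = Q)
    (hx : x ≠ 1) (hxx : x * x = 1) {a : G} (ha : a ∈ P) : x * a * x⁻¹ = a⁻¹ := by
  have h1 := inf_centralizer h hPQ hxP hxQ hx hxx
  have h2 := conj_mem h hxP ha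
  have h3 : a * (x * a * x⁻¹) ∈ (P : Subgroup G) ⊓ centralizer {x} := by
    refine mem_inf.2 ⟨mul_mem ha h2, ?_⟩
    rw [mem_centralizer_singleton_iff]
    have h4 : a * (x * a * x⁻¹) = (x * a * x⁻¹) * a := comm_sylow h P ha h2
    have hxi : x⁻¹ = x := inv_eq_of_mul_eq_one_left hxx
    calc a * (x * a * x⁻¹) * x = a * x * a := by group
      _ = x * (x * a * x⁻¹ * a) := by rw [hxi]; simp only [← mul_assoc, hxx, one_mul]
      _ = x * (a * (x * a * x⁻¹)) := by rw [← h4]
  rw [h1, mem_bot] at h3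
  exact eq_inv_of_mul_eq_one_right h3

theorem fixed_iff {P Q : Sylow 3 G} (hPQ : P ≠ Q) {x : G} (hxP : x • P = P) (hxQ : x • Q = Q)
    (hx : x ≠ 1) (hxx : x * x = 1) {R : Sylow 3 G} (hR : x • R = R) : R = P ∨ R = Q := by
  by_cases h1 : P = R
  · exact Or.inl h1.symm
  · right
    obtain ⟨a, ha, rfl⟩ := exists_smul_eq h hPQ h1
    have h2 := (smul_smul_eq_iff h hPQ hxP hxQ ha).1 hR
    have h3 : a ∈ (P : Subgroup G) ⊓ centralizer {x} := by
      refine mem_inf.2 ⟨ha, ?_⟩
      rw [mem_centralizer_singleton_iff]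
      exact (mul_inv_eq_iff_eq_mul.1 h2).symm
    rw [inf_centralizer h hPQ hxP hxQ hx hxx, mem_bot] at h3
    rw [h3, one_smul]

theorem pow_card_mem {P : Sylow 3 G} {a : G} (ha : a ∈ P) : a ^ 9 = 1 := by
  have h1 := pow_card_eq_one' (x := (⟨a, ha⟩ : (P : Subgroup G)))
  rw [card_sylow h P] at h1
  exact congrArg Subtype.val h1

theorem eq_one_of_inv {P : Sylow 3 G} {a : G} (ha : a ∈ P) (h1 : a = a⁻¹) : a = 1 := by
  have h2 : a * a = 1 := by
    nth_rw 1 [h1]
    exact inv_mul_cancel a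
  have h3 := pow_card_mem h ha
  calc a = a ^ 9 := by
        have : a ^ 9 = (a * a) * (a * a) * (a * a) * (a * a) * a := by simp only [pow_succ, pow_zero, one_mul, mul_assoc]
        rw [this, h2]; simp
    _ = 1 := h3

theorem exists_ne_one (P : Sylow 3 G) : ∃ a ∈ P, a ≠ (1 : G) := by
  by_contra hcon
  push Not at hcon
  have h1 : (P : Subgroup G) = ⊥ := (eq_bot_iff_forall _).2 hcon
  have h2 := card_sylow h P
  rw [h1, card_bot] at h2
  norm_num at h2

theorem exists_k {P Q : Sylow 3 G} (hPQ : P ≠ Q) :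
    ∃ k : G, k • P = P ∧ k • Q = Q ∧ k * k ≠ 1 ∧ (k * k) * (k * k) = 1 := by
  have hc := card_stab2 h hPQ
  set K : Subgroup G := stabilizer G P ⊓ stabilizer G Q with hK
  have h4 : ∀ x ∈ K, (x * x) * (x * x) = 1 := by
    intro x hx
    have h1 := pow_card_eq_one' (x := (⟨x, hx⟩ : K))
    rw [hc] at h1
    have h2 : x ^ 4 = 1 := congrArg Subtype.val h1
    rw [← h2]
    simp only [pow_succ, pow_zero, one_mul, mul_assoc]
  by_contra hcon
  push Not at hcon
  have h2 : ∀ x ∈ K, x * x = 1 := by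
    intro x hx
    by_contra h1
    exact hcon x (mem_inf.1 hx).1 (mem_inf.1 hx).2 h1 (h4 x hx)
  obtain ⟨x, hxK, hx1⟩ : ∃ x ∈ K, x ≠ 1 := by
    by_contra hcon
    push Not at hcon
    have h1 : K = ⊥ := (eq_bot_iff_forall _).2 hcon
    rw [h1, card_bot] at hc
    norm_num at hc
  obtain ⟨y, hyK, hy⟩ : ∃ y ∈ K, y ∉ zpowers x := by
    by_contra hcon
    push Not at hcon
    have h1 : Nat.card K ≤ Nat.card (zpowers x) := Subgroup.card_le_of_le hcon
    rw [Nat.card_zpowers, hc, orderOf_eq_prime (p := 2) (by rw [pow_two]; exact h2 x hxK) hx1] at h1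
    omega
  have hy1 : y ≠ 1 := by rintro rfl; exact hy (one_mem _)
  have hxy : x * y ≠ 1 := by
    intro h1
    apply hy
    rw [← inv_eq_of_mul_eq_one_right h1]
    exact inv_mem (mem_zpowers x)
  have hxyK : x * y ∈ K := mul_mem hxK hyK
  obtain ⟨a, ha, ha1⟩ := exists_ne_one h P
  apply ha1
  apply eq_one_of_inv h ha
  have e1 := conj_eq_inv h hPQ (mem_inf.1 hxK).1 (mem_inf.1 hxK).2 hx1 (h2 x hxK) ha
  have e2 := conj_eq_inv h hPQ (mem_inf.1 hyK).1 (mem_inf.1 hyK).2 hy1 (h2 y hyK) ha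
  have e3 := conj_eq_inv h hPQ (mem_inf.1 hxyK).1 (mem_inf.1 hxyK).2 hxy (h2 _ hxyK) ha
  calc a = (a⁻¹)⁻¹ := (inv_inv a).symm
    _ = (x * a * x⁻¹)⁻¹ := by rw [e1]
    _ = x * a⁻¹ * x⁻¹ := by group
    _ = x * (y * a * y⁻¹) * x⁻¹ := by rw [e2]
    _ = x * y * a * (x * y)⁻¹ := by group
    _ = a⁻¹ := e3

theorem stab_eq_zpowers {P Q : Sylow 3 G} (hPQ : P ≠ Q) {k : G} (hkP : k • P = P) (hkQ : k • Q = Q)
    (hk : k * k ≠ 1) (hk4 : (k * k) * (k * k) = 1) :
    (stabilizer G P ⊓ stabilizer G Q : Subgroup G) = zpowers k := by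
  symm
  apply Subgroup.eq_of_le_of_card_ge
  · rw [zpowers_le]
    exact mem_inf.2 ⟨hkP, hkQ⟩
  · rw [card_stab2 h hPQ, Nat.card_zpowers]
    have : orderOf k = 2 ^ (1 + 1) := by
      apply orderOf_eq_prime_pow
      · rw [pow_one, pow_two]; exact hk
      · rw [show (2 ^ (1 + 1) : ℕ) = 2 * 2 by norm_num, pow_mul, pow_two, pow_two, hk4]
    omega

theorem eq_pow_of_stab {P Q : Sylow 3 G} (hPQ : P ≠ Q) {k : G} (hkP : k • P = P) (hkQ : k • Q = Q)
    (hk : k * k ≠ 1) (hk4 : (k * k) * (k * k) = 1) {x : G} (hxP : x • P = P) (hxQ : x • Q = Q) :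
    x = 1 ∨ x = k ∨ x = k * k ∨ x = k⁻¹ := by
  have h1 : x ∈ zpowers k := by
    rw [← stab_eq_zpowers h hPQ hkP hkQ hk hk4]
    exact mem_inf.2 ⟨hxP, hxQ⟩
  have ho : orderOf k = 4 := by
    have : orderOf k = 2 ^ (1 + 1) := by
      apply orderOf_eq_prime_pow
      · rw [pow_one, pow_two]; exact hk
      · rw [show (2 ^ (1 + 1) : ℕ) = 2 * 2 by norm_num, pow_mul, pow_two, pow_two, hk4]
    omega
  classical
  rw [mem_zpowers_iff_mem_range_orderOf, ho] at h1
  simp only [Finset.mem_image, Finset.mem_range] at h1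
  obtain ⟨n, hn, rfl⟩ := h1
  interval_cases n
  · left; simp
  · right; left; simp
  · right; right; left; rw [pow_two]
  · right; right; right
    symm
    apply inv_eq_of_mul_eq_one_left
    rw [← hk4]; simp only [pow_succ, pow_zero, one_mul, mul_assoc]

/-- `t`: an involution swapping `P` and `Q`, with exactly two fixed points, and inverting `k`. -/
theorem exists_t {P Q : Sylow 3 G} (hPQ : P ≠ Q) {k : G} (hkP : k • P = P) (hkQ : k • Q = Q)
    (hk : k * k ≠ 1) (hk4 : (k * k) * (k * k) = 1) :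
    ∃ (t : G) (R : Sylow 3 G), t • P = Q ∧ t • Q = P ∧ t * t = 1 ∧ t * k * t⁻¹ = k⁻¹ ∧ t • R = R ∧
      P ≠ R ∧ Q ≠ R ∧ ∀ R', t • R' = R' → R' = R ∨ R' = (k * k) • R := by
  set z := k * k with hz
  have hzP : z • P = P := by rw [hz, mul_smul, hkP, hkP]
  have hzQ : z • Q = Q := by rw [hz, mul_smul, hkQ, hkQ]
  obtain ⟨a, ha, ha1⟩ := exists_ne_one h P
  set x := a • Q with hx
  have hxQ : x ≠ Q := by
    intro h1
    exact ha1 (eq_one_of_smul h hPQ ha h1)
  have hxP : x ≠ P := by
    intro h1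
    apply hPQ
    have : Q = a⁻¹ • P := by rw [← h1, hx, inv_smul_smul]
    rw [this, smul_self (inv_mem ha)]
  have hzx : z • x ≠ x := by
    intro h1
    rcases fixed_iff h hPQ hzP hzQ hk hk4 h1 with h2 | h2
    · exact hxP h2
    · exact hxQ h2
  -- `g` maps `x` to `P` and `z • x` to `Q`
  obtain ⟨g₁, hg₁⟩ : ∃ g : G, g • x = P := MulAction.exists_smul_eq G x P
  have hne : P ≠ g₁ • z • x := by
    rw [← hg₁]
    intro h1
    exact hzx (MulAction.injective g₁ h1).symm
  obtain ⟨c, hc, hcQ⟩ := exists_smul_eq h hne hPQ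
  set g := c * g₁ with hg
  have hgx : g • x = P := by rw [hg, mul_smul, hg₁, smul_self hc]
  have hgzx : g • z • x = Q := by rw [hg, mul_smul, hcQ]
  set t := g * z * g⁻¹ with ht
  have htg : ∀ R : Sylow 3 G, t • g • R = g • z • R := by
    intro R
    rw [ht, ← mul_smul, ← mul_smul]
    congr 1
    group
  have htP : t • P = Q := by rw [← hgx, htg, hgzx]
  have htt : t * t = 1 := by
    calc t * t = g * (z * z) * g⁻¹ := by rw [ht]; group
      _ = 1 := by rw [hk4]; group
  have htQ : t • Q = P := by rw [← htP, ← mul_smul, htt, one_smul]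
  have ht1 : t ≠ 1 := by
    intro h1
    rw [h1, one_smul] at htP
    exact hPQ htP
  set R := g • P with hR
  have htR : t • R = R := by rw [hR, htg, hzP]
  have hfix : ∀ R', t • R' = R' → R' = g • P ∨ R' = g • Q := by
    intro R' hR'
    have h1 : z • g⁻¹ • R' = g⁻¹ • R' := by
      apply MulAction.injective g
      change g • z • g⁻¹ • R' = g • g⁻¹ • R'
      rw [← htg, smul_inv_smul, hR']
    rcases fixed_iff h hPQ hzP hzQ hk hk4 h1 with h2 | h2
    · left; rw [← h2, smul_inv_smul]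
    · right; rw [← h2, smul_inv_smul]
  have hRP : P ≠ R := by
    intro h1
    rw [← h1, htP] at htR
    exact hPQ htR.symm
  have hRQ : Q ≠ R := by
    intro h1
    rw [← h1, htQ] at htR
    exact hPQ htR
  have hti : t⁻¹ = t := inv_eq_of_mul_eq_one_left htt
  have hzR : z • R ≠ R := by
    intro h1
    rcases fixed_iff h hPQ hzP hzQ hk hk4 h1 with h2 | h2
    · exact hRP h2.symm
    · exact hRQ h2.symm
  have hkR : k • R ≠ R := by
    intro h1
    apply hzR
    rw [hz, mul_smul, h1, h1]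
  -- `t k t⁻¹` is `k` or `k⁻¹`
  have hcP : (t * k * t⁻¹) • P = P := by
    rw [hti, mul_smul, mul_smul, htP, hkQ, htQ]
  have hcQ' : (t * k * t⁻¹) • Q = Q := by
    rw [hti, mul_smul, mul_smul, htQ, hkP, htP]
  have hinv : t * k * t⁻¹ = k⁻¹ := by
    rcases eq_pow_of_stab h hPQ hkP hkQ hk hk4 hcP hcQ' with h1 | h1 | h1 | h1
    · exfalso
      apply hk
      have : k = 1 := by
        rw [mul_inv_eq_one] at h1
        exact mul_eq_left.1 h1
      rw [hz, this, one_mul]
    · exfalso
      -- `t` commutes with `k`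
      have hcomm : ∀ R' : Sylow 3 G, t • k • R' = k • t • R' := by
        intro R'
        rw [← mul_smul, ← mul_smul, mul_inv_eq_iff_eq_mul.1 h1]
      have f1 : t • k • R = k • R := by rw [hcomm, htR]
      have f2 : t • k • k • R = k • k • R := by rw [hcomm, f1]
      have g1 : k • R = g • Q := (hfix _ f1).resolve_left hkR
      have g2 : k • k • R = g • Q := by
        refine (hfix _ f2).resolve_left ?_
        rw [← mul_smul]
        exact hzR
      rw [← g1] at g2
      exact hkR (MulAction.injective k g2)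
    · exfalso
      apply hk
      have h2 : (t * k * t⁻¹) * (t * k * t⁻¹) = 1 := by rw [h1]; exact hk4
      calc z = t⁻¹ * ((t * k * t⁻¹) * (t * k * t⁻¹)) * t := by rw [hz]; group
        _ = 1 := by rw [h2]; group
    · exact h1
  refine ⟨t, R, htP, htQ, htt, hinv, htR, hRP, hRQ, ?_⟩
  intro R' hR'
  have hz2 : t • z • R = z • R := by
    have : t * z = z⁻¹ * t := by
      have e1 : t * k = k⁻¹ * t := mul_inv_eq_iff_eq_mul.1 hinv
      rw [hz]
      calc t * (k * k) = (t * k) * k := (mul_assoc _ _ _).symm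
        _ = k⁻¹ * (t * k) := by rw [e1]; exact (mul_assoc _ _ _).trans (by rw [e1])
        _ = (k * k)⁻¹ * t := by rw [e1]; group
    rw [← mul_smul, this, mul_smul, htR, inv_eq_of_mul_eq_one_left hk4]
  have hzR2 : z • R = g • Q := (hfix _ hz2).resolve_left hzR
  rw [hzR2]
  exact hfix R' hR'

end Cfsg.Agent.Classification.Order360Action
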