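import Mathlib
import Cfsg.Agent.Classification.Order360Action

set_option autoImplicit false
set_option linter.unusedSectionVars false
namespace Cfsg.Agent.Classification.Order360Iso
open Subgroup MulAction Order360 Order360Action

/-- The ten points. -/
abbrev X : Type := Option (ZMod 3 × ZMod 3)

/-- translation by `(1,0)` -/
def A : Equiv.Perm X where
  toFun := Option.map (fun p => (p.1 + 1, p.2))
  invFun := Option.map (fun p => (p.1 - 1, p.2))
  left_inv := by decide
  right_inv := by decide

/-- translation by `(0,1)` -/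
def B : Equiv.Perm X where
  toFun := Option.map (fun p => (p.1, p.2 + 1))
  invFun := Option.map (fun p => (p.1, p.2 - 1))
  left_inv := by decide
  right_inv := by decide

/-- multiplication by `i` -/
def K : Equiv.Perm X where
  toFun := Option.map (fun p => (- p.2, p.1))
  invFun := Option.map (fun p => (p.2, - p.1))
  left_inv := by decide
  right_inv := by decide

/-- the inversion `x ↦ 1/x` -/
def T : Equiv.Perm X where
  toFun := fun x => match x with
    | none => some (0, 0)
    | some p => if p = (0, 0) then none else if p.1 * p.2 = 0 then some (p.1, - p.2) else some (- p.1, p.2)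
  invFun := fun x => match x with
    | none => some (0, 0)
    | some p => if p = (0, 0) then none else if p.1 * p.2 = 0 then some (p.1, - p.2) else some (- p.1, p.2)
  left_inv := by decide
  right_inv := by decide

/-- the wrong inversion -/
def T' : Equiv.Perm X where
  toFun := fun x => match x with
    | none => some (0, 0)
    | some p => if p = (0, 0) then none else some (p.1, - p.2)
  invFun := fun x => match x with
    | none => some (0, 0)
    | some p => if p = (0, 0) then none else some (p.1, - p.2)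
  left_inv := by decide
  right_inv := by decide

theorem tau_eq (τ : Equiv.Perm X) (h0 : τ none = some (0, 0)) (h1 : τ (some (0, 0)) = none)
    (h2 : τ (some (1, 0)) = some (1, 0)) (hK : ∀ x, τ (K x) = K⁻¹ (τ x))
    (hfix : ∀ x, τ x = x → x = some (1, 0) ∨ x = some (2, 0)) : τ = T ∨ τ = T' := by
  have e1 : τ (some (0, 1)) = some (0, 2) := by
    have := hK (some (1, 0)); rw [h2] at this; exact this
  have e2 : τ (some (2, 0)) = some (2, 0) := by
    have := hK (some (0, 1)); rw [e1] at this; exact this
  have e3 : τ (some (0, 2)) = some (0, 1) := by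
    have := hK (some (2, 0)); rw [e2] at this; exact this
  have f1 := hK (some (1, 1))
  have f2 := hK (some (2, 1))
  have f3 := hK (some (2, 2))
  have g1 : K (some (1, 1)) = some (2, 1) := by decide
  have g2 : K (some (2, 1)) = some (2, 2) := by decide
  have g3 : K (some (2, 2)) = some (1, 2) := by decide
  rw [g1] at f1
  rw [g2, f1] at f2
  rw [g3, f2] at f3
  have hinj : ∀ x y, τ x = τ y → x = y := fun x y hxy => τ.injective hxy
  have n0 := hinj (some (1, 1)) none
  have n1 := hinj (some (1, 1)) (some (0, 0))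
  have n2 := hinj (some (1, 1)) (some (1, 0))
  have n3 := hinj (some (1, 1)) (some (0, 1))
  have n4 := hinj (some (1, 1)) (some (2, 0))
  have n5 := hinj (some (1, 1)) (some (0, 2))
  have m1 := hfix (some (1, 1))
  have m2 := hfix (some (2, 1))
  rw [h0] at n0
  rw [h1] at n1
  rw [h2] at n2
  rw [e1] at n3
  rw [e2] at n4
  rw [e3] at n5
  rw [f1] at m2
  have hy : τ (some (1, 1)) = some (2, 1) ∨ τ (some (1, 1)) = some (1, 2) := by
    generalize τ (some (1, 1)) = y at n0 n1 n2 n3 n4 n5 m1 m2
    have k0 : y ≠ some (0, 0) := fun h => absurd (n0 h) (by decide)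
    have k1 : y ≠ none := fun h => absurd (n1 h) (by decide)
    have k2 : y ≠ some (1, 0) := fun h => absurd (n2 h) (by decide)
    have k3 : y ≠ some (0, 2) := fun h => absurd (n3 h) (by decide)
    have k4 : y ≠ some (2, 0) := fun h => absurd (n4 h) (by decide)
    have k5 : y ≠ some (0, 1) := fun h => absurd (n5 h) (by decide)
    have k6 : y ≠ some (1, 1) := fun h => absurd (m1 h) (by decide)
    have k7 : K⁻¹ y ≠ some (2, 1) := fun h => absurd (m2 h) (by decide)
    clear n0 n1 n2 n3 n4 n5 m1 m2
    have key : ∀ y : X, ¬ (y = some (0, 0) ∨ y = none ∨ y = some (1, 0) ∨ y = some (0, 2) ∨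
      y = some (2, 0) ∨ y = some (0, 1) ∨ y = some (1, 1) ∨ K⁻¹ y = some (2, 1)) →
      (y = some (2, 1) ∨ y = some (1, 2)) := by decide
    apply key
    simp only [not_or]
    exact ⟨k0, k1, k2, k3, k4, k5, k6, k7⟩
  have hx : ∀ (σ : Equiv.Perm X), σ none = τ none → σ (some (0, 0)) = τ (some (0, 0)) →
      σ (some (1, 0)) = τ (some (1, 0)) → σ (some (0, 1)) = τ (some (0, 1)) →
      σ (some (2, 0)) = τ (some (2, 0)) → σ (some (0, 2)) = τ (some (0, 2)) →
      σ (some (1, 1)) = τ (some (1, 1)) → σ (some (2, 1)) = τ (some (2, 1)) →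
      σ (some (2, 2)) = τ (some (2, 2)) → σ (some (1, 2)) = τ (some (1, 2)) → τ = σ := by
    intro σ a0 a1 a2 a3 a4 a5 a6 a7 a8 a9
    ext1 x
    rcases x with _ | ⟨i, j⟩
    · exact a0.symm
    · fin_cases i <;> fin_cases j
      · exact a1.symm
      · exact a3.symm
      · exact a5.symm
      · exact a2.symm
      · exact a6.symm
      · exact a9.symm
      · exact a4.symm
      · exact a7.symm
      · exact a8.symm
  rcases hy with hy | hy
  · left
    apply hx T
    · rw [h0]; decide
    · rw [h1]; decide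
    · rw [h2]; decide
    · rw [e1]; decide
    · rw [e2]; decide
    · rw [e3]; decide
    · rw [hy]; decide
    · rw [f1, hy]; decide
    · rw [f2, hy]; decide
    · rw [f3, hy]; decide
  · right
    apply hx T'
    · rw [h0]; decide
    · rw [h1]; decide
    · rw [h2]; decide
    · rw [e1]; decide
    · rw [e2]; decide
    · rw [e3]; decide
    · rw [hy]; decide
    · rw [f1, hy]; decide
    · rw [f2, hy]; decide
    · rw [f3, hy]; decide

theorem T'_fix_none : (A * T' * A⁻¹ * T' * A * T') none = none := by decide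
theorem T'_fix_zero : (A * T' * A⁻¹ * T' * A * T') (some (0, 0)) = some (0, 0) := by decide
theorem T'_ne : (A * T' * A⁻¹ * T' * A * T') ≠ 1 ∧ (A * T' * A⁻¹ * T' * A * T') ≠ K ∧
    (A * T' * A⁻¹ * T' * A * T') ≠ K * K ∧ (A * T' * A⁻¹ * T' * A * T') ≠ K⁻¹ := by
  refine ⟨?_, ?_, ?_, ?_⟩ <;> decide

section
variable {G : Type*} [Group G]

/-- The element `a ^ i * b ^ j`. -/
def f (a b : G) (p : ZMod 3 × ZMod 3) : G := a ^ p.1.val * b ^ p.2.val

theorem pow_val_add {a : G} (ha : a ^ 3 = 1) (i j : ZMod 3) :
    a ^ (i + j).val = a ^ i.val * a ^ j.val := by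
  rw [ZMod.val_add, ← pow_add]
  exact (pow_eq_pow_mod _ ha).symm

theorem pow_val_neg {a : G} (ha : a ^ 3 = 1) (i : ZMod 3) :
    a ^ (-i).val = (a ^ i.val)⁻¹ := by
  symm
  apply inv_eq_of_mul_eq_one_left
  rw [← pow_val_add ha, neg_add_cancel, ZMod.val_zero, pow_zero]

theorem pow_val_one {a : G} : a ^ (1 : ZMod 3).val = a := by
  have : (1 : ZMod 3).val = 1 := rfl
  rw [this, pow_one]

theorem f_add {a b : G} (ha : a ^ 3 = 1) (hb : b ^ 3 = 1) (hab : a * b = b * a)
    (p q : ZMod 3 × ZMod 3) : f a b (p + q) = f a b p * f a b q := by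
  unfold f
  have hc : Commute a b := hab
  rw [Prod.fst_add, Prod.snd_add, pow_val_add ha, pow_val_add hb]
  have := (hc.pow_pow q.1.val p.2.val).eq
  calc a ^ p.1.val * a ^ q.1.val * (b ^ p.2.val * b ^ q.2.val)
      = a ^ p.1.val * (a ^ q.1.val * b ^ p.2.val) * b ^ q.2.val := by simp only [mul_assoc]
    _ = a ^ p.1.val * (b ^ p.2.val * a ^ q.1.val) * b ^ q.2.val := by rw [this]
    _ = _ := by simp only [mul_assoc]

theorem f_zero (a b : G) : f a b 0 = 1 := by
  unfold f
  simp

theorem f_eq_zero {a b k : G} (ha : a ^ 3 = 1) (ha1 : a ≠ 1) (hab : a * b = b * a)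
    (hka : k * a * k⁻¹ = b) (hkb : k * b * k⁻¹ = a⁻¹) (p : ZMod 3 × ZMod 3) (hp : f a b p = 1) :
    p = 0 := by
  obtain ⟨i, j⟩ := p
  unfold f at hp
  simp only at hp
  have hc : Commute a b := hab
  have h1 : b ^ i.val * (a⁻¹) ^ j.val = 1 := by
    calc b ^ i.val * (a⁻¹) ^ j.val = (k * a * k⁻¹) ^ i.val * (k * b * k⁻¹) ^ j.val := by rw [hka, hkb]
      _ = k * (a ^ i.val * b ^ j.val) * k⁻¹ := by rw [conj_pow, conj_pow]; group
      _ = 1 := by rw [hp]; group
  have h2 : b ^ i.val = a ^ j.val := by
    rw [inv_pow, mul_inv_eq_one] at h1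
    exact h1
  have h3 : b ^ j.val = (a ^ i.val)⁻¹ := (inv_eq_of_mul_eq_one_right hp).symm
  have h4 : a ^ (i.val * i.val + j.val * j.val) = 1 := by
    have e1 : b ^ (i.val * j.val) = a ^ (j.val * j.val) := by rw [pow_mul, h2, ← pow_mul]
    have e2 : b ^ (i.val * j.val) = (a ^ (i.val * i.val))⁻¹ := by
      rw [mul_comm, pow_mul, h3, inv_pow, ← pow_mul]
    rw [pow_add, ← e1, e2, mul_inv_cancel]
  have ho : orderOf a = 3 := orderOf_eq_prime ha ha1
  have h5 : 3 ∣ i.val * i.val + j.val * j.val := by
    have := orderOf_dvd_of_pow_eq_one h4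
    rwa [ho] at this
  revert h5
  clear * -
  revert i j
  decide

end

section
variable {G : Type*} [Group G] [Finite G] [IsSimpleGroup G] (h : Nat.card G = 360)
include h

theorem pow_three {P Q : Sylow 3 G} (hPQ : P ≠ Q) {k : G} (hkP : k • P = P) (hkQ : k • Q = Q)
    (hk : k * k ≠ 1) (hk4 : (k * k) * (k * k) = 1) {a : G} (ha : a ∈ P) : a ^ 3 = 1 := by
  by_contra h3
  have ho : orderOf a = 3 ^ (1 + 1) := by
    apply orderOf_eq_prime_pow
    · rw [pow_one]; exact h3
    · exact pow_card_mem h ha
  have h9 : (3 ^ (1 + 1) : ℕ) = 9 := by norm_num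
  rw [h9] at ho
  have h1 : zpowers a = (P : Subgroup G) := by
    apply Subgroup.eq_of_le_of_card_ge
    · rw [zpowers_le]; exact ha
    · rw [Nat.card_zpowers, ho, card_sylow h P]
  have hb : k * a * k⁻¹ ∈ (P : Subgroup G) := conj_mem h hkP ha
  have hz : (k * k) * a * (k * k)⁻¹ = a⁻¹ := by
    apply conj_eq_inv h hPQ _ _ hk hk4 ha
    · rw [mul_smul, hkP, hkP]
    · rw [mul_smul, hkQ, hkQ]
  rw [← h1] at hb
  obtain ⟨r, hr⟩ := mem_zpowers_iff.1 hb
  have h2 : a ^ (r * r) = a⁻¹ := by
    calc a ^ (r * r) = (a ^ r) ^ r := zpow_mul a r r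
      _ = (k * a * k⁻¹) ^ r := by rw [hr]
      _ = k * a ^ r * k⁻¹ := conj_zpow
      _ = k * (k * a * k⁻¹) * k⁻¹ := by rw [hr]
      _ = (k * k) * a * (k * k)⁻¹ := by group
      _ = a⁻¹ := hz
  have h4 : a ^ (r * r + 1) = 1 := by rw [zpow_add, h2, zpow_one, inv_mul_cancel]
  have h5 : (9 : ℤ) ∣ r * r + 1 := by
    have := orderOf_dvd_iff_zpow_eq_one.2 h4
    rwa [ho] at this
  have h6 : (r * r + 1) % 3 = 0 := by omega
  have h7 : r % 3 = 0 ∨ r % 3 = 1 ∨ r % 3 = 2 := by omega
  rcases h7 with h7 | h7 | h7 <;> simp [Int.add_emod, Int.mul_emod, h7] at h6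

theorem exists_hom : ∃ ρ : G →* Equiv.Perm X, Function.Injective ρ ∧
    ρ.range = Subgroup.closure {A, B, K, T} := by
  obtain ⟨P⟩ : Nonempty (Sylow 3 G) := inferInstance
  obtain ⟨Q, hQ⟩ : ∃ Q : Sylow 3 G, P ≠ Q := by
    by_contra hcon
    push Not at hcon
    have : Nat.card (Sylow 3 G) = 1 := by
      rw [Nat.card_eq_one_iff_unique]
      exact ⟨⟨fun x y => (hcon x).symm.trans (hcon y)⟩, ⟨P⟩⟩
    rw [card_sylow_three h] at this
    norm_num at this
  obtain ⟨k, hkP, hkQ, hk, hk4⟩ := exists_k h hQ
  obtain ⟨t, R, htP, htQ, htt, htk, htR, hPR, hQR, hfix⟩ := exists_t h hQ hkP hkQ hk hk4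
  obtain ⟨a, haP, haR⟩ := exists_smul_eq h hQ hPR
  have ha1 : a ≠ 1 := by
    rintro rfl
    rw [one_smul] at haR
    exact hQR haR
  set b := k * a * k⁻¹ with hb
  have hbP : b ∈ P := conj_mem h hkP haP
  have ha3 : a ^ 3 = 1 := pow_three h hQ hkP hkQ hk hk4 haP
  have hb3 : b ^ 3 = 1 := pow_three h hQ hkP hkQ hk hk4 hbP
  have hab : a * b = b * a := comm_sylow h P haP hbP
  have hzP : (k * k) • P = P := by rw [mul_smul, hkP, hkP]
  have hzQ : (k * k) • Q = Q := by rw [mul_smul, hkQ, hkQ]
  have hkb : k * b * k⁻¹ = a⁻¹ := by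
    rw [← conj_eq_inv h hQ hzP hzQ hk hk4 haP, hb]
    group
  have hfP : ∀ p, f a b p ∈ P := fun p => mul_mem (pow_mem haP _) (pow_mem hbP _)
  have hfinj : Function.Injective (f a b) := by
    intro p q hpq
    have h1 : f a b (p - q) = 1 := by
      have h2 : f a b ((p - q) + q) = f a b q := by rw [sub_add_cancel, hpq]
      rw [f_add ha3 hb3 hab] at h2
      exact mul_eq_right.1 h2
    exact sub_eq_zero.1 (f_eq_zero ha3 ha1 hab hb.symm hkb _ h1)
  -- the labelling
  let φ : X → Sylow 3 G := fun x => match x with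
    | none => P
    | some p => f a b p • Q
  have hφinj : Function.Injective φ := by
    intro x y hxy
    rcases x with _ | p <;> rcases y with _ | q
    · rfl
    · exfalso
      have h1 : P = f a b q • Q := hxy
      apply hQ
      rw [← inv_smul_eq_iff, smul_self (inv_mem (hfP q))] at h1
      exact h1
    · exfalso
      have h1 : f a b p • Q = P := hxy
      apply hQ
      rw [smul_eq_iff_eq_inv_smul, smul_self (inv_mem (hfP p))] at h1
      exact h1.symm
    · have h1 : f a b p • Q = f a b q • Q := hxy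
      have h2 : ((f a b q)⁻¹ * f a b p) • Q = Q := by rw [mul_smul, h1, inv_smul_smul]
      have h3 := eq_one_of_smul h hQ (mul_mem (inv_mem (hfP q)) (hfP p)) h2
      rw [hfinj (inv_mul_eq_one.1 h3)]
  have hcardX : Nat.card X = 10 := by simp [X]
  have hφ : Function.Bijective φ :=
    (Nat.bijective_iff_injective_and_card φ).2 ⟨hφinj, by rw [hcardX, card_sylow_three h]⟩
  let e : X ≃ Sylow 3 G := Equiv.ofBijective φ hφ
  have he0 : e none = P := rfl
  have hep : ∀ p, e (some p) = f a b p • Q := fun p => rfl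
  let ρ : G →* Equiv.Perm X := (e.symm.permCongrHom).toMonoidHom.comp (toPermHom G (Sylow 3 G))
  have hρ : ∀ g x, e (ρ g x) = g • e x := by
    intro g x
    simp [ρ, Equiv.permCongrHom]
  have hρinj : Function.Injective ρ := by
    rw [injective_iff_map_eq_one]
    intro g hg
    apply faithful h
    intro R
    obtain ⟨x, rfl⟩ := e.surjective R
    rw [← hρ, hg]; rfl
  have hρa : ρ a = A := by
    ext1 x
    apply e.injective
    rw [hρ]
    rcases x with _ | p
    · exact smul_self haP
    · change a • f a b p • Q = f a b (p.1 + 1, p.2) • Q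
      rw [← mul_smul]
      congr 1
      have h1 : ((p.1 + 1, p.2) : ZMod 3 × ZMod 3) = (1, 0) + p := by
        ext
        · simp [add_comm]
        · simp
      rw [h1, f_add ha3 hb3 hab]
      congr 1
      simp [f, pow_val_one]
  have hρb : ρ b = B := by
    ext1 x
    apply e.injective
    rw [hρ]
    rcases x with _ | p
    · exact smul_self hbP
    · change b • f a b p • Q = f a b (p.1, p.2 + 1) • Q
      rw [← mul_smul]
      congr 1
      have h1 : ((p.1, p.2 + 1) : ZMod 3 × ZMod 3) = (0, 1) + p := by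
        ext
        · simp
        · simp [add_comm]
      rw [h1, f_add ha3 hb3 hab]
      congr 1
      simp [f, pow_val_one]
  have hρk : ρ k = K := by
    ext1 x
    apply e.injective
    rw [hρ]
    rcases x with _ | p
    · exact hkP
    · change k • f a b p • Q = f a b (- p.2, p.1) • Q
      have h1 : k • f a b p • Q = (k * f a b p * k⁻¹) • k • Q := by
        rw [← mul_smul, ← mul_smul]
        congr 1
        group
      rw [h1, hkQ]
      congr 1
      unfold f
      have hc : Commute a b := hab
      have h2 : ∀ (d : G) (m n : ℕ), k * (a ^ m * d ^ n) * k⁻¹ =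
          (k * a * k⁻¹) ^ m * (k * d * k⁻¹) ^ n := by
        intro d m n
        rw [conj_pow, conj_pow]; group
      rw [h2, ← hb, hkb]
      change b ^ p.1.val * (a⁻¹) ^ p.2.val = a ^ (-p.2).val * b ^ p.1.val
      rw [pow_val_neg ha3, inv_pow]
      exact ((hc.symm.pow_pow _ _).inv_right).eq
  have he00 : e (some (0, 0)) = Q := by
    rw [hep]
    have := f_zero a b
    rw [show ((0, 0) : ZMod 3 × ZMod 3) = 0 from rfl, this, one_smul]
  have he10 : e (some (1, 0)) = R := by
    rw [hep, ← haR]
    congr 1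
    simp [f, pow_val_one]
  have he20 : e (some (2, 0)) = (k * k) • R := by
    rw [← he10, mul_smul, ← hρ, ← hρ, hρk]
    rfl
  have hτ : ρ t = T ∨ ρ t = T' := by
    apply tau_eq
    · apply e.injective; rw [hρ, he0, htP, he00]
    · apply e.injective; rw [hρ, he00, htQ, he0]
    · apply e.injective; rw [hρ, he10, htR]
    · intro x
      rw [← hρk, ← map_inv, ← htk, ← Equiv.Perm.mul_apply, ← Equiv.Perm.mul_apply, ← map_mul, ← map_mul]
      congr 2
      group
    · intro x hx
      have h1 : t • e x = e x := by rw [← hρ, hx]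
      rcases hfix _ h1 with h2 | h2
      · left; apply e.injective; rw [h2, he10]
      · right; apply e.injective; rw [h2, he20]
  have hρt : ρ t = T := by
    rcases hτ with hτ | hτ
    · exact hτ
    · exfalso
      set g := a * t * a⁻¹ * t * a * t with hg
      have hρg : ρ g = A * T' * A⁻¹ * T' * A * T' := by
        rw [hg]
        simp only [map_mul, map_inv, hρa, hτ]
      have hgP : g • P = P := by
        rw [← he0, ← hρ, hρg, T'_fix_none]
      have hgQ : g • Q = Q := by
        rw [← he00, ← hρ, hρg, T'_fix_zero]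
      obtain ⟨n1, n2, n3, n4⟩ := T'_ne
      rcases eq_pow_of_stab h hQ hkP hkQ hk hk4 hgP hgQ with h1 | h1 | h1 | h1
      · exact n1 (by rw [← hρg, h1, map_one])
      · exact n2 (by rw [← hρg, h1, hρk])
      · exact n3 (by rw [← hρg, h1, map_mul, hρk])
      · exact n4 (by rw [← hρg, h1, map_inv, hρk])
  refine ⟨ρ, hρinj, ?_⟩
  have htop : Subgroup.closure {a, b, k, t} = (⊤ : Subgroup G) := by
    set H := Subgroup.closure {a, b, k, t} with hH
    have haH : a ∈ H := subset_closure (by simp)
    have hbH : b ∈ H := subset_closure (by simp)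
    have hkH : k ∈ H := subset_closure (by simp)
    have htH : t ∈ H := subset_closure (by simp)
    have hPH : (P : Subgroup G) ≤ H := by
      intro x hx
      have h1 : Set.range (f a b) = (P : Set G) := by
        apply Set.eq_of_subset_of_ncard_le
        · rintro _ ⟨p, rfl⟩; exact hfP p
        · rw [Set.ncard_range_of_injective hfinj]
          have h2 : Nat.card (ZMod 3 × ZMod 3) = 9 := by simp
          rw [h2, ← card_sylow h P]
          exact le_of_eq (Nat.card_coe_set_eq (P : Set G)).symm
        · exact Set.toFinite _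
      have h2 : x ∈ Set.range (f a b) := h1 ▸ hx
      obtain ⟨p, rfl⟩ := h2
      exact mul_mem (pow_mem haH _) (pow_mem hbH _)
    have hKH : (stabilizer G P ⊓ stabilizer G Q : Subgroup G) ≤ H := by
      rw [stab_eq_zpowers h hQ hkP hkQ hk hk4, zpowers_le]
      exact hkH
    have hPN : (P : Subgroup G) ≤ stabilizer G P := fun x hx => smul_self hx
    have hNH : stabilizer G P ≤ H := by
      have h9 : 9 ∣ Nat.card (stabilizer G P ⊓ H : Subgroup G) := by
        rw [← card_sylow h P]
        exact Subgroup.card_dvd_of_le (le_inf hPN hPH)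
      have h4 : 4 ∣ Nat.card (stabilizer G P ⊓ H : Subgroup G) := by
        rw [← card_stab2 h hQ]
        exact Subgroup.card_dvd_of_le (le_inf inf_le_left hKH)
      have h36 : 36 ≤ Nat.card (stabilizer G P ⊓ H : Subgroup G) := by
        apply Nat.le_of_dvd Nat.card_pos
        omega
      rw [← card_stab h P] at h36
      have h5 := Subgroup.eq_of_le_of_card_ge (inf_le_left : stabilizer G P ⊓ H ≤ stabilizer G P) h36
      rw [← h5]
      exact inf_le_right
    by_contra hne
    have h6 := six_le_index h H hne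
    have h7 := H.card_mul_index
    rw [h] at h7
    have h8 : 36 ∣ Nat.card H := by
      rw [← card_stab h P]
      exact Subgroup.card_dvd_of_le hNH
    obtain ⟨m, hm⟩ := h8
    have hm1 : m = 1 := by
      have h9 : m * H.index = 10 := by
        rw [hm] at h7; nlinarith
      have hm0 : 0 < m := by
        rcases Nat.eq_zero_or_pos m with h0 | h0
        · subst h0; omega
        · exact h0
      by_contra hm1
      have : 2 ≤ m := by omega
      nlinarith
    have h10 : stabilizer G P = H :=
      Subgroup.eq_of_le_of_card_ge hNH (by rw [hm, hm1, card_stab h P])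
    have h11 : t ∈ stabilizer G P := h10 ▸ htH
    have h12 : t • P = P := h11
    rw [htP] at h12
    exact hQ h12.symm
  rw [MonoidHom.range_eq_map, ← htop, MonoidHom.map_closure]
  congr 1
  simp only [Set.image_insert_eq, Set.image_singleton, hρa, hρb, hρk, hρt]

end

/-- Any two simple groups of order `360` are isomorphic. -/
theorem nonempty_mulEquiv {G H : Type*} [Group G] [Finite G] [IsSimpleGroup G] [Group H] [Finite H]
    [IsSimpleGroup H] (hG : Nat.card G = 360) (hH : Nat.card H = 360) : Nonempty (G ≃* H) := by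
  obtain ⟨ρ, hρ, hρr⟩ := exists_hom hG
  obtain ⟨σ, hσ, hσr⟩ := exists_hom hH
  exact ⟨(MonoidHom.ofInjective hρ).trans
    ((MulEquiv.subgroupCongr (hρr.trans hσr.symm)).trans (MonoidHom.ofInjective hσ).symm)⟩

/-- A simple group of order `360` is isomorphic to the alternating group of degree `6`. -/
theorem nonempty_mulEquiv_alternating {G : Type*} [Group G] [Finite G] [IsSimpleGroup G]
    (hG : Nat.card G = 360) : Nonempty (G ≃* alternatingGroup (Fin 6)) := by
  have : IsSimpleGroup (alternatingGroup (Fin 6)) := alternatingGroup.isSimpleGroup (by simp)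
  apply nonempty_mulEquiv hG
  rw [nat_card_alternatingGroup]
  simp
  rfl

end Cfsg.Agent.Classification.Order360Iso
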