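import Mathlib
import Cfsg.Agent.Lib.SL2Hom
import Cfsg.Agent.Classification.SLThreeRec
import Cfsg.Agent.ChevalleyStructure.B2Sp4
import Cfsg.Agent.S0270

/-!
# Recognition of `Sp₄(F)` and `PSp₄(F)`, characteristic two, from root subgroups

`Data π₁ π₂`: two homomorphisms `π₁ π₂ : SL₂(F) →* G` (short simple root `a`, long simple root `b`) satisfying the
commutator relations of type `C₂` in characteristic two. If these generate `G` and `P` is a core-free subgroup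
containing `π₂(SL₂)`, the upper triangular part of `π₁(SL₂)` and the root subgroup of `2a+b`, then there is a surjective
homomorphism `Sp₄(F) →* G` (the action of `G` on the orbit of the coset `P` is compared with the action of `Sp₄(F)` on
the points of the projective space).
-/

set_option autoImplicit false
set_option linter.all false

namespace Cfsg.Agent.Classification.SpFourRec

open Matrix Cfsg.Agent.Lib.SL2Hom Cfsg.Agent.Classification.SLThreeRec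

variable {F G : Type*} [Field F] [Group G]

/-! ### identities in `SL₂(F)`, characteristic two -/

section sl2

variable [CharP F 2]

theorem wi_wi : wi F * wi F = 1 := by
  have h2 : (1 : F) + 1 = 0 := CharTwo.add_self_eq_zero 1
  have h3 : (-1 : F) = 1 := by linear_combination -h2
  ext i j
  change ((wi F).1 * (wi F).1) i j = (1 : Matrix (Fin 2) (Fin 2) F) i j
  fin_cases i <;> fin_cases j <;> simp [wi, Matrix.mul_apply, Fin.sum_univ_two, h3]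

theorem wi_up (t : F) : wi F * up t = lo t * wi F := by
  have h2 : (1 : F) + 1 = 0 := CharTwo.add_self_eq_zero 1
  have h3 : (-1 : F) = 1 := by linear_combination -h2
  ext i j
  change ((wi F).1 * (up t).1) i j = ((lo t).1 * (wi F).1) i j
  fin_cases i <;> fin_cases j <;> simp [wi, up, lo, Matrix.mul_apply, Fin.sum_univ_two, h3, CharTwo.neg_eq]

theorem wi_lo (t : F) : wi F * lo t = up t * wi F := by
  have h2 : (1 : F) + 1 = 0 := CharTwo.add_self_eq_zero 1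
  have h3 : (-1 : F) = 1 := by linear_combination -h2
  ext i j
  change ((wi F).1 * (lo t).1) i j = ((up t).1 * (wi F).1) i j
  fin_cases i <;> fin_cases j <;> simp [wi, up, lo, Matrix.mul_apply, Fin.sum_univ_two, h3, CharTwo.neg_eq]

theorem wi_mul_lo {t : F} (ht : t ≠ 0) : wi F * lo t = lo t⁻¹ * dg t ht * up t⁻¹ := by
  rw [wi_lo, up_mul_wi ht, CharTwo.neg_eq]

theorem dg_wi {s : F} (hs : s ≠ 0) : dg s hs * wi F = wi F * dg s⁻¹ (inv_ne_zero hs) := by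
  ext i j
  change ((dg s hs).1 * (wi F).1) i j = ((wi F).1 * (dg s⁻¹ (inv_ne_zero hs)).1) i j
  fin_cases i <;> fin_cases j <;> simp [wi, dg, Matrix.mul_apply, Fin.sum_univ_two]

theorem up_lo_up {s : F} (hs : s ≠ 0) : up s⁻¹ * lo s * up s⁻¹ = wi F * dg s hs := by
  have := wi_dg hs
  rwa [CharTwo.neg_eq] at this

end sl2

/-! ### the data -/

/-- Root subgroups of type `C₂` in characteristic two: `x_a = π₁ ∘ up`, `x_{-a} = π₁ ∘ lo`, `x_b = π₂ ∘ up`,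
`x_{-b} = π₂ ∘ lo`; the other root subgroups are conjugates of these. -/
structure Data (π₁ π₂ : SpecialLinearGroup (Fin 2) F →* G) : Prop where
  c1 : ∀ A B, Commute (π₁ A) (π₂ (wi F) * π₁ B * π₂ (wi F))
  c2 : ∀ A B, Commute (π₂ A) (π₁ (wi F) * π₂ B * π₁ (wi F))
  c3 : ∀ s t, Commute (π₁ (up s)) (π₁ (wi F) * π₂ (up t) * π₁ (wi F))
  c4 : ∀ s t, Commute (π₂ (up s)) (π₂ (wi F) * π₁ (up t) * π₂ (wi F))
  r : ∀ s t, π₁ (up s) * π₂ (up t) = (π₂ (wi F) * π₁ (up (s * t)) * π₂ (wi F)) *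
    (π₁ (wi F) * π₂ (up (s ^ 2 * t)) * π₁ (wi F)) * (π₂ (up t) * π₁ (up s))
  h1u : ∀ (s : F) (hs : s ≠ 0) (t : F), π₁ (dg s hs) * π₂ (up t) = π₂ (up (s⁻¹ ^ 2 * t)) * π₁ (dg s hs)
  h1l : ∀ (s : F) (hs : s ≠ 0) (t : F), π₁ (dg s hs) * π₂ (lo t) = π₂ (lo (s ^ 2 * t)) * π₁ (dg s hs)
  h2u : ∀ (s : F) (hs : s ≠ 0) (t : F), π₂ (dg s hs) * π₁ (up t) = π₁ (up (s⁻¹ * t)) * π₂ (dg s hs)
  h2l : ∀ (s : F) (hs : s ≠ 0) (t : F), π₂ (dg s hs) * π₁ (lo t) = π₁ (lo (s * t)) * π₂ (dg s hs)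

section defs

variable (π₁ π₂ : SpecialLinearGroup (Fin 2) F →* G)

/-- root subgroup of `a + b` -/
def U (t : F) : G := π₂ (wi F) * π₁ (up t) * π₂ (wi F)
/-- root subgroup of `-(a + b)` -/
def U' (t : F) : G := π₂ (wi F) * π₁ (lo t) * π₂ (wi F)
/-- root subgroup of `2a + b` -/
def V (t : F) : G := π₁ (wi F) * π₂ (up t) * π₁ (wi F)
/-- root subgroup of `-(2a + b)` -/
def V' (t : F) : G := π₁ (wi F) * π₂ (lo t) * π₁ (wi F)

end defs

namespace Data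

variable {π₁ π₂ : SpecialLinearGroup (Fin 2) F →* G} [CharP F 2]

section free

theorem w1w1 : π₁ (wi F) * π₁ (wi F) = 1 := by rw [← map_mul, wi_wi, map_one]

theorem w1w1' (g : G) : π₁ (wi F) * (π₁ (wi F) * g) = g := by rw [← mul_assoc, w1w1, one_mul]

theorem w1_xa (t : F) : π₁ (wi F) * π₁ (up t) = π₁ (lo t) * π₁ (wi F) := by
  rw [← map_mul, wi_up, map_mul]

theorem w1_xma (t : F) : π₁ (wi F) * π₁ (lo t) = π₁ (up t) * π₁ (wi F) := by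
  rw [← map_mul, wi_lo, map_mul]

theorem U_add (s t : F) : U π₁ π₂ (s + t) = U π₁ π₂ s * U π₁ π₂ t := by
  have h := w1w1' (π₁ := π₂)
  simp only [U, up_add, map_mul, mul_assoc, h]

theorem U'_add (s t : F) : U' π₁ π₂ (s + t) = U' π₁ π₂ s * U' π₁ π₂ t := by
  have h := w1w1' (π₁ := π₂)
  simp only [U', lo_add, map_mul, mul_assoc, h]

theorem V_add (s t : F) : V π₁ π₂ (s + t) = V π₁ π₂ s * V π₁ π₂ t := by
  have h := w1w1' (π₁ := π₁)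
  simp only [V, up_add, map_mul, mul_assoc, h]

theorem V'_add (s t : F) : V' π₁ π₂ (s + t) = V' π₁ π₂ s * V' π₁ π₂ t := by
  have h := w1w1' (π₁ := π₁)
  simp only [V', lo_add, map_mul, mul_assoc, h]

theorem w2_xa (t : F) : π₂ (wi F) * π₁ (up t) = U π₁ π₂ t * π₂ (wi F) := by
  rw [U, mul_assoc _ _ (π₂ (wi F)), w1w1, mul_one]

theorem w2_xma (t : F) : π₂ (wi F) * π₁ (lo t) = U' π₁ π₂ t * π₂ (wi F) := by
  rw [U', mul_assoc _ _ (π₂ (wi F)), w1w1, mul_one]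

theorem w1_xb (t : F) : π₁ (wi F) * π₂ (up t) = V π₁ π₂ t * π₁ (wi F) := by
  rw [V, mul_assoc _ _ (π₁ (wi F)), w1w1, mul_one]

theorem w1_xmb (t : F) : π₁ (wi F) * π₂ (lo t) = V' π₁ π₂ t * π₁ (wi F) := by
  rw [V', mul_assoc _ _ (π₁ (wi F)), w1w1, mul_one]

theorem w2_U (t : F) : π₂ (wi F) * U π₁ π₂ t = π₁ (up t) * π₂ (wi F) := by
  rw [U, mul_assoc, w1w1']

theorem w2_U' (t : F) : π₂ (wi F) * U' π₁ π₂ t = π₁ (lo t) * π₂ (wi F) := by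
  rw [U', mul_assoc, w1w1']

theorem w1_V (t : F) : π₁ (wi F) * V π₁ π₂ t = π₂ (up t) * π₁ (wi F) := by
  rw [V, mul_assoc, w1w1']

theorem w1_V' (t : F) : π₁ (wi F) * V' π₁ π₂ t = π₂ (lo t) * π₁ (wi F) := by
  rw [V', mul_assoc, w1w1']

theorem lo_add_self (t : F) : (lo t : SpecialLinearGroup (Fin 2) F) * lo t = 1 := by
  rw [← lo_add, CharTwo.add_self_eq_zero, lo_zero]

theorem up_add_self (t : F) : (up t : SpecialLinearGroup (Fin 2) F) * up t = 1 := by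
  rw [← up_add, CharTwo.add_self_eq_zero, up_zero]

theorem xa_sq (t : F) : π₁ (up t) * π₁ (up t) = 1 := by rw [← map_mul, up_add_self, map_one]

theorem xma_sq (t : F) : π₁ (lo t) * π₁ (lo t) = 1 := by rw [← map_mul, lo_add_self, map_one]

theorem U'_zero : U' π₁ π₂ (0 : F) = 1 := by
  rw [U', lo_zero, map_one, mul_one, w1w1]

theorem V'_zero : V' π₁ π₂ (0 : F) = 1 := by
  rw [V', lo_zero, map_one, mul_one, w1w1]

theorem U'_sq (t : F) : U' π₁ π₂ t * U' π₁ π₂ t = 1 := by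
  rw [← U'_add, CharTwo.add_self_eq_zero, U'_zero]

theorem V'_sq (t : F) : V' π₁ π₂ t * V' π₁ π₂ t = 1 := by
  rw [← V'_add, CharTwo.add_self_eq_zero, V'_zero]

end free

variable (D : Data π₁ π₂)

include D

theorem w1_U (t : F) : π₁ (wi F) * U π₁ π₂ t = U π₁ π₂ t * π₁ (wi F) := (D.c1 (wi F) (up t)).eq
theorem w1_U' (t : F) : π₁ (wi F) * U' π₁ π₂ t = U' π₁ π₂ t * π₁ (wi F) := (D.c1 (wi F) (lo t)).eq
theorem w2_V (t : F) : π₂ (wi F) * V π₁ π₂ t = V π₁ π₂ t * π₂ (wi F) := (D.c2 (wi F) (up t)).eq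
theorem w2_V' (t : F) : π₂ (wi F) * V' π₁ π₂ t = V' π₁ π₂ t * π₂ (wi F) := (D.c2 (wi F) (lo t)).eq

theorem a_U (s t : F) : π₁ (up s) * U π₁ π₂ t = U π₁ π₂ t * π₁ (up s) := (D.c1 _ _).eq
theorem a_U' (s t : F) : π₁ (up s) * U' π₁ π₂ t = U' π₁ π₂ t * π₁ (up s) := (D.c1 _ _).eq
theorem ma_U (s t : F) : π₁ (lo s) * U π₁ π₂ t = U π₁ π₂ t * π₁ (lo s) := (D.c1 _ _).eq
theorem ma_U' (s t : F) : π₁ (lo s) * U' π₁ π₂ t = U' π₁ π₂ t * π₁ (lo s) := (D.c1 _ _).eq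
theorem h1_U' (s : F) (hs : s ≠ 0) (t : F) : π₁ (dg s hs) * U' π₁ π₂ t = U' π₁ π₂ t * π₁ (dg s hs) := (D.c1 _ _).eq
theorem b_V (s t : F) : π₂ (up s) * V π₁ π₂ t = V π₁ π₂ t * π₂ (up s) := (D.c2 _ _).eq
theorem b_V' (s t : F) : π₂ (up s) * V' π₁ π₂ t = V' π₁ π₂ t * π₂ (up s) := (D.c2 _ _).eq
theorem mb_V (s t : F) : π₂ (lo s) * V π₁ π₂ t = V π₁ π₂ t * π₂ (lo s) := (D.c2 _ _).eq
theorem mb_V' (s t : F) : π₂ (lo s) * V' π₁ π₂ t = V' π₁ π₂ t * π₂ (lo s) := (D.c2 _ _).eq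

/-- the braid relation -/
theorem braid : π₂ (wi F) * (π₁ (wi F) * (π₂ (wi F) * π₁ (wi F))) =
    π₁ (wi F) * (π₂ (wi F) * (π₁ (wi F) * π₂ (wi F))) := by
  have h := (D.c1 (wi F) (wi F)).eq
  simp only [mul_assoc] at h
  rw [h]

/-- `[x_{-a}, x_b] = 1` -/
theorem ma_b (s t : F) : π₁ (lo s) * π₂ (up t) = π₂ (up t) * π₁ (lo s) := by
  have h : π₁ (up s) * V π₁ π₂ t = V π₁ π₂ t * π₁ (up s) := (D.c3 s t).eq
  have h1 : π₁ (wi F) * (π₁ (up s) * V π₁ π₂ t) = π₁ (wi F) * (V π₁ π₂ t * π₁ (up s)) := by rw [h]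
  rw [← mul_assoc, ← mul_assoc, w1_xa, w1_V, mul_assoc, mul_assoc, w1_V, w1_xa, ← mul_assoc, ← mul_assoc] at h1
  exact mul_right_cancel h1

/-- `[x_a, x_{-b}] = 1` -/
theorem a_mb (s t : F) : π₁ (up s) * π₂ (lo t) = π₂ (lo t) * π₁ (up s) := by
  have h : π₂ (up t) * U π₁ π₂ s = U π₁ π₂ s * π₂ (up t) := (D.c4 t s).eq
  have h1 : π₂ (wi F) * (π₂ (up t) * U π₁ π₂ s) = π₂ (wi F) * (U π₁ π₂ s * π₂ (up t)) := by rw [h]
  rw [← mul_assoc, ← mul_assoc, w1_xa, w2_U, mul_assoc, mul_assoc, w2_U, w1_xa, ← mul_assoc, ← mul_assoc] at h1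
  exact (mul_right_cancel h1).symm

/-- `[x_{-a}, x_{-(2a+b)}] = 1` : conjugate `a_mb` by `w1`. -/
theorem ma_V' (s t : F) : π₁ (lo s) * V' π₁ π₂ t = V' π₁ π₂ t * π₁ (lo s) := by
  have h := D.a_mb s t
  have h1 : π₁ (wi F) * (π₁ (up s) * π₂ (lo t)) = π₁ (wi F) * (π₂ (lo t) * π₁ (up s)) := by rw [h]
  rw [← mul_assoc, ← mul_assoc, w1_xa, w1_xmb, mul_assoc, mul_assoc, w1_xmb, w1_xa, ← mul_assoc, ← mul_assoc] at h1
  exact mul_right_cancel h1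

/-- `[x_{-b}, x_{-(a+b)}] = 1` : conjugate `ma_b` by `w2`. -/
theorem mb_U' (s t : F) : π₂ (lo s) * U' π₁ π₂ t = U' π₁ π₂ t * π₂ (lo s) := by
  have h := D.ma_b t s
  have h1 : π₂ (wi F) * (π₁ (lo t) * π₂ (up s)) = π₂ (wi F) * (π₂ (up s) * π₁ (lo t)) := by rw [h]
  rw [← mul_assoc, ← mul_assoc, w2_xma, w1_xa, mul_assoc, mul_assoc, w1_xa, w2_xma, ← mul_assoc, ← mul_assoc] at h1
  exact (mul_right_cancel h1).symm

/-- `[x_{-(a+b)}, x_{-(2a+b)}] = 1` -/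
theorem U'_V' (s t : F) : U' π₁ π₂ s * V' π₁ π₂ t = V' π₁ π₂ t * U' π₁ π₂ s := by
  have h := D.ma_V' s t
  have h1 : π₂ (wi F) * (π₁ (lo s) * V' π₁ π₂ t) = π₂ (wi F) * (V' π₁ π₂ t * π₁ (lo s)) := by rw [h]
  rw [← mul_assoc, ← mul_assoc, w2_xma, D.w2_V', mul_assoc, mul_assoc, D.w2_V', w2_xma, ← mul_assoc,
    ← mul_assoc] at h1
  exact mul_right_cancel h1

theorem r' (s t : F) : π₁ (up s) * π₂ (up t) =
    U π₁ π₂ (s * t) * V π₁ π₂ (s ^ 2 * t) * (π₂ (up t) * π₁ (up s)) := D.r s t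

/-- `r` conjugated by `w1` -/
theorem r1 (s t : F) : π₁ (lo s) * V π₁ π₂ t =
    U π₁ π₂ (s * t) * π₂ (up (s ^ 2 * t)) * (V π₁ π₂ t * π₁ (lo s)) := by
  have h := congrArg (fun g => π₁ (wi F) * g) (D.r' s t)
  rw [← mul_right_cancel_iff (a := π₁ (wi F))]
  calc π₁ (lo s) * V π₁ π₂ t * π₁ (wi F) = π₁ (lo s) * (V π₁ π₂ t * π₁ (wi F)) := mul_assoc _ _ _
    _ = (π₁ (lo s) * π₁ (wi F)) * π₂ (up t) := by rw [← w1_xb, mul_assoc]
    _ = π₁ (wi F) * (π₁ (up s) * π₂ (up t)) := by rw [← w1_xa, mul_assoc]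
    _ = π₁ (wi F) * (U π₁ π₂ (s * t) * V π₁ π₂ (s ^ 2 * t) * (π₂ (up t) * π₁ (up s))) := h
    _ = (π₁ (wi F) * U π₁ π₂ (s * t)) * V π₁ π₂ (s ^ 2 * t) * (π₂ (up t) * π₁ (up s)) := by simp only [mul_assoc]
    _ = U π₁ π₂ (s * t) * (π₁ (wi F) * V π₁ π₂ (s ^ 2 * t)) * (π₂ (up t) * π₁ (up s)) := by
        rw [D.w1_U]; simp only [mul_assoc]
    _ = U π₁ π₂ (s * t) * π₂ (up (s ^ 2 * t)) * (π₁ (wi F) * π₂ (up t)) * π₁ (up s) := by
        rw [w1_V]; simp only [mul_assoc]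
    _ = U π₁ π₂ (s * t) * π₂ (up (s ^ 2 * t)) * V π₁ π₂ t * (π₁ (wi F) * π₁ (up s)) := by
        rw [w1_xb]; simp only [mul_assoc]
    _ = _ := by rw [w1_xa]; simp only [mul_assoc]

/-- `r1` conjugated by `w2` -/
theorem r12 (s t : F) : U' π₁ π₂ s * V π₁ π₂ t =
    π₁ (up (s * t)) * π₂ (lo (s ^ 2 * t)) * (V π₁ π₂ t * U' π₁ π₂ s) := by
  have h := congrArg (fun g => π₂ (wi F) * g) (D.r1 s t)
  rw [← mul_right_cancel_iff (a := π₂ (wi F))]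
  calc U' π₁ π₂ s * V π₁ π₂ t * π₂ (wi F) = U' π₁ π₂ s * (V π₁ π₂ t * π₂ (wi F)) := mul_assoc _ _ _
    _ = (U' π₁ π₂ s * π₂ (wi F)) * V π₁ π₂ t := by rw [← D.w2_V, mul_assoc]
    _ = π₂ (wi F) * (π₁ (lo s) * V π₁ π₂ t) := by rw [← w2_xma, mul_assoc]
    _ = π₂ (wi F) * (U π₁ π₂ (s * t) * π₂ (up (s ^ 2 * t)) * (V π₁ π₂ t * π₁ (lo s))) := h
    _ = (π₂ (wi F) * U π₁ π₂ (s * t)) * π₂ (up (s ^ 2 * t)) * (V π₁ π₂ t * π₁ (lo s)) := by simp only [mul_assoc]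
    _ = π₁ (up (s * t)) * (π₂ (wi F) * π₂ (up (s ^ 2 * t))) * (V π₁ π₂ t * π₁ (lo s)) := by
        rw [w2_U]; simp only [mul_assoc]
    _ = π₁ (up (s * t)) * π₂ (lo (s ^ 2 * t)) * (π₂ (wi F) * V π₁ π₂ t) * π₁ (lo s) := by
        rw [w1_xa]; simp only [mul_assoc]
    _ = π₁ (up (s * t)) * π₂ (lo (s ^ 2 * t)) * V π₁ π₂ t * (π₂ (wi F) * π₁ (lo s)) := by
        rw [D.w2_V]; simp only [mul_assoc]
    _ = _ := by rw [w2_xma]; simp only [mul_assoc]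

/-- `r12` conjugated by `w1` -/
theorem r121 (s t : F) : U' π₁ π₂ s * π₂ (up t) =
    π₁ (lo (s * t)) * V' π₁ π₂ (s ^ 2 * t) * (π₂ (up t) * U' π₁ π₂ s) := by
  have h := congrArg (fun g => π₁ (wi F) * g) (D.r12 s t)
  rw [← mul_right_cancel_iff (a := π₁ (wi F))]
  calc U' π₁ π₂ s * π₂ (up t) * π₁ (wi F) = U' π₁ π₂ s * (π₂ (up t) * π₁ (wi F)) := mul_assoc _ _ _
    _ = (U' π₁ π₂ s * π₁ (wi F)) * V π₁ π₂ t := by rw [← w1_V, mul_assoc]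
    _ = π₁ (wi F) * (U' π₁ π₂ s * V π₁ π₂ t) := by rw [← D.w1_U', mul_assoc]
    _ = π₁ (wi F) * (π₁ (up (s * t)) * π₂ (lo (s ^ 2 * t)) * (V π₁ π₂ t * U' π₁ π₂ s)) := h
    _ = (π₁ (wi F) * π₁ (up (s * t))) * π₂ (lo (s ^ 2 * t)) * (V π₁ π₂ t * U' π₁ π₂ s) := by simp only [mul_assoc]
    _ = π₁ (lo (s * t)) * (π₁ (wi F) * π₂ (lo (s ^ 2 * t))) * (V π₁ π₂ t * U' π₁ π₂ s) := by
        rw [w1_xa]; simp only [mul_assoc]
    _ = π₁ (lo (s * t)) * V' π₁ π₂ (s ^ 2 * t) * (π₁ (wi F) * V π₁ π₂ t) * U' π₁ π₂ s := by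
        rw [w1_xmb]; simp only [mul_assoc]
    _ = π₁ (lo (s * t)) * V' π₁ π₂ (s ^ 2 * t) * π₂ (up t) * (π₁ (wi F) * U' π₁ π₂ s) := by
        rw [w1_V]; simp only [mul_assoc]
    _ = _ := by rw [D.w1_U']; simp only [mul_assoc]

/-- `r121` conjugated by `w2`: the negative of `r`. -/
theorem rneg (s t : F) : π₁ (lo s) * π₂ (lo t) =
    U' π₁ π₂ (s * t) * V' π₁ π₂ (s ^ 2 * t) * (π₂ (lo t) * π₁ (lo s)) := by
  have h := congrArg (fun g => π₂ (wi F) * g) (D.r121 s t)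
  rw [← mul_right_cancel_iff (a := π₂ (wi F))]
  calc π₁ (lo s) * π₂ (lo t) * π₂ (wi F) = π₁ (lo s) * (π₂ (lo t) * π₂ (wi F)) := mul_assoc _ _ _
    _ = (π₁ (lo s) * π₂ (wi F)) * π₂ (up t) := by rw [← w1_xa, mul_assoc]
    _ = π₂ (wi F) * (U' π₁ π₂ s * π₂ (up t)) := by rw [← w2_U', mul_assoc]
    _ = π₂ (wi F) * (π₁ (lo (s * t)) * V' π₁ π₂ (s ^ 2 * t) * (π₂ (up t) * U' π₁ π₂ s)) := h
    _ = (π₂ (wi F) * π₁ (lo (s * t))) * V' π₁ π₂ (s ^ 2 * t) * (π₂ (up t) * U' π₁ π₂ s) := by simp only [mul_assoc]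
    _ = U' π₁ π₂ (s * t) * (π₂ (wi F) * V' π₁ π₂ (s ^ 2 * t)) * (π₂ (up t) * U' π₁ π₂ s) := by
        rw [w2_xma]; simp only [mul_assoc]
    _ = U' π₁ π₂ (s * t) * V' π₁ π₂ (s ^ 2 * t) * (π₂ (wi F) * π₂ (up t)) * U' π₁ π₂ s := by
        rw [D.w2_V']; simp only [mul_assoc]
    _ = U' π₁ π₂ (s * t) * V' π₁ π₂ (s ^ 2 * t) * π₂ (lo t) * (π₂ (wi F) * U' π₁ π₂ s) := by
        rw [w1_xa]; simp only [mul_assoc]
    _ = _ := by rw [w2_U']; simp only [mul_assoc]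

/-- `rneg` conjugated by `w1` -/
theorem rneg1 (s t : F) : π₁ (up s) * V' π₁ π₂ t =
    U' π₁ π₂ (s * t) * π₂ (lo (s ^ 2 * t)) * (V' π₁ π₂ t * π₁ (up s)) := by
  have h := congrArg (fun g => π₁ (wi F) * g) (D.rneg s t)
  rw [← mul_right_cancel_iff (a := π₁ (wi F))]
  calc π₁ (up s) * V' π₁ π₂ t * π₁ (wi F) = π₁ (up s) * (V' π₁ π₂ t * π₁ (wi F)) := mul_assoc _ _ _
    _ = (π₁ (up s) * π₁ (wi F)) * π₂ (lo t) := by rw [← w1_xmb, mul_assoc]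
    _ = π₁ (wi F) * (π₁ (lo s) * π₂ (lo t)) := by rw [← w1_xma, mul_assoc]
    _ = π₁ (wi F) * (U' π₁ π₂ (s * t) * V' π₁ π₂ (s ^ 2 * t) * (π₂ (lo t) * π₁ (lo s))) := h
    _ = (π₁ (wi F) * U' π₁ π₂ (s * t)) * V' π₁ π₂ (s ^ 2 * t) * (π₂ (lo t) * π₁ (lo s)) := by simp only [mul_assoc]
    _ = U' π₁ π₂ (s * t) * (π₁ (wi F) * V' π₁ π₂ (s ^ 2 * t)) * (π₂ (lo t) * π₁ (lo s)) := by
        rw [D.w1_U']; simp only [mul_assoc]
    _ = U' π₁ π₂ (s * t) * π₂ (lo (s ^ 2 * t)) * (π₁ (wi F) * π₂ (lo t)) * π₁ (lo s) := by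
        rw [w1_V']; simp only [mul_assoc]
    _ = U' π₁ π₂ (s * t) * π₂ (lo (s ^ 2 * t)) * V' π₁ π₂ t * (π₁ (wi F) * π₁ (lo s)) := by
        rw [w1_xmb]; simp only [mul_assoc]
    _ = _ := by rw [w1_xma]; simp only [mul_assoc]

/-- `x_{-b} x_{-a}` reordered -/
theorem mb_ma (s t : F) : π₂ (lo t) * π₁ (lo s) =
    π₁ (lo s) * (U' π₁ π₂ (s * t) * (V' π₁ π₂ (s ^ 2 * t) * π₂ (lo t))) := by
  have h := D.rneg s t
  have h1 : π₂ (lo t) * π₁ (lo s) =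
      V' π₁ π₂ (s ^ 2 * t) * (U' π₁ π₂ (s * t) * (π₁ (lo s) * π₂ (lo t))) := by
    rw [h]
    simp only [← mul_assoc]
    rw [mul_assoc (V' π₁ π₂ (s ^ 2 * t)), U'_sq, mul_one, V'_sq, one_mul]
  rw [h1]
  simp only [← mul_assoc]
  rw [mul_assoc (V' π₁ π₂ (s ^ 2 * t)), ← D.ma_U', ← mul_assoc, ← D.ma_V', mul_assoc (π₁ (lo s)), ← D.U'_V']
  simp only [mul_assoc]

/-- `x_b x_{-(a+b)}` reordered -/
theorem b_U' (s t : F) : π₂ (up t) * U' π₁ π₂ s =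
    V' π₁ π₂ (s ^ 2 * t) * (π₁ (lo (s * t)) * (U' π₁ π₂ s * π₂ (up t))) := by
  rw [D.r121 s t]
  simp only [← mul_assoc]
  rw [mul_assoc (V' π₁ π₂ (s ^ 2 * t)), xma_sq, mul_one, V'_sq, one_mul]

theorem h1_w2 (s : F) (hs : s ≠ 0) :
    π₁ (dg s hs) * π₂ (wi F) = π₂ (wi F) * (π₂ (wi F) * π₁ (dg s hs) * π₂ (wi F)) := by
  rw [mul_assoc (π₂ (wi F)), w1w1']

theorem h1w2_w1 (s : F) (hs : s ≠ 0) :
    (π₂ (wi F) * π₁ (dg s hs) * π₂ (wi F)) * π₁ (wi F) = π₁ (wi F) * (π₂ (wi F) * π₁ (dg s hs) * π₂ (wi F)) :=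
  (D.c1 (wi F) (dg s hs)).symm.eq

theorem h1_V' (s : F) (hs : s ≠ 0) (t : F) :
    π₁ (dg s hs) * V' π₁ π₂ t = V' π₁ π₂ (s⁻¹ ^ 2 * t) * π₁ (dg s hs) := by
  have e : π₁ (dg s hs) * π₁ (wi F) = π₁ (wi F) * π₁ (dg s⁻¹ (inv_ne_zero hs)) := by
    rw [← map_mul, dg_wi hs, map_mul]
  have e2 : π₁ (dg s⁻¹ (inv_ne_zero hs)) * π₁ (wi F) = π₁ (wi F) * π₁ (dg s hs) := by
    rw [← map_mul, dg_wi, map_mul]
    congr 3
    simp
  have e3 := D.h1l s⁻¹ (inv_ne_zero hs) t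
  rw [V', V']
  calc π₁ (dg s hs) * (π₁ (wi F) * π₂ (lo t) * π₁ (wi F))
      = (π₁ (dg s hs) * π₁ (wi F)) * π₂ (lo t) * π₁ (wi F) := by simp only [mul_assoc]
    _ = π₁ (wi F) * (π₁ (dg s⁻¹ (inv_ne_zero hs)) * π₂ (lo t)) * π₁ (wi F) := by rw [e]; simp only [mul_assoc]
    _ = π₁ (wi F) * π₂ (lo (s⁻¹ ^ 2 * t)) * (π₁ (dg s⁻¹ (inv_ne_zero hs)) * π₁ (wi F)) := by
        rw [e3]; simp only [mul_assoc]
    _ = _ := by rw [e2]; simp only [mul_assoc]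

theorem h2_U' (s : F) (hs : s ≠ 0) (t : F) :
    π₂ (dg s hs) * U' π₁ π₂ t = U' π₁ π₂ (s⁻¹ * t) * π₂ (dg s hs) := by
  have e : π₂ (dg s hs) * π₂ (wi F) = π₂ (wi F) * π₂ (dg s⁻¹ (inv_ne_zero hs)) := by
    rw [← map_mul, dg_wi hs, map_mul]
  have e2 : π₂ (dg s⁻¹ (inv_ne_zero hs)) * π₂ (wi F) = π₂ (wi F) * π₂ (dg s hs) := by
    rw [← map_mul, dg_wi, map_mul]
    congr 3
    simp
  have e3 := D.h2l s⁻¹ (inv_ne_zero hs) t
  rw [U', U']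
  calc π₂ (dg s hs) * (π₂ (wi F) * π₁ (lo t) * π₂ (wi F))
      = (π₂ (dg s hs) * π₂ (wi F)) * π₁ (lo t) * π₂ (wi F) := by simp only [mul_assoc]
    _ = π₂ (wi F) * (π₂ (dg s⁻¹ (inv_ne_zero hs)) * π₁ (lo t)) * π₂ (wi F) := by rw [e]; simp only [mul_assoc]
    _ = π₂ (wi F) * π₁ (lo (s⁻¹ * t)) * (π₂ (dg s⁻¹ (inv_ne_zero hs)) * π₂ (wi F)) := by
        rw [e3]; simp only [mul_assoc]
    _ = _ := by rw [e2]; simp only [mul_assoc]

theorem h2_w1 (s : F) (hs : s ≠ 0) :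
    π₂ (dg s hs) * π₁ (wi F) = π₁ (wi F) * (π₁ (dg s hs) * π₂ (dg s hs)) := by
  have e1 := D.h2u s hs 1
  have e2 := D.h2l s hs 1
  rw [mul_one] at e1 e2
  have e0 : wi F = up 1 * lo 1 * up 1 := by
    have := wi_eq (F := F)
    rwa [CharTwo.neg_eq] at this
  have e3 : π₁ (up s⁻¹) * π₁ (lo s) * π₁ (up s⁻¹) = π₁ (wi F) * π₁ (dg s hs) := by
    rw [← map_mul, ← map_mul, up_lo_up hs, map_mul]
  calc π₂ (dg s hs) * π₁ (wi F) = (π₂ (dg s hs) * π₁ (up 1)) * π₁ (lo 1) * π₁ (up 1) := by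
        rw [e0, map_mul, map_mul]; simp only [mul_assoc]
    _ = π₁ (up s⁻¹) * (π₂ (dg s hs) * π₁ (lo 1)) * π₁ (up 1) := by rw [e1]; simp only [mul_assoc]
    _ = π₁ (up s⁻¹) * π₁ (lo s) * (π₂ (dg s hs) * π₁ (up 1)) := by rw [e2]; simp only [mul_assoc]
    _ = (π₁ (up s⁻¹) * π₁ (lo s) * π₁ (up s⁻¹)) * π₂ (dg s hs) := by rw [e1]; simp only [mul_assoc]
    _ = _ := by rw [e3]; simp only [mul_assoc]

end Data


/-! ### the action on the orbit of a point -/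

section action

variable {Ω : Type*} [MulAction G Ω] [CharP F 2]

/-- The point of `Ω` attached to the vector with coordinates `a b c d` (basis `e₁ e₂ f₁ f₂`). -/
noncomputable def pt (π₁ π₂ : SpecialLinearGroup (Fin 2) F →* G) (o : Ω) (a b c d : F) : Ω :=
  open Classical in
  if a ≠ 0 then (π₁ (lo (b / a)) * (U' π₁ π₂ (d / a) * V' π₁ π₂ (c / a + b * d / a ^ 2))) • o
  else if b ≠ 0 then (π₂ (lo (d / b)) * (U' π₁ π₂ (c / b) * π₁ (wi F))) • o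
  else if d ≠ 0 then (π₁ (lo (c / d)) * (π₂ (wi F) * π₁ (wi F))) • o
  else (π₁ (wi F) * (π₂ (wi F) * π₁ (wi F))) • o

/-- The point `o` behaves like `⟨e₁⟩`. -/
structure Fixed (π₁ π₂ : SpecialLinearGroup (Fin 2) F →* G) (o : Ω) : Prop where
  f2 : ∀ A, π₂ A • o = o
  fu : ∀ a, π₁ (up a) • o = o
  fd : ∀ (s : F) (hs : s ≠ 0), π₁ (dg s hs) • o = o
  fV : ∀ a, V π₁ π₂ a • o = o

variable {π₁ π₂ : SpecialLinearGroup (Fin 2) F →* G} {o : Ω}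

section ptcases

omit [CharP F 2]

theorem pt_a {a : F} (h : a ≠ 0) (b c d : F) :
    pt π₁ π₂ o a b c d = (π₁ (lo (b / a)) * (U' π₁ π₂ (d / a) * V' π₁ π₂ (c / a + b * d / a ^ 2))) • o := by
  unfold pt
  rw [if_pos h]

theorem pt_b {b : F} (h : b ≠ 0) (c d : F) :
    pt π₁ π₂ o 0 b c d = (π₂ (lo (d / b)) * (U' π₁ π₂ (c / b) * π₁ (wi F))) • o := by
  unfold pt
  rw [if_neg (by simp), if_pos h]

theorem pt_d {d : F} (h : d ≠ 0) (c : F) :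
    pt π₁ π₂ o 0 0 c d = (π₁ (lo (c / d)) * (π₂ (wi F) * π₁ (wi F))) • o := by
  unfold pt
  rw [if_neg (by simp), if_neg (by simp), if_pos h]

theorem pt_c (c : F) :
    pt π₁ π₂ o 0 0 c 0 = (π₁ (wi F) * (π₂ (wi F) * π₁ (wi F))) • o := by
  unfold pt
  rw [if_neg (by simp), if_neg (by simp), if_neg (by simp)]

end ptcases

variable (D : Data π₁ π₂) (H : Fixed π₁ π₂ o)

include D H

open Data

theorem w2_o : π₂ (wi F) • o = o := H.f2 _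
theorem xmb_o (t : F) : π₂ (lo t) • o = o := H.f2 _
theorem xb_o (t : F) : π₂ (up t) • o = o := H.f2 _

theorem U_o (t : F) : U π₁ π₂ t • o = o := by
  rw [U, mul_smul, mul_smul, H.f2, H.fu, H.f2]

-- points `w1 o`
theorem xma_p2 (t : F) : (π₁ (lo t) * π₁ (wi F)) • o = π₁ (wi F) • o := by
  rw [← w1_xa, mul_smul, H.fu]

theorem xb_p2 (t : F) : (π₂ (up t) * π₁ (wi F)) • o = π₁ (wi F) • o := by
  rw [← w1_V, mul_smul, H.fV]

theorem V'_p2 (t : F) : (V' π₁ π₂ t * π₁ (wi F)) • o = π₁ (wi F) • o := by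
  rw [← w1_xmb, mul_smul, H.f2]

theorem V_p2 (t : F) : (V π₁ π₂ t * π₁ (wi F)) • o = π₁ (wi F) • o := by
  rw [← w1_xb, mul_smul, H.f2]

theorem U_p2 (t : F) : (U π₁ π₂ t * π₁ (wi F)) • o = π₁ (wi F) • o := by
  rw [← D.w1_U, mul_smul, U_o D H]

theorem h2_p2 {s : F} (hs : s ≠ 0) : (π₂ (dg s hs) * π₁ (wi F)) • o = π₁ (wi F) • o := by
  rw [D.h2_w1, mul_smul, mul_smul, H.f2, H.fd]

-- points `w2 w1 o`
theorem U'_p3 (t : F) : (U' π₁ π₂ t * (π₂ (wi F) * π₁ (wi F))) • o = (π₂ (wi F) * π₁ (wi F)) • o := by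
  rw [← mul_assoc, ← w2_xma, mul_assoc, mul_smul, xma_p2 D H, mul_smul]

theorem V'_p3 (t : F) : (V' π₁ π₂ t * (π₂ (wi F) * π₁ (wi F))) • o = (π₂ (wi F) * π₁ (wi F)) • o := by
  rw [← mul_assoc, ← D.w2_V', mul_assoc, mul_smul, V'_p2 D H, mul_smul]

theorem xmb_p3 (t : F) : (π₂ (lo t) * (π₂ (wi F) * π₁ (wi F))) • o = (π₂ (wi F) * π₁ (wi F)) • o := by
  rw [← mul_assoc, ← w1_xa, mul_assoc, mul_smul, xb_p2 D H, mul_smul]

theorem xa_p3 (t : F) : (π₁ (up t) * (π₂ (wi F) * π₁ (wi F))) • o = (π₂ (wi F) * π₁ (wi F)) • o := by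
  rw [← mul_assoc, ← w2_U, mul_assoc, mul_smul, U_p2 D H, mul_smul]

theorem h1_p3 {s : F} (hs : s ≠ 0) :
    (π₁ (dg s hs) * (π₂ (wi F) * π₁ (wi F))) • o = (π₂ (wi F) * π₁ (wi F)) • o := by
  rw [← mul_assoc, D.h1_w2, mul_assoc, D.h1w2_w1, mul_smul, mul_smul, mul_smul, mul_smul, H.f2, H.fd, H.f2,
    mul_smul]

-- points `w1 w2 w1 o`
theorem xma_p4 (t : F) : (π₁ (lo t) * (π₁ (wi F) * (π₂ (wi F) * π₁ (wi F)))) • o =
    (π₁ (wi F) * (π₂ (wi F) * π₁ (wi F))) • o := by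
  rw [← mul_assoc, ← w1_xa, mul_assoc, mul_smul, xa_p3 D H, mul_smul (π₁ (wi F))]

theorem xmb_p4 (t : F) : (π₂ (lo t) * (π₁ (wi F) * (π₂ (wi F) * π₁ (wi F)))) • o =
    (π₁ (wi F) * (π₂ (wi F) * π₁ (wi F))) • o := by
  rw [← mul_assoc, ← w1_V', mul_assoc, mul_smul, V'_p3 D H, mul_smul (π₁ (wi F))]

theorem w2_p4 : (π₂ (wi F) * (π₁ (wi F) * (π₂ (wi F) * π₁ (wi F)))) • o =
    (π₁ (wi F) * (π₂ (wi F) * π₁ (wi F))) • o := by
  rw [D.braid]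
  simp only [mul_smul, w2_o D H]

/-! #### the four generators -/

/-- `x_{-a}(t)` -/
theorem eq_xma (t : F) (a b c d : F) (h : ¬ (a = 0 ∧ b = 0 ∧ c = 0 ∧ d = 0)) :
    π₁ (lo t) • pt π₁ π₂ o a b c d = pt π₁ π₂ o a (b + t * a) (c + t * d) d := by
  by_cases ha : a = 0
  · subst ha
    rw [mul_zero, add_zero]
    by_cases hb : b = 0
    · subst hb
      by_cases hd : d = 0
      · subst hd
        rw [pt_c, mul_zero, add_zero, pt_c, ← mul_smul, xma_p4 D H]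
      · rw [pt_d hd, pt_d hd, ← mul_smul, ← mul_assoc, ← map_mul, ← lo_add]
        congr 4
        field_simp
        ring
    · rw [pt_b hb, pt_b hb, ← mul_smul, ← mul_assoc, D.rneg]
      have e : U' π₁ π₂ (t * (d / b)) * V' π₁ π₂ (t ^ 2 * (d / b)) * (π₂ (lo (d / b)) * π₁ (lo t)) *
          (U' π₁ π₂ (c / b) * π₁ (wi F)) =
          (π₂ (lo (d / b)) * (U' π₁ π₂ ((c + t * d) / b))) *
            (V' π₁ π₂ (t ^ 2 * (d / b)) * π₁ (wi F) * π₁ (up t)) := by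
        have e1 : (c + t * d) / b = t * (d / b) + c / b := by field_simp; ring
        rw [e1, U'_add]
        calc U' π₁ π₂ (t * (d / b)) * V' π₁ π₂ (t ^ 2 * (d / b)) * (π₂ (lo (d / b)) * π₁ (lo t)) *
              (U' π₁ π₂ (c / b) * π₁ (wi F))
            = U' π₁ π₂ (t * (d / b)) * V' π₁ π₂ (t ^ 2 * (d / b)) * π₂ (lo (d / b)) *
              (π₁ (lo t) * U' π₁ π₂ (c / b)) * π₁ (wi F) := by simp only [mul_assoc]
          _ = U' π₁ π₂ (t * (d / b)) * (V' π₁ π₂ (t ^ 2 * (d / b)) * π₂ (lo (d / b))) *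
              U' π₁ π₂ (c / b) * (π₁ (lo t) * π₁ (wi F)) := by rw [D.ma_U']; simp only [mul_assoc]
          _ = (U' π₁ π₂ (t * (d / b)) * π₂ (lo (d / b))) * (V' π₁ π₂ (t ^ 2 * (d / b)) *
              U' π₁ π₂ (c / b)) * (π₁ (wi F) * π₁ (up t)) := by
                rw [← D.mb_V', w1_xa]; simp only [mul_assoc]
          _ = _ := by rw [← D.mb_U', ← D.U'_V']; simp only [mul_assoc]
      rw [e, mul_smul, mul_smul _ (π₁ (up t)), H.fu, V'_p2 D H, ← mul_smul, mul_assoc]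
  · rw [pt_a ha, pt_a ha, ← mul_smul, ← mul_assoc, ← map_mul, ← lo_add]
    have e1 : t + b / a = (b + t * a) / a := by field_simp; ring
    have e2 : (c + t * d) / a + (b + t * a) * d / a ^ 2 = c / a + b * d / a ^ 2 := by
      have : (c + t * d) / a + (b + t * a) * d / a ^ 2 = c / a + b * d / a ^ 2 + (t * d / a + t * d / a) := by
        field_simp; ring
      rw [this, CharTwo.add_self_eq_zero, add_zero]
    rw [e1, e2]

/-- `x_{-b}(t)` -/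
theorem eq_xmb (t : F) (a b c d : F) (h : ¬ (a = 0 ∧ b = 0 ∧ c = 0 ∧ d = 0)) :
    π₂ (lo t) • pt π₁ π₂ o a b c d = pt π₁ π₂ o a b c (d + t * b) := by
  by_cases ha : a = 0
  · subst ha
    by_cases hb : b = 0
    · subst hb
      rw [mul_zero, add_zero]
      by_cases hd : d = 0
      · subst hd
        rw [pt_c, ← mul_smul, xmb_p4 D H]
      · rw [pt_d hd, ← mul_smul, ← mul_assoc, D.mb_ma]
        simp only [mul_assoc]
        rw [mul_smul, mul_smul, mul_smul, xmb_p3 D H, ← mul_smul (V' π₁ π₂ _), V'_p3 D H, ← mul_smul (U' π₁ π₂ _),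
          U'_p3 D H, ← mul_smul]
    · rw [pt_b hb, pt_b hb, ← mul_smul, ← mul_assoc, ← map_mul, ← lo_add]
      congr 4
      field_simp
      ring
  · rw [pt_a ha, pt_a ha, ← mul_smul, ← mul_assoc, D.mb_ma]
    have e1 : (d + t * b) / a = b / a * t + d / a := by field_simp; ring
    have e2 : c / a + b * (d + t * b) / a ^ 2 = (b / a) ^ 2 * t + (c / a + b * d / a ^ 2) := by field_simp; ring
    rw [e1, e2, U'_add, V'_add ((b / a) ^ 2 * t)]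
    have e : π₁ (lo (b / a)) * (U' π₁ π₂ (b / a * t) * (V' π₁ π₂ ((b / a) ^ 2 * t) * π₂ (lo t))) *
        (U' π₁ π₂ (d / a) * V' π₁ π₂ (c / a + b * d / a ^ 2)) =
        π₁ (lo (b / a)) * (U' π₁ π₂ (b / a * t) * U' π₁ π₂ (d / a) *
          (V' π₁ π₂ ((b / a) ^ 2 * t) * V' π₁ π₂ (c / a + b * d / a ^ 2))) * π₂ (lo t) := by
      calc π₁ (lo (b / a)) * (U' π₁ π₂ (b / a * t) * (V' π₁ π₂ ((b / a) ^ 2 * t) * π₂ (lo t))) *
            (U' π₁ π₂ (d / a) * V' π₁ π₂ (c / a + b * d / a ^ 2))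
          = π₁ (lo (b / a)) * U' π₁ π₂ (b / a * t) * V' π₁ π₂ ((b / a) ^ 2 * t) *
            (π₂ (lo t) * U' π₁ π₂ (d / a)) * V' π₁ π₂ (c / a + b * d / a ^ 2) := by simp only [mul_assoc]
        _ = π₁ (lo (b / a)) * U' π₁ π₂ (b / a * t) * (V' π₁ π₂ ((b / a) ^ 2 * t) *
            U' π₁ π₂ (d / a)) * (π₂ (lo t) * V' π₁ π₂ (c / a + b * d / a ^ 2)) := by
              rw [D.mb_U']; simp only [mul_assoc]
        _ = _ := by rw [D.mb_V', ← D.U'_V']; simp only [mul_assoc]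
    rw [e, mul_smul, H.f2]

/-- `w2` -/
theorem eq_w2 (a b c d : F) (h : ¬ (a = 0 ∧ b = 0 ∧ c = 0 ∧ d = 0)) :
    π₂ (wi F) • pt π₁ π₂ o a b c d = pt π₁ π₂ o a d c b := by
  by_cases ha : a = 0
  · subst ha
    by_cases hb : b = 0
    · subst hb
      by_cases hd : d = 0
      · subst hd
        rw [pt_c, ← mul_smul, w2_p4 D H]
      · rw [pt_d hd, pt_b hd, ← mul_smul, ← mul_assoc, w2_xma, zero_div, lo_zero, map_one, one_mul, mul_assoc,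
          w1w1']
    · rw [pt_b hb]
      by_cases hd : d = 0
      · subst hd
        rw [zero_div, lo_zero, map_one, one_mul, pt_d hb, ← mul_smul, ← mul_assoc, w2_U', mul_assoc]
      · have hx : d / b ≠ 0 := div_ne_zero hd hb
        rw [pt_b hd, ← mul_smul, ← mul_assoc, ← map_mul, wi_mul_lo hx, map_mul, map_mul]
        have e : π₂ (lo (d / b)⁻¹) * π₂ (dg (d / b) hx) * π₂ (up (d / b)⁻¹) * (U' π₁ π₂ (c / b) * π₁ (wi F)) =
            (π₂ (lo (b / d)) * U' π₁ π₂ (c / d)) * (π₂ (dg (d / b) hx) * (V' π₁ π₂ ((c / b) ^ 2 * (d / b)⁻¹) *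
              (π₁ (wi F) * (π₁ (up (c / b * (d / b)⁻¹)) * V π₁ π₂ ((d / b)⁻¹))))) := by
          have e1 : (d / b)⁻¹ = b / d := by rw [inv_div]
          have e2 : (d / b)⁻¹ * (c / b) = c / d := by field_simp
          calc π₂ (lo (d / b)⁻¹) * π₂ (dg (d / b) hx) * π₂ (up (d / b)⁻¹) * (U' π₁ π₂ (c / b) * π₁ (wi F))
              = π₂ (lo (d / b)⁻¹) * π₂ (dg (d / b) hx) * (π₂ (up (d / b)⁻¹) * U' π₁ π₂ (c / b)) * π₁ (wi F) := by
                simp only [mul_assoc]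
            _ = π₂ (lo (d / b)⁻¹) * π₂ (dg (d / b) hx) * V' π₁ π₂ ((c / b) ^ 2 * (d / b)⁻¹) *
                (π₁ (lo (c / b * (d / b)⁻¹)) * U' π₁ π₂ (c / b)) * (π₂ (up (d / b)⁻¹) * π₁ (wi F)) := by
                rw [D.b_U']; simp only [mul_assoc]
            _ = π₂ (lo (d / b)⁻¹) * π₂ (dg (d / b) hx) * (V' π₁ π₂ ((c / b) ^ 2 * (d / b)⁻¹) *
                U' π₁ π₂ (c / b)) * (π₁ (lo (c / b * (d / b)⁻¹)) * π₁ (wi F)) * V π₁ π₂ ((d / b)⁻¹) := by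
                rw [D.ma_U', ← w1_V]; simp only [mul_assoc]
            _ = π₂ (lo (d / b)⁻¹) * (π₂ (dg (d / b) hx) * U' π₁ π₂ (c / b)) * V' π₁ π₂ ((c / b) ^ 2 * (d / b)⁻¹) *
                (π₁ (wi F) * π₁ (up (c / b * (d / b)⁻¹))) * V π₁ π₂ ((d / b)⁻¹) := by
                rw [← D.U'_V', w1_xa]; simp only [mul_assoc]
            _ = _ := by rw [D.h2_U', e2, e1]; simp only [mul_assoc]
        rw [e, mul_smul _ (π₂ (dg _ _) * _), mul_smul (π₂ (dg _ _)), mul_smul (V' π₁ π₂ _), mul_smul (π₁ (wi F)),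
          mul_smul (π₁ (up _)), H.fV, H.fu, ← mul_smul (V' π₁ π₂ _), V'_p2 D H, ← mul_smul (π₂ (dg _ _)), h2_p2 D H,
          ← mul_smul, mul_assoc]
  · rw [pt_a ha, pt_a ha, ← mul_smul, ← mul_assoc, w2_xma]
    have e2 : c / a + b * d / a ^ 2 = c / a + d * b / a ^ 2 := by rw [mul_comm b d]
    have e : U' π₁ π₂ (b / a) * π₂ (wi F) * (U' π₁ π₂ (d / a) * V' π₁ π₂ (c / a + b * d / a ^ 2)) =
        π₁ (lo (d / a)) * (U' π₁ π₂ (b / a) * V' π₁ π₂ (c / a + d * b / a ^ 2)) * π₂ (wi F) := by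
      calc U' π₁ π₂ (b / a) * π₂ (wi F) * (U' π₁ π₂ (d / a) * V' π₁ π₂ (c / a + b * d / a ^ 2))
          = U' π₁ π₂ (b / a) * (π₂ (wi F) * U' π₁ π₂ (d / a)) * V' π₁ π₂ (c / a + b * d / a ^ 2) := by
            simp only [mul_assoc]
        _ = (U' π₁ π₂ (b / a) * π₁ (lo (d / a))) * (π₂ (wi F) * V' π₁ π₂ (c / a + b * d / a ^ 2)) := by
            rw [w2_U']; simp only [mul_assoc]
        _ = _ := by rw [← D.ma_U', D.w2_V', e2]; simp only [mul_assoc]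
    rw [e, mul_smul, H.f2]

/-- `w1` -/
theorem eq_w1 (a b c d : F) (h : ¬ (a = 0 ∧ b = 0 ∧ c = 0 ∧ d = 0)) :
    π₁ (wi F) • pt π₁ π₂ o a b c d = pt π₁ π₂ o b a d c := by
  by_cases ha : a = 0
  · subst ha
    by_cases hb : b = 0
    · subst hb
      by_cases hd : d = 0
      · subst hd
        have hc : c ≠ 0 := fun hc => h ⟨rfl, rfl, hc, rfl⟩
        rw [pt_c, pt_d hc, ← mul_smul, w1w1', zero_div, lo_zero, map_one, one_mul]
      · rw [pt_d hd]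
        by_cases hc : c = 0
        · subst hc
          rw [pt_c, zero_div, lo_zero, map_one, one_mul, ← mul_smul]
        · have hx : c / d ≠ 0 := div_ne_zero hc hd
          rw [pt_d hc, ← mul_smul, ← mul_assoc, ← map_mul, wi_mul_lo hx, map_mul, map_mul, mul_assoc, mul_smul,
            xa_p3 D H, ← mul_smul, mul_assoc, mul_smul, h1_p3 D H, ← mul_smul, inv_div]
    · rw [pt_b hb, pt_a hb, ← mul_smul]
      have e : π₁ (wi F) * (π₂ (lo (d / b)) * (U' π₁ π₂ (c / b) * π₁ (wi F))) =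
          U' π₁ π₂ (c / b) * V' π₁ π₂ (d / b) := by
        calc π₁ (wi F) * (π₂ (lo (d / b)) * (U' π₁ π₂ (c / b) * π₁ (wi F)))
            = (π₁ (wi F) * π₂ (lo (d / b))) * (U' π₁ π₂ (c / b) * π₁ (wi F)) := by simp only [mul_assoc]
          _ = V' π₁ π₂ (d / b) * (π₁ (wi F) * (U' π₁ π₂ (c / b) * π₁ (wi F))) := by
              rw [w1_xmb]; simp only [mul_assoc]
          _ = V' π₁ π₂ (d / b) * U' π₁ π₂ (c / b) := by rw [← D.w1_U', w1w1']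
          _ = _ := (D.U'_V' _ _).symm
      rw [e, zero_div, lo_zero, map_one, one_mul, zero_mul, zero_div, add_zero]
  · rw [pt_a ha]
    by_cases hb : b = 0
    · subst hb
      rw [pt_b ha, zero_div, lo_zero, map_one, one_mul, zero_mul, zero_div, add_zero, ← mul_smul]
      have e : π₁ (wi F) * (U' π₁ π₂ (d / a) * V' π₁ π₂ (c / a)) =
          π₂ (lo (c / a)) * (U' π₁ π₂ (d / a) * π₁ (wi F)) := by
        calc π₁ (wi F) * (U' π₁ π₂ (d / a) * V' π₁ π₂ (c / a))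
            = (π₁ (wi F) * U' π₁ π₂ (d / a)) * V' π₁ π₂ (c / a) := by simp only [mul_assoc]
          _ = U' π₁ π₂ (d / a) * (π₁ (wi F) * V' π₁ π₂ (c / a)) := by rw [D.w1_U']; simp only [mul_assoc]
          _ = (U' π₁ π₂ (d / a) * π₂ (lo (c / a))) * π₁ (wi F) := by rw [w1_V']; simp only [mul_assoc]
          _ = _ := by rw [← D.mb_U']; simp only [mul_assoc]
      rw [e]
    · have hx : b / a ≠ 0 := div_ne_zero hb ha
      rw [pt_a hb, ← mul_smul, ← mul_assoc, ← map_mul, wi_mul_lo hx, map_mul, map_mul]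
      set k : F := c / a + b * d / a ^ 2 with hk
      set u : F := (b / a)⁻¹ with hu
      have e1 : u = a / b := by rw [hu, inv_div]
      have e2 : d / a + u * k = c / b := by
        have : d / a + u * k = c / b + (d / a + d / a) := by
          rw [hk, e1]; field_simp; ring
        rw [this, CharTwo.add_self_eq_zero, add_zero]
      have e3 : u ^ 2 * k = d / b + a * c / b ^ 2 := by
        rw [hk, e1]; field_simp; ring
      have e : π₁ (lo u) * π₁ (dg (b / a) hx) * π₁ (up u) * (U' π₁ π₂ (d / a) * V' π₁ π₂ k) =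
          (π₁ (lo u) * (U' π₁ π₂ (c / b) * V' π₁ π₂ (d / b + a * c / b ^ 2))) *
            (π₁ (dg (b / a) hx) * (π₂ (lo (u ^ 2 * k)) * π₁ (up u))) := by
        calc π₁ (lo u) * π₁ (dg (b / a) hx) * π₁ (up u) * (U' π₁ π₂ (d / a) * V' π₁ π₂ k)
            = π₁ (lo u) * π₁ (dg (b / a) hx) * (π₁ (up u) * U' π₁ π₂ (d / a)) * V' π₁ π₂ k := by
              simp only [mul_assoc]
          _ = π₁ (lo u) * π₁ (dg (b / a) hx) * U' π₁ π₂ (d / a) * (π₁ (up u) * V' π₁ π₂ k) := by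
              rw [D.a_U']; simp only [mul_assoc]
          _ = π₁ (lo u) * π₁ (dg (b / a) hx) * (U' π₁ π₂ (d / a) * U' π₁ π₂ (u * k)) *
              (π₂ (lo (u ^ 2 * k)) * V' π₁ π₂ k) * π₁ (up u) := by
              rw [D.rneg1]; simp only [mul_assoc]
          _ = π₁ (lo u) * (π₁ (dg (b / a) hx) * U' π₁ π₂ (d / a + u * k)) *
              V' π₁ π₂ k * π₂ (lo (u ^ 2 * k)) * π₁ (up u) := by
              rw [D.mb_V', U'_add]; simp only [mul_assoc]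
          _ = π₁ (lo u) * U' π₁ π₂ (d / a + u * k) * (π₁ (dg (b / a) hx) *
              V' π₁ π₂ k) * π₂ (lo (u ^ 2 * k)) * π₁ (up u) := by
              rw [D.h1_U']; simp only [mul_assoc]
          _ = π₁ (lo u) * U' π₁ π₂ (d / a + u * k) * V' π₁ π₂ (u ^ 2 * k) * π₁ (dg (b / a) hx) *
              π₂ (lo (u ^ 2 * k)) * π₁ (up u) := by
              rw [D.h1_V']; simp only [mul_assoc]; rfl
          _ = _ := by rw [e2, e3]; simp only [mul_assoc]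
      rw [e, mul_smul, mul_smul (π₁ (dg _ _)), mul_smul (π₂ (lo _)), H.fu, H.f2, H.fd, e1]

end action


/-! ### extension to `Sp₄(F)` -/

section extension

open Cfsg.Agent.ChevalleyStructure.B2Sp4 Cfsg.Agent.ChevalleyStructure.B2Rep Data

variable {Ω : Type*} [MulAction G Ω] [CharP F 2] {π₁ π₂ : SpecialLinearGroup (Fin 2) F →* G} {o : Ω}

/-- the point attached to a vector -/
noncomputable def ptv (π₁ π₂ : SpecialLinearGroup (Fin 2) F →* G) (o : Ω) (v : Fin 2 ⊕ Fin 2 → F) : Ω :=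
  pt π₁ π₂ o (v (.inl 0)) (v (.inl 1)) (v (.inr 0)) (v (.inr 1))

/-- `g` acts on the points as the matrix `A`. -/
def Rep (π₁ π₂ : SpecialLinearGroup (Fin 2) F →* G) (o : Ω) (A : Matrix.symplecticGroup (Fin 2) F) (g : G) : Prop :=
  ∀ v : Fin 2 ⊕ Fin 2 → F, v ≠ 0 → g • ptv π₁ π₂ o v = ptv π₁ π₂ o ((A : Matrix _ _ F) *ᵥ v)

theorem mulVec_ne_zero (A : Matrix.symplecticGroup (Fin 2) F) {v : Fin 2 ⊕ Fin 2 → F} (hv : v ≠ 0) :
    (A : Matrix (Fin 2 ⊕ Fin 2) (Fin 2 ⊕ Fin 2) F) *ᵥ v ≠ 0 := by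
  intro h
  apply hv
  have h1 : ((A⁻¹ : Matrix.symplecticGroup (Fin 2) F) : Matrix (Fin 2 ⊕ Fin 2) (Fin 2 ⊕ Fin 2) F) *ᵥ
      ((A : Matrix (Fin 2 ⊕ Fin 2) (Fin 2 ⊕ Fin 2) F) *ᵥ v) = 0 := by rw [h, Matrix.mulVec_zero]
  rw [Matrix.mulVec_mulVec] at h1
  have h2 : ((A⁻¹ : Matrix.symplecticGroup (Fin 2) F) : Matrix (Fin 2 ⊕ Fin 2) (Fin 2 ⊕ Fin 2) F) *
      (A : Matrix (Fin 2 ⊕ Fin 2) (Fin 2 ⊕ Fin 2) F) = 1 := by
    have := congrArg Subtype.val (inv_mul_cancel A)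
    exact this
  rwa [h2, Matrix.one_mulVec] at h1

theorem Rep.one : Rep π₁ π₂ o 1 1 := by
  intro v _
  rw [one_smul]
  congr 1
  exact (Matrix.one_mulVec v).symm

theorem Rep.mul {A B : Matrix.symplecticGroup (Fin 2) F} {g h : G} (hA : Rep π₁ π₂ o A g) (hB : Rep π₁ π₂ o B h) :
    Rep π₁ π₂ o (A * B) (g * h) := by
  intro v hv
  rw [mul_smul, hB v hv, hA _ (mulVec_ne_zero B hv), Matrix.mulVec_mulVec]
  rfl

theorem Rep.inv {A : Matrix.symplecticGroup (Fin 2) F} {g : G} (hA : Rep π₁ π₂ o A g) :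
    Rep π₁ π₂ o A⁻¹ g⁻¹ := by
  intro v hv
  have h := hA _ (mulVec_ne_zero A⁻¹ hv)
  rw [Matrix.mulVec_mulVec] at h
  have h2 : (A : Matrix (Fin 2 ⊕ Fin 2) (Fin 2 ⊕ Fin 2) F) *
      ((A⁻¹ : Matrix.symplecticGroup (Fin 2) F) : Matrix (Fin 2 ⊕ Fin 2) (Fin 2 ⊕ Fin 2) F) = 1 := by
    have := congrArg Subtype.val (mul_inv_cancel A)
    exact this
  rw [h2, Matrix.one_mulVec] at h
  rw [← h, inv_smul_smul]

/-- The elements acting trivially on all points. -/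
def kern (π₁ π₂ : SpecialLinearGroup (Fin 2) F →* G) (o : Ω) : Subgroup G where
  carrier := {g | Rep π₁ π₂ o 1 g}
  one_mem' := Rep.one
  mul_mem' {g h} hg hh := by
    have := Rep.mul hg hh
    rwa [mul_one] at this
  inv_mem' {g} hg := by
    have := Rep.inv hg
    rwa [inv_one] at this

theorem not_all_zero {v : Fin 2 ⊕ Fin 2 → F} (hv : v ≠ 0) :
    ¬ (v (.inl 0) = 0 ∧ v (.inl 1) = 0 ∧ v (.inr 0) = 0 ∧ v (.inr 1) = 0) := by
  rintro ⟨h1, h2, h3, h4⟩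
  apply hv
  ext i
  rcases i with i | i <;> fin_cases i
  · exact h1
  · exact h2
  · exact h3
  · exact h4

variable (D : Data π₁ π₂) (H : Fixed π₁ π₂ o)

include D H

theorem rep_aux {A : Matrix.symplecticGroup (Fin 2) F} {g : G}
    (h : ∀ a b c d : F, ¬ (a = 0 ∧ b = 0 ∧ c = 0 ∧ d = 0) →
      ∃ a' b' c' d', (A : Matrix (Fin 2 ⊕ Fin 2) (Fin 2 ⊕ Fin 2) F) *ᵥ vec a b c d = vec a' b' c' d' ∧
        g • pt π₁ π₂ o a b c d = pt π₁ π₂ o a' b' c' d') : Rep π₁ π₂ o A g := by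
  intro v hv
  obtain ⟨a', b', c', d', h1, h2⟩ := h _ _ _ _ (not_all_zero hv)
  rw [← eq_vec] at h1
  rw [ptv, h2, h1]
  rfl

theorem eq_xa (t a b c d : F) (h : ¬ (a = 0 ∧ b = 0 ∧ c = 0 ∧ d = 0)) :
    π₁ (up t) • pt π₁ π₂ o a b c d = pt π₁ π₂ o (a + t * b) b c (d + t * c) := by
  have e : π₁ (up t) = π₁ (wi F) * (π₁ (lo t) * π₁ (wi F)) := by
    rw [← w1_xa, w1w1']
  rw [e, mul_smul, mul_smul, eq_w1 D H _ _ _ _ h, eq_xma D H t b a d c (by tauto), eq_w1 D H]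
  rintro ⟨h1, h2, h3, h4⟩
  rw [h1, mul_zero, add_zero] at h2
  rw [h4, mul_zero, add_zero] at h3
  exact h ⟨h2, h1, h4, h3⟩

theorem eq_xb (t a b c d : F) (h : ¬ (a = 0 ∧ b = 0 ∧ c = 0 ∧ d = 0)) :
    π₂ (up t) • pt π₁ π₂ o a b c d = pt π₁ π₂ o a (b + t * d) c d := by
  have e : π₂ (up t) = π₂ (wi F) * (π₂ (lo t) * π₂ (wi F)) := by
    rw [← w1_xa, w1w1']
  rw [e, mul_smul, mul_smul, eq_w2 D H _ _ _ _ h, eq_xmb D H t a d c b (by tauto), eq_w2 D H]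
  rintro ⟨h1, h2, h3, h4⟩
  rw [h2, mul_zero, add_zero] at h4
  exact h ⟨h1, h4, h3, h2⟩

theorem eq_U' (t a b c d : F) (h : ¬ (a = 0 ∧ b = 0 ∧ c = 0 ∧ d = 0)) :
    U' π₁ π₂ t • pt π₁ π₂ o a b c d = pt π₁ π₂ o a b (c + t * b) (d + t * a) := by
  rw [U', mul_smul, mul_smul, eq_w2 D H _ _ _ _ h, eq_xma D H t a d c b (by tauto), eq_w2 D H]
  rintro ⟨h1, h2, h3, h4⟩
  rw [h1, mul_zero, add_zero] at h2
  rw [h4, mul_zero, add_zero] at h3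
  exact h ⟨h1, h4, h3, h2⟩

theorem eq_V' (t a b c d : F) (h : ¬ (a = 0 ∧ b = 0 ∧ c = 0 ∧ d = 0)) :
    V' π₁ π₂ t • pt π₁ π₂ o a b c d = pt π₁ π₂ o a b (c + t * a) d := by
  rw [V', mul_smul, mul_smul, eq_w1 D H _ _ _ _ h, eq_xmb D H t b a d c (by tauto), eq_w1 D H]
  rintro ⟨h1, h2, h3, h4⟩
  rw [h2, mul_zero, add_zero] at h4
  exact h ⟨h2, h1, h4, h3⟩

theorem eq_U (t a b c d : F) (h : ¬ (a = 0 ∧ b = 0 ∧ c = 0 ∧ d = 0)) :
    U π₁ π₂ t • pt π₁ π₂ o a b c d = pt π₁ π₂ o (a + t * d) (b + t * c) c d := by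
  rw [U, mul_smul, mul_smul, eq_w2 D H _ _ _ _ h, eq_xa D H t a d c b (by tauto), eq_w2 D H]
  rintro ⟨h1, h2, h3, h4⟩
  rw [h2, mul_zero, add_zero] at h1
  rw [h3, mul_zero, add_zero] at h4
  exact h ⟨h1, h4, h3, h2⟩

theorem eq_V (t a b c d : F) (h : ¬ (a = 0 ∧ b = 0 ∧ c = 0 ∧ d = 0)) :
    V π₁ π₂ t • pt π₁ π₂ o a b c d = pt π₁ π₂ o (a + t * c) b c d := by
  rw [V, mul_smul, mul_smul, eq_w1 D H _ _ _ _ h, eq_xb D H t b a d c (by tauto), eq_w1 D H]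
  rintro ⟨h1, h2, h3, h4⟩
  rw [h4, mul_zero, add_zero] at h2
  exact h ⟨h2, h1, h4, h3⟩

theorem rep5 (t : F) : Rep π₁ π₂ o (uS F (rt 5 (by norm_num)) t) (π₁ (up t)) :=
  rep_aux D H fun a b c d h => ⟨_, _, _, _, by
    rw [show ((uS F (rt 5 (by norm_num)) t : Matrix.symplecticGroup (Fin 2) F) :
      Matrix (Fin 2 ⊕ Fin 2) (Fin 2 ⊕ Fin 2) F) = uM F (rt 5 (by norm_num)) t from rfl, act5], by
    rw [eq_xa D H t a b c d h, CharTwo.sub_eq_add]⟩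

theorem rep2 (t : F) : Rep π₁ π₂ o (uS F (rt 2 (by norm_num)) t) (π₁ (lo t)) :=
  rep_aux D H fun a b c d h => ⟨_, _, _, _, by
    rw [show ((uS F (rt 2 (by norm_num)) t : Matrix.symplecticGroup (Fin 2) F) :
      Matrix (Fin 2 ⊕ Fin 2) (Fin 2 ⊕ Fin 2) F) = uM F (rt 2 (by norm_num)) t from rfl, act2], by
    rw [eq_xma D H t a b c d h, CharTwo.sub_eq_add]⟩

theorem rep4 (t : F) : Rep π₁ π₂ o (uS F (rt 4 (by norm_num)) t) (π₂ (up t)) :=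
  rep_aux D H fun a b c d h => ⟨_, _, _, _, by
    rw [show ((uS F (rt 4 (by norm_num)) t : Matrix.symplecticGroup (Fin 2) F) :
      Matrix (Fin 2 ⊕ Fin 2) (Fin 2 ⊕ Fin 2) F) = uM F (rt 4 (by norm_num)) t from rfl, act4],
    eq_xb D H t a b c d h⟩

theorem rep3 (t : F) : Rep π₁ π₂ o (uS F (rt 3 (by norm_num)) t) (π₂ (lo t)) :=
  rep_aux D H fun a b c d h => ⟨_, _, _, _, by
    rw [show ((uS F (rt 3 (by norm_num)) t : Matrix.symplecticGroup (Fin 2) F) :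
      Matrix (Fin 2 ⊕ Fin 2) (Fin 2 ⊕ Fin 2) F) = uM F (rt 3 (by norm_num)) t from rfl, act3],
    eq_xmb D H t a b c d h⟩

theorem rep6 (t : F) : Rep π₁ π₂ o (uS F (rt 6 (by norm_num)) t) (U π₁ π₂ t) :=
  rep_aux D H fun a b c d h => ⟨_, _, _, _, by
    rw [show ((uS F (rt 6 (by norm_num)) t : Matrix.symplecticGroup (Fin 2) F) :
      Matrix (Fin 2 ⊕ Fin 2) (Fin 2 ⊕ Fin 2) F) = uM F (rt 6 (by norm_num)) t from rfl, act6], by
    rw [eq_U D H t a b c d h, CharTwo.sub_eq_add, CharTwo.sub_eq_add]⟩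

theorem rep1 (t : F) : Rep π₁ π₂ o (uS F (rt 1 (by norm_num)) t) (U' π₁ π₂ t) :=
  rep_aux D H fun a b c d h => ⟨_, _, _, _, by
    rw [show ((uS F (rt 1 (by norm_num)) t : Matrix.symplecticGroup (Fin 2) F) :
      Matrix (Fin 2 ⊕ Fin 2) (Fin 2 ⊕ Fin 2) F) = uM F (rt 1 (by norm_num)) t from rfl, act1], by
    rw [eq_U' D H t a b c d h, CharTwo.sub_eq_add, CharTwo.sub_eq_add]⟩

theorem rep7 (t : F) : Rep π₁ π₂ o (uS F (rt 7 (by norm_num)) t) (V π₁ π₂ t) :=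
  rep_aux D H fun a b c d h => ⟨_, _, _, _, by
    rw [show ((uS F (rt 7 (by norm_num)) t : Matrix.symplecticGroup (Fin 2) F) :
      Matrix (Fin 2 ⊕ Fin 2) (Fin 2 ⊕ Fin 2) F) = uM F (rt 7 (by norm_num)) t from rfl, act7], by
    rw [eq_V D H t a b c d h, CharTwo.sub_eq_add]⟩

theorem rep0 (t : F) : Rep π₁ π₂ o (uS F (rt 0 (by norm_num)) t) (V' π₁ π₂ t) :=
  rep_aux D H fun a b c d h => ⟨_, _, _, _, by
    rw [show ((uS F (rt 0 (by norm_num)) t : Matrix.symplecticGroup (Fin 2) F) :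
      Matrix (Fin 2 ⊕ Fin 2) (Fin 2 ⊕ Fin 2) F) = uM F (rt 0 (by norm_num)) t from rfl, act0], by
    rw [eq_V' D H t a b c d h, CharTwo.sub_eq_add]⟩

theorem exists_rep_uS (r : Fin Cfsg.Lie.chevB2.nroots) (t : F) : ∃ g, Rep π₁ π₂ o (uS F r t) g := by
  obtain ⟨k, hk⟩ := r
  have hk' : k < 8 := hk
  interval_cases k
  · exact ⟨_, rep0 D H t⟩
  · exact ⟨_, rep1 D H t⟩
  · exact ⟨_, rep2 D H t⟩
  · exact ⟨_, rep3 D H t⟩
  · exact ⟨_, rep4 D H t⟩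
  · exact ⟨_, rep5 D H t⟩
  · exact ⟨_, rep6 D H t⟩
  · exact ⟨_, rep7 D H t⟩

theorem exists_rep (A : Matrix.symplecticGroup (Fin 2) F) : ∃ g, Rep π₁ π₂ o A g := by
  have h : A ∈ gam F := by rw [gam_eq_top]; trivial
  refine Subgroup.closure_induction (p := fun A _ => ∃ g, Rep π₁ π₂ o A g) ?_ ⟨1, Rep.one⟩ ?_ ?_ h
  · rintro A ⟨r, t, rfl⟩
    exact exists_rep_uS D H r t
  · rintro A B _ _ ⟨g, hg⟩ ⟨k, hk⟩
    exact ⟨g * k, hg.mul hk⟩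
  · rintro A _ ⟨g, hg⟩
    exact ⟨g⁻¹, hg.inv⟩

/-- Every element of `G` acts as some matrix. -/
theorem exists_rep' (hgen : ∀ Q : Subgroup G, (∀ A, π₁ A ∈ Q) → (∀ A, π₂ A ∈ Q) → Q = ⊤) (g : G) :
    ∃ A, Rep π₁ π₂ o A g := by
  let Q : Subgroup G :=
    { carrier := {g | ∃ A, Rep π₁ π₂ o A g}
      one_mem' := ⟨1, Rep.one⟩
      mul_mem' := by
        rintro g h ⟨A, hA⟩ ⟨B, hB⟩
        exact ⟨A * B, hA.mul hB⟩
      inv_mem' := by
        rintro g ⟨A, hA⟩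
        exact ⟨A⁻¹, hA.inv⟩ }
  have h1 : ∀ A, π₁ A ∈ Q := by
    intro A
    refine sl2_induction (fun A => π₁ A ∈ Q) (fun a => ⟨_, rep5 D H a⟩)
      (fun a => ⟨_, rep2 D H a⟩) (fun A B hA hB => ?_) A
    rw [map_mul]
    exact Q.mul_mem hA hB
  have h2 : ∀ A, π₂ A ∈ Q := by
    intro A
    refine sl2_induction (fun A => π₂ A ∈ Q) (fun a => ⟨_, rep4 D H a⟩)
      (fun a => ⟨_, rep3 D H a⟩) (fun A B hA hB => ?_) A
    rw [map_mul]
    exact Q.mul_mem hA hB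
  have h3 : g ∈ Q := by
    rw [hgen Q h1 h2]
    trivial
  exact h3

theorem kern_normal (hgen : ∀ Q : Subgroup G, (∀ A, π₁ A ∈ Q) → (∀ A, π₂ A ∈ Q) → Q = ⊤) :
    (kern π₁ π₂ o).Normal := by
  constructor
  intro k hk g
  obtain ⟨A, hA⟩ := exists_rep' D H hgen g
  have h := (hA.mul hk).mul hA.inv
  rw [mul_one, mul_inv_cancel] at h
  exact h

theorem kern_le : kern π₁ π₂ o ≤ MulAction.stabilizer G o := by
  intro k hk
  have hne : vec (1 : F) 0 0 0 ≠ 0 := by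
    intro h
    have := congrFun h (.inl 0)
    simp [Cfsg.Agent.ChevalleyStructure.B2Sp4.vec] at this
  have h := hk (vec 1 0 0 0) hne
  have e : ptv π₁ π₂ o (vec (1 : F) 0 0 0) = o := by
    rw [ptv]
    change pt π₁ π₂ o 1 0 0 0 = o
    rw [pt_a one_ne_zero]
    simp [lo_zero, U'_zero, V'_zero]
  have e1 : ((1 : Matrix.symplecticGroup (Fin 2) F) : Matrix (Fin 2 ⊕ Fin 2) (Fin 2 ⊕ Fin 2) F) *ᵥ vec 1 0 0 0 =
      vec 1 0 0 0 := Matrix.one_mulVec _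
  rw [e1, e] at h
  exact h

theorem kern_eq_bot (hgen : ∀ Q : Subgroup G, (∀ A, π₁ A ∈ Q) → (∀ A, π₂ A ∈ Q) → Q = ⊤)
    (hcore : (MulAction.stabilizer G o).normalCore = ⊥) : kern π₁ π₂ o = ⊥ := by
  have := kern_normal D H hgen
  rw [eq_bot_iff, ← hcore]
  exact Subgroup.normal_le_normalCore.2 (kern_le D H)

theorem rep_unique (hgen : ∀ Q : Subgroup G, (∀ A, π₁ A ∈ Q) → (∀ A, π₂ A ∈ Q) → Q = ⊤)
    (hcore : (MulAction.stabilizer G o).normalCore = ⊥) {A : Matrix.symplecticGroup (Fin 2) F} {g h : G}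
    (hg : Rep π₁ π₂ o A g) (hh : Rep π₁ π₂ o A h) : g = h := by
  have h1 := hg.mul hh.inv
  rw [mul_inv_cancel] at h1
  have h2 : g * h⁻¹ ∈ kern π₁ π₂ o := h1
  rw [kern_eq_bot D H hgen hcore, Subgroup.mem_bot, mul_inv_eq_one] at h2
  exact h2

/-- **Recognition of quotients of `Sp₄(F)`.** -/
theorem exists_hom (hgen : ∀ Q : Subgroup G, (∀ A, π₁ A ∈ Q) → (∀ A, π₂ A ∈ Q) → Q = ⊤)
    (hcore : (MulAction.stabilizer G o).normalCore = ⊥) :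
    ∃ f : Matrix.symplecticGroup (Fin 2) F →* G, Function.Surjective f ∧
      (∀ t, f (uS F (rt 5 (by norm_num)) t) = π₁ (up t)) ∧ (∀ t, f (uS F (rt 2 (by norm_num)) t) = π₁ (lo t)) ∧
      (∀ t, f (uS F (rt 4 (by norm_num)) t) = π₂ (up t)) ∧ (∀ t, f (uS F (rt 3 (by norm_num)) t) = π₂ (lo t)) := by
  choose f hf using exists_rep D H
  let φ : Matrix.symplecticGroup (Fin 2) F →* G := MonoidHom.mk' f fun A B =>
    rep_unique D H hgen hcore (hf (A * B)) ((hf A).mul (hf B))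
  have hφ : ∀ A, Rep π₁ π₂ o A (φ A) := hf
  have hu : ∀ {A g}, Rep π₁ π₂ o A g → φ A = g := fun h => rep_unique D H hgen hcore (hφ _) h
  refine ⟨φ, ?_, ?_, ?_, ?_, ?_⟩
  · intro g
    obtain ⟨A, hA⟩ := exists_rep' D H hgen g
    exact ⟨A, hu hA⟩
  · exact fun t => hu (rep5 D H t)
  · exact fun t => hu (rep2 D H t)
  · exact fun t => hu (rep4 D H t)
  · exact fun t => hu (rep3 D H t)

/-- **Recognition of `PSp₄(F)`, characteristic two.** -/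
theorem nonempty_psp [Fintype F] (hF : 3 ≤ Fintype.card F) [IsSimpleGroup G] (hna : ∃ a b : G, a * b ≠ b * a)
    (hgen : ∀ Q : Subgroup G, (∀ A, π₁ A ∈ Q) → (∀ A, π₂ A ∈ Q) → Q = ⊤)
    (hst : MulAction.stabilizer G o ≠ ⊤) :
    Nonempty (G ≃* Cfsg.PSp 2 F) := by
  have hcore : (MulAction.stabilizer G o).normalCore = ⊥ := by
    rcases (inferInstance : (MulAction.stabilizer G o).normalCore.Normal).eq_bot_or_eq_top with h | h
    · exact h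
    · exact absurd (top_le_iff.1 (h ▸ Subgroup.normalCore_le _)) hst
  obtain ⟨f, hf, -⟩ := exists_hom D H hgen hcore
  have hZ : Subgroup.center G = ⊥ := by
    rcases (inferInstance : (Subgroup.center G).Normal).eq_bot_or_eq_top with h | h
    · exact h
    · exfalso
      obtain ⟨a, b, hab⟩ := hna
      apply hab
      have : a ∈ Subgroup.center G := by rw [h]; trivial
      exact (Subgroup.mem_center_iff.1 this b).symm
  have h1 : Subgroup.center (Matrix.symplecticGroup (Fin 2) F) ≤ f.ker := by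
    intro z hz
    rw [MonoidHom.mem_ker]
    have : f z ∈ Subgroup.center G := by
      rw [Subgroup.mem_center_iff]
      intro g
      obtain ⟨A, rfl⟩ := hf g
      rw [← map_mul, ← map_mul, Subgroup.mem_center_iff.1 hz A]
    rwa [hZ, Subgroup.mem_bot] at this
  have hsimple : IsSimpleGroup (Cfsg.PSp 2 F) := Cfsg.Agent.S0270.result 2 le_rfl (fun _ => hF)
  let g : Cfsg.PSp 2 F →* G :=
    QuotientGroup.lift (Subgroup.center (Matrix.symplecticGroup (Fin 2) F)) f (fun x hx => h1 hx)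
  have hg : Function.Surjective g := by
    intro x
    obtain ⟨A, rfl⟩ := hf x
    exact ⟨QuotientGroup.mk A, rfl⟩
  have hker : g.ker = ⊥ := by
    rcases (inferInstance : g.ker.Normal).eq_bot_or_eq_top with h | h
    · exact h
    · exfalso
      obtain ⟨a, b, hab⟩ := hna
      obtain ⟨a', rfl⟩ := hg a
      obtain ⟨b', rfl⟩ := hg b
      have ha : a' ∈ g.ker := by rw [h]; trivial
      rw [MonoidHom.mem_ker] at ha
      rw [ha, one_mul, mul_one] at hab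
      exact hab rfl
  exact ⟨(MulEquiv.ofBijective g ⟨(MonoidHom.ker_eq_bot_iff g).1 hker, hg⟩).symm⟩

end extension

end Cfsg.Agent.Classification.SpFourRec
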