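import Mathlib
import Cfsg.Agent.Classification.SpFourRec

/-!
# Recognition of `PSp₄(F)`, characteristic two: version with containments only

`Local π₁ π₂`: the commutator of `x_a(s)` and `x_b(t)` is only required to lie in `X_{a+b} X_{2a+b}`, and the tori are
only required to act on the root subgroups by scalars.  After twisting `π₂` by a field automorphism one gets
`SpFourRec.Data`.
-/

set_option autoImplicit false
set_option linter.all false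

namespace Cfsg.Agent.Classification.SpFourLocal

open Matrix Cfsg.Agent.Lib.SL2Hom Cfsg.Agent.Classification.SLThreeRec Cfsg.Agent.Classification.SpFourRec
  Cfsg.Agent.Classification.SpFourRec.Data

variable {F G : Type*} [Field F] [Group G]

/-- Containment version of the root data of type `C₂` in characteristic two. -/
structure Local (π₁ π₂ : SpecialLinearGroup (Fin 2) F →* G) : Prop where
  c1 : ∀ A B, Commute (π₁ A) (π₂ (wi F) * π₁ B * π₂ (wi F))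
  c2 : ∀ A B, Commute (π₂ A) (π₁ (wi F) * π₂ B * π₁ (wi F))
  c3 : ∀ s t, Commute (π₁ (up s)) (π₁ (wi F) * π₂ (up t) * π₁ (wi F))
  c4 : ∀ s t, Commute (π₂ (up s)) (π₂ (wi F) * π₁ (up t) * π₂ (wi F))
  com : ∀ s t, ∃ u v, π₁ (up s) * π₂ (up t) = U π₁ π₂ u * V π₁ π₂ v * (π₂ (up t) * π₁ (up s))
  i1 : ∀ t u v, π₂ (up t) = U π₁ π₂ u * V π₁ π₂ v → t = 0
  i2 : ∀ t u v, π₁ (up t) = U π₁ π₂ u * V π₁ π₂ v → t = 0
  i3 : ∀ u v, U π₁ π₂ u = V π₁ π₂ v → u = 0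
  t1 : ∀ (s : F) (hs : s ≠ 0), ∃ l ≠ 0, ∀ t, π₁ (dg s hs) * π₂ (up t) = π₂ (up (l * t)) * π₁ (dg s hs) ∧
    π₁ (dg s hs) * π₂ (lo t) = π₂ (lo (l⁻¹ * t)) * π₁ (dg s hs)
  t2 : ∀ (s : F) (hs : s ≠ 0), ∃ l ≠ 0, ∀ t, π₂ (dg s hs) * π₁ (up t) = π₁ (up (l * t)) * π₂ (dg s hs) ∧
    π₂ (dg s hs) * π₁ (lo t) = π₁ (lo (l⁻¹ * t)) * π₂ (dg s hs)

namespace Local

section basic

variable {π₁ π₂ : SpecialLinearGroup (Fin 2) F →* G} [CharP F 2]

theorem U_zero : U π₁ π₂ (0 : F) = 1 := by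
  rw [U, up_zero, map_one, mul_one, w1w1]

theorem V_zero : V π₁ π₂ (0 : F) = 1 := by
  rw [V, up_zero, map_one, mul_one, w1w1]

theorem U_sq (t : F) : U π₁ π₂ t * U π₁ π₂ t = 1 := by
  rw [← U_add, CharTwo.add_self_eq_zero, U_zero]

theorem V_sq (t : F) : V π₁ π₂ t * V π₁ π₂ t = 1 := by
  rw [← V_add, CharTwo.add_self_eq_zero, V_zero]

variable (D : Local π₁ π₂)

include D

theorem w1_U (t : F) : π₁ (wi F) * U π₁ π₂ t = U π₁ π₂ t * π₁ (wi F) := (D.c1 (wi F) (up t)).eq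
theorem w2_V (t : F) : π₂ (wi F) * V π₁ π₂ t = V π₁ π₂ t * π₂ (wi F) := (D.c2 (wi F) (up t)).eq
theorem a_U (s t : F) : π₁ (up s) * U π₁ π₂ t = U π₁ π₂ t * π₁ (up s) := (D.c1 _ _).eq
theorem ma_U (s t : F) : π₁ (lo s) * U π₁ π₂ t = U π₁ π₂ t * π₁ (lo s) := (D.c1 _ _).eq
theorem h1_U (s : F) (hs : s ≠ 0) (t : F) : π₁ (dg s hs) * U π₁ π₂ t = U π₁ π₂ t * π₁ (dg s hs) := (D.c1 _ _).eq
theorem h2_V (s : F) (hs : s ≠ 0) (t : F) : π₂ (dg s hs) * V π₁ π₂ t = V π₁ π₂ t * π₂ (dg s hs) := (D.c2 _ _).eq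
theorem b_V (s t : F) : π₂ (up s) * V π₁ π₂ t = V π₁ π₂ t * π₂ (up s) := (D.c2 _ _).eq
theorem mb_V (s t : F) : π₂ (lo s) * V π₁ π₂ t = V π₁ π₂ t * π₂ (lo s) := (D.c2 _ _).eq
theorem a_V (s t : F) : π₁ (up s) * V π₁ π₂ t = V π₁ π₂ t * π₁ (up s) := (D.c3 _ _).eq
theorem b_U (s t : F) : π₂ (up s) * U π₁ π₂ t = U π₁ π₂ t * π₂ (up s) := (D.c4 _ _).eq

theorem U_V (s t : F) : U π₁ π₂ s * V π₁ π₂ t = V π₁ π₂ t * U π₁ π₂ s := by
  have h := D.a_V s t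
  have h1 : π₂ (wi F) * (π₁ (up s) * V π₁ π₂ t) = π₂ (wi F) * (V π₁ π₂ t * π₁ (up s)) := by rw [h]
  rw [← mul_assoc, ← mul_assoc, w2_xa, D.w2_V, mul_assoc, mul_assoc, D.w2_V, w2_xa, ← mul_assoc, ← mul_assoc] at h1
  exact mul_right_cancel h1

/-- `[x_{-a}, x_b] = 1` -/
theorem ma_b (s t : F) : π₁ (lo s) * π₂ (up t) = π₂ (up t) * π₁ (lo s) := by
  have h := D.a_V s t
  have h1 : π₁ (wi F) * (π₁ (up s) * V π₁ π₂ t) = π₁ (wi F) * (V π₁ π₂ t * π₁ (up s)) := by rw [h]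
  rw [← mul_assoc, ← mul_assoc, w1_xa, w1_V, mul_assoc, mul_assoc, w1_V, w1_xa, ← mul_assoc, ← mul_assoc] at h1
  exact mul_right_cancel h1

/-- `[x_a, x_{-b}] = 1` -/
theorem a_mb (s t : F) : π₁ (up s) * π₂ (lo t) = π₂ (lo t) * π₁ (up s) := by
  have h := D.b_U t s
  have h1 : π₂ (wi F) * (π₂ (up t) * U π₁ π₂ s) = π₂ (wi F) * (U π₁ π₂ s * π₂ (up t)) := by rw [h]
  rw [← mul_assoc, ← mul_assoc, w1_xa, w2_U, mul_assoc, mul_assoc, w2_U, w1_xa, ← mul_assoc, ← mul_assoc] at h1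
  exact (mul_right_cancel h1).symm

theorem uniq {u v u' v' : F} (h : U π₁ π₂ u * V π₁ π₂ v = U π₁ π₂ u' * V π₁ π₂ v') : u = u' ∧ v = v' := by
  have h1 : U π₁ π₂ (u' + u) = V π₁ π₂ (v' + v) := by
    rw [U_add, V_add]
    calc U π₁ π₂ u' * U π₁ π₂ u = U π₁ π₂ u' * (U π₁ π₂ u * V π₁ π₂ v) * V π₁ π₂ v := by
          simp only [mul_assoc]
          rw [V_sq, mul_one]
      _ = U π₁ π₂ u' * (U π₁ π₂ u' * V π₁ π₂ v') * V π₁ π₂ v := by rw [h]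
      _ = _ := by
          simp only [← mul_assoc]
          rw [U_sq, one_mul]
  have h2 := D.i3 _ _ h1
  have h3 : u = u' := by
    have := CharTwo.add_eq_zero.1 h2
    exact this.symm
  refine ⟨h3, ?_⟩
  rw [h2, U_zero] at h1
  have h4 : π₂ (up (v' + v)) = U π₁ π₂ 0 * V π₁ π₂ 0 := by
    rw [U_zero, V_zero, one_mul]
    have : π₁ (wi F) * V π₁ π₂ (v' + v) = π₁ (wi F) := by rw [← h1, mul_one]
    rw [w1_V] at this
    exact mul_eq_right.1 this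
  have h5 := D.i1 _ _ _ h4
  exact (CharTwo.add_eq_zero.1 h5).symm

end basic

section struc

variable {π₁ π₂ : SpecialLinearGroup (Fin 2) F →* G} [CharP F 2] (D : Local π₁ π₂) {f g : F → F → F}
  (h : ∀ s t, π₁ (up s) * π₂ (up t) = U π₁ π₂ (f s t) * V π₁ π₂ (g s t) * (π₂ (up t) * π₁ (up s)))

include D h

theorem add_left (s s' t : F) : f (s + s') t = f s t + f s' t ∧ g (s + s') t = g s t + g s' t := by
  apply D.uniq
  have e : U π₁ π₂ (f (s + s') t) * V π₁ π₂ (g (s + s') t) * (π₂ (up t) * π₁ (up (s + s'))) =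
      U π₁ π₂ (f s t + f s' t) * V π₁ π₂ (g s t + g s' t) * (π₂ (up t) * π₁ (up (s + s'))) := by
    rw [← h, up_add, map_mul, U_add, V_add]
    calc π₁ (up s) * π₁ (up s') * π₂ (up t) = π₁ (up s) * (π₁ (up s') * π₂ (up t)) := mul_assoc _ _ _
      _ = (π₁ (up s) * U π₁ π₂ (f s' t)) * V π₁ π₂ (g s' t) * (π₂ (up t) * π₁ (up s')) := by
          rw [h]; simp only [mul_assoc]
      _ = U π₁ π₂ (f s' t) * (π₁ (up s) * V π₁ π₂ (g s' t)) * (π₂ (up t) * π₁ (up s')) := by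
          rw [D.a_U]; simp only [mul_assoc]
      _ = U π₁ π₂ (f s' t) * V π₁ π₂ (g s' t) * (π₁ (up s) * π₂ (up t)) * π₁ (up s') := by
          rw [D.a_V]; simp only [mul_assoc]
      _ = U π₁ π₂ (f s' t) * (V π₁ π₂ (g s' t) * U π₁ π₂ (f s t)) * V π₁ π₂ (g s t) *
          (π₂ (up t) * (π₁ (up s) * π₁ (up s'))) := by rw [h]; simp only [mul_assoc]
      _ = (U π₁ π₂ (f s' t) * U π₁ π₂ (f s t)) * (V π₁ π₂ (g s' t) * V π₁ π₂ (g s t)) *
          (π₂ (up t) * (π₁ (up s) * π₁ (up s'))) := by rw [← D.U_V]; simp only [mul_assoc]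
      _ = _ := by
          rw [← U_add, ← V_add, add_comm (f s' t), add_comm (g s' t), U_add, V_add]
  exact mul_right_cancel e

theorem add_right (s t t' : F) : f s (t + t') = f s t + f s t' ∧ g s (t + t') = g s t + g s t' := by
  apply D.uniq
  have e : U π₁ π₂ (f s (t + t')) * V π₁ π₂ (g s (t + t')) * (π₂ (up (t + t')) * π₁ (up s)) =
      U π₁ π₂ (f s t + f s t') * V π₁ π₂ (g s t + g s t') * (π₂ (up (t + t')) * π₁ (up s)) := by
    rw [← h, up_add, map_mul, U_add, V_add]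
    calc π₁ (up s) * (π₂ (up t) * π₂ (up t')) = (π₁ (up s) * π₂ (up t)) * π₂ (up t') := (mul_assoc _ _ _).symm
      _ = U π₁ π₂ (f s t) * V π₁ π₂ (g s t) * π₂ (up t) * (π₁ (up s) * π₂ (up t')) := by
          rw [h]; simp only [mul_assoc]
      _ = U π₁ π₂ (f s t) * V π₁ π₂ (g s t) * (π₂ (up t) * U π₁ π₂ (f s t')) * V π₁ π₂ (g s t') *
          (π₂ (up t') * π₁ (up s)) := by rw [h]; simp only [mul_assoc]
      _ = U π₁ π₂ (f s t) * (V π₁ π₂ (g s t) * U π₁ π₂ (f s t')) * (π₂ (up t) * V π₁ π₂ (g s t')) *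
          (π₂ (up t') * π₁ (up s)) := by rw [D.b_U]; simp only [mul_assoc]
      _ = _ := by rw [← D.U_V, D.b_V]; simp only [mul_assoc]
  exact mul_right_cancel e

theorem zero_right (s : F) : f s 0 = 0 ∧ g s 0 = 0 := by
  obtain ⟨h1, h2⟩ := add_right D h s 0 0
  rw [add_zero] at h1 h2
  exact ⟨left_eq_add.1 h1, left_eq_add.1 h2⟩

theorem zero_left (t : F) : f 0 t = 0 ∧ g 0 t = 0 := by
  obtain ⟨h1, h2⟩ := add_left D h 0 0 t
  rw [add_zero] at h1 h2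
  exact ⟨left_eq_add.1 h1, left_eq_add.1 h2⟩

/-- conjugate by `w1` -/
theorem r1 (s t : F) : π₁ (lo s) * V π₁ π₂ t =
    U π₁ π₂ (f s t) * π₂ (up (g s t)) * (V π₁ π₂ t * π₁ (lo s)) := by
  have h := congrArg (fun g => π₁ (wi F) * g) (h s t)
  rw [← mul_right_cancel_iff (a := π₁ (wi F))]
  calc π₁ (lo s) * V π₁ π₂ t * π₁ (wi F) = π₁ (lo s) * (V π₁ π₂ t * π₁ (wi F)) := mul_assoc _ _ _
    _ = (π₁ (lo s) * π₁ (wi F)) * π₂ (up t) := by rw [← w1_xb, mul_assoc]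
    _ = π₁ (wi F) * (π₁ (up s) * π₂ (up t)) := by rw [← w1_xa, mul_assoc]
    _ = π₁ (wi F) * (U π₁ π₂ (f s t) * V π₁ π₂ (g s t) * (π₂ (up t) * π₁ (up s))) := h
    _ = (π₁ (wi F) * U π₁ π₂ (f s t)) * V π₁ π₂ (g s t) * (π₂ (up t) * π₁ (up s)) := by simp only [mul_assoc]
    _ = U π₁ π₂ (f s t) * (π₁ (wi F) * V π₁ π₂ (g s t)) * (π₂ (up t) * π₁ (up s)) := by
        rw [D.w1_U]; simp only [mul_assoc]
    _ = U π₁ π₂ (f s t) * π₂ (up (g s t)) * (π₁ (wi F) * π₂ (up t)) * π₁ (up s) := by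
        rw [w1_V]; simp only [mul_assoc]
    _ = U π₁ π₂ (f s t) * π₂ (up (g s t)) * V π₁ π₂ t * (π₁ (wi F) * π₁ (up s)) := by
        rw [w1_xb]; simp only [mul_assoc]
    _ = _ := by rw [w1_xa]; simp only [mul_assoc]

/-- `r` read in the other direction -/
theorem r' (s t : F) : π₂ (up t) * π₁ (up s) =
    U π₁ π₂ (f s t) * V π₁ π₂ (g s t) * (π₁ (up s) * π₂ (up t)) := by
  rw [h]
  have : U π₁ π₂ (f s t) * V π₁ π₂ (g s t) * (U π₁ π₂ (f s t) * V π₁ π₂ (g s t) * (π₂ (up t) * π₁ (up s))) =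
      U π₁ π₂ (f s t) * (V π₁ π₂ (g s t) * U π₁ π₂ (f s t)) * V π₁ π₂ (g s t) * (π₂ (up t) * π₁ (up s)) := by
    simp only [mul_assoc]
  rw [this, ← D.U_V]
  have : U π₁ π₂ (f s t) * (U π₁ π₂ (f s t) * V π₁ π₂ (g s t)) * V π₁ π₂ (g s t) * (π₂ (up t) * π₁ (up s)) =
      (U π₁ π₂ (f s t) * U π₁ π₂ (f s t)) * (V π₁ π₂ (g s t) * V π₁ π₂ (g s t)) * (π₂ (up t) * π₁ (up s)) := by
    simp only [mul_assoc]
  rw [this, U_sq, V_sq, one_mul, one_mul]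

/-- conjugate `r'` by `w2` -/
theorem r2 (s t : F) : π₂ (lo t) * U π₁ π₂ s =
    π₁ (up (f s t)) * V π₁ π₂ (g s t) * (U π₁ π₂ s * π₂ (lo t)) := by
  have h := congrArg (fun g => π₂ (wi F) * g) (r' D h s t)
  rw [← mul_right_cancel_iff (a := π₂ (wi F))]
  calc π₂ (lo t) * U π₁ π₂ s * π₂ (wi F) = π₂ (lo t) * (U π₁ π₂ s * π₂ (wi F)) := mul_assoc _ _ _
    _ = (π₂ (lo t) * π₂ (wi F)) * π₁ (up s) := by rw [← w2_xa, mul_assoc]
    _ = π₂ (wi F) * (π₂ (up t) * π₁ (up s)) := by rw [← w1_xa, mul_assoc]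
    _ = π₂ (wi F) * (U π₁ π₂ (f s t) * V π₁ π₂ (g s t) * (π₁ (up s) * π₂ (up t))) := h
    _ = (π₂ (wi F) * U π₁ π₂ (f s t)) * V π₁ π₂ (g s t) * (π₁ (up s) * π₂ (up t)) := by simp only [mul_assoc]
    _ = π₁ (up (f s t)) * (π₂ (wi F) * V π₁ π₂ (g s t)) * (π₁ (up s) * π₂ (up t)) := by
        rw [w2_U]; simp only [mul_assoc]
    _ = π₁ (up (f s t)) * V π₁ π₂ (g s t) * (π₂ (wi F) * π₁ (up s)) * π₂ (up t) := by
        rw [D.w2_V]; simp only [mul_assoc]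
    _ = π₁ (up (f s t)) * V π₁ π₂ (g s t) * U π₁ π₂ s * (π₂ (wi F) * π₂ (up t)) := by
        rw [w2_xa]; simp only [mul_assoc]
    _ = _ := by rw [w1_xa]; simp only [mul_assoc]

theorem wi_eq' : (wi F : SpecialLinearGroup (Fin 2) F) = up 1 * lo 1 * up 1 := by
  have := wi_eq (F := F)
  rwa [CharTwo.neg_eq] at this

theorem g_one (t : F) : g 1 t = t := by
  have hw : π₁ (wi F) = π₁ (up 1) * π₁ (lo 1) * π₁ (up 1) := by rw [wi_eq' D h, map_mul, map_mul]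
  set u := f 1 t
  set v := g 1 t
  set t' := g 1 v + t with ht'
  have e : V π₁ π₂ t * π₁ (wi F) =
      U π₁ π₂ u * U π₁ π₂ (f 1 v) * U π₁ π₂ (f 1 t') * V π₁ π₂ (g 1 t') * π₂ (up t') * V π₁ π₂ v * π₁ (wi F) := by
    rw [← w1_xb, hw]
    calc π₁ (up 1) * π₁ (lo 1) * π₁ (up 1) * π₂ (up t)
        = π₁ (up 1) * π₁ (lo 1) * (π₁ (up 1) * π₂ (up t)) := by simp only [mul_assoc]
      _ = π₁ (up 1) * (π₁ (lo 1) * U π₁ π₂ u) * V π₁ π₂ v * π₂ (up t) * π₁ (up 1) := by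
          rw [h]; simp only [mul_assoc]; rfl
      _ = (π₁ (up 1) * U π₁ π₂ u) * (π₁ (lo 1) * V π₁ π₂ v) * π₂ (up t) * π₁ (up 1) := by
          rw [D.ma_U]; simp only [mul_assoc]
      _ = U π₁ π₂ u * (π₁ (up 1) * U π₁ π₂ (f 1 v)) * π₂ (up (g 1 v)) * V π₁ π₂ v * (π₁ (lo 1) * π₂ (up t)) *
          π₁ (up 1) := by
          rw [D.a_U, r1 D h]; simp only [mul_assoc]
      _ = U π₁ π₂ u * U π₁ π₂ (f 1 v) * π₁ (up 1) * π₂ (up (g 1 v)) * (V π₁ π₂ v * π₂ (up t)) * π₁ (lo 1) *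
          π₁ (up 1) := by
          rw [D.a_U, D.ma_b]; simp only [mul_assoc]
      _ = U π₁ π₂ u * U π₁ π₂ (f 1 v) * π₁ (up 1) * (π₂ (up (g 1 v)) * π₂ (up t)) * V π₁ π₂ v * π₁ (lo 1) *
          π₁ (up 1) := by
          rw [← D.b_V]; simp only [mul_assoc]
      _ = U π₁ π₂ u * U π₁ π₂ (f 1 v) * (π₁ (up 1) * π₂ (up t')) * V π₁ π₂ v * π₁ (lo 1) * π₁ (up 1) := by
          rw [← map_mul, ← up_add]; simp only [mul_assoc]; rfl
      _ = U π₁ π₂ u * U π₁ π₂ (f 1 v) * U π₁ π₂ (f 1 t') * V π₁ π₂ (g 1 t') * π₂ (up t') *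
          (π₁ (up 1) * V π₁ π₂ v) * π₁ (lo 1) * π₁ (up 1) := by
          rw [h]; simp only [mul_assoc]
      _ = _ := by rw [D.a_V]; simp only [mul_assoc]
  have e1 := mul_right_cancel e
  have e2 : π₂ (up t') = U π₁ π₂ (f 1 t' + (f 1 v + u)) * V π₁ π₂ (g 1 t' + (t + v)) := by
    have e3 : V π₁ π₂ t * V π₁ π₂ v =
        U π₁ π₂ u * U π₁ π₂ (f 1 v) * U π₁ π₂ (f 1 t') * V π₁ π₂ (g 1 t') * π₂ (up t') := by
      rw [e1]
      simp only [mul_assoc]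
      rw [V_sq, mul_one]
    have e4 : U π₁ π₂ (f 1 t' + (f 1 v + u)) * (U π₁ π₂ u * U π₁ π₂ (f 1 v) * U π₁ π₂ (f 1 t')) = 1 := by
      rw [← U_add, ← U_add, ← U_add]
      have : f 1 t' + (f 1 v + u) + (u + f 1 v + f 1 t') = 0 := by
        have h2 : (2 : F) = 0 := CharTwo.two_eq_zero
        linear_combination (f 1 t' + f 1 v + u) * h2
      rw [this, U_zero]
    calc π₂ (up t') = (V π₁ π₂ (g 1 t') * V π₁ π₂ (g 1 t')) * π₂ (up t') := by rw [V_sq, one_mul]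
      _ = V π₁ π₂ (g 1 t') * (U π₁ π₂ (f 1 t' + (f 1 v + u)) * (U π₁ π₂ u * U π₁ π₂ (f 1 v) *
          U π₁ π₂ (f 1 t'))) * V π₁ π₂ (g 1 t') * π₂ (up t') := by rw [e4]; simp only [mul_assoc, mul_one, one_mul]
      _ = V π₁ π₂ (g 1 t') * U π₁ π₂ (f 1 t' + (f 1 v + u)) * (U π₁ π₂ u * U π₁ π₂ (f 1 v) *
          U π₁ π₂ (f 1 t') * V π₁ π₂ (g 1 t') * π₂ (up t')) := by simp only [mul_assoc]
      _ = V π₁ π₂ (g 1 t') * U π₁ π₂ (f 1 t' + (f 1 v + u)) * (V π₁ π₂ t * V π₁ π₂ v) := by rw [← e3]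
      _ = _ := by rw [← D.U_V, ← V_add, mul_assoc, ← V_add]
  have e5 : t' = 0 := D.i1 _ _ _ e2
  rw [e5, (zero_right D h 1).1, (zero_right D h 1).2, U_zero, V_zero, up_zero, map_one, mul_one, mul_one, mul_one,
    ← U_add] at e1
  have e6 : U π₁ π₂ 0 * V π₁ π₂ t = U π₁ π₂ (u + f 1 v) * V π₁ π₂ v := by
    rw [U_zero, one_mul, ← e1]
  exact (D.uniq e6).2.symm

theorem f_one (s : F) : f s 1 = s := by
  have hw : π₂ (wi F) = π₂ (up 1) * π₂ (lo 1) * π₂ (up 1) := by rw [wi_eq' D h, map_mul, map_mul]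
  have hmb : ∀ x y, π₂ (lo x) * π₁ (up y) = π₁ (up y) * π₂ (lo x) := fun x y => (D.a_mb y x).symm
  set u := f s 1
  set v := g s 1
  set s' := f u 1 + s with hs'
  have e : U π₁ π₂ s * π₂ (wi F) =
      V π₁ π₂ v * V π₁ π₂ (g u 1) * V π₁ π₂ (g s' 1) * U π₁ π₂ (f s' 1) * π₁ (up s') * U π₁ π₂ u * π₂ (wi F) := by
    rw [← w2_xa, hw]
    calc π₂ (up 1) * π₂ (lo 1) * π₂ (up 1) * π₁ (up s)
        = π₂ (up 1) * π₂ (lo 1) * (π₂ (up 1) * π₁ (up s)) := by simp only [mul_assoc]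
      _ = π₂ (up 1) * π₂ (lo 1) * ((U π₁ π₂ u * V π₁ π₂ v) * π₁ (up s) * π₂ (up 1)) := by
          rw [r' D h]; simp only [mul_assoc]; rfl
      _ = π₂ (up 1) * (π₂ (lo 1) * V π₁ π₂ v) * U π₁ π₂ u * π₁ (up s) * π₂ (up 1) := by
          rw [D.U_V]; simp only [mul_assoc]
      _ = (π₂ (up 1) * V π₁ π₂ v) * (π₂ (lo 1) * U π₁ π₂ u) * π₁ (up s) * π₂ (up 1) := by
          rw [D.mb_V]; simp only [mul_assoc]
      _ = V π₁ π₂ v * (π₂ (up 1) * (π₁ (up (f u 1)) * V π₁ π₂ (g u 1))) * U π₁ π₂ u * (π₂ (lo 1) * π₁ (up s)) *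
          π₂ (up 1) := by
          rw [D.b_V, r2 D h]; simp only [mul_assoc]
      _ = V π₁ π₂ v * (π₂ (up 1) * V π₁ π₂ (g u 1)) * π₁ (up (f u 1)) * (U π₁ π₂ u * π₁ (up s)) * π₂ (lo 1) *
          π₂ (up 1) := by
          rw [D.a_V, hmb]; simp only [mul_assoc]
      _ = V π₁ π₂ v * V π₁ π₂ (g u 1) * π₂ (up 1) * (π₁ (up (f u 1)) * π₁ (up s)) * U π₁ π₂ u * π₂ (lo 1) *
          π₂ (up 1) := by
          rw [← D.a_U, D.b_V]; simp only [mul_assoc]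
      _ = V π₁ π₂ v * V π₁ π₂ (g u 1) * (π₂ (up 1) * π₁ (up s')) * U π₁ π₂ u * π₂ (lo 1) * π₂ (up 1) := by
          rw [← map_mul, ← up_add]; simp only [mul_assoc]; rfl
      _ = V π₁ π₂ v * V π₁ π₂ (g u 1) * (U π₁ π₂ (f s' 1) * V π₁ π₂ (g s' 1)) * π₁ (up s') *
          (π₂ (up 1) * U π₁ π₂ u) * π₂ (lo 1) * π₂ (up 1) := by
          rw [r' D h]; simp only [mul_assoc]
      _ = _ := by rw [D.b_U, D.U_V]; simp only [mul_assoc]
  have e1 := mul_right_cancel e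
  have e2 : π₁ (up s') = U π₁ π₂ (f s' 1 + (s + u)) * V π₁ π₂ (g s' 1 + (g u 1 + v)) := by
    have e3 : U π₁ π₂ s * U π₁ π₂ u =
        V π₁ π₂ v * V π₁ π₂ (g u 1) * V π₁ π₂ (g s' 1) * U π₁ π₂ (f s' 1) * π₁ (up s') := by
      rw [e1]
      simp only [mul_assoc]
      rw [U_sq, mul_one]
    have e4 : V π₁ π₂ (g s' 1 + (g u 1 + v)) * (V π₁ π₂ v * V π₁ π₂ (g u 1) * V π₁ π₂ (g s' 1)) = 1 := by
      rw [← V_add, ← V_add, ← V_add]
      have : g s' 1 + (g u 1 + v) + (v + g u 1 + g s' 1) = 0 := by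
        have h2 : (2 : F) = 0 := CharTwo.two_eq_zero
        linear_combination (g s' 1 + g u 1 + v) * h2
      rw [this, V_zero]
    calc π₁ (up s') = (U π₁ π₂ (f s' 1) * U π₁ π₂ (f s' 1)) * π₁ (up s') := by rw [U_sq, one_mul]
      _ = U π₁ π₂ (f s' 1) * (V π₁ π₂ (g s' 1 + (g u 1 + v)) * (V π₁ π₂ v * V π₁ π₂ (g u 1) *
          V π₁ π₂ (g s' 1))) * U π₁ π₂ (f s' 1) * π₁ (up s') := by rw [e4]; simp only [mul_assoc, mul_one, one_mul]
      _ = U π₁ π₂ (f s' 1) * V π₁ π₂ (g s' 1 + (g u 1 + v)) * (V π₁ π₂ v * V π₁ π₂ (g u 1) *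
          V π₁ π₂ (g s' 1) * U π₁ π₂ (f s' 1) * π₁ (up s')) := by simp only [mul_assoc]
      _ = U π₁ π₂ (f s' 1) * V π₁ π₂ (g s' 1 + (g u 1 + v)) * (U π₁ π₂ s * U π₁ π₂ u) := by rw [← e3]
      _ = U π₁ π₂ (f s' 1) * (V π₁ π₂ (g s' 1 + (g u 1 + v)) * U π₁ π₂ (s + u)) := by
          rw [← U_add]; simp only [mul_assoc]
      _ = _ := by rw [← D.U_V, ← mul_assoc, ← U_add]
  have e5 : s' = 0 := D.i2 _ _ _ e2
  rw [e5, (zero_left D h 1).1, (zero_left D h 1).2, U_zero, V_zero, up_zero, map_one, mul_one, mul_one, mul_one,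
    ← V_add] at e1
  have e6 : U π₁ π₂ s * V π₁ π₂ 0 = U π₁ π₂ u * V π₁ π₂ (v + g u 1) := by
    rw [V_zero, mul_one, e1, D.U_V]
  exact (D.uniq e6).1.symm

theorem h1_inv {r l : F} (hr : r ≠ 0) (hl0 : l ≠ 0)
    (hl : ∀ t, π₁ (dg r hr) * π₂ (up t) = π₂ (up (l * t)) * π₁ (dg r hr)) (t : F) :
    π₁ (dg r⁻¹ (inv_ne_zero hr)) * π₂ (up t) = π₂ (up (l⁻¹ * t)) * π₁ (dg r⁻¹ (inv_ne_zero hr)) := by
  have e : π₁ (dg r hr) * π₁ (dg r⁻¹ (inv_ne_zero hr)) = 1 := by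
    rw [← map_mul, ← map_one π₁]
    congr 1
    ext i j
    change ((dg r hr).1 * (dg r⁻¹ (inv_ne_zero hr)).1) i j = (1 : Matrix (Fin 2) (Fin 2) F) i j
    fin_cases i <;> fin_cases j <;> simp [dg, Matrix.mul_apply, Fin.sum_univ_two, hr]
  have e' : π₁ (dg r⁻¹ (inv_ne_zero hr)) * π₁ (dg r hr) = 1 := by
    rw [← map_mul, ← map_one π₁]
    congr 1
    ext i j
    change ((dg r⁻¹ (inv_ne_zero hr)).1 * (dg r hr).1) i j = (1 : Matrix (Fin 2) (Fin 2) F) i j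
    fin_cases i <;> fin_cases j <;> simp [dg, Matrix.mul_apply, Fin.sum_univ_two, hr]
  have h1 := hl (l⁻¹ * t)
  rw [mul_inv_cancel_left₀ hl0] at h1
  calc π₁ (dg r⁻¹ (inv_ne_zero hr)) * π₂ (up t)
      = π₁ (dg r⁻¹ (inv_ne_zero hr)) * (π₂ (up t) * π₁ (dg r hr)) * π₁ (dg r⁻¹ (inv_ne_zero hr)) := by
        simp only [mul_assoc]; rw [e, mul_one]
    _ = (π₁ (dg r⁻¹ (inv_ne_zero hr)) * π₁ (dg r hr)) * π₂ (up (l⁻¹ * t)) * π₁ (dg r⁻¹ (inv_ne_zero hr)) := by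
        rw [← h1]; simp only [mul_assoc]
    _ = _ := by rw [e', one_mul]

theorem h1_V {r l : F} (hr : r ≠ 0) (hl0 : l ≠ 0)
    (hl : ∀ t, π₁ (dg r hr) * π₂ (up t) = π₂ (up (l * t)) * π₁ (dg r hr)) (t : F) :
    π₁ (dg r hr) * V π₁ π₂ t = V π₁ π₂ (l⁻¹ * t) * π₁ (dg r hr) := by
  have e : π₁ (dg r hr) * π₁ (wi F) = π₁ (wi F) * π₁ (dg r⁻¹ (inv_ne_zero hr)) := by
    rw [← map_mul, dg_wi hr, map_mul]
  have e2 : π₁ (dg r⁻¹ (inv_ne_zero hr)) * π₁ (wi F) = π₁ (wi F) * π₁ (dg r hr) := by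
    rw [← map_mul, dg_wi, map_mul]
    congr 3
    simp
  rw [V, V]
  calc π₁ (dg r hr) * (π₁ (wi F) * π₂ (up t) * π₁ (wi F))
      = (π₁ (dg r hr) * π₁ (wi F)) * π₂ (up t) * π₁ (wi F) := by simp only [mul_assoc]
    _ = π₁ (wi F) * (π₁ (dg r⁻¹ (inv_ne_zero hr)) * π₂ (up t)) * π₁ (wi F) := by rw [e]; simp only [mul_assoc]
    _ = π₁ (wi F) * π₂ (up (l⁻¹ * t)) * (π₁ (dg r⁻¹ (inv_ne_zero hr)) * π₁ (wi F)) := by
        rw [h1_inv D h hr hl0 hl]; simp only [mul_assoc]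
    _ = _ := by rw [e2]; simp only [mul_assoc]

theorem h2_inv {r l : F} (hr : r ≠ 0) (hl0 : l ≠ 0)
    (hl : ∀ t, π₂ (dg r hr) * π₁ (up t) = π₁ (up (l * t)) * π₂ (dg r hr)) (t : F) :
    π₂ (dg r⁻¹ (inv_ne_zero hr)) * π₁ (up t) = π₁ (up (l⁻¹ * t)) * π₂ (dg r⁻¹ (inv_ne_zero hr)) := by
  have e : π₂ (dg r hr) * π₂ (dg r⁻¹ (inv_ne_zero hr)) = 1 := by
    rw [← map_mul, ← map_one π₂]
    congr 1
    ext i j
    change ((dg r hr).1 * (dg r⁻¹ (inv_ne_zero hr)).1) i j = (1 : Matrix (Fin 2) (Fin 2) F) i j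
    fin_cases i <;> fin_cases j <;> simp [dg, Matrix.mul_apply, Fin.sum_univ_two, hr]
  have e' : π₂ (dg r⁻¹ (inv_ne_zero hr)) * π₂ (dg r hr) = 1 := by
    rw [← map_mul, ← map_one π₂]
    congr 1
    ext i j
    change ((dg r⁻¹ (inv_ne_zero hr)).1 * (dg r hr).1) i j = (1 : Matrix (Fin 2) (Fin 2) F) i j
    fin_cases i <;> fin_cases j <;> simp [dg, Matrix.mul_apply, Fin.sum_univ_two, hr]
  have h1 := hl (l⁻¹ * t)
  rw [mul_inv_cancel_left₀ hl0] at h1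
  calc π₂ (dg r⁻¹ (inv_ne_zero hr)) * π₁ (up t)
      = π₂ (dg r⁻¹ (inv_ne_zero hr)) * (π₁ (up t) * π₂ (dg r hr)) * π₂ (dg r⁻¹ (inv_ne_zero hr)) := by
        simp only [mul_assoc]; rw [e, mul_one]
    _ = (π₂ (dg r⁻¹ (inv_ne_zero hr)) * π₂ (dg r hr)) * π₁ (up (l⁻¹ * t)) * π₂ (dg r⁻¹ (inv_ne_zero hr)) := by
        rw [← h1]; simp only [mul_assoc]
    _ = _ := by rw [e', one_mul]

theorem h2_U {r l : F} (hr : r ≠ 0) (hl0 : l ≠ 0)
    (hl : ∀ t, π₂ (dg r hr) * π₁ (up t) = π₁ (up (l * t)) * π₂ (dg r hr)) (t : F) :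
    π₂ (dg r hr) * U π₁ π₂ t = U π₁ π₂ (l⁻¹ * t) * π₂ (dg r hr) := by
  have e : π₂ (dg r hr) * π₂ (wi F) = π₂ (wi F) * π₂ (dg r⁻¹ (inv_ne_zero hr)) := by
    rw [← map_mul, dg_wi hr, map_mul]
  have e2 : π₂ (dg r⁻¹ (inv_ne_zero hr)) * π₂ (wi F) = π₂ (wi F) * π₂ (dg r hr) := by
    rw [← map_mul, dg_wi, map_mul]
    congr 3
    simp
  rw [U, U]
  calc π₂ (dg r hr) * (π₂ (wi F) * π₁ (up t) * π₂ (wi F))
      = (π₂ (dg r hr) * π₂ (wi F)) * π₁ (up t) * π₂ (wi F) := by simp only [mul_assoc]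
    _ = π₂ (wi F) * (π₂ (dg r⁻¹ (inv_ne_zero hr)) * π₁ (up t)) * π₂ (wi F) := by rw [e]; simp only [mul_assoc]
    _ = π₂ (wi F) * π₁ (up (l⁻¹ * t)) * (π₂ (dg r⁻¹ (inv_ne_zero hr)) * π₂ (wi F)) := by
        rw [h2_inv D h hr hl0 hl]; simp only [mul_assoc]
    _ = _ := by rw [e2]; simp only [mul_assoc]

omit [CharP F 2] D h in
theorem dg_up {r : F} (hr : r ≠ 0) (t : F) :
    (dg r hr * up t : SpecialLinearGroup (Fin 2) F) = up (r ^ 2 * t) * dg r hr := by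
  ext i j
  change ((dg r hr).1 * (up t).1) i j = ((up (r ^ 2 * t)).1 * (dg r hr).1) i j
  fin_cases i <;> fin_cases j <;> simp [dg, up, Matrix.mul_apply, Fin.sum_univ_two]
  field_simp

theorem tor1 {r l : F} (hr : r ≠ 0) (hl0 : l ≠ 0)
    (hl : ∀ t, π₁ (dg r hr) * π₂ (up t) = π₂ (up (l * t)) * π₁ (dg r hr)) (s t : F) :
    f (r ^ 2 * s) (l * t) = f s t ∧ g (r ^ 2 * s) (l * t) = l⁻¹ * g s t := by
  apply D.uniq
  have ha : ∀ x, π₁ (dg r hr) * π₁ (up x) = π₁ (up (r ^ 2 * x)) * π₁ (dg r hr) := fun x => by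
    rw [← map_mul, dg_up, map_mul]
  have e : U π₁ π₂ (f (r ^ 2 * s) (l * t)) * V π₁ π₂ (g (r ^ 2 * s) (l * t)) *
      (π₂ (up (l * t)) * π₁ (up (r ^ 2 * s)) * π₁ (dg r hr)) =
      U π₁ π₂ (f s t) * V π₁ π₂ (l⁻¹ * g s t) * (π₂ (up (l * t)) * π₁ (up (r ^ 2 * s)) * π₁ (dg r hr)) := by
    calc U π₁ π₂ (f (r ^ 2 * s) (l * t)) * V π₁ π₂ (g (r ^ 2 * s) (l * t)) *
          (π₂ (up (l * t)) * π₁ (up (r ^ 2 * s)) * π₁ (dg r hr))
        = π₁ (up (r ^ 2 * s)) * (π₂ (up (l * t)) * π₁ (dg r hr)) := by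
          rw [← mul_assoc (π₁ (up (r ^ 2 * s))), h]; simp only [mul_assoc]
      _ = (π₁ (up (r ^ 2 * s)) * π₁ (dg r hr)) * π₂ (up t) := by rw [← hl, mul_assoc]
      _ = π₁ (dg r hr) * (π₁ (up s) * π₂ (up t)) := by rw [← ha, mul_assoc]
      _ = (π₁ (dg r hr) * U π₁ π₂ (f s t)) * V π₁ π₂ (g s t) * (π₂ (up t) * π₁ (up s)) := by
          rw [h]; simp only [mul_assoc]
      _ = U π₁ π₂ (f s t) * (π₁ (dg r hr) * V π₁ π₂ (g s t)) * (π₂ (up t) * π₁ (up s)) := by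
          rw [D.h1_U]; simp only [mul_assoc]
      _ = U π₁ π₂ (f s t) * V π₁ π₂ (l⁻¹ * g s t) * (π₁ (dg r hr) * π₂ (up t)) * π₁ (up s) := by
          rw [h1_V D h hr hl0 hl]; simp only [mul_assoc]
      _ = U π₁ π₂ (f s t) * V π₁ π₂ (l⁻¹ * g s t) * π₂ (up (l * t)) * (π₁ (dg r hr) * π₁ (up s)) := by
          rw [hl]; simp only [mul_assoc]
      _ = _ := by rw [ha]; simp only [mul_assoc]
  exact mul_right_cancel e

theorem tor2 {r l : F} (hr : r ≠ 0) (hl0 : l ≠ 0)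
    (hl : ∀ t, π₂ (dg r hr) * π₁ (up t) = π₁ (up (l * t)) * π₂ (dg r hr)) (s t : F) :
    f (l * s) (r ^ 2 * t) = l⁻¹ * f s t ∧ g (l * s) (r ^ 2 * t) = g s t := by
  apply D.uniq
  have ha : ∀ x, π₂ (dg r hr) * π₂ (up x) = π₂ (up (r ^ 2 * x)) * π₂ (dg r hr) := fun x => by
    rw [← map_mul, dg_up, map_mul]
  have e : U π₁ π₂ (f (l * s) (r ^ 2 * t)) * V π₁ π₂ (g (l * s) (r ^ 2 * t)) *
      (π₂ (up (r ^ 2 * t)) * π₁ (up (l * s)) * π₂ (dg r hr)) =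
      U π₁ π₂ (l⁻¹ * f s t) * V π₁ π₂ (g s t) * (π₂ (up (r ^ 2 * t)) * π₁ (up (l * s)) * π₂ (dg r hr)) := by
    calc U π₁ π₂ (f (l * s) (r ^ 2 * t)) * V π₁ π₂ (g (l * s) (r ^ 2 * t)) *
          (π₂ (up (r ^ 2 * t)) * π₁ (up (l * s)) * π₂ (dg r hr))
        = π₁ (up (l * s)) * (π₂ (up (r ^ 2 * t)) * π₂ (dg r hr)) := by
          rw [← mul_assoc (π₁ (up (l * s))), h]; simp only [mul_assoc]
      _ = (π₁ (up (l * s)) * π₂ (dg r hr)) * π₂ (up t) := by rw [← ha, mul_assoc]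
      _ = π₂ (dg r hr) * (π₁ (up s) * π₂ (up t)) := by rw [← hl, mul_assoc]
      _ = (π₂ (dg r hr) * U π₁ π₂ (f s t)) * V π₁ π₂ (g s t) * (π₂ (up t) * π₁ (up s)) := by
          rw [h]; simp only [mul_assoc]
      _ = U π₁ π₂ (l⁻¹ * f s t) * (π₂ (dg r hr) * V π₁ π₂ (g s t)) * (π₂ (up t) * π₁ (up s)) := by
          rw [h2_U D h hr hl0 hl]; simp only [mul_assoc]
      _ = U π₁ π₂ (l⁻¹ * f s t) * V π₁ π₂ (g s t) * (π₂ (dg r hr) * π₂ (up t)) * π₁ (up s) := by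
          rw [D.h2_V]; simp only [mul_assoc]
      _ = U π₁ π₂ (l⁻¹ * f s t) * V π₁ π₂ (g s t) * π₂ (up (r ^ 2 * t)) * (π₂ (dg r hr) * π₁ (up s)) := by
          rw [ha]; simp only [mul_assoc]
      _ = _ := by rw [hl]; simp only [mul_assoc]
  exact mul_right_cancel e

omit [Group G] D h in
theorem exists_sq [Finite F] (s : F) : ∃ r, r ^ 2 = s := by
  have h1 : Function.Injective (fun x : F => x ^ 2) := by
    intro x y hxy
    have : (x + y) ^ 2 = 0 := by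
      have h2 : (2 : F) = 0 := CharTwo.two_eq_zero
      have h3 : x ^ 2 = y ^ 2 := hxy
      linear_combination h3 + (x * y + y ^ 2) * h2
    have := pow_eq_zero_iff (two_ne_zero) |>.1 this
    exact CharTwo.add_eq_zero.1 this
  exact (Finite.injective_iff_surjective.1 h1) s

theorem g_eq [Finite F] (s t : F) : g s t = g s 1 * t := by
  by_cases hs : s = 0
  · rw [hs, (zero_left D h t).2, (zero_left D h 1).2, zero_mul]
  obtain ⟨r, rfl⟩ := exists_sq s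
  have hr : r ≠ 0 := by rintro rfl; simp at hs
  obtain ⟨l, hl0, hl⟩ := D.t1 r hr
  have key : ∀ t, g (r ^ 2) t = l⁻¹ * (l⁻¹ * t) := by
    intro t
    have := (tor1 D h hr hl0 (fun t => (hl t).1) 1 (l⁻¹ * t)).2
    rwa [mul_one, mul_inv_cancel_left₀ hl0, g_one D h] at this
  rw [key t, key 1]
  ring

theorem f_eq [Finite F] (s t : F) : f s t = s * f 1 t := by
  by_cases ht : t = 0
  · rw [ht, (zero_right D h s).1, (zero_right D h 1).1, mul_zero]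
  obtain ⟨r, rfl⟩ := exists_sq t
  have hr : r ≠ 0 := by rintro rfl; simp at ht
  obtain ⟨l, hl0, hl⟩ := D.t2 r hr
  have key : ∀ s, f s (r ^ 2) = l⁻¹ * (l⁻¹ * s) := by
    intro s
    have := (tor2 D h hr hl0 (fun t => (hl t).1) (l⁻¹ * s) 1).1
    rwa [mul_one, mul_inv_cancel_left₀ hl0, f_one D h] at this
  rw [key s, key 1]
  ring

theorem g_mul [Finite F] (s s' : F) : g (s * s') 1 = g s 1 * g s' 1 := by
  by_cases hs : s = 0
  · rw [hs, zero_mul, (zero_left D h 1).2, zero_mul]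
  obtain ⟨r, rfl⟩ := exists_sq s
  have hr : r ≠ 0 := by rintro rfl; simp at hs
  obtain ⟨l, hl0, hl⟩ := D.t1 r hr
  have h1 := (tor1 D h hr hl0 (fun t => (hl t).1) s' 1).2
  have h2 := (tor1 D h hr hl0 (fun t => (hl t).1) 1 1).2
  rw [g_eq D h, mul_one] at h1 h2
  rw [mul_one] at h2
  rw [g_one D h, mul_one] at h2
  have h3 : g (r ^ 2) 1 = l⁻¹ * l⁻¹ := by
    field_simp at h2 ⊢
    linear_combination h2
  rw [h3]
  field_simp at h1 ⊢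
  linear_combination h1

theorem f_mul [Finite F] (t t' : F) : f 1 (t * t') = f 1 t * f 1 t' := by
  by_cases ht : t = 0
  · rw [ht, zero_mul, (zero_right D h 1).1, zero_mul]
  obtain ⟨r, rfl⟩ := exists_sq t
  have hr : r ≠ 0 := by rintro rfl; simp at ht
  obtain ⟨l, hl0, hl⟩ := D.t2 r hr
  have h1 := (tor2 D h hr hl0 (fun t => (hl t).1) 1 t').1
  have h2 := (tor2 D h hr hl0 (fun t => (hl t).1) 1 1).1
  rw [f_eq D h, mul_one] at h1 h2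
  rw [mul_one] at h2
  rw [f_one D h, mul_one] at h2
  have h3 : f 1 (r ^ 2) = l⁻¹ * l⁻¹ := by
    field_simp at h2 ⊢
    linear_combination h2
  rw [h3]
  field_simp at h1 ⊢
  linear_combination h1

/-- The relation between the torus of `π₁` and the structure constant `f`. -/
theorem f_tor [Finite F] {r l : F} (hr : r ≠ 0) (hl0 : l ≠ 0)
    (hl : ∀ t, π₁ (dg r hr) * π₂ (up t) = π₂ (up (l * t)) * π₁ (dg r hr)) : r ^ 2 * f 1 l = 1 := by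
  have h1 := (tor1 D h hr hl0 hl 1 1).1
  rw [mul_one, mul_one, f_eq D h, f_one D h] at h1
  exact h1

theorem f_tor2 [Finite F] {r l : F} (hr : r ≠ 0) (hl0 : l ≠ 0)
    (hl : ∀ t, π₂ (dg r hr) * π₁ (up t) = π₁ (up (l * t)) * π₂ (dg r hr)) : f 1 (r ^ 2) = l⁻¹ ^ 2 := by
  have h2 := (tor2 D h hr hl0 hl 1 1).1
  rw [f_eq D h, mul_one, mul_one, f_one D h, mul_one] at h2
  field_simp at h2 ⊢
  linear_combination h2

theorem f_g [Finite F] (s : F) : f 1 (g s 1) = s ^ 2 := by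
  by_cases hs : s = 0
  · rw [hs, (zero_left D h 1).2, (zero_right D h 1).1]; simp
  obtain ⟨r, rfl⟩ := exists_sq s
  have hr : r ≠ 0 := by rintro rfl; simp at hs
  obtain ⟨l, hl0, hl⟩ := D.t1 r hr
  have h1 := f_tor D h hr hl0 (fun t => (hl t).1)
  have h2 := (tor1 D h hr hl0 (fun t => (hl t).1) 1 1).2
  rw [g_eq D h, mul_one, mul_one, g_one D h, mul_one] at h2
  have h3 : g (r ^ 2) 1 * (l * l) = 1 := by
    field_simp at h2
    linear_combination h2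
  have h4 : f 1 (g (r ^ 2) 1) * (f 1 l * f 1 l) = 1 := by
    rw [← f_mul D h, ← f_mul D h, h3, f_one D h]
  have h5 : f 1 l ≠ 0 := by
    intro h0
    rw [h0, mul_zero] at h1
    exact zero_ne_one h1
  have h7 : (r ^ 2) ^ 2 * (f 1 l * f 1 l) = 1 := by
    linear_combination (r ^ 2 * f 1 l + 1) * h1
  exact mul_right_cancel₀ (mul_ne_zero h5 h5) (h4.trans h7.symm)

end struc

/-! ### the twist -/

section twist

variable {π₁ π₂ : SpecialLinearGroup (Fin 2) F →* G}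

theorem map_up (ρ : F →+* F) (t : F) : SpecialLinearGroup.map ρ (up t) = up (ρ t) := by
  ext i j
  change ρ ((up t).1 i j) = (up (ρ t)).1 i j
  fin_cases i <;> fin_cases j <;> simp [up]

theorem map_lo (ρ : F →+* F) (t : F) : SpecialLinearGroup.map ρ (lo t) = lo (ρ t) := by
  ext i j
  change ρ ((lo t).1 i j) = (lo (ρ t)).1 i j
  fin_cases i <;> fin_cases j <;> simp [lo]

theorem map_wi (ρ : F →+* F) : SpecialLinearGroup.map ρ (wi F) = wi F := by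
  ext i j
  change ρ ((wi F).1 i j) = (wi F).1 i j
  fin_cases i <;> fin_cases j <;> simp [wi]

theorem map_dg (ρ : F →+* F) (s : F) (hs : s ≠ 0) :
    SpecialLinearGroup.map ρ (dg s hs) = dg (ρ s) ((map_ne_zero ρ).2 hs) := by
  ext i j
  change ρ ((dg s hs).1 i j) = (dg (ρ s) ((map_ne_zero ρ).2 hs)).1 i j
  fin_cases i <;> fin_cases j <;> simp [dg]

/-- **Normalisation**: after twisting `π₂` by a field automorphism, a `Local` datum is a `Data` datum. -/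
theorem exists_data [CharP F 2] [Finite F] (D : Local π₁ π₂) :
    ∃ ρ : F ≃+* F, Data π₁ (π₂.comp (SpecialLinearGroup.map (ρ : F →+* F))) := by
  choose f g h using D.com
  let τ : F →+* F :=
    { toFun := fun t => f 1 t
      map_one' := f_one D h 1
      map_mul' := f_mul D h
      map_zero' := (zero_right D h 1).1
      map_add' := fun a b => (add_right D h 1 a b).1 }
  have hτ : Function.Bijective τ := Finite.injective_iff_bijective.1 τ.injective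
  let τe : F ≃+* F := RingEquiv.ofBijective τ hτ
  let ρ : F ≃+* F := τe.symm
  have hρ : ∀ t, f 1 (ρ t) = t := fun t => τe.apply_symm_apply t
  have hf : ∀ s t, f s (ρ t) = s * t := fun s t => by rw [f_eq D h, hρ]
  have hρ2 : ∀ s, ρ (s ^ 2) = g s 1 := by
    intro s
    apply hτ.1
    change f 1 (ρ (s ^ 2)) = f 1 (g s 1)
    rw [hρ, f_g D h]
  have hg : ∀ s t, g s (ρ t) = ρ (s ^ 2 * t) := fun s t => by rw [g_eq D h, map_mul, hρ2]
  have eu : ∀ t, (π₂.comp (SpecialLinearGroup.map (ρ : F →+* F))) (up t) = π₂ (up (ρ t)) := fun t => by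
    rw [MonoidHom.comp_apply, map_up]; rfl
  have el : ∀ t, (π₂.comp (SpecialLinearGroup.map (ρ : F →+* F))) (lo t) = π₂ (lo (ρ t)) := fun t => by
    rw [MonoidHom.comp_apply, map_lo]; rfl
  have ew : (π₂.comp (SpecialLinearGroup.map (ρ : F →+* F))) (wi F) = π₂ (wi F) := by
    rw [MonoidHom.comp_apply, map_wi]
  have ed : ∀ s hs, (π₂.comp (SpecialLinearGroup.map (ρ : F →+* F))) (dg s hs) =
      π₂ (dg (ρ s) ((map_ne_zero (ρ : F →+* F)).2 hs)) := fun s hs => by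
    rw [MonoidHom.comp_apply, map_dg]; rfl
  have tor1 : ∀ (s : F) (hs : s ≠ 0) (t : F),
      π₁ (dg s hs) * π₂ (up (ρ t)) = π₂ (up (ρ (s⁻¹ ^ 2 * t))) * π₁ (dg s hs) ∧
      π₁ (dg s hs) * π₂ (lo (ρ t)) = π₂ (lo (ρ (s ^ 2 * t))) * π₁ (dg s hs) := by
    intro s hs t
    obtain ⟨l, hl0, hl⟩ := D.t1 s hs
    have h1 := f_tor D h hs hl0 (fun t => (hl t).1)
    have h2 : l = ρ (s⁻¹ ^ 2) := by
      apply hτ.1
      change f 1 l = f 1 (ρ (s⁻¹ ^ 2))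
      rw [hρ]
      field_simp
      linear_combination h1
    have h3 : l⁻¹ = ρ (s ^ 2) := by
      rw [h2, inv_pow, map_inv₀, inv_inv]
    refine ⟨?_, ?_⟩
    · rw [(hl _).1, h2, map_mul]
    · rw [(hl _).2, h3, map_mul]
  have tor2 : ∀ (s : F) (hs : s ≠ 0) (t : F),
      π₂ (dg (ρ s) ((map_ne_zero (ρ : F →+* F)).2 hs)) * π₁ (up t) =
        π₁ (up (s⁻¹ * t)) * π₂ (dg (ρ s) ((map_ne_zero (ρ : F →+* F)).2 hs)) ∧
      π₂ (dg (ρ s) ((map_ne_zero (ρ : F →+* F)).2 hs)) * π₁ (lo t) =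
        π₁ (lo (s * t)) * π₂ (dg (ρ s) ((map_ne_zero (ρ : F →+* F)).2 hs)) := by
    intro s hs t
    obtain ⟨l, hl0, hl⟩ := D.t2 (ρ s) ((map_ne_zero (ρ : F →+* F)).2 hs)
    have h1 := f_tor2 D h ((map_ne_zero (ρ : F →+* F)).2 hs) hl0 (fun t => (hl t).1)
    have h2 : s ^ 2 = l⁻¹ ^ 2 := by
      rw [← h1]
      change s ^ 2 = f 1 (ρ s ^ 2)
      rw [← map_pow, hρ]
    have h3 : s = l⁻¹ := by
      have : (s + l⁻¹) ^ 2 = 0 := by
        have h2' : (2 : F) = 0 := CharTwo.two_eq_zero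
        linear_combination h2 + (s * l⁻¹ + l⁻¹ ^ 2) * h2'
      have := pow_eq_zero_iff (two_ne_zero) |>.1 this
      exact CharTwo.add_eq_zero.1 this
    have h4 : l = s⁻¹ := by rw [h3, inv_inv]
    refine ⟨?_, ?_⟩
    · rw [(hl _).1, h4]
    · rw [(hl _).2, h4, inv_inv]
  refine ⟨ρ, ?_, ?_, ?_, ?_, ?_, ?_, ?_, ?_, ?_⟩
  · intro A B
    rw [ew]
    exact D.c1 A B
  · intro A B
    exact D.c2 _ _
  · intro s t
    rw [eu]
    exact D.c3 _ _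
  · intro s t
    rw [eu, ew]
    exact D.c4 _ _
  · intro s t
    rw [eu, ew, eu, h, hf, hg]
    rfl
  · intro s hs t
    rw [eu, eu]
    exact (tor1 s hs t).1
  · intro s hs t
    rw [el, el]
    exact (tor1 s hs t).2
  · intro s hs t
    rw [ed]
    exact (tor2 s hs t).1
  · intro s hs t
    rw [ed]
    exact (tor2 s hs t).2

/-- **Recognition of `PSp₄(F)`, characteristic two (containment version).** `P` is any proper subgroup containing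
the parabolic subgroup of the root `b`. -/
theorem nonempty_psp [CharP F 2] [Fintype F] (hF : 3 ≤ Fintype.card F) [IsSimpleGroup G]
    (hna : ∃ a b : G, a * b ≠ b * a) (D : Local π₁ π₂)
    (hgen : ∀ Q : Subgroup G, (∀ A, π₁ A ∈ Q) → (∀ A, π₂ A ∈ Q) → Q = ⊤)
    (P : Subgroup G) (hP : P ≠ ⊤) (hP2 : ∀ A, π₂ A ∈ P) (hPa : ∀ t, π₁ (up t) ∈ P)
    (hPd : ∀ (s : F) (hs : s ≠ 0), π₁ (dg s hs) ∈ P) (hPV : ∀ t, V π₁ π₂ t ∈ P) :
    Nonempty (G ≃* Cfsg.PSp 2 F) := by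
  obtain ⟨ρ, hρ⟩ := exists_data D
  have hfix : ∀ g ∈ P, g • ((1 : G) : G ⧸ P) = ((1 : G) : G ⧸ P) := by
    intro g hg
    change ((g * 1 : G) : G ⧸ P) = ((1 : G) : G ⧸ P)
    rw [mul_one, QuotientGroup.eq]
    simpa using P.inv_mem hg
  have hmap : ∀ A : SpecialLinearGroup (Fin 2) F, ∃ B, SpecialLinearGroup.map (ρ : F →+* F) B = A := by
    intro A
    refine ⟨SpecialLinearGroup.map (ρ.symm : F →+* F) A, ?_⟩
    ext i j
    change ρ (ρ.symm (A.1 i j)) = A.1 i j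
    rw [ρ.apply_symm_apply]
  refine SpFourRec.nonempty_psp (o := ((1 : G) : G ⧸ P)) hρ ⟨?_, ?_, ?_, ?_⟩ hF hna ?_ ?_
  · intro A
    exact hfix _ (hP2 _)
  · intro t
    exact hfix _ (hPa t)
  · intro s hs
    exact hfix _ (hPd s hs)
  · intro t
    have e : V π₁ (π₂.comp (SpecialLinearGroup.map (ρ : F →+* F))) t = V π₁ π₂ (ρ t) := by
      rw [V, V, MonoidHom.comp_apply, map_up]
      rfl
    rw [e]
    exact hfix _ (hPV _)
  · intro Q h1 h2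
    refine hgen Q h1 fun A => ?_
    obtain ⟨B, rfl⟩ := hmap A
    exact h2 B
  · intro h
    apply hP
    rw [eq_top_iff, ← h]
    intro g hg
    have : g • ((1 : G) : G ⧸ P) = ((1 : G) : G ⧸ P) := hg
    change ((g * 1 : G) : G ⧸ P) = ((1 : G) : G ⧸ P) at this
    rw [mul_one, QuotientGroup.eq] at this
    simpa using P.inv_mem this

end twist

end Local

end Cfsg.Agent.Classification.SpFourLocal
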