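import Mathlib
import Cfsg.Agent.Classification.SpFourLocal
import Cfsg.Agent.ClassTwo.Sp4Defs

/-!
# From a `Frame` with the braid relation to `PSp₄(F)`, characteristic two
-/

set_option autoImplicit false
set_option linter.all false

namespace Cfsg.Agent.Classification.SpFourFrame

open Matrix Cfsg.Agent.Lib.SL2Hom Cfsg.Agent.Classification.SLThreeRec Cfsg.Agent.Classification.SpFourRec
  Cfsg.Agent.Classification.SpFourRec.Data

variable {F G : Type*} [Field F] [Group G]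

theorem d_eq (s : F) (hs : s ≠ 0) : Cfsg.Agent.ClassTwo.Sp4Defs.d (Units.mk0 s hs) = dg s hs := by
  ext i j
  change (Cfsg.Agent.ClassTwo.Sp4Defs.d (Units.mk0 s hs)).1 i j = (dg s hs).1 i j
  fin_cases i <;> fin_cases j <;> simp [Cfsg.Agent.ClassTwo.Sp4Defs.d, dg]

theorem w_eq [CharP F 2] : Cfsg.Agent.ClassTwo.Sp4Defs.w F = wi F := by
  have h2 : (1 : F) + 1 = 0 := CharTwo.add_self_eq_zero 1
  have h3 : (-1 : F) = 1 := by linear_combination -h2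
  ext i j
  change (Cfsg.Agent.ClassTwo.Sp4Defs.w F).1 i j = (wi F).1 i j
  fin_cases i <;> fin_cases j <;> simp [Cfsg.Agent.ClassTwo.Sp4Defs.w, wi, h3]

section gen

variable [CharP F 2]

theorem lo_conj (t : F) : (lo t : SpecialLinearGroup (Fin 2) F) = wi F * up t * wi F := by
  rw [wi_up, mul_assoc, wi_wi, mul_one]

theorem conj_mul {π : SpecialLinearGroup (Fin 2) F →* G} {n : G} (hn : n * n = 1)
    (A B : SpecialLinearGroup (Fin 2) F) : n * π (A * B) * n = (n * π A * n) * (n * π B * n) := by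
  rw [map_mul]
  calc n * (π A * π B) * n = n * π A * 1 * π B * n := by group
    _ = _ := by rw [← hn]; group

/-- The Weyl element `ρ(w) π(w) ρ(w)` centralises the image of `π`. -/
theorem comm_W {π ρ : SpecialLinearGroup (Fin 2) F →* G}
    (h : ∀ A t, Commute (π A) (ρ (wi F) * π (up t) * ρ (wi F)))
    (hb : Commute (π (wi F)) (ρ (wi F) * π (wi F) * ρ (wi F))) (A : SpecialLinearGroup (Fin 2) F) :
    Commute (π A) (ρ (wi F) * π (wi F) * ρ (wi F)) := by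
  have hn : ρ (wi F) * ρ (wi F) = 1 := by rw [← map_mul, wi_wi, map_one]
  have hup : ∀ s, Commute (π (up s)) (ρ (wi F) * π (wi F) * ρ (wi F)) := by
    intro s
    have e := (h (wi F) s).eq
    have : π (up s) = ρ (wi F) * (ρ (wi F) * π (up s) * ρ (wi F)) * ρ (wi F) := by
      calc π (up s) = 1 * π (up s) * 1 := by group
        _ = _ := by rw [← hn]; group
    rw [this]
    change ρ (wi F) * (ρ (wi F) * π (up s) * ρ (wi F)) * ρ (wi F) * (ρ (wi F) * π (wi F) * ρ (wi F)) =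
      ρ (wi F) * π (wi F) * ρ (wi F) * (ρ (wi F) * (ρ (wi F) * π (up s) * ρ (wi F)) * ρ (wi F))
    generalize ρ (wi F) * π (up s) * ρ (wi F) = X at e ⊢
    generalize π (wi F) = a at e ⊢
    generalize ρ (wi F) = n at hn e ⊢
    calc n * X * n * (n * a * n) = n * X * (n * n) * a * n := by group
      _ = n * (X * a) * n := by rw [hn]; group
      _ = n * (a * X) * n := by rw [e]
      _ = n * a * 1 * X * n := by group
      _ = n * a * n * (n * X * n) := by rw [← hn]; group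
  refine sl2_induction (fun A => Commute (π A) (ρ (wi F) * π (wi F) * ρ (wi F))) hup ?_ ?_ A
  · intro s
    change Commute (π (lo s)) _
    rw [lo_conj, map_mul, map_mul]
    exact (hb.mul_left (hup s)).mul_left hb
  · intro A B hA hB
    change Commute (π (A * B)) _
    rw [map_mul]
    exact Commute.mul_left hA hB

theorem comm_all {π ρ : SpecialLinearGroup (Fin 2) F →* G}
    (h : ∀ A t, Commute (π A) (ρ (wi F) * π (up t) * ρ (wi F)))
    (hb : Commute (π (wi F)) (ρ (wi F) * π (wi F) * ρ (wi F))) (A B : SpecialLinearGroup (Fin 2) F) :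
    Commute (π A) (ρ (wi F) * π B * ρ (wi F)) := by
  have hn : ρ (wi F) * ρ (wi F) = 1 := by rw [← map_mul, wi_wi, map_one]
  have hW := comm_W h hb A
  refine sl2_induction (fun B => Commute (π A) (ρ (wi F) * π B * ρ (wi F))) (h A) ?_ ?_ B
  · intro t
    change Commute (π A) (ρ (wi F) * π (lo t) * ρ (wi F))
    have e : ρ (wi F) * π (lo t) * ρ (wi F) = (ρ (wi F) * π (wi F) * ρ (wi F)) *
        (ρ (wi F) * π (up t) * ρ (wi F)) * (ρ (wi F) * π (wi F) * ρ (wi F)) := by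
      rw [← conj_mul hn, ← conj_mul hn, lo_conj]
    rw [e]
    exact (hW.mul_right (h A t)).mul_right hW
  · intro B C hB hC
    change Commute (π A) (ρ (wi F) * π (B * C) * ρ (wi F))
    rw [conj_mul hn]
    exact Commute.mul_right hB hC

/-- an additive map commuting with the multiplication by squares is a multiplication -/
theorem exists_scalar [Finite F] {π ρ : SpecialLinearGroup (Fin 2) F →* G} (hinj : Function.Injective ρ) {h : G}
    (h1 : ∀ (m : F) (hm : m ≠ 0), Commute h (ρ (dg m hm)))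
    (h2 : ∀ t, ∃ t', h * ρ (up t) * h⁻¹ = ρ (up t')) :
    ∃ l : F, l ≠ 0 ∧ ∀ t, h * ρ (up t) = ρ (up (l * t)) * h := by
  choose σ hσ using h2
  have inj : ∀ {a b : F}, ρ (up a) = ρ (up b) → a = b := by
    intro a b hab
    have := hinj hab
    have := congrArg (fun A : SpecialLinearGroup (Fin 2) F => A.1 0 1) this
    simpa [up] using this
  have hsq : ∀ (m t : F), m ≠ 0 → σ (m ^ 2 * t) = m ^ 2 * σ t := by
    intro m t hm
    apply inj
    rw [← hσ]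
    have e : ∀ t : F, ρ (up (m ^ 2 * t)) = ρ (dg m hm) * ρ (up t) * (ρ (dg m hm))⁻¹ := by
      intro t
      rw [← map_mul, Cfsg.Agent.Classification.SpFourLocal.Local.dg_up hm, map_mul]
      group
    rw [e, e, ← hσ t]
    have e1 := (h1 m hm).eq
    have e2 := ((h1 m hm).inv_right).eq
    calc h * (ρ (dg m hm) * ρ (up t) * (ρ (dg m hm))⁻¹) * h⁻¹
        = (h * ρ (dg m hm)) * ρ (up t) * (h * ρ (dg m hm))⁻¹ := by group
      _ = (ρ (dg m hm) * h) * ρ (up t) * (ρ (dg m hm) * h)⁻¹ := by rw [e1]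
      _ = _ := by group
  have h0 : σ 0 = 0 := by
    apply inj
    rw [← hσ, up_zero, map_one, mul_one, mul_inv_cancel]
  have hlin : ∀ t, σ t = σ 1 * t := by
    intro t
    by_cases ht : t = 0
    · rw [ht, h0, mul_zero]
    · obtain ⟨r, hr⟩ := Cfsg.Agent.Classification.SpFourLocal.Local.exists_sq t
      have hr0 : r ≠ 0 := by
        rintro rfl
        apply ht
        rw [← hr]; ring
      have := hsq r 1 hr0
      rw [hr, mul_one] at this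
      rw [this, mul_comm]
  refine ⟨σ 1, ?_, ?_⟩
  · intro h10
    have e : h * ρ (up 1) * h⁻¹ = h * ρ (up 0) * h⁻¹ := by
      rw [hσ, hσ, h10, h0]
    have e2 : ρ (up 1) = ρ (up 0) := by
      have := mul_right_cancel e
      exact mul_left_cancel this
    exact one_ne_zero (inj e2)
  · intro t
    rw [← hlin, ← hσ]
    group

/-- the action of an opposite torus on the opposite root subgroup -/
theorem lower_scalar {π ρ : SpecialLinearGroup (Fin 2) F →* G}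
    (hb : Commute (π (wi F)) (ρ (wi F) * π (wi F) * ρ (wi F)))
    (hW : ∀ A, Commute (π A) (ρ (wi F) * π (wi F) * ρ (wi F)))
    (hW' : ∀ A, Commute (ρ A) (π (wi F) * ρ (wi F) * π (wi F)))
    {s : F} (hs : s ≠ 0) {l : F} (hl : l ≠ 0)
    (h : ∀ t, π (dg s hs) * ρ (up t) = ρ (up (l * t)) * π (dg s hs)) (t : F) :
    π (dg s hs) * ρ (lo t) = ρ (lo (l⁻¹ * t)) * π (dg s hs) := by
  have hn : ρ (wi F) * ρ (wi F) = 1 := by rw [← map_mul, wi_wi, map_one]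
  have hm : π (wi F) * π (wi F) = 1 := by rw [← map_mul, wi_wi, map_one]
  -- the longest element
  set z := π (wi F) * (ρ (wi F) * π (wi F) * ρ (wi F)) with hz
  have hz' : z = (π (wi F) * ρ (wi F) * π (wi F)) * ρ (wi F) := by rw [hz]; group
  have c1 : z * π (dg s hs) = (π (dg s hs))⁻¹ * z := by
    have e : π (wi F) * π (dg s hs) = (π (dg s hs))⁻¹ * π (wi F) := by
      rw [← map_mul, ← map_inv, ← map_mul]
      congr 1
      rw [eq_inv_mul_iff_mul_eq, ← mul_assoc, dg_wi, mul_assoc]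
      have : dg s⁻¹ (inv_ne_zero hs) * dg s hs = (1 : SpecialLinearGroup (Fin 2) F) := by
        ext i j
        change ((dg s⁻¹ (inv_ne_zero hs)).1 * (dg s hs).1) i j = (1 : Matrix (Fin 2) (Fin 2) F) i j
        fin_cases i <;> fin_cases j <;> simp [dg, Matrix.mul_apply, Fin.sum_univ_two, hs]
      rw [this, mul_one]
    calc z * π (dg s hs) = π (wi F) * ((ρ (wi F) * π (wi F) * ρ (wi F)) * π (dg s hs)) := by rw [hz]; group
      _ = π (wi F) * (π (dg s hs) * (ρ (wi F) * π (wi F) * ρ (wi F))) := by rw [← (hW (dg s hs)).eq]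
      _ = (π (wi F) * π (dg s hs)) * (ρ (wi F) * π (wi F) * ρ (wi F)) := by group
      _ = _ := by rw [e, hz]; group
  have c2 : ∀ t, z * ρ (up t) = ρ (lo t) * z := by
    intro t
    have e : ρ (wi F) * ρ (up t) = ρ (lo t) * ρ (wi F) := by rw [← map_mul, ← map_mul, wi_up]
    calc z * ρ (up t) = (π (wi F) * ρ (wi F) * π (wi F)) * (ρ (wi F) * ρ (up t)) := by rw [hz']; group
      _ = ((π (wi F) * ρ (wi F) * π (wi F)) * ρ (lo t)) * ρ (wi F) := by rw [e]; group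
      _ = (ρ (lo t) * (π (wi F) * ρ (wi F) * π (wi F))) * ρ (wi F) := by rw [(hW' (lo t)).eq]
      _ = _ := by rw [hz']; group
  have key : ∀ t, (π (dg s hs))⁻¹ * ρ (lo t) = ρ (lo (l * t)) * (π (dg s hs))⁻¹ := by
    intro t
    have e := congrArg (fun g => z * g) (h t)
    change z * (π (dg s hs) * ρ (up t)) = z * (ρ (up (l * t)) * π (dg s hs)) at e
    clear_value z
    have e1 : z * (π (dg s hs) * ρ (up t)) = (π (dg s hs))⁻¹ * ρ (lo t) * z := by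
      rw [← mul_assoc, c1, mul_assoc, c2, ← mul_assoc]
    have e2 : z * (ρ (up (l * t)) * π (dg s hs)) = ρ (lo (l * t)) * (π (dg s hs))⁻¹ * z := by
      rw [← mul_assoc, c2, mul_assoc, c1, ← mul_assoc]
    rw [e1, e2] at e
    exact mul_right_cancel e
  have k := key (l⁻¹ * t)
  rw [mul_inv_cancel_left₀ hl] at k
  calc π (dg s hs) * ρ (lo t) = π (dg s hs) * (ρ (lo t) * (π (dg s hs))⁻¹) * π (dg s hs) := by group
    _ = π (dg s hs) * ((π (dg s hs))⁻¹ * ρ (lo (l⁻¹ * t))) * π (dg s hs) := by rw [k]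
    _ = _ := by group

end gen

open Cfsg.Agent.Classification.SpFourLocal

/-- Root data of type `C₂` in characteristic two, weak form. -/
structure Pre (π₁ π₂ : SpecialLinearGroup (Fin 2) F →* G) : Prop where
  inj₁ : Function.Injective π₁
  inj₂ : Function.Injective π₂
  hU : ∀ A t, Commute (π₁ A) (π₂ (wi F) * π₁ (up t) * π₂ (wi F))
  hV : ∀ A t, Commute (π₂ A) (π₁ (wi F) * π₂ (up t) * π₁ (wi F))
  aV : ∀ s t, Commute (π₁ (up s)) (π₁ (wi F) * π₂ (up t) * π₁ (wi F))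
  bU : ∀ s t, Commute (π₂ (up s)) (π₂ (wi F) * π₁ (up t) * π₂ (wi F))
  com : ∀ s t, ∃ u v, π₁ (up s) * π₂ (up t) = U π₁ π₂ u * V π₁ π₂ v * (π₂ (up t) * π₁ (up s))
  i3 : ∀ u v, U π₁ π₂ u = V π₁ π₂ v → u = 0
  tori : ∀ (r s : F) (hr : r ≠ 0) (hs : s ≠ 0), Commute (π₁ (dg r hr)) (π₂ (dg s hs))
  t1 : ∀ (s : F) (hs : s ≠ 0) (t : F), ∃ t', π₁ (dg s hs) * π₂ (up t) * (π₁ (dg s hs))⁻¹ = π₂ (up t')
  t2 : ∀ (s : F) (hs : s ≠ 0) (t : F), ∃ t', π₂ (dg s hs) * π₁ (up t) * (π₂ (dg s hs))⁻¹ = π₁ (up t')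
  braid : Commute (π₂ (wi F)) (π₁ (wi F) * π₂ (wi F) * π₁ (wi F))

namespace Pre

variable {π₁ π₂ : SpecialLinearGroup (Fin 2) F →* G} [CharP F 2]

theorem braid' (D : Pre π₁ π₂) : Commute (π₁ (wi F)) (π₂ (wi F) * π₁ (wi F) * π₂ (wi F)) := by
  have h := D.braid.eq
  change π₁ (wi F) * (π₂ (wi F) * π₁ (wi F) * π₂ (wi F)) = (π₂ (wi F) * π₁ (wi F) * π₂ (wi F)) * π₁ (wi F)
  calc π₁ (wi F) * (π₂ (wi F) * π₁ (wi F) * π₂ (wi F)) = (π₁ (wi F) * π₂ (wi F) * π₁ (wi F)) * π₂ (wi F) := by group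
    _ = π₂ (wi F) * (π₁ (wi F) * π₂ (wi F) * π₁ (wi F)) := by rw [h]
    _ = _ := by group

theorem not_comm {π : SpecialLinearGroup (Fin 2) F →* G} (hinj : Function.Injective π) {t : F}
    (h : Commute (π (up t)) (π (lo t))) : t = 0 := by
  have e := h.eq
  rw [← map_mul, ← map_mul] at e
  have e2 := congrArg (fun A : SpecialLinearGroup (Fin 2) F => A.1 0 0) (hinj e)
  change ((up t).1 * (lo t).1) 0 0 = ((lo t).1 * (up t).1) 0 0 at e2
  simp [up, lo, Matrix.mul_apply, Fin.sum_univ_two] at e2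
  exact e2

theorem toLocal [Finite F] (D : Pre π₁ π₂) : Local π₁ π₂ := by
  have c1 : ∀ A B, Commute (π₁ A) (π₂ (wi F) * π₁ B * π₂ (wi F)) := comm_all D.hU D.braid'
  have c2 : ∀ A B, Commute (π₂ A) (π₁ (wi F) * π₂ B * π₁ (wi F)) := comm_all D.hV D.braid
  have hW := comm_W D.hU D.braid'
  have hW' := comm_W D.hV D.braid
  have UV : ∀ s t, Commute (U π₁ π₂ s) (V π₁ π₂ t) := by
    intro s t
    -- `U s` commutes with `π₁` and with `π₂ (up t)`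
    have h1 : Commute (U π₁ π₂ s) (π₁ (wi F)) := (c1 (wi F) (up s)).symm
    have h2 : Commute (U π₁ π₂ s) (π₂ (up t)) := (D.bU t s).symm
    exact (h1.mul_right h2).mul_right h1
  have w1w1 : π₁ (wi F) * π₁ (wi F) = 1 := by rw [← map_mul, wi_wi, map_one]
  have w2w2 : π₂ (wi F) * π₂ (wi F) = 1 := by rw [← map_mul, wi_wi, map_one]
  refine ⟨c1, c2, D.aV, D.bU, D.com, ?_, ?_, D.i3, ?_, ?_⟩
  · intro t u v h
    apply not_comm D.inj₂
    have e1 : π₂ (lo t) = π₁ (up u) * V π₁ π₂ v := by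
      rw [lo_conj, map_mul, map_mul, h]
      have e2 : π₂ (wi F) * V π₁ π₂ v = V π₁ π₂ v * π₂ (wi F) := (c2 (wi F) (up v)).eq
      calc π₂ (wi F) * (U π₁ π₂ u * V π₁ π₂ v) * π₂ (wi F)
          = π₂ (wi F) * U π₁ π₂ u * (V π₁ π₂ v * π₂ (wi F)) := by group
        _ = π₂ (wi F) * (π₂ (wi F) * π₁ (up u) * π₂ (wi F)) * (π₂ (wi F) * V π₁ π₂ v) := by rw [← e2]; rfl
        _ = (π₂ (wi F) * π₂ (wi F)) * π₁ (up u) * (π₂ (wi F) * π₂ (wi F)) * V π₁ π₂ v := by group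
        _ = _ := by rw [w2w2]; group
    rw [e1, h]
    have k1 : Commute (U π₁ π₂ u) (π₁ (up u)) := (c1 (up u) (up u)).symm
    have k2 : Commute (V π₁ π₂ v) (π₁ (up u)) := (D.aV u v).symm
    exact (k1.mul_left k2).mul_right ((UV u v).mul_left (Commute.refl _))
  · intro t u v h
    apply not_comm D.inj₁
    have e1 : π₁ (lo t) = U π₁ π₂ u * π₂ (up v) := by
      rw [lo_conj, map_mul, map_mul, h]
      have e2 : π₁ (wi F) * U π₁ π₂ u = U π₁ π₂ u * π₁ (wi F) := (c1 (wi F) (up u)).eq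
      calc π₁ (wi F) * (U π₁ π₂ u * V π₁ π₂ v) * π₁ (wi F)
          = (π₁ (wi F) * U π₁ π₂ u) * V π₁ π₂ v * π₁ (wi F) := by group
        _ = (U π₁ π₂ u * π₁ (wi F)) * (π₁ (wi F) * π₂ (up v) * π₁ (wi F)) * π₁ (wi F) := by rw [e2]; rfl
        _ = U π₁ π₂ u * (π₁ (wi F) * π₁ (wi F)) * π₂ (up v) * (π₁ (wi F) * π₁ (wi F)) := by group
        _ = _ := by rw [w1w1]; group
    rw [e1, h]
    have k1 : Commute (U π₁ π₂ u) (π₂ (up v)) := (D.bU v u).symm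
    have k2 : Commute (V π₁ π₂ v) (π₂ (up v)) := (c2 (up v) (up v)).symm
    exact ((Commute.refl _).mul_left (UV u v).symm).mul_right (k1.mul_left k2)
  · intro s hs
    obtain ⟨l, hl, h⟩ := exists_scalar (π := π₁) D.inj₂ (h := π₁ (dg s hs)) (fun m hm => D.tori s m hs hm)
      (D.t1 s hs)
    exact ⟨l, hl, fun t => ⟨h t, lower_scalar D.braid' hW hW' hs hl h t⟩⟩
  · intro s hs
    obtain ⟨l, hl, h⟩ := exists_scalar (π := π₂) D.inj₁ (h := π₂ (dg s hs)) (fun m hm => (D.tori m s hm hs).symm)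
      (D.t2 s hs)
    exact ⟨l, hl, fun t => ⟨h t, lower_scalar D.braid hW' hW hs hl h t⟩⟩

end Pre

/-- A `Frame` with the braid relation gives `Pre`. -/
theorem pre_of_frame [CharP F 2] (Fr : Cfsg.Agent.ClassTwo.Sp4Defs.Frame F G)
    (hb : Commute (Fr.ψ₂ (Cfsg.Agent.ClassTwo.Sp4Defs.w F))
      (Fr.ψ₁ (Cfsg.Agent.ClassTwo.Sp4Defs.w F) * Fr.ψ₂ (Cfsg.Agent.ClassTwo.Sp4Defs.w F) *
        Fr.ψ₁ (Cfsg.Agent.ClassTwo.Sp4Defs.w F))) : Pre Fr.ψ₁ Fr.ψ₂ := by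
  have hZ1 : ∀ t, U Fr.ψ₁ Fr.ψ₂ t ∈ Fr.Z₁ := fun t => (Fr.mem_Z₁ _).2 ⟨t, by rw [w_eq]; rfl⟩
  have hZ2 : ∀ t, V Fr.ψ₁ Fr.ψ₂ t ∈ Fr.Z₂ := fun t => (Fr.mem_Z₂ _).2 ⟨t, by rw [w_eq]; rfl⟩
  refine ⟨Fr.inj₁, Fr.inj₂, ?_, ?_, ?_, ?_, ?_, ?_, ?_, ?_, ?_, ?_⟩
  · intro A t
    exact Fr.cent₁ A _ (hZ1 t)
  · intro A t
    exact Fr.cent₂ A _ (hZ2 t)
  · intro s t
    exact Fr.comm_a_Z₂ s _ (hZ2 t)
  · intro s t
    exact Fr.comm_b_Z₁ s _ (hZ1 t)
  · intro s t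
    have h := Fr.comm_ab s t
    have key : ∀ g ∈ Fr.Z₁ ⊔ Fr.Z₂, ∃ u v, g = U Fr.ψ₁ Fr.ψ₂ u * V Fr.ψ₁ Fr.ψ₂ v := by
      intro g hg
      let T : Subgroup G :=
        { carrier := {g | ∃ a ∈ Fr.Z₁, ∃ b ∈ Fr.Z₂, g = a * b}
          one_mem' := ⟨1, one_mem _, 1, one_mem _, by rw [mul_one]⟩
          mul_mem' := by
            rintro _ _ ⟨a, ha, b, hb, rfl⟩ ⟨a', ha', b', hb', rfl⟩
            refine ⟨a * a', mul_mem ha ha', b * b', mul_mem hb hb', ?_⟩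
            have := (Fr.commZ a' ha' b hb).eq
            calc a * b * (a' * b') = a * (b * a') * b' := by group
              _ = a * (a' * b) * b' := by rw [this]
              _ = _ := by group
          inv_mem' := by
            rintro _ ⟨a, ha, b, hb, rfl⟩
            refine ⟨a⁻¹, inv_mem ha, b⁻¹, inv_mem hb, ?_⟩
            rw [_root_.mul_inv_rev]
            exact ((Fr.commZ _ (inv_mem ha) _ (inv_mem hb)).eq).symm }
      have h1 : Fr.Z₁ ≤ T := fun a ha => ⟨a, ha, 1, one_mem _, by rw [mul_one]⟩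
      have h2 : Fr.Z₂ ≤ T := fun b hb => ⟨1, one_mem _, b, hb, by rw [one_mul]⟩
      obtain ⟨a, ha, b, hb, rfl⟩ := (sup_le h1 h2) hg
      obtain ⟨u, rfl⟩ := (Fr.mem_Z₁ _).1 ha
      obtain ⟨v, rfl⟩ := (Fr.mem_Z₂ _).1 hb
      exact ⟨u, v, by rw [w_eq]; rfl⟩
    obtain ⟨u, v, huv⟩ := key _ h
    refine ⟨u, v, ?_⟩
    rw [← huv]
    change Fr.ψ₁ (up s) * Fr.ψ₂ (up t) = (Fr.ψ₁ (up s) * Fr.ψ₂ (up t) * (Fr.ψ₁ (up s))⁻¹ * (Fr.ψ₂ (up t))⁻¹) *
      (Fr.ψ₂ (up t) * Fr.ψ₁ (up s))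
    group
  · intro u v h
    have h1 : U Fr.ψ₁ Fr.ψ₂ u ∈ Fr.Z₁ ⊓ Fr.Z₂ := ⟨hZ1 u, h ▸ hZ2 v⟩
    rw [Fr.disj, Subgroup.mem_bot] at h1
    have w2w2 : Fr.ψ₂ (wi F) * Fr.ψ₂ (wi F) = 1 := by rw [← map_mul, wi_wi, map_one]
    have h2 : Fr.ψ₁ (up u) = 1 := by
      have : Fr.ψ₁ (up u) = Fr.ψ₂ (wi F) * (U Fr.ψ₁ Fr.ψ₂ u) * Fr.ψ₂ (wi F) := by
        rw [U]
        calc Fr.ψ₁ (up u) = 1 * Fr.ψ₁ (up u) * 1 := by group
          _ = _ := by rw [← w2w2]; group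
      rw [this, h1, mul_one, w2w2]
    rw [← map_one Fr.ψ₁] at h2
    have h3 := congrArg (fun A : SpecialLinearGroup (Fin 2) F => A.1 0 1) (Fr.inj₁ h2)
    simpa [up] using h3
  · intro r s hr hs
    have := Fr.tori (Units.mk0 r hr) (Units.mk0 s hs)
    rwa [d_eq, d_eq] at this
  · intro s hs t
    have := Fr.tor₁ (Units.mk0 s hs) t
    rw [d_eq] at this
    exact this
  · intro s hs t
    have := Fr.tor₂ (Units.mk0 s hs) t
    rw [d_eq] at this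
    exact this
  · rw [w_eq] at hb
    exact hb

/-- **Recognition of `PSp₄(F)`**, characteristic two: frame version. -/
theorem nonempty_psp [CharP F 2] [Finite F] (hF : 3 ≤ Nat.card F) [IsSimpleGroup G]
    (Fr : Cfsg.Agent.ClassTwo.Sp4Defs.Frame F G)
    (hb : Commute (Fr.ψ₂ (Cfsg.Agent.ClassTwo.Sp4Defs.w F))
      (Fr.ψ₁ (Cfsg.Agent.ClassTwo.Sp4Defs.w F) * Fr.ψ₂ (Cfsg.Agent.ClassTwo.Sp4Defs.w F) *
        Fr.ψ₁ (Cfsg.Agent.ClassTwo.Sp4Defs.w F)))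
    (hgen : ∀ Q : Subgroup G, (∀ g, Fr.ψ₁ g ∈ Q) → (∀ g, Fr.ψ₂ g ∈ Q) → Q = ⊤) :
    Nonempty (G ≃* Cfsg.PSp 2 F) := by
  have D := pre_of_frame Fr hb
  have L := D.toLocal
  have := Fintype.ofFinite F
  have hZ2 : ∀ t, V Fr.ψ₁ Fr.ψ₂ t ∈ Fr.Z₂ := fun t => (Fr.mem_Z₂ _).2 ⟨t, by rw [w_eq]; rfl⟩
  have hmem : ∀ z ∈ Fr.Z₂, ∃ t, z = V Fr.ψ₁ Fr.ψ₂ t := fun z hz => by
    obtain ⟨t, rfl⟩ := (Fr.mem_Z₂ _).1 hz
    exact ⟨t, by rw [w_eq]; rfl⟩
  have hna : ∃ a b : G, a * b ≠ b * a := by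
    by_contra hcon
    push Not at hcon
    exact one_ne_zero (Pre.not_comm (t := (1 : F)) D.inj₁ (hcon _ _))
  have w1w1 : Fr.ψ₁ (wi F) * Fr.ψ₁ (wi F) = 1 := by rw [← map_mul, wi_wi, map_one]
  -- elements normalising `Z₂`
  have hnorm : ∀ g, (∀ t, g * V Fr.ψ₁ Fr.ψ₂ t * g⁻¹ ∈ Fr.Z₂) → (∀ t, g⁻¹ * V Fr.ψ₁ Fr.ψ₂ t * g ∈ Fr.Z₂) →
      g ∈ Subgroup.normalizer (Fr.Z₂ : Set G) := by
    intro g hg hg'
    rw [Subgroup.mem_normalizer_iff]
    intro z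
    constructor
    · intro hz
      obtain ⟨t, rfl⟩ := hmem z hz
      exact hg t
    · intro hz
      obtain ⟨t, ht⟩ := hmem _ hz
      have := hg' t
      rw [← ht] at this
      have e : g⁻¹ * (g * z * g⁻¹) * g = z := by group
      rwa [e] at this
  have hcomm : ∀ g, (∀ t, Commute g (V Fr.ψ₁ Fr.ψ₂ t)) → g ∈ Subgroup.normalizer (Fr.Z₂ : Set G) := by
    intro g hg
    apply hnorm
    · intro t
      rw [(hg t).eq, mul_inv_cancel_right]
      exact hZ2 t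
    · intro t
      have e := (hg t).eq
      rw [mul_assoc, ← e, inv_mul_cancel_left]
      exact hZ2 t
  have hZab : ∀ a ∈ Fr.Z₂, ∀ b ∈ Fr.Z₂, a * b = b * a := by
    intro a ha b hb
    obtain ⟨t, rfl⟩ := hmem a ha
    obtain ⟨t', rfl⟩ := hmem b hb
    rw [← V_add, ← V_add, add_comm]
  have hdg : ∀ (s : F) (hs : s ≠ 0) (t : F),
      Fr.ψ₁ (dg s hs) * V Fr.ψ₁ Fr.ψ₂ t * (Fr.ψ₁ (dg s hs))⁻¹ ∈ Fr.Z₂ := by
    intro s hs t
    have e1 : (dg s hs * wi F : SpecialLinearGroup (Fin 2) F) = wi F * dg s⁻¹ (inv_ne_zero hs) := dg_wi hs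
    obtain ⟨t', ht'⟩ := D.t1 s⁻¹ (inv_ne_zero hs) t
    have e2 : Fr.ψ₁ (dg s hs) * V Fr.ψ₁ Fr.ψ₂ t * (Fr.ψ₁ (dg s hs))⁻¹ = V Fr.ψ₁ Fr.ψ₂ t' := by
      have e3 : Fr.ψ₁ (dg s hs) * Fr.ψ₁ (wi F) = Fr.ψ₁ (wi F) * Fr.ψ₁ (dg s⁻¹ (inv_ne_zero hs)) := by
        rw [← map_mul, e1, map_mul]
      have e4 : (Fr.ψ₁ (dg s hs))⁻¹ = Fr.ψ₁ (wi F) * (Fr.ψ₁ (dg s⁻¹ (inv_ne_zero hs)))⁻¹ * Fr.ψ₁ (wi F) := by
        have e5 := congrArg (fun g => g⁻¹) e3
        change (Fr.ψ₁ (dg s hs) * Fr.ψ₁ (wi F))⁻¹ = (Fr.ψ₁ (wi F) * Fr.ψ₁ (dg s⁻¹ (inv_ne_zero hs)))⁻¹ at e5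
        have e6 : (Fr.ψ₁ (wi F))⁻¹ = Fr.ψ₁ (wi F) := inv_eq_of_mul_eq_one_left w1w1
        rw [_root_.mul_inv_rev, _root_.mul_inv_rev, e6] at e5
        rw [mul_assoc, ← e5, ← mul_assoc, w1w1, one_mul]
      calc Fr.ψ₁ (dg s hs) * V Fr.ψ₁ Fr.ψ₂ t * (Fr.ψ₁ (dg s hs))⁻¹
          = (Fr.ψ₁ (dg s hs) * Fr.ψ₁ (wi F)) * Fr.ψ₂ (up t) * (Fr.ψ₁ (wi F) * (Fr.ψ₁ (dg s hs))⁻¹) := by
            rw [V]; group
        _ = Fr.ψ₁ (wi F) * (Fr.ψ₁ (dg s⁻¹ (inv_ne_zero hs)) * Fr.ψ₂ (up t) *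
              (Fr.ψ₁ (dg s⁻¹ (inv_ne_zero hs)))⁻¹) * Fr.ψ₁ (wi F) := by
            rw [e3, e4, ← mul_assoc (Fr.ψ₁ (wi F)), ← mul_assoc (Fr.ψ₁ (wi F)), w1w1, one_mul]
            group
        _ = _ := by rw [ht']; rfl
    rw [e2]
    exact hZ2 t'
  refine Local.nonempty_psp (by rwa [← Nat.card_eq_fintype_card]) hna L hgen
    (Subgroup.normalizer (Fr.Z₂ : Set G)) ?_ ?_ ?_ ?_ ?_
  · intro htop
    have hN : (Fr.Z₂).Normal := Subgroup.normalizer_eq_top_iff.1 htop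
    rcases hN.eq_bot_or_eq_top with h | h
    · have h1 := hZ2 1
      rw [h, Subgroup.mem_bot] at h1
      have h2 : Fr.ψ₂ (up 1) = 1 := by
        have : Fr.ψ₂ (up 1) = Fr.ψ₁ (wi F) * (V Fr.ψ₁ Fr.ψ₂ 1) * Fr.ψ₁ (wi F) := by
          rw [V]
          calc Fr.ψ₂ (up 1) = 1 * Fr.ψ₂ (up 1) * 1 := by group
            _ = _ := by rw [← w1w1]; group
        rw [this, h1, mul_one, w1w1]
      rw [← map_one Fr.ψ₂] at h2
      have h3 := congrArg (fun A : SpecialLinearGroup (Fin 2) F => A.1 0 1) (Fr.inj₂ h2)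
      simp [up] at h3
    · obtain ⟨a, b, hab⟩ := hna
      exact hab (hZab a (h ▸ trivial) b (h ▸ trivial))
  · intro A
    exact hcomm _ fun t => L.c2 A (up t)
  · intro t
    exact hcomm _ fun t' => L.c3 t t'
  · intro s hs
    apply hnorm
    · exact hdg s hs
    · intro t
      have e : Fr.ψ₁ (dg s⁻¹ (inv_ne_zero hs)) = (Fr.ψ₁ (dg s hs))⁻¹ := by
        rw [eq_inv_iff_mul_eq_one, ← map_mul]
        have : dg s⁻¹ (inv_ne_zero hs) * dg s hs = (1 : SpecialLinearGroup (Fin 2) F) := by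
          ext i j
          change ((dg s⁻¹ (inv_ne_zero hs)).1 * (dg s hs).1) i j = (1 : Matrix (Fin 2) (Fin 2) F) i j
          fin_cases i <;> fin_cases j <;> simp [dg, Matrix.mul_apply, Fin.sum_univ_two, hs]
        rw [this, map_one]
      have := hdg s⁻¹ (inv_ne_zero hs) t
      rw [e, inv_inv] at this
      exact this
  · intro t
    exact Subgroup.le_normalizer (hZ2 t)

end Cfsg.Agent.Classification.SpFourFrame
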