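import Mathlib

set_option autoImplicit false

/-!
# MacWilliams' four generator theorem: base facts

`A` is a normal abelian subgroup of exponent dividing `4` of a finite `2`-group `G` such that every element of
order dividing `4` of `C_G(A)` lies in `A`.
-/

namespace Cfsg.Agent.Classification.FourGenBase

variable {G : Type*} [Group G]

/-- The standing hypotheses on the subgroup `A`. -/
structure Data (A : Subgroup G) : Prop where
  comm : ∀ a ∈ A, ∀ b ∈ A, a * b = b * a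
  exp4 : ∀ a ∈ A, a ^ 4 = 1
  norm : A.Normal
  alp : ∀ x : G, (∀ a ∈ A, a * x = x * a) → x ^ 4 = 1 → x ∈ A

/-- The subgroup of elements of `A` with trivial square. -/
def omg {A : Subgroup G} (D : Data A) : Subgroup G where
  carrier := {a | a ∈ A ∧ a ^ 2 = 1}
  mul_mem' := by
    rintro a b ⟨ha, ha2⟩ ⟨hb, hb2⟩
    refine ⟨A.mul_mem ha hb, ?_⟩
    have h := D.comm a ha b hb
    calc (a * b) ^ 2 = a * (b * a) * b := by rw [pow_two]; group
      _ = a * (a * b) * b := by rw [h]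
      _ = a ^ 2 * b ^ 2 := by rw [pow_two, pow_two]; group
      _ = 1 := by rw [ha2, hb2, one_mul]
  one_mem' := ⟨A.one_mem, one_pow 2⟩
  inv_mem' := by
    rintro a ⟨ha, ha2⟩
    exact ⟨A.inv_mem ha, by rw [inv_pow, ha2, inv_one]⟩

theorem mem_omg {A : Subgroup G} (D : Data A) {x : G} : x ∈ omg D ↔ x ∈ A ∧ x ^ 2 = 1 := Iff.rfl

theorem omg_le {A : Subgroup G} (D : Data A) : omg D ≤ A := fun _ hx => hx.1

theorem omg_normal {A : Subgroup G} (D : Data A) : (omg D).Normal := by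
  constructor
  rintro x ⟨hx, hx2⟩ g
  refine ⟨D.norm.conj_mem x hx g, ?_⟩
  rw [conj_pow, hx2]; group

/-- The centraliser of `A`, as a predicate-friendly subgroup. -/
def cen {A : Subgroup G} (_ : Data A) : Subgroup G := Subgroup.centralizer (A : Set G)

theorem mem_cen {A : Subgroup G} (D : Data A) {x : G} : x ∈ cen D ↔ ∀ a ∈ A, a * x = x * a :=
  Subgroup.mem_centralizer_iff

/-- The centraliser of `omg D`. -/
def tee {A : Subgroup G} (D : Data A) : Subgroup G := Subgroup.centralizer (omg D : Set G)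

theorem mem_tee {A : Subgroup G} (D : Data A) {x : G} : x ∈ tee D ↔ ∀ a ∈ omg D, a * x = x * a :=
  Subgroup.mem_centralizer_iff

theorem cen_normal {A : Subgroup G} (D : Data A) : (cen D).Normal := by
  have := D.norm
  unfold cen; infer_instance

theorem tee_normal {A : Subgroup G} (D : Data A) : (tee D).Normal := by
  have := omg_normal D
  unfold tee; infer_instance

theorem cen_le_tee {A : Subgroup G} (D : Data A) : cen D ≤ tee D := by
  intro x hx
  rw [mem_tee]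
  intro a ha
  exact (mem_cen D).1 hx a ha.1

theorem le_cen {A : Subgroup G} (D : Data A) : A ≤ cen D := by
  intro x hx
  rw [mem_cen]
  intro a ha
  exact D.comm a ha x hx

theorem mem_A {A : Subgroup G} (D : Data A) {x : G} (hx : x ∈ cen D) (h4 : x ^ 4 = 1) : x ∈ A :=
  D.alp x ((mem_cen D).1 hx) h4

theorem mem_omg_of_sq {A : Subgroup G} (D : Data A) {x : G} (hx : x ∈ cen D) (h2 : x ^ 2 = 1) :
    x ∈ omg D :=
  ⟨mem_A D hx (by rw [show (4 : ℕ) = 2 * 2 from rfl, pow_mul, h2, one_pow]), h2⟩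

theorem sq_mem_omg {A : Subgroup G} (D : Data A) {a : G} (ha : a ∈ A) : a ^ 2 ∈ omg D :=
  ⟨A.pow_mem ha 2, by rw [← pow_mul]; exact D.exp4 a ha⟩

/-- A noninvolution of `C_G(A)` has a power of order four, lying in `A`. -/
theorem exists_pow {A : Subgroup G} (D : Data A) (hG : IsPGroup 2 G) {u : G}
    (hu : u ∈ cen D) (hu2 : u ^ 2 ≠ 1) : ∃ n : ℕ, u ^ n ∈ A ∧ (u ^ n) ^ 2 ≠ 1 := by
  obtain ⟨m, hm⟩ := IsPGroup.iff_orderOf.1 hG u
  have h2 : 2 ≤ m := by
    by_contra hlt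
    apply hu2
    rw [← orderOf_dvd_iff_pow_eq_one, hm]
    calc 2 ^ m ∣ 2 ^ 1 := Nat.pow_dvd_pow 2 (by omega)
      _ = 2 := pow_one 2
  obtain ⟨l, rfl⟩ : ∃ l, m = l + 2 := ⟨m - 2, by omega⟩
  refine ⟨2 ^ l, mem_A D ((cen D).pow_mem hu _) ?_, ?_⟩
  · rw [← pow_mul, show 2 ^ l * 4 = 2 ^ (l + 2) by rw [pow_add]; norm_num, ← hm]
    exact pow_orderOf_eq_one u
  · intro h
    rw [← pow_mul, ← orderOf_dvd_iff_pow_eq_one, hm, show 2 ^ l * 2 = 2 ^ (l + 1) by rw [pow_succ]] at h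
    have := (Nat.pow_dvd_pow_iff_le_right (by norm_num : 1 < 2)).1 h
    omega

theorem conj_pow_of_inv {x u : G} (h : x * u * x⁻¹ = u⁻¹) (n : ℕ) : x * u ^ n * x⁻¹ = (u ^ n)⁻¹ := by
  rw [← conj_pow, h, inv_pow]

/-- If `x` inverts `u ∈ C_G(A)` and `u` is not an involution, `x` inverts an element of order four of `A`
which is a power of `u`. -/
theorem exists_pow_inverted {A : Subgroup G} (D : Data A) (hG : IsPGroup 2 G) {x u : G}
    (hu : u ∈ cen D) (hinv : x * u * x⁻¹ = u⁻¹) (hu2 : u ^ 2 ≠ 1) :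
    ∃ n : ℕ, u ^ n ∈ A ∧ (u ^ n) ^ 2 ≠ 1 ∧ x * u ^ n * x⁻¹ = (u ^ n)⁻¹ := by
  obtain ⟨n, h1, h2⟩ := exists_pow D hG hu hu2
  exact ⟨n, h1, h2, conj_pow_of_inv hinv n⟩

/-- No element of `C_G(A)` inverts an element of order at least four of `C_G(A)`. -/
theorem sq_eq_one_of_inverted {A : Subgroup G} (D : Data A) (hG : IsPGroup 2 G) {x u : G}
    (hx : x ∈ cen D) (hu : u ∈ cen D) (hinv : x * u * x⁻¹ = u⁻¹) : u ^ 2 = 1 := by
  by_contra hu2
  obtain ⟨n, h1, h2, h3⟩ := exists_pow_inverted D hG hu hinv hu2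
  apply h2
  have h4 := (mem_cen D).1 hx _ h1
  rw [← h4, mul_inv_cancel_right] at h3
  rw [pow_two]
  nth_rewrite 1 [h3]
  exact inv_mul_cancel _

/-- Squaring is injective modulo `omg D` on `C_G(A)`. -/
theorem mul_inv_mem_omg {A : Subgroup G} (D : Data A) (hG : IsPGroup 2 G) {k l : G}
    (hk : k ∈ cen D) (hl : l ∈ cen D) (h : k ^ 2 = l ^ 2) : k * l⁻¹ ∈ omg D := by
  have hkl := (cen D).mul_mem hk ((cen D).inv_mem hl)
  refine mem_omg_of_sq D hkl (sq_eq_one_of_inverted D hG hk hkl ?_)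
  have : k * (k * l⁻¹) * k⁻¹ = k ^ 2 * l⁻¹ * k⁻¹ := by rw [pow_two]; group
  rw [this, h]; group

/-- An element whose square is the square of an element of `C_G(A)`. -/
theorem sq_mem_omg_of_sq_eq {A : Subgroup G} (D : Data A) (hG : IsPGroup 2 G) {x k : G}
    (hk : k ∈ cen D) (h : x ^ 2 = k ^ 2) (hx : (x * k⁻¹) ^ 2 ∈ cen D) : (x * k⁻¹) ^ 2 ∈ omg D := by
  refine mem_omg_of_sq D hx (sq_eq_one_of_inverted D hG hk hx ?_)
  have h1 : k * (x * k⁻¹) * k⁻¹ = (x * k⁻¹)⁻¹ := by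
    have : k * (x * k⁻¹) * k⁻¹ = (k * x⁻¹) * (x ^ 2) * (k ^ 2)⁻¹ := by rw [pow_two, pow_two]; group
    rw [this, h]; group
  rw [conj_pow_of_inv h1 2]

/-- The set of squares of elements of a subgroup. -/
def sqSet (K : Subgroup G) : Set G := {y | ∃ k ∈ K, k ^ 2 = y}

theorem card_le_sqSet [Finite G] {A : Subgroup G} (D : Data A) (hG : IsPGroup 2 G) {K : Subgroup G}
    (hK : K ≤ cen D) : Nat.card K ≤ (sqSet K).ncard * Nat.card (omg D) := by
  classical
  choose r hr using fun y : sqSet K => y.2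
  let f : K → sqSet K × omg D := fun k =>
    (⟨k.1 ^ 2, k.1, k.2, rfl⟩, ⟨k.1 * (r ⟨k.1 ^ 2, k.1, k.2, rfl⟩)⁻¹,
      mul_inv_mem_omg D hG (hK k.2) (hK (hr ⟨k.1 ^ 2, k.1, k.2, rfl⟩).1)
        (hr ⟨k.1 ^ 2, k.1, k.2, rfl⟩).2.symm⟩)
  have hf : Function.Injective f := by
    intro k l hkl
    have h1 : (⟨k.1 ^ 2, k.1, k.2, rfl⟩ : sqSet K) = ⟨l.1 ^ 2, l.1, l.2, rfl⟩ := congrArg Prod.fst hkl
    have h2 : k.1 * (r ⟨k.1 ^ 2, k.1, k.2, rfl⟩)⁻¹ = l.1 * (r ⟨l.1 ^ 2, l.1, l.2, rfl⟩)⁻¹ :=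
      congrArg (fun z => (Prod.snd z).1) hkl
    rw [h1] at h2
    exact Subtype.ext (mul_right_cancel h2)
  have := Nat.card_le_card_of_injective f hf
  rwa [Nat.card_prod, Nat.card_coe_set_eq] at this

/-- For a subgroup `K` of `C_G(A)` and a subgroup `R` containing the squares of the elements of `K`. -/
theorem card_le_mul [Finite G] {A : Subgroup G} (D : Data A) (hG : IsPGroup 2 G) {K R : Subgroup G}
    (hK : K ≤ cen D) (hR : ∀ k ∈ K, k ^ 2 ∈ R) : Nat.card K ≤ Nat.card R * Nat.card (omg D) := by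
  refine (card_le_sqSet D hG hK).trans (Nat.mul_le_mul_right _ ?_)
  have : sqSet K ⊆ (R : Set G) := by
    rintro y ⟨k, hk, rfl⟩
    exact hR k hk
  calc (sqSet K).ncard ≤ (R : Set G).ncard := Set.ncard_le_ncard this (Set.toFinite _)
    _ = Nat.card R := (Nat.card_coe_set_eq _).symm

/-- The equality case of `card_le_mul`. -/
theorem exists_sq_of_card [Finite G] {A : Subgroup G} (D : Data A) (hG : IsPGroup 2 G) {K R : Subgroup G}
    (hK : K ≤ cen D) (hR : ∀ k ∈ K, k ^ 2 ∈ R) (hW : Nat.card (omg D) ≤ 4)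
    (h4 : 4 * Nat.card R ≤ Nat.card K) : ∀ y ∈ R, ∃ k ∈ K, k ^ 2 = y := by
  have hsub : sqSet K ⊆ (R : Set G) := by
    rintro y ⟨k, hk, rfl⟩
    exact hR k hk
  have h1 := card_le_sqSet D hG hK
  have h2 : (sqSet K).ncard * Nat.card (omg D) ≤ (sqSet K).ncard * 4 := Nat.mul_le_mul_left _ hW
  have h3 : (R : Set G).ncard = Nat.card R := (Nat.card_coe_set_eq _).symm
  have h4' : sqSet K = (R : Set G) :=
    Set.eq_of_subset_of_ncard_le hsub (by omega) (Set.toFinite _)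
  intro y hy
  have : y ∈ sqSet K := by rw [h4']; exact hy
  exact this

end Cfsg.Agent.Classification.FourGenBase
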