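import Mathlib
import Cfsg.Agent.Classification.FourGenBase

set_option autoImplicit false

/-!
# MacWilliams' four generator theorem: coordinates

Coordinates for the action of `tee D` on `A` when `A` is homocyclic of type `(4, 4)`.
-/

namespace Cfsg.Agent.Classification.FourGenCoord

open Cfsg.Agent.Classification.FourGenBase

variable {G : Type*} [Group G]

abbrev V2 := ZMod 2 × ZMod 2
abbrev Q4 := V2 × V2

/-- The action of a pair of columns on a vector. -/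
def act (m : Q4) (v : V2) : V2 := (v.1 * m.1.1 + v.2 * m.2.1, v.1 * m.1.2 + v.2 * m.2.2)

theorem act_add (m m' : Q4) (v : V2) : act (m + m') v = act m v + act m' v := by
  refine Prod.ext ?_ ?_
  · simp only [act, Prod.fst_add, Prod.snd_add]; ring
  · simp only [act, Prod.fst_add, Prod.snd_add]; ring

theorem act_zero (v : V2) : act 0 v = 0 := by
  refine Prod.ext ?_ ?_ <;> simp [act]

/-- `m` has no nonzero fixed vector. -/
def NoFix (m : Q4) : Prop := ∀ v, act m v = v → v = 0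

/-- `m` is invertible. -/
def Inv (m : Q4) : Prop := ∀ v, act m v = 0 → v = 0

instance (m : Q4) : Decidable (NoFix m) := by unfold NoFix; infer_instance
instance (m : Q4) : Decidable (Inv m) := by unfold Inv; infer_instance

theorem surj_of_noFix : ∀ m : Q4, NoFix m → ∀ p : V2, ∃ v, v + act m v = p := by
  decide

theorem v2_add_self (p : V2) : p + p = 0 := by revert p; decide

theorem q4_add_self (p : Q4) : p + p = 0 := by revert p; decide

/-- A basis adapted to `A`. -/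
structure Basis {A : Subgroup G} (D : Data A) (w₁ w₂ a₁ a₂ : G) : Prop where
  ha₁ : a₁ ∈ A
  ha₂ : a₂ ∈ A
  hw₁ : a₁ ^ 2 = w₁
  hw₂ : a₂ ^ 2 = w₂
  ne₁ : w₁ ≠ 1
  ne₂ : w₂ ≠ 1
  ne : w₁ ≠ w₂
  cover : ∀ w ∈ omg D, w = 1 ∨ w = w₁ ∨ w = w₂ ∨ w = w₁ * w₂

section

variable {A : Subgroup G} {D : Data A} {w₁ w₂ a₁ a₂ : G} (B : Basis D w₁ w₂ a₁ a₂)

theorem pow_val_add {w : G} (hw : w ^ 2 = 1) (i j : ZMod 2) :
    w ^ (i + j).val = w ^ i.val * w ^ j.val := by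
  revert i j
  have h : ∀ i j : ZMod 2, (i + j).val = i.val + j.val ∨ ((i + j).val = 0 ∧ i.val + j.val = 2) := by decide
  intro i j
  rcases h i j with h | ⟨h1, h2⟩
  · rw [h, pow_add]
  · rw [← pow_add, h1, h2, hw, pow_zero]

include B

theorem w₁_mem : w₁ ∈ omg D := B.hw₁ ▸ sq_mem_omg D B.ha₁
theorem w₂_mem : w₂ ∈ omg D := B.hw₂ ▸ sq_mem_omg D B.ha₂

theorem w_comm : Commute w₁ w₂ := D.comm _ (w₁_mem B).1 _ (w₂_mem B).1

omit B in
/-- The element of `omg D` with given coordinates. -/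
def e (_ : Basis D w₁ w₂ a₁ a₂) (p : V2) : G := w₁ ^ p.1.val * w₂ ^ p.2.val

theorem e_add (p q : V2) : e B (p + q) = e B p * e B q := by
  unfold e
  rw [Prod.fst_add, Prod.snd_add, pow_val_add (w₁_mem B).2, pow_val_add (w₂_mem B).2]
  have h : w₁ ^ q.1.val * w₂ ^ p.2.val = w₂ ^ p.2.val * w₁ ^ q.1.val :=
    ((w_comm B).pow_pow _ _).eq
  calc w₁ ^ p.1.val * w₁ ^ q.1.val * (w₂ ^ p.2.val * w₂ ^ q.2.val)
      = w₁ ^ p.1.val * (w₁ ^ q.1.val * w₂ ^ p.2.val) * w₂ ^ q.2.val := by group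
    _ = w₁ ^ p.1.val * (w₂ ^ p.2.val * w₁ ^ q.1.val) * w₂ ^ q.2.val := by rw [h]
    _ = w₁ ^ p.1.val * w₂ ^ p.2.val * (w₁ ^ q.1.val * w₂ ^ q.2.val) := by group

theorem e_zero : e B 0 = 1 := by
  simp [e]

theorem e_mem (p : V2) : e B p ∈ omg D :=
  (omg D).mul_mem ((omg D).pow_mem (w₁_mem B) _) ((omg D).pow_mem (w₂_mem B) _)

theorem e_eq_one {p : V2} (h : e B p = 1) : p = 0 := by
  have h1 := B.ne₁
  have h2 := B.ne₂
  have h3 := B.ne
  have hw2 : w₂⁻¹ = w₂ := by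
    rw [inv_eq_iff_mul_eq_one, ← pow_two]; exact (w₂_mem B).2
  have key : ∀ i j : ZMod 2, w₁ ^ i.val * w₂ ^ j.val = 1 → i = 0 ∧ j = 0 := by
    intro i j
    have hi : i = 0 ∨ i = 1 := by revert i; decide
    have hj : j = 0 ∨ j = 1 := by revert j; decide
    have v1 : (1 : ZMod 2).val = 1 := rfl
    rcases hi with rfl | rfl <;> rcases hj with rfl | rfl
    · simp
    · rw [ZMod.val_zero, v1, pow_zero, one_mul, pow_one]; intro h; exact absurd h h2
    · rw [ZMod.val_zero, v1, pow_zero, mul_one, pow_one]; intro h; exact absurd h h1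
    · rw [v1, pow_one, pow_one]; intro h
      exact absurd ((eq_inv_of_mul_eq_one_left h).trans hw2) h3
  obtain ⟨h4, h5⟩ := key p.1 p.2 h
  exact Prod.ext h4 h5

theorem e_inj {p q : V2} (h : e B p = e B q) : p = q := by
  have h1 : e B (p + q) = 1 := by
    rw [e_add, h, ← e_add, v2_add_self, e_zero]
  have h2 := e_eq_one B h1
  have h3 : p + q + q = q := by rw [h2, zero_add]
  rwa [add_assoc, v2_add_self, add_zero] at h3

theorem e_surj {w : G} (hw : w ∈ omg D) : ∃ p, e B p = w := by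
  have v1 : (1 : ZMod 2).val = 1 := rfl
  rcases B.cover w hw with h | h | h | h
  · exact ⟨(0, 0), by simp [e, h]⟩
  · exact ⟨(1, 0), by simp [e, h, v1]⟩
  · exact ⟨(0, 1), by simp [e, h, v1]⟩
  · exact ⟨(1, 1), by simp [e, h, v1]⟩

omit B in
/-- Coordinates of an element of `omg D`. -/
noncomputable def dlog (B : Basis D w₁ w₂ a₁ a₂) (w : G) : V2 := Function.invFun (e B) w

theorem dlog_e (p : V2) : dlog B (e B p) = p :=
  Function.leftInverse_invFun (fun _ _ h => e_inj B h) p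

theorem e_dlog {w : G} (hw : w ∈ omg D) : e B (dlog B w) = w := by
  obtain ⟨p, rfl⟩ := e_surj B hw
  rw [dlog_e]

theorem dlog_one : dlog B 1 = 0 := by rw [← e_zero B, dlog_e]

omit B in
/-- Coordinates of an element of `A` modulo `omg D`. -/
noncomputable def vv (B : Basis D w₁ w₂ a₁ a₂) (a : G) : V2 := dlog B (a ^ 2)

theorem e_vv {a : G} (ha : a ∈ A) : e B (vv B a) = a ^ 2 := e_dlog B (sq_mem_omg D ha)

theorem exists_vv (v : V2) : ∃ a ∈ A, vv B a = v := by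
  refine ⟨a₁ ^ v.1.val * a₂ ^ v.2.val, A.mul_mem (A.pow_mem B.ha₁ _) (A.pow_mem B.ha₂ _), ?_⟩
  have h : (a₁ ^ v.1.val * a₂ ^ v.2.val) ^ 2 = e B v := by
    have hc : Commute a₁ a₂ := D.comm _ B.ha₁ _ B.ha₂
    rw [(hc.pow_pow _ _).mul_pow, ← pow_mul, ← pow_mul, mul_comm _ 2, mul_comm _ 2, pow_mul, pow_mul,
      B.hw₁, B.hw₂]
    rfl
  rw [vv, h, dlog_e]

omit B in
/-- The commutator with an element of `tee D`. -/
theorem delta_mem {x a : G} (hx : x ∈ tee D) (ha : a ∈ A) : x * a * x⁻¹ * a⁻¹ ∈ omg D := by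
  have h1 : x * a * x⁻¹ ∈ A := D.norm.conj_mem a ha x
  refine ⟨A.mul_mem h1 (A.inv_mem ha), ?_⟩
  have hc : Commute (x * a * x⁻¹) a⁻¹ := D.comm _ h1 _ (A.inv_mem ha)
  rw [hc.mul_pow, conj_pow]
  have h2 := (mem_tee D).1 hx _ (sq_mem_omg D ha)
  rw [← h2]; group

omit B in
theorem delta_mul {x a b : G} (hx : x ∈ tee D) (ha : a ∈ A) (hb : b ∈ A) :
    x * (a * b) * x⁻¹ * (a * b)⁻¹ = (x * a * x⁻¹ * a⁻¹) * (x * b * x⁻¹ * b⁻¹) := by
  have h := D.comm _ (delta_mem hx hb).1 _ (A.inv_mem ha)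
  calc x * (a * b) * x⁻¹ * (a * b)⁻¹ = (x * a * x⁻¹) * ((x * b * x⁻¹ * b⁻¹) * a⁻¹) := by group
    _ = (x * a * x⁻¹) * (a⁻¹ * (x * b * x⁻¹ * b⁻¹)) := by rw [h]
    _ = _ := by group

omit B in
theorem delta_mul' {x y a : G} (hx : x ∈ tee D) (hy : y ∈ tee D) (ha : a ∈ A) :
    (x * y) * a * (x * y)⁻¹ * a⁻¹ = (x * a * x⁻¹ * a⁻¹) * (y * a * y⁻¹ * a⁻¹) := by
  have h1 := delta_mem hy ha
  have h2 := (mem_tee D).1 hx _ h1
  have h3 := D.comm _ h1.1 _ (delta_mem hx ha).1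
  calc (x * y) * a * (x * y)⁻¹ * a⁻¹ = (x * (y * a * y⁻¹ * a⁻¹)) * a * x⁻¹ * a⁻¹ := by group
    _ = ((y * a * y⁻¹ * a⁻¹) * x) * a * x⁻¹ * a⁻¹ := by rw [h2]
    _ = (y * a * y⁻¹ * a⁻¹) * (x * a * x⁻¹ * a⁻¹) := by group
    _ = _ := h3

omit B in
/-- The coordinates of the action of an element of `tee D` on `A`. -/
noncomputable def mu (B : Basis D w₁ w₂ a₁ a₂) (x : G) : Q4 :=
  (dlog B (x * a₁ * x⁻¹ * a₁⁻¹), dlog B (x * a₂ * x⁻¹ * a₂⁻¹))

theorem e_mu₁ {x : G} (hx : x ∈ tee D) : e B (mu B x).1 = x * a₁ * x⁻¹ * a₁⁻¹ :=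
  e_dlog B (delta_mem hx B.ha₁)

theorem e_mu₂ {x : G} (hx : x ∈ tee D) : e B (mu B x).2 = x * a₂ * x⁻¹ * a₂⁻¹ :=
  e_dlog B (delta_mem hx B.ha₂)

theorem mu_mul {x y : G} (hx : x ∈ tee D) (hy : y ∈ tee D) : mu B (x * y) = mu B x + mu B y := by
  have hxy := (tee D).mul_mem hx hy
  refine Prod.ext ?_ ?_
  · apply e_inj B
    rw [Prod.fst_add, e_add, e_mu₁ B hxy, e_mu₁ B hx, e_mu₁ B hy]
    exact delta_mul' hx hy B.ha₁
  · apply e_inj B
    rw [Prod.snd_add, e_add, e_mu₂ B hxy, e_mu₂ B hx, e_mu₂ B hy]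
    exact delta_mul' hx hy B.ha₂

/-- The main formula: `x a x⁻¹ = e (M_x v) a`. -/
theorem conj_eq {x a : G} (hx : x ∈ tee D) (ha : a ∈ A) :
    x * a * x⁻¹ * a⁻¹ = e B (act (mu B x) (vv B a)) := by
  obtain ⟨b, hb, hvb, hbe⟩ : ∃ b ∈ A, vv B b = vv B a ∧
      x * b * x⁻¹ * b⁻¹ = e B (act (mu B x) (vv B a)) := by
    have key : ∀ i j : ZMod 2, ∃ b ∈ A, vv B b = (i, j) ∧
        x * b * x⁻¹ * b⁻¹ = e B (act (mu B x) (i, j)) := by
      intro i j
      have v1 : vv B a₁ = (1, 0) := by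
        apply e_inj B
        rw [e_vv B B.ha₁, B.hw₁]
        simp [e, show (1 : ZMod 2).val = 1 from rfl]
      have v2 : vv B a₂ = (0, 1) := by
        apply e_inj B
        rw [e_vv B B.ha₂, B.hw₂]
        simp [e, show (1 : ZMod 2).val = 1 from rfl]
      have h1 : act (mu B x) (1, 0) = (mu B x).1 := by simp [act]
      have h2 : act (mu B x) (0, 1) = (mu B x).2 := by simp [act]
      have h3 : act (mu B x) (1, 1) = (mu B x).1 + (mu B x).2 := by
        refine Prod.ext ?_ ?_ <;> simp [act]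
      have hi : i = 0 ∨ i = 1 := by revert i; decide
      have hj : j = 0 ∨ j = 1 := by revert j; decide
      rcases hi with rfl | rfl <;> rcases hj with rfl | rfl
      · refine ⟨1, A.one_mem, ?_, ?_⟩
        · rw [vv, one_pow, dlog_one]; rfl
        · rw [show act (mu B x) (0, 0) = 0 by simp [act], e_zero]; group
      · exact ⟨a₂, B.ha₂, v2, by rw [h2, e_mu₂ B hx]⟩
      · exact ⟨a₁, B.ha₁, v1, by rw [h1, e_mu₁ B hx]⟩
      · refine ⟨a₁ * a₂, A.mul_mem B.ha₁ B.ha₂, ?_, ?_⟩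
        · apply e_inj B
          rw [e_vv B (A.mul_mem B.ha₁ B.ha₂)]
          have hc : Commute a₁ a₂ := D.comm _ B.ha₁ _ B.ha₂
          rw [hc.mul_pow, B.hw₁, B.hw₂]
          simp [e, show (1 : ZMod 2).val = 1 from rfl]
        · rw [h3, e_add, e_mu₁ B hx, e_mu₂ B hx, delta_mul hx B.ha₁ B.ha₂]
    obtain ⟨b, hb, h1, h2⟩ := key (vv B a).1 (vv B a).2
    exact ⟨b, hb, h1, h2⟩
  have hsq : b ^ 2 = a ^ 2 := by rw [← e_vv B hb, ← e_vv B ha, hvb]
  have hbi := A.inv_mem hb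
  have hba : b⁻¹ * a ∈ omg D := by
    refine ⟨A.mul_mem hbi ha, ?_⟩
    have hc : Commute b⁻¹ a := D.comm _ hbi _ ha
    rw [hc.mul_pow, inv_pow, hsq, inv_mul_cancel]
  have h1 : a = b * (b⁻¹ * a) := by group
  have h2 : x * (b⁻¹ * a) * x⁻¹ * (b⁻¹ * a)⁻¹ = 1 := by
    have h3 := (mem_tee D).1 hx _ hba
    rw [← h3]; group
  rw [h1, delta_mul hx hb hba.1, h2, mul_one, ← h1, hbe]

theorem mu_eq_zero {x : G} (hx : x ∈ tee D) (h : mu B x = 0) : x ∈ cen D := by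
  rw [mem_cen]
  intro a ha
  have h1 := conj_eq B hx ha
  rw [h, act_zero, e_zero, mul_inv_eq_one] at h1
  rw [mul_inv_eq_iff_eq_mul] at h1
  exact h1.symm

theorem mu_of_cen {x : G} (hx : x ∈ cen D) : mu B x = 0 := by
  have h1 : x * a₁ * x⁻¹ * a₁⁻¹ = 1 := by
    rw [← (mem_cen D).1 hx _ B.ha₁]; group
  have h2 : x * a₂ * x⁻¹ * a₂⁻¹ = 1 := by
    rw [← (mem_cen D).1 hx _ B.ha₂]; group
  unfold mu
  rw [h1, h2, dlog_one]; rfl

theorem mu_sq {x : G} (hx : x ∈ tee D) : mu B (x ^ 2) = 0 := by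
  rw [pow_two, mu_mul B hx hx, q4_add_self]

theorem sq_mem_cen {x : G} (hx : x ∈ tee D) : x ^ 2 ∈ cen D :=
  mu_eq_zero B ((tee D).pow_mem hx 2) (mu_sq B hx)

/-- If `x` commutes with an element of order four of `A`. -/
theorem act_eq_zero_of_comm {x a : G} (hx : x ∈ tee D) (ha : a ∈ A) (h : x * a * x⁻¹ = a) :
    act (mu B x) (vv B a) = 0 := by
  apply e_eq_one B
  rw [← conj_eq B hx ha, h, mul_inv_cancel]

/-- If `x` inverts an element of order four of `A`. -/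
theorem act_eq_self_of_inv {x a : G} (hx : x ∈ tee D) (ha : a ∈ A) (h : x * a * x⁻¹ = a⁻¹) :
    act (mu B x) (vv B a) = vv B a := by
  apply e_inj B
  rw [← conj_eq B hx ha, h, e_vv B ha]
  have := D.exp4 a ha
  rw [← mul_inv_rev, inv_eq_iff_mul_eq_one, ← pow_two, ← pow_add]
  exact this

theorem sq_eq_one_of_vv {a : G} (ha : a ∈ A) (h : vv B a = 0) : a ^ 2 = 1 := by
  rw [← e_vv B ha, h, e_zero]

/-- If `mu x` is invertible, `x ^ 2 ∈ omg D`. -/
theorem sq_mem_of_inv (hG : IsPGroup 2 G) {x : G} (hx : x ∈ tee D) (h : Inv (mu B x)) :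
    x ^ 2 ∈ omg D := by
  have hc := sq_mem_cen B hx
  refine mem_omg_of_sq D hc ?_
  by_contra h2
  obtain ⟨n, h3, h4⟩ := exists_pow D hG hc h2
  apply h4
  apply sq_eq_one_of_vv B h3
  apply h
  apply act_eq_zero_of_comm B hx h3
  have : Commute x ((x ^ 2) ^ n) := (Commute.refl x).pow_right 2 |>.pow_right n
  rw [this.eq, mul_inv_cancel_right]

/-- If `mu x` has no nonzero fixed vector, `x` inverts only elements of `omg D` in `cen D`. -/
theorem sq_eq_one_of_noFix (hG : IsPGroup 2 G) {x u : G} (hx : x ∈ tee D) (h : NoFix (mu B x))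
    (hu : u ∈ cen D) (hinv : x * u * x⁻¹ = u⁻¹) : u ^ 2 = 1 := by
  by_contra h2
  obtain ⟨n, h3, h4, h5⟩ := exists_pow_inverted D hG hu hinv h2
  apply h4
  apply sq_eq_one_of_vv B h3
  apply h
  exact act_eq_self_of_inv B hx h3 h5

end

end Cfsg.Agent.Classification.FourGenCoord
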