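import Mathlib
import Cfsg.Agent.Classification.FourGenCoord

set_option autoImplicit false

/-!
# MacWilliams' four generator theorem: the key lemma
-/

namespace Cfsg.Agent.Classification.FourGenKey

open Cfsg.Agent.Classification.FourGenBase Cfsg.Agent.Classification.FourGenCoord

variable {G : Type*} [Group G]

/-- No normal elementary abelian subgroup of order greater than four. -/
def NoE8 (G : Type*) [Group G] : Prop :=
  ∀ E : Subgroup G, E.Normal → (∀ a ∈ E, ∀ b ∈ E, a * b = b * a) → (∀ a ∈ E, a ^ 2 = 1) → Nat.card E ≤ 4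

variable {A : Subgroup G} {D : Data A} {w₁ w₂ a₁ a₂ : G} (B : Basis D w₁ w₂ a₁ a₂)

/-- The subgroup `W ⟨u⟩` for an involution `u` centralising `W = omg D`. -/
def wu (D : Data A) {u : G} (hu : u ∈ tee D) (hu2 : u ^ 2 = 1) : Subgroup G where
  carrier := {x | x ∈ omg D ∨ x * u ∈ omg D}
  mul_mem' := by
    rintro x y hx hy
    have hc : ∀ w ∈ omg D, w * u = u * w := (mem_tee D).1 hu
    rcases hx with hx | hx <;> rcases hy with hy | hy
    · exact Or.inl ((omg D).mul_mem hx hy)
    · refine Or.inr ?_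
      rw [mul_assoc]; exact (omg D).mul_mem hx hy
    · refine Or.inr ?_
      rw [mul_assoc, hc y hy, ← mul_assoc]; exact (omg D).mul_mem hx hy
    · refine Or.inl ?_
      have h := (omg D).mul_mem hx hy
      have h1 : x * y = (x * u) * (y * u) := by
        calc x * y = x * y * u ^ 2 := by rw [hu2, mul_one]
          _ = x * ((y * u) * u) := by rw [pow_two]; group
          _ = x * (u * (y * u)) := by rw [hc _ hy]
          _ = (x * u) * (y * u) := by group
      rw [h1]; exact h
  one_mem' := Or.inl (omg D).one_mem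
  inv_mem' := by
    rintro x hx
    have hc : ∀ w ∈ omg D, w * u = u * w := (mem_tee D).1 hu
    have hui : u⁻¹ = u := by rw [inv_eq_iff_mul_eq_one, ← pow_two]; exact hu2
    rcases hx with hx | hx
    · exact Or.inl ((omg D).inv_mem hx)
    · refine Or.inr ?_
      have h := (omg D).inv_mem hx
      have h1 : (x * u)⁻¹ = x⁻¹ * u := by
        have h2 : (x * u)⁻¹ * u = u * (x * u)⁻¹ := hc _ h
        have h3 : (x * u)⁻¹ = u * x⁻¹ := by rw [mul_inv_rev, hui]
        calc (x * u)⁻¹ = u⁻¹ * (u * (x * u)⁻¹) := by group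
          _ = u⁻¹ * ((x * u)⁻¹ * u) := by rw [h2]
          _ = u⁻¹ * (u * x⁻¹ * u) := by rw [h3]
          _ = x⁻¹ * u := by group
      rwa [← h1]

theorem mem_wu (D : Data A) {u : G} (hu : u ∈ tee D) (hu2 : u ^ 2 = 1) {x : G} :
    x ∈ wu D hu hu2 ↔ x ∈ omg D ∨ x * u ∈ omg D := Iff.rfl

/-- An involution `u` of `tee D` outside `cen D` with `W ⟨u⟩` normal contradicts `NoE8`. -/
theorem false_of_normal [Finite G] (hE : NoE8 G) (h4 : Nat.card (omg D) = 4) {u : G} (hu : u ∈ tee D)
    (hu2 : u ^ 2 = 1) (huW : u ∉ omg D) (hn : ∀ g : G, g * u * g⁻¹ * u⁻¹ ∈ omg D) : False := by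
  have hc : ∀ w ∈ omg D, w * u = u * w := (mem_tee D).1 hu
  have hui : u⁻¹ = u := by rw [inv_eq_iff_mul_eq_one, ← pow_two]; exact hu2
  have hWn := omg_normal D
  set E := wu D hu hu2 with hEdef
  have hrep : ∀ x ∈ E, ∃ w ∈ omg D, x = w ∨ x = w * u := by
    intro x hx
    rcases hx with hx | hx
    · exact ⟨x, hx, Or.inl rfl⟩
    · refine ⟨x * u, hx, Or.inr ?_⟩
      rw [mul_assoc, ← pow_two, hu2, mul_one]
  have hwc : ∀ v ∈ omg D, ∀ w ∈ omg D, v * w = w * v := fun v hv w hw => D.comm v hv.1 w hw.1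
  have hnE : E.Normal := by
    constructor
    intro x hx g
    rcases hx with hx | hx
    · exact Or.inl (hWn.conj_mem x hx g)
    · refine Or.inr ?_
      have h1 := hWn.conj_mem _ hx g
      have h2 := (omg D).mul_mem h1 ((omg D).inv_mem (hn g))
      have hd := hc _ ((omg D).inv_mem (hn g))
      have h3 : g * (x * u) * g⁻¹ * (g * u * g⁻¹ * u⁻¹)⁻¹ = g * x * g⁻¹ * u := by
        calc g * (x * u) * g⁻¹ * (g * u * g⁻¹ * u⁻¹)⁻¹
            = g * (x * u) * g⁻¹ * (u⁻¹ * (u * (g * u * g⁻¹ * u⁻¹)⁻¹)) := by group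
          _ = g * (x * u) * g⁻¹ * (u⁻¹ * ((g * u * g⁻¹ * u⁻¹)⁻¹ * u)) := by rw [hd]
          _ = g * x * g⁻¹ * u := by group
      rwa [h3] at h2
  have hcE : ∀ a ∈ E, ∀ b ∈ E, a * b = b * a := by
    intro a ha b hb
    obtain ⟨v, hv, hav⟩ := hrep a ha
    obtain ⟨w, hw, hbw⟩ := hrep b hb
    have h1 := hwc v hv w hw
    have h2 := hc v hv
    have h3 := hc w hw
    rcases hav with rfl | rfl <;> rcases hbw with rfl | rfl
    · exact h1
    · calc a * (w * u) = (a * w) * u := by group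
        _ = (w * a) * u := by rw [h1]
        _ = w * (a * u) := by group
        _ = w * (u * a) := by rw [h2]
        _ = w * u * a := by group
    · calc v * u * b = v * (u * b) := by group
        _ = v * (b * u) := by rw [h3]
        _ = (v * b) * u := by group
        _ = (b * v) * u := by rw [h1]
        _ = b * (v * u) := by group
    · calc v * u * (w * u) = v * (u * w) * u := by group
        _ = v * (w * u) * u := by rw [h3]
        _ = (v * w) * (u * u) := by group
        _ = (w * v) * (u * u) := by rw [h1]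
        _ = w * (v * u) * u := by group
        _ = w * (u * v) * u := by rw [h2]
        _ = w * u * (v * u) := by group
  have hsE : ∀ a ∈ E, a ^ 2 = 1 := by
    intro a ha
    obtain ⟨v, hv, rfl | rfl⟩ := hrep a ha
    · exact hv.2
    · have h : Commute v u := hc v hv
      rw [h.mul_pow, hv.2, hu2, one_mul]
  have hcard := hE E hnE hcE hsE
  have hle : omg D ≤ E := fun x hx => Or.inl hx
  have huE : u ∈ E := Or.inr (by rw [← pow_two, hu2]; exact (omg D).one_mem)
  have hlt : omg D < E := lt_of_le_of_ne hle (fun h => huW (h ▸ huE))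
  have h5 : Nat.card (omg D) < Nat.card E := by
    have : (omg D : Set G).ncard < (E : Set G).ncard :=
      Set.ncard_lt_ncard (SetLike.coe_ssubset_coe.2 hlt) (Set.toFinite _)
    rwa [← Nat.card_coe_set_eq, ← Nat.card_coe_set_eq] at this
  omega

include B in
/-- The key lemma. -/
theorem key [Finite G] (hG : IsPGroup 2 G) (hE : NoE8 G) (h4 : Nat.card (omg D) = 4) {u : G}
    (hu : u ∈ tee D) (hu2 : u ^ 2 ∈ omg D) (hne : mu B u ≠ 0) (hQ : NoFix (mu B u))
    (hinv : ∀ g : G, mu B (g * u * g⁻¹) = mu B u) : False := by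
  obtain ⟨v, hv⟩ := surj_of_noFix _ hQ (dlog B (u ^ 2))
  obtain ⟨a, ha, hva⟩ := exists_vv B v
  have haC := le_cen D ha
  have haT := cen_le_tee D haC
  have hu' : a * u ∈ tee D := (tee D).mul_mem haT hu
  have hmu' : mu B (a * u) = mu B u := by rw [mu_mul B haT hu, mu_of_cen B haC, zero_add]
  have hsq : (a * u) ^ 2 = 1 := by
    have h1 := conj_eq B hu ha
    have h2 : (a * u) ^ 2 = a * (u * a * u⁻¹ * a⁻¹) * a * u ^ 2 := by rw [pow_two, pow_two]; group
    have h3 : a * e B (act (mu B u) (vv B a)) = e B (act (mu B u) (vv B a)) * a :=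
      D.comm _ ha _ (e_mem B _).1
    rw [h2, h1, h3, mul_assoc (e B _) a a, ← pow_two, ← e_vv B ha, ← e_dlog B hu2, ← e_add, ← e_add,
      hva, ← hv]
    have h5 : act (mu B u) v + v + (v + act (mu B u) v) = 0 := by
      generalize act (mu B u) v = q
      revert q v
      have : ∀ v q : V2, q + v + (v + q) = 0 := by decide
      intro v _ _ q
      exact this v q
    rw [h5, e_zero]
  have hnW : a * u ∉ omg D := by
    intro h
    apply hne
    rw [← hmu']
    exact mu_of_cen B (le_cen D h.1)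
  refine false_of_normal hE h4 hu' hsq hnW (fun g => ?_)
  have hTn := tee_normal D
  have hCn := cen_normal D
  have hgT : g * (a * u) * g⁻¹ ∈ tee D := hTn.conj_mem _ hu' g
  have hdT : g * (a * u) * g⁻¹ * (a * u)⁻¹ ∈ tee D := (tee D).mul_mem hgT ((tee D).inv_mem hu')
  have hdC : g * (a * u) * g⁻¹ * (a * u)⁻¹ ∈ cen D := by
    apply mu_eq_zero B hdT
    have hui : (a * u)⁻¹ = a * u := by rw [inv_eq_iff_mul_eq_one, ← pow_two]; exact hsq
    rw [hui, mu_mul B hgT hu']
    have h1 : g * (a * u) * g⁻¹ = (g * a * g⁻¹) * (g * u * g⁻¹) := by group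
    have h2 : g * a * g⁻¹ ∈ cen D := hCn.conj_mem _ haC g
    rw [h1, mu_mul B (cen_le_tee D h2) (hTn.conj_mem _ hu g), mu_of_cen B h2, zero_add, hinv g, hmu',
      q4_add_self]
  refine mem_omg_of_sq D hdC ?_
  refine sq_eq_one_of_noFix B hG hu' (by rw [hmu']; exact hQ) hdC ?_
  have h3 : (g * (a * u) * g⁻¹) ^ 2 = 1 := by rw [conj_pow, hsq]; group
  generalize a * u = t at *
  have hti : t⁻¹ = t := by rw [inv_eq_iff_mul_eq_one, ← pow_two]; exact hsq
  have h4 : (g * t * g⁻¹)⁻¹ = g * t * g⁻¹ := by rw [inv_eq_iff_mul_eq_one, ← pow_two]; exact h3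
  calc t * (g * t * g⁻¹ * t⁻¹) * t⁻¹ = t * (g * t * g⁻¹) * (t * t)⁻¹ := by group
    _ = t * (g * t * g⁻¹) := by rw [← pow_two, hsq]; group
    _ = t * (g * t * g⁻¹)⁻¹ := by rw [h4]
    _ = (g * t * g⁻¹ * t⁻¹)⁻¹ := by group

end Cfsg.Agent.Classification.FourGenKey
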