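import Mathlib
import Cfsg.Agent.Classification.FourGenKey

set_option autoImplicit false

/-!
# MacWilliams' four generator theorem: the case of `A` homocyclic of type `(4, 4)`
-/

namespace Cfsg.Agent.Classification.FourGenCases

open Cfsg.Agent.Classification.FourGenBase Cfsg.Agent.Classification.FourGenCoord
  Cfsg.Agent.Classification.FourGenKey

variable {G : Type*} [Group G]

/-- The subgroup generated by the squares of the elements of `H`. -/
def sqs (H : Subgroup G) : Subgroup G := Subgroup.closure {y | ∃ h ∈ H, y = h ^ 2}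

theorem sq_mem_sqs {H : Subgroup G} {h : G} (hh : h ∈ H) : h ^ 2 ∈ sqs H :=
  Subgroup.subset_closure ⟨h, hh, rfl⟩

theorem sqs_le {H K : Subgroup G} (h : ∀ x ∈ H, x ^ 2 ∈ K) : sqs H ≤ K := by
  refine (Subgroup.closure_le K).2 ?_
  rintro y ⟨x, hx, rfl⟩
  exact h x hx

/-- Commutators lie in the subgroup generated by squares. -/
theorem comm_mem_sqs {H : Subgroup G} {x y : G} (hx : x ∈ H) (hy : y ∈ H) :
    x * y * x⁻¹ * y⁻¹ ∈ sqs H := by
  have h1 := sq_mem_sqs (H.mul_mem hx hy)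
  have h5 : x * y * x⁻¹ * y⁻¹ = (x * y) ^ 2 * ((y⁻¹ * x⁻¹ * y) ^ 2) * (y⁻¹) ^ 2 := by
    simp only [pow_two]; group
  rw [h5]
  have h6 : y⁻¹ * x⁻¹ * y ∈ H := H.mul_mem (H.mul_mem (H.inv_mem hy) (H.inv_mem hx)) hy
  exact (sqs H).mul_mem ((sqs H).mul_mem h1 (sq_mem_sqs h6)) (sq_mem_sqs (H.inv_mem hy))

theorem two_pow_step [Finite G] (hG : IsPGroup 2 G) (X Y : Subgroup G) (n : ℕ)
    (h : 2 ^ n * Nat.card Y < Nat.card X) : 2 ^ (n + 1) * Nat.card Y ≤ Nat.card X := by
  obtain ⟨a, ha⟩ := (hG.to_subgroup X).exists_card_eq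
  obtain ⟨b, hb⟩ := (hG.to_subgroup Y).exists_card_eq
  rw [ha, hb] at h ⊢
  rw [← pow_add] at h ⊢
  have := (Nat.pow_lt_pow_iff_right (by norm_num : 1 < 2)).1 h
  exact Nat.pow_le_pow_right (by norm_num) (by omega)

variable {A : Subgroup G} {D : Data A} {w₁ w₂ a₁ a₂ : G} (B : Basis D w₁ w₂ a₁ a₂)

theorem mu_one : mu B 1 = 0 := mu_of_cen B (cen D).one_mem

theorem mu_inv {x : G} (hx : x ∈ tee D) : mu B x⁻¹ = mu B x := by
  have h : mu B (x⁻¹ * x) = 0 := by rw [inv_mul_cancel]; exact mu_one B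
  rw [mu_mul B ((tee D).inv_mem hx) hx] at h
  have h2 : mu B x⁻¹ + mu B x + mu B x = mu B x := by rw [h, zero_add]
  rwa [add_assoc, q4_add_self, add_zero] at h2

theorem mu_conj_tee {x g : G} (hx : x ∈ tee D) (hg : g ∈ tee D) : mu B (g * x * g⁻¹) = mu B x := by
  rw [mu_mul B ((tee D).mul_mem hg hx) ((tee D).inv_mem hg), mu_mul B hg hx, mu_inv B hg,
    add_comm (mu B g), add_assoc, q4_add_self, add_zero]

/-- The image of a subgroup of `tee D` in `Q4`. -/
noncomputable def img (H : Subgroup G) (hH : H ≤ tee D) : AddSubgroup Q4 where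
  carrier := {m | ∃ x ∈ H, mu B x = m}
  add_mem' := by
    rintro m m' ⟨x, hx, rfl⟩ ⟨y, hy, rfl⟩
    exact ⟨x * y, H.mul_mem hx hy, mu_mul B (hH hx) (hH hy)⟩
  zero_mem' := ⟨1, H.one_mem, mu_one B⟩
  neg_mem' := by
    rintro m ⟨x, hx, rfl⟩
    refine ⟨x, hx, ?_⟩
    rw [eq_neg_iff_add_eq_zero, q4_add_self]

theorem mem_img {H : Subgroup G} {hH : H ≤ tee D} {m : Q4} :
    m ∈ img B H hH ↔ ∃ x ∈ H, mu B x = m := Iff.rfl

theorem card_img (H : Subgroup G) (hH : H ≤ tee D) :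
    Nat.card H = Nat.card (H ⊓ cen D : Subgroup G) * Nat.card (img B H hH) := by
  let f : H →* Multiplicative Q4 :=
    { toFun := fun x => Multiplicative.ofAdd (mu B x.1)
      map_one' := by
        show Multiplicative.ofAdd (mu B 1) = 1
        rw [mu_one]; rfl
      map_mul' := fun x y => by
        show Multiplicative.ofAdd (mu B (x.1 * y.1)) = _
        rw [mu_mul B (hH x.2) (hH y.2)]; rfl }
  have h1 := Subgroup.card_mul_index f.ker
  rw [Subgroup.index_ker] at h1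
  have h2 : Nat.card f.ker = Nat.card (H ⊓ cen D : Subgroup G) := by
    refine Nat.card_congr ⟨fun x => ⟨x.1.1, x.1.2, ?_⟩, fun x => ⟨⟨x.1, x.2.1⟩, ?_⟩, ?_, ?_⟩
    · have : mu B x.1.1 = 0 := Multiplicative.ofAdd.injective (MonoidHom.mem_ker.1 x.2)
      exact mu_eq_zero B (hH x.1.2) this
    · rw [MonoidHom.mem_ker]
      show Multiplicative.ofAdd (mu B x.1) = 1
      rw [mu_of_cen B x.2.2]; rfl
    · intro x; rfl
    · intro x; rfl
  have h3 : Nat.card f.range = Nat.card (img B H hH) := by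
    refine Nat.card_congr ⟨fun x => ⟨x.1.toAdd, ?_⟩, fun x => ⟨Multiplicative.ofAdd x.1, ?_⟩, ?_, ?_⟩
    · obtain ⟨y, hy⟩ := x.2
      exact ⟨y.1, y.2, by rw [← hy]; rfl⟩
    · obtain ⟨y, hy, hy2⟩ := x.2
      exact ⟨⟨y, hy⟩, by rw [← hy2]; rfl⟩
    · intro x; rfl
    · intro x; rfl
  rw [← h1, h2, h3]

theorem card_Q4 : Nat.card Q4 = 16 := by
  rw [Nat.card_eq_fintype_card]; decide

theorem add_mem_of_card {S : AddSubgroup Q4} (hS : Nat.card S = 8) {m m' : Q4} (hm : m ∉ S)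
    (hm' : m' ∉ S) : m + m' ∈ S := by
  have h1 := S.card_mul_index
  rw [hS, card_Q4] at h1
  have h2 : S.index = 2 := by omega
  exact (AddSubgroup.add_mem_iff_of_index_two h2).2 ⟨fun h => absurd h hm, fun h => absurd h hm'⟩

theorem card_dvd (S : AddSubgroup Q4) : Nat.card S ∣ 16 := by
  rw [← card_Q4]; exact AddSubgroup.card_addSubgroup_dvd_card S

theorem mem_of_card {S : AddSubgroup Q4} (hS : Nat.card S = 16) (m : Q4) : m ∈ S := by
  have : S = ⊤ := AddSubgroup.eq_top_of_card_eq S (by rw [hS, card_Q4])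
  rw [this]; trivial

/-- The common first step for `H ≤ tee D`. -/
theorem step_le [Finite G] (hG : IsPGroup 2 G) (hW : Nat.card (omg D) = 4) (H : Subgroup G)
    (hH : H ≤ tee D) (hlt : 16 * Nat.card (sqs H) < Nat.card H) :
    (Nat.card (img B H hH) = 8 ∧ ∀ m ∈ img B H hH, ∃ u ∈ H, mu B u = m ∧ u ^ 2 ∈ omg D) ∨
    (Nat.card (img B H hH) = 16 ∧ 2 * Nat.card (sqs H) ≤ Nat.card (H ⊓ cen D : Subgroup G)) := by
  have h1 : 32 * Nat.card (sqs H) ≤ Nat.card H := two_pow_step hG H (sqs H) 4 hlt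
  have h2 := card_img B H hH
  have hR : sqs H ≤ cen D := sqs_le (fun x hx => sq_mem_cen B (hH hx))
  have hRK : ∀ k ∈ H ⊓ cen D, k ^ 2 ∈ sqs H := fun k hk => sq_mem_sqs hk.1
  have h3 : Nat.card (H ⊓ cen D : Subgroup G) ≤ Nat.card (sqs H) * 4 := by
    rw [← hW]; exact card_le_mul D hG inf_le_right hRK
  have hpos : 0 < Nat.card (sqs H) := Nat.card_pos
  have h4 : Nat.card (img B H hH) ∣ 16 := card_dvd _
  have h5 : 8 ≤ Nat.card (img B H hH) := by
    by_contra h6
    have : Nat.card H ≤ (Nat.card (sqs H) * 4) * 7 := by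
      rw [h2]; exact Nat.mul_le_mul h3 (by omega)
    omega
  have h6 : Nat.card (img B H hH) = 8 ∨ Nat.card (img B H hH) = 16 := by
    have : Nat.card (img B H hH) ≤ 16 := Nat.le_of_dvd (by norm_num) h4
    interval_cases h : Nat.card (img B H hH) <;> omega
  rcases h6 with h6 | h6
  · left
    refine ⟨h6, ?_⟩
    rw [h6] at h2
    have h7 := exists_sq_of_card D hG (K := H ⊓ cen D) inf_le_right hRK (by omega) (by omega)
    rintro m ⟨x, hx, rfl⟩
    obtain ⟨k, hk, hk2⟩ := h7 (x ^ 2) (sq_mem_sqs hx)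
    have hkT := cen_le_tee D hk.2
    have hxk : x * k⁻¹ ∈ tee D := (tee D).mul_mem (hH hx) ((tee D).inv_mem hkT)
    refine ⟨x * k⁻¹, H.mul_mem hx (H.inv_mem hk.1), ?_, ?_⟩
    · rw [mu_mul B (hH hx) ((tee D).inv_mem hkT), mu_inv B hkT, mu_of_cen B hk.2, add_zero]
    · exact sq_mem_omg_of_sq_eq D hG hk.2 hk2.symm (sq_mem_cen B hxk)
  · right
    refine ⟨h6, ?_⟩
    rw [h6] at h2
    omega

include B in
/-- The case `tee D = ⊤`. -/
theorem case_top [Finite G] (hG : IsPGroup 2 G) (hE : NoE8 G) (hW : Nat.card (omg D) = 4)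
    (hT : ∀ g : G, g ∈ tee D) (H : Subgroup G) : Nat.card H ≤ 16 * Nat.card (sqs H) := by
  by_contra hlt
  push Not at hlt
  have hH : H ≤ tee D := fun x _ => hT x
  have hkey : ∀ u : G, u ^ 2 ∈ omg D → NoFix (mu B u) → mu B u = 0 := by
    intro u hu hQ
    by_contra hne
    exact key B hG hE hW (hT u) hu hne hQ (fun g => mu_conj_tee B (hT u) (hT g))
  have hinv : ∀ m : Q4, Inv m → NoFix m → m ≠ 0 → m ∉ img B H hH := by
    rintro m h1 h2 h3 ⟨x, hx, rfl⟩
    exact h3 (hkey x (sq_mem_of_inv B hG (hT x) h1) h2)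
  have hg : (((0, 1), (1, 1)) : Q4) ∉ img B H hH := hinv _ (by decide) (by decide) (by decide)
  have hg' : (((1, 1), (1, 0)) : Q4) ∉ img B H hH := hinv _ (by decide) (by decide) (by decide)
  rcases step_le B hG hW H hH hlt with ⟨h8, h⟩ | ⟨h16, -⟩
  · have hn : ∀ m : Q4, NoFix m → m ≠ 0 → m ∉ img B H hH := by
      intro m h2 h3 h4
      obtain ⟨u, -, rfl, hu⟩ := h m h4
      exact h3 (hkey u hu h2)
    have h1 := add_mem_of_card h8 hg hg'
    have h2 := add_mem_of_card h8 (hn (((0, 0), (1, 0)) : Q4) (by decide) (by decide))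
      (hn (((0, 1), (0, 0)) : Q4) (by decide) (by decide))
    have h3 := (img B H hH).add_mem h1 h2
    exact hn _ (by decide) (by decide) h3
  · exact hg (mem_of_card h16 _)

/-! ### The case `tee D ≠ ⊤` -/

/-- The action on `V2` of an element outside `tee D`. -/
def sg (p : V2) : V2 := (p.1 + p.2, p.2)

/-- The action on `Q4` of an element outside `tee D`. -/
def cj (m : Q4) : Q4 := (sg m.1, sg (m.1 + m.2))

theorem cj_add (m m' : Q4) : cj (m + m') = cj m + cj m' := by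
  revert m m'; decide

/-- A basis adapted to the action of `G` on `omg D`. -/
structure Adapted {A : Subgroup G} {D : Data A} {w₁ w₂ a₁ a₂ : G} (B : Basis D w₁ w₂ a₁ a₂) : Prop where
  h₁ : ∀ g : G, g ∉ tee D → g * w₁ * g⁻¹ = w₁
  h₂ : ∀ g : G, g ∉ tee D → g * w₂ * g⁻¹ = w₁ * w₂
  h₃ : ∀ g g' : G, g ∉ tee D → g' ∉ tee D → g * g' ∈ tee D

variable {B}

theorem conj_e (hB : Adapted B) {t : G} (ht : t ∉ tee D) (p : V2) : t * e B p * t⁻¹ = e B (sg p) := by
  have h1 : t * e B p * t⁻¹ = (t * w₁ * t⁻¹) ^ p.1.val * (t * w₂ * t⁻¹) ^ p.2.val := by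
    rw [conj_pow, conj_pow]; unfold e; group
  have h2 : sg p = p + (p.2, 0) := by
    clear h1
    revert p; decide
  rw [h1, hB.h₁ t ht, hB.h₂ t ht, h2, e_add]
  have hc : Commute w₁ w₂ := w_comm B
  rw [hc.mul_pow]
  have h3 : e B (p.2, 0) = w₁ ^ p.2.val := by
    unfold e; simp
  rw [h3]
  unfold e
  have h4 : w₁ ^ p.2.val * w₂ ^ p.2.val = w₂ ^ p.2.val * w₁ ^ p.2.val := (hc.pow_pow _ _).eq
  rw [h4, mul_assoc]

theorem vv_conj (hB : Adapted B) {t : G} (ht : t ∉ tee D) {a : G} (ha : a ∈ A) :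
    vv B (t * a * t⁻¹) = sg (vv B a) := by
  apply e_inj B
  rw [e_vv B (D.norm.conj_mem a ha t), conj_pow, ← e_vv B ha, conj_e hB ht]

theorem mu_conj (hB : Adapted B) {t x : G} (ht : t ∉ tee D) (hx : x ∈ tee D) :
    mu B (t * x * t⁻¹) = cj (mu B x) := by
  have hTn := tee_normal D
  have hti : t⁻¹ ∉ tee D := fun h => ht (by simpa using (tee D).inv_mem h)
  have hx' := hTn.conj_mem x hx t
  have v1 : vv B a₁ = (1, 0) := by
    apply e_inj B
    rw [e_vv B B.ha₁, B.hw₁]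
    simp [e, show (1 : ZMod 2).val = 1 from rfl]
  have v2 : vv B a₂ = (0, 1) := by
    apply e_inj B
    rw [e_vv B B.ha₂, B.hw₂]
    simp [e, show (1 : ZMod 2).val = 1 from rfl]
  have key : ∀ a ∈ A, act (mu B (t * x * t⁻¹)) (vv B a) = sg (act (mu B x) (sg (vv B a))) := by
    intro a ha
    apply e_inj B
    rw [← conj_eq B hx' ha, ← conj_e hB ht, ← vv_conj hB hti ha]
    have h1 : t⁻¹ * a * t⁻¹⁻¹ ∈ A := D.norm.conj_mem a ha t⁻¹
    rw [← conj_eq B hx h1]
    group
  refine Prod.ext ?_ ?_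
  · have h := key a₁ B.ha₁
    rw [v1] at h
    have h1 : ∀ m : Q4, act m (1, 0) = m.1 := by decide
    have h2 : sg ((1, 0) : V2) = (1, 0) := by decide
    rw [h1, h2, h1] at h
    exact h
  · have h := key a₂ B.ha₂
    rw [v2] at h
    have h1 : ∀ m : Q4, act m (0, 1) = m.2 := by decide
    have h2 : sg ((0, 1) : V2) = (1, 1) := by decide
    have h3 : ∀ m : Q4, act m (1, 1) = m.1 + m.2 := by decide
    rw [h1, h2, h3] at h
    exact h

/-- The nilpotent fixed by `cj`. -/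
def nn : Q4 := ((0, 0), (1, 0))

/-- Consequence of the key lemma. -/
theorem key_nn [Finite G] (hG : IsPGroup 2 G) (hE : NoE8 G) (hW : Nat.card (omg D) = 4)
    (hB : Adapted B) {u : G} (hu : u ∈ tee D) (hu2 : u ^ 2 ∈ omg D) : mu B u ≠ nn := by
  intro h
  refine key B hG hE hW hu hu2 (by rw [h]; decide) (by rw [h]; decide) (fun g => ?_)
  by_cases hg : g ∈ tee D
  · exact mu_conj_tee B hu hg
  · rw [mu_conj hB hg hu, h]; decide

theorem vv_mul (B : Basis D w₁ w₂ a₁ a₂) {a b : G} (ha : a ∈ A) (hb : b ∈ A) :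
    vv B (a * b) = vv B a + vv B b := by
  apply e_inj B
  have hc : Commute a b := D.comm a ha b hb
  rw [e_vv B (A.mul_mem ha hb), e_add, e_vv B ha, e_vv B hb, hc.mul_pow]

theorem vv_inv (B : Basis D w₁ w₂ a₁ a₂) {a : G} (ha : a ∈ A) : vv B a⁻¹ = vv B a := by
  apply e_inj B
  rw [e_vv B (A.inv_mem ha), e_vv B ha, inv_pow, inv_eq_iff_mul_eq_one, ← pow_two, ← pow_mul]
  exact D.exp4 a ha

/-- If `mu z` is invertible without nonzero fixed vectors, `cen D ≤ A`. -/
theorem cen_le_of_inv (B : Basis D w₁ w₂ a₁ a₂) (hG : IsPGroup 2 G) {z : G} (hz : z ∈ tee D)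
    (h1 : Inv (mu B z)) (h2 : NoFix (mu B z)) : cen D ≤ A := by
  intro k hk
  have hkT := cen_le_tee D hk
  have hkz : k * z ∈ tee D := (tee D).mul_mem hkT hz
  have hmu : mu B (k * z) = mu B z := by rw [mu_mul B hkT hz, mu_of_cen B hk, zero_add]
  have h3 := sq_mem_of_inv B hG hz h1
  have h4 := sq_mem_of_inv B hG hkz (by rw [hmu]; exact h1)
  -- k (z k z⁻¹) ∈ W
  have h5 : k * (z * k * z⁻¹) ∈ omg D := by
    have h6 := (omg D).mul_mem h4 ((omg D).inv_mem h3)
    have h7 : (k * z) ^ 2 * (z ^ 2)⁻¹ = k * (z * k * z⁻¹) := by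
      rw [pow_two, pow_two]; group
    rwa [h7] at h6
  set w := k * (z * k * z⁻¹) with hw
  have h6 : z * k * z⁻¹ = k⁻¹ * w := by rw [hw]; group
  have hc : Commute k⁻¹ w := ((mem_cen D).1 ((cen D).inv_mem hk) w h5.1).symm
  have h7 : z * k ^ 2 * z⁻¹ = (k ^ 2)⁻¹ := by
    rw [← conj_pow, h6, hc.mul_pow, h5.2, mul_one, inv_pow]
  have h8 := sq_eq_one_of_noFix B hG hz h2 ((cen D).pow_mem hk 2) h7
  rw [← pow_mul] at h8
  exact mem_A D hk h8

/-- The case `H ≤ tee D ≠ ⊤`. -/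
theorem case_le [Finite G] (B : Basis D w₁ w₂ a₁ a₂) (hG : IsPGroup 2 G) (hE : NoE8 G)
    (hW : Nat.card (omg D) = 4) (hB : Adapted B) {t : G} (ht : t ∉ tee D) (H : Subgroup G)
    (hH : H ≤ tee D) : Nat.card H ≤ 16 * Nat.card (sqs H) := by
  by_contra hlt
  push Not at hlt
  have hTn := tee_normal D
  rcases step_le B hG hW H hH hlt with ⟨h8, h⟩ | ⟨h16, hK⟩
  · -- `n ∉ img`
    have hn : nn ∉ img B H hH := by
      intro hn
      obtain ⟨u, hu, hmu, hu2⟩ := h _ hn
      exact key_nn hG hE hW hB (hH hu) hu2 hmu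
    -- an element of the image
    obtain ⟨m, hm, hm1, hm2, hm3⟩ : ∃ m ∈ img B H hH, cj m + m = nn ∧ m.1 = 0 ∧ m ≠ 0 := by
      by_cases h1 : (((0, 0), (0, 1)) : Q4) ∈ img B H hH
      · exact ⟨_, h1, by decide, by decide, by decide⟩
      · by_cases h2 : (((0, 0), (1, 1)) : Q4) ∈ img B H hH
        · exact ⟨_, h2, by decide, by decide, by decide⟩
        · exfalso
          apply hn
          exact add_mem_of_card h8 h1 h2
    obtain ⟨u, hu, rfl, hu2⟩ := h m hm
    have huT := hH hu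
    have hvT : t * u * t⁻¹ ∈ tee D := hTn.conj_mem u huT t
    have hv2 : (t * u * t⁻¹) ^ 2 ∈ omg D := by
      rw [conj_pow]; exact (omg_normal D).conj_mem _ hu2 t
    have hmv := mu_conj hB ht huT
    set v := t * u * t⁻¹ with hv
    have hy : u * v ∈ tee D := (tee D).mul_mem huT hvT
    have hmy : mu B (u * v) = nn := by rw [mu_mul B huT hvT, hmv, add_comm, hm1]
    -- `(u v)² ∉ W`
    have hy2 : (u * v) ^ 2 ∉ omg D := fun h1 => key_nn hG hE hW hB hy h1 hmy
    have hyC := sq_mem_cen B hy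
    have hne : ((u * v) ^ 2) ^ 2 ≠ 1 := fun h1 => hy2 (mem_omg_of_sq D hyC h1)
    have hcu : ∀ w ∈ omg D, w * u = u * w := (mem_tee D).1 huT
    have hcv : ∀ w ∈ omg D, w * v = v * w := (mem_tee D).1 hvT
    have hinv : u * (u * v) * u⁻¹ = (u ^ 2 * v ^ 2) * (u * v)⁻¹ := by
      have e1 : u ^ 2 * v ^ 2 * (u * v)⁻¹ = u ^ 2 * (v * u⁻¹) := by
        rw [pow_two v]; group
      rw [e1, pow_two]; group
    have hinv2 : u * (u * v) ^ 2 * u⁻¹ = ((u * v) ^ 2)⁻¹ := by
      rw [← conj_pow, hinv]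
      have hw : u ^ 2 * v ^ 2 ∈ omg D := (omg D).mul_mem hu2 hv2
      have hc : Commute (u ^ 2 * v ^ 2) (u * v)⁻¹ :=
        (mem_tee D).1 ((tee D).inv_mem hy) _ hw
      rw [hc.mul_pow, hw.2, one_mul, inv_pow]
    obtain ⟨n, h1, h2, h3⟩ := exists_pow_inverted D hG hyC hinv2 hne
    -- commutes with u v
    have h4 : (u * v) * ((u * v) ^ 2) ^ n * (u * v)⁻¹ = ((u * v) ^ 2) ^ n := by
      have : Commute (u * v) (((u * v) ^ 2) ^ n) :=
        ((Commute.refl (u * v)).pow_right 2).pow_right n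
      rw [this.eq, mul_inv_cancel_right]
    have h5 := act_eq_zero_of_comm B hy h1 h4
    have h6 := act_eq_self_of_inv B huT h1 h3
    apply h2
    apply sq_eq_one_of_vv B h1
    generalize vv B (((u * v) ^ 2) ^ n) = p at *
    rw [hmy] at h5
    generalize mu B u = m at *
    have : ∀ (m : Q4) (p : V2), m.1 = 0 → act nn p = 0 → act m p = p → p = 0 := by decide
    exact this m p hm2 h5 h6
  · -- the image is everything
    have hall := mem_of_card h16
    obtain ⟨z, hz, hmz⟩ := (mem_img B).1 (hall (((0, 1), (1, 1)) : Q4))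
    obtain ⟨y, hy, hmy⟩ := (mem_img B).1 (hall (((1, 0), (0, 1)) : Q4))
    obtain ⟨x, hx, hmx⟩ := (mem_img B).1 (hall nn)
    have hCA : cen D ≤ A := cen_le_of_inv B hG (hH hz) (by rw [hmz]; decide) (by rw [hmz]; decide)
    have hxC := sq_mem_cen B (hH hx)
    have hx2 : x ^ 2 ∉ omg D := fun h1 => key_nn hG hE hW hB (hH hx) h1 hmx
    have hxA : x ^ 2 ∈ A := hCA hxC
    have hvx : vv B (x ^ 2) = (1, 0) := by
      have h1 : x * x ^ 2 * x⁻¹ = x ^ 2 := by group
      have h2 := act_eq_zero_of_comm B (hH hx) hxA h1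
      rw [hmx] at h2
      have h3 : vv B (x ^ 2) ≠ 0 := fun h4 => hx2 ⟨hxA, sq_eq_one_of_vv B hxA h4⟩
      generalize vv B (x ^ 2) = p at *
      revert p; decide
    -- `W ≤ sqs H`
    have hWR : ∀ w ∈ omg D, w ∈ sqs H := by
      intro w hw
      obtain ⟨p, rfl⟩ := e_surj B hw
      obtain ⟨y', hy', hmy'⟩ := (mem_img B).1 (hall ((p, 0) : Q4))
      have h1 := conj_eq B (hH hy') hxA
      rw [hvx, hmy'] at h1
      have h2 : act (p, 0) (1, 0) = p := by clear h1 hmy' hw; revert p; decide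
      rw [h2] at h1
      rw [← h1]
      exact comm_mem_sqs hy' (sqs_le (fun x hx => H.pow_mem hx 2) (sq_mem_sqs hx))
    have hRC : sqs H ≤ A := (sqs_le (fun x hx => sq_mem_cen B (hH hx))).trans hCA
    -- the squares have coordinates in `{0, (1, 0)}`
    have hRv : ∀ r ∈ sqs H, vv B r = 0 ∨ vv B r = (1, 0) := by
      intro r hr
      by_contra hcon
      have hfull : ∀ q : V2, ∃ r' ∈ sqs H, vv B r' = q := by
        intro q
        have h1 : q = 0 ∨ q = (1, 0) ∨ q = vv B r ∨ q = (1, 0) + vv B r := by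
          generalize vv B r = p at *
          revert p q; decide
        rcases h1 with rfl | rfl | rfl | rfl
        · exact ⟨1, (sqs H).one_mem, by rw [vv, one_pow, dlog_one]⟩
        · exact ⟨_, sq_mem_sqs hx, hvx⟩
        · exact ⟨r, hr, rfl⟩
        · exact ⟨x ^ 2 * r, (sqs H).mul_mem (sq_mem_sqs hx) hr, by rw [vv_mul B hxA (hRC hr), hvx]⟩
      have hAR : A ≤ sqs H := by
        intro a ha
        obtain ⟨r', hr', hr2⟩ := hfull (vv B a)
        have h1 : a * r'⁻¹ ∈ omg D := by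
          refine ⟨A.mul_mem ha (A.inv_mem (hRC hr')), ?_⟩
          apply sq_eq_one_of_vv B (A.mul_mem ha (A.inv_mem (hRC hr')))
          rw [vv_mul B ha (A.inv_mem (hRC hr')), vv_inv B (hRC hr'), hr2, v2_add_self]
        have h2 := (sqs H).mul_mem (hWR _ h1) hr'
        rwa [inv_mul_cancel_right] at h2
      have h1 : Nat.card (H ⊓ cen D : Subgroup G) ≤ Nat.card (sqs H) :=
        Subgroup.card_le_of_le ((inf_le_right.trans hCA).trans hAR)
      have hpos : 0 < Nat.card (sqs H) := Nat.card_pos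
      omega
    have hsqW : ∀ y ∈ H, act (mu B y) (1, 0) ≠ 0 → y ^ 2 ∈ omg D := by
      intro y hy h1
      have hyA : y ^ 2 ∈ A := hRC (sq_mem_sqs hy)
      rcases hRv _ (sq_mem_sqs hy) with h2 | h2
      · exact ⟨hyA, sq_eq_one_of_vv B hyA h2⟩
      · exfalso
        apply h1
        have h3 : y * y ^ 2 * y⁻¹ = y ^ 2 := by group
        rw [← h2]
        exact act_eq_zero_of_comm B (hH hy) hyA h3
    have hP : ∀ y ∈ H, act (mu B y) (1, 0) ≠ 0 → x * (y * x * y⁻¹) ∈ omg D := by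
      intro y hy h1
      have h2 := hsqW y hy h1
      have h3 := hsqW (x * y) (H.mul_mem hx hy) (by
        rw [mu_mul B (hH hx) (hH hy), act_add, hmx]
        have : act nn (1, 0) = 0 := by decide
        rw [this, zero_add]; exact h1)
      have h4 := (omg D).mul_mem h3 ((omg D).inv_mem h2)
      have h5 : (x * y) ^ 2 * (y ^ 2)⁻¹ = x * (y * x * y⁻¹) := by
        rw [pow_two, pow_two]; group
      rwa [h5] at h4
    have hPy := hP y hy (by rw [hmy]; decide)
    have hPz := hP z hz (by rw [hmz]; decide)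
    have hPyz := hP (y * z) (H.mul_mem hy hz) (by
      rw [mu_mul B (hH hy) (hH hz), hmy, hmz]; decide)
    apply hx2
    -- `(yz) x (yz)⁻¹ = y (x⁻¹ w) y⁻¹`
    set w := x * (z * x * z⁻¹) with hw
    set w' := x * (y * x * y⁻¹) with hw'
    have hcw : w * y = y * w := (mem_tee D).1 (hH hy) w hPz
    have hcw' : w'⁻¹ * x = x * w'⁻¹ := (mem_tee D).1 (hH hx) _ ((omg D).inv_mem hPy)
    have h1 : x * (y * z * x * (y * z)⁻¹) = x ^ 2 * (w'⁻¹ * w) := by
      calc x * (y * z * x * (y * z)⁻¹) = x * (y * x⁻¹ * w * y⁻¹) := by rw [hw]; group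
        _ = x * (y * x⁻¹ * y⁻¹ * (y * w) * y⁻¹) := by group
        _ = x * (y * x⁻¹ * y⁻¹ * (w * y) * y⁻¹) := by rw [hcw]
        _ = x * (w'⁻¹ * x) * w := by rw [hw']; group
        _ = x * (x * w'⁻¹) * w := by rw [hcw']
        _ = x ^ 2 * (w'⁻¹ * w) := by rw [pow_two]; group
    rw [h1] at hPyz
    have h2 := (omg D).mul_mem hPyz ((omg D).inv_mem ((omg D).mul_mem ((omg D).inv_mem hPy) hPz))
    rwa [mul_inv_cancel_right] at h2

theorem card_le_two_mul [Finite G] (hB : Adapted B) (H : Subgroup G) :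
    Nat.card H ≤ 2 * Nat.card (H ⊓ tee D : Subgroup G) := by
  by_cases hH : H ≤ tee D
  · rw [inf_eq_left.2 hH]; omega
  obtain ⟨t, htH, ht⟩ : ∃ t ∈ H, t ∉ tee D := by
    by_contra h; push Not at h; exact hH h
  classical
  let f : H → Bool × (H ⊓ tee D : Subgroup G) := fun x =>
    if h : x.1 ∈ tee D then (true, ⟨x.1, x.2, h⟩) else (false, ⟨t * x.1, H.mul_mem htH x.2, hB.h₃ _ _ ht h⟩)
  have hf : Function.Injective f := by
    intro x y hxy
    by_cases hx : x.1 ∈ tee D <;> by_cases hy : y.1 ∈ tee D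
    · simp only [f, dif_pos hx, dif_pos hy, Prod.mk.injEq, true_and] at hxy
      exact Subtype.ext (congrArg (fun z : (H ⊓ tee D : Subgroup G) => z.1) hxy)
    · simp only [f, dif_pos hx, dif_neg hy, Prod.mk.injEq, Bool.true_eq_false, false_and] at hxy
    · simp only [f, dif_neg hx, dif_pos hy, Prod.mk.injEq, Bool.false_eq_true, false_and] at hxy
    · simp only [f, dif_neg hx, dif_neg hy, Prod.mk.injEq, true_and] at hxy
      exact Subtype.ext (mul_left_cancel (congrArg (fun z : (H ⊓ tee D : Subgroup G) => z.1) hxy))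
  have := Nat.card_le_card_of_injective f hf
  rw [Nat.card_prod] at this
  simpa using this

/-- The homomorphism `m ↦ cj m + m`. -/
def th : Q4 →+ Q4 where
  toFun m := cj m + m
  map_zero' := by decide
  map_add' := by decide

/-- The case `H ≰ tee D`. -/
theorem case_not_le [Finite G] (B : Basis D w₁ w₂ a₁ a₂) (hG : IsPGroup 2 G) (hE : NoE8 G)
    (hW : Nat.card (omg D) = 4) (hB : Adapted B) (H : Subgroup G)
    {t : G} (htH : t ∈ H) (ht : t ∉ tee D) : Nat.card H ≤ 16 * Nat.card (sqs H) := by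
  by_contra hlt
  push Not at hlt
  have hTn := tee_normal D
  have h32 : 32 * Nat.card (sqs H) ≤ Nat.card H := two_pow_step hG H (sqs H) 4 hlt
  have hsqT : ∀ x : G, x ^ 2 ∈ tee D := by
    intro x
    by_cases hx : x ∈ tee D
    · exact (tee D).pow_mem hx 2
    · rw [pow_two]; exact hB.h₃ x x hx hx
  have hRT : sqs H ≤ tee D := sqs_le (fun x _ => hsqT x)
  have h2 := card_le_two_mul hB H
  have hH0 : H ⊓ tee D ≤ tee D := inf_le_right
  have h3 := card_img B (H ⊓ tee D) hH0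
  have h4 := card_img B (sqs H) hRT
  have hK : H ⊓ tee D ⊓ cen D ≤ cen D := inf_le_right
  have hRK : ∀ k ∈ H ⊓ tee D ⊓ cen D, k ^ 2 ∈ sqs H ⊓ cen D :=
    fun k hk => ⟨sq_mem_sqs hk.1.1, (cen D).pow_mem hk.2 2⟩
  have h5 : Nat.card (H ⊓ tee D ⊓ cen D : Subgroup G) ≤ Nat.card (sqs H ⊓ cen D : Subgroup G) * 4 := by
    rw [← hW]; exact card_le_mul D hG hK hRK
  -- image of `th`
  have hth : ∀ m ∈ img B (H ⊓ tee D) hH0, th m ∈ img B (sqs H) hRT := by
    rintro m ⟨x, hx, rfl⟩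
    refine ⟨t * x * t⁻¹ * x⁻¹, comm_mem_sqs htH hx.1, ?_⟩
    rw [mu_mul B (hTn.conj_mem x hx.2 t) ((tee D).inv_mem hx.2), mu_inv B hx.2, mu_conj hB ht hx.2]
    rfl
  set S := img B (H ⊓ tee D) hH0 with hS
  set SR := img B (sqs H) hRT with hSR
  let f : S →+ SR :=
    { toFun := fun m => ⟨th m.1, hth m.1 m.2⟩
      map_zero' := Subtype.ext (map_zero th)
      map_add' := fun m m' => Subtype.ext (map_add th m.1 m'.1) }
  have h6 : Nat.card S ≤ Nat.card f.ker * Nat.card SR := by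
    have h7 := AddSubgroup.card_mul_index f.ker
    rw [AddSubgroup.index_ker] at h7
    rw [← h7]
    refine Nat.mul_le_mul_left _ ?_
    exact Nat.card_le_card_of_injective _ Subtype.val_injective
  -- the kernel
  let kset : Finset Q4 := {m | th m = 0}
  have hkset : kset.card = 4 := by decide
  let g : f.ker → kset := fun m => ⟨m.1.1, by
    have : f m.1 = 0 := m.2
    have h8 : th m.1.1 = 0 := congrArg Subtype.val this
    simp only [kset, Finset.mem_filter, Finset.mem_univ, true_and]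
    exact h8⟩
  have hg : Function.Injective g := by
    intro m m' h
    have h' : m.1.1 = m'.1.1 := congrArg (fun z : kset => z.1) h
    exact Subtype.ext (Subtype.ext h')
  have h9 : Nat.card f.ker ≤ 4 := by
    have := Nat.card_le_card_of_injective g hg
    rwa [Nat.card_eq_fintype_card (α := kset), Fintype.card_coe, hkset] at this
  set k := Nat.card (H ⊓ tee D ⊓ cen D : Subgroup G)
  set r := Nat.card (sqs H ⊓ cen D : Subgroup G)
  have hpr : 0 < r := Nat.card_pos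
  have hpSR : 0 < Nat.card SR := Nat.card_pos
  have hpk : 0 < k := Nat.card_pos
  -- 16 r |SR| ≤ k |S|
  have h10 : 16 * (r * Nat.card SR) ≤ k * Nat.card S := by
    rw [← h4, ← h3]; omega
  have h11 : Nat.card S ≤ 4 * Nat.card SR := h6.trans (Nat.mul_le_mul_right _ h9)
  -- so `4 r ≤ k` and the kernel is everything
  have h12 : 4 * r ≤ k := by
    by_contra hcon
    push Not at hcon
    have h13 : k * Nat.card S < (4 * r) * (4 * Nat.card SR) :=
      lt_of_le_of_lt (Nat.mul_le_mul_left k h11) (Nat.mul_lt_mul_of_pos_right hcon (by omega))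
    have h14 : 4 * r * (4 * Nat.card SR) = 16 * (r * Nat.card SR) := by ring
    omega
  have h13 : 4 ≤ Nat.card f.ker := by
    by_contra hcon
    push Not at hcon
    have h14 : Nat.card S ≤ 3 * Nat.card SR :=
      h6.trans (Nat.mul_le_mul_right _ (by omega))
    have h15 : k * Nat.card S ≤ (r * 4) * (3 * Nat.card SR) := Nat.mul_le_mul h5 h14
    have h16 : r * 4 * (3 * Nat.card SR) = 12 * (r * Nat.card SR) := by ring
    have h17 : 0 < r * Nat.card SR := Nat.mul_pos hpr hpSR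
    omega
  have hgs : Function.Surjective g := by
    have h14 : Nat.card kset ≤ Nat.card f.ker := by
      rw [Nat.card_eq_fintype_card (α := kset), Fintype.card_coe, hkset]; exact h13
    exact ((Nat.bijective_iff_injective_and_card g).2 ⟨hg, le_antisymm
      (Nat.card_le_card_of_injective g hg) h14⟩).2
  have hnn : nn ∈ S := by
    obtain ⟨m, hm⟩ := hgs ⟨nn, by decide⟩
    have : m.1.1 = nn := congrArg Subtype.val hm
    rw [← this]; exact m.1.2
  obtain ⟨x, hx, hmx⟩ := (mem_img B).1 hnn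
  have hsq := exists_sq_of_card D hG hK hRK (by omega) h12
  obtain ⟨l, hl, hl2⟩ := hsq (x ^ 2) ⟨sq_mem_sqs hx.1, sq_mem_cen B hx.2⟩
  have hlT := cen_le_tee D hl.2
  have hxl : x * l⁻¹ ∈ tee D := (tee D).mul_mem hx.2 ((tee D).inv_mem hlT)
  refine key_nn hG hE hW hB hxl (sq_mem_omg_of_sq_eq D hG hl.2 hl2.symm (sq_mem_cen B hxl)) ?_
  rw [mu_mul B hx.2 ((tee D).inv_mem hlT), mu_inv B hlT, mu_of_cen B hl.2, add_zero]
  exact hmx

end Cfsg.Agent.Classification.FourGenCases
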