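import Mathlib
import Cfsg.Agent.Classification.FourGenCases
import Cfsg.Agent.Lib.NormalAbelian
import Cfsg.Agent.S0130

set_option autoImplicit false

/-!
# MacWilliams' four generator theorem

A finite `2`-group without normal elementary abelian subgroups of order `8`: for all subgroups `R ≤ H` such that
`R` contains the squares of the elements of `H`, the index of `R` in `H` is at most `16`.
-/

namespace Cfsg.Agent.Classification.FourGenMain

open Cfsg.Agent.Classification.FourGenBase Cfsg.Agent.Classification.FourGenCoord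
  Cfsg.Agent.Classification.FourGenKey Cfsg.Agent.Classification.FourGenCases

variable {G : Type*} [Group G]

theorem card_le_fiber [Finite G] {X K : Subgroup G} {Y : Type*} [Finite Y] (f : X → Y)
    (hf : ∀ x y : X, f x = f y → (x : G)⁻¹ * y ∈ K) : Nat.card X ≤ Nat.card Y * Nat.card K := by
  classical
  have hr : ∀ y : Set.range f, ∃ x : X, f x = y.1 := fun y => y.2
  choose r hr using hr
  let g : X → Y × K := fun x => (f x, ⟨((r ⟨f x, x, rfl⟩ : X) : G)⁻¹ * x, hf _ _ (hr ⟨f x, x, rfl⟩)⟩)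
  have hg : Function.Injective g := by
    intro x y hxy
    have h1 : f x = f y := congrArg Prod.fst hxy
    have h2 : ((r ⟨f x, x, rfl⟩ : X) : G)⁻¹ * x = ((r ⟨f y, y, rfl⟩ : X) : G)⁻¹ * y :=
      congrArg (fun z : Y × K => (z.2 : G)) hxy
    have h3 : (⟨f x, x, rfl⟩ : Set.range f) = ⟨f y, y, rfl⟩ := Subtype.ext h1
    rw [h3] at h2
    exact Subtype.ext (mul_left_cancel h2)
  have := Nat.card_le_card_of_injective g hg
  rwa [Nat.card_prod] at this

theorem card_le_two_mul' [Finite G] {T : Subgroup G}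
    (h3 : ∀ g g' : G, g ∉ T → g' ∉ T → g * g' ∈ T) (H : Subgroup G) :
    Nat.card H ≤ 2 * Nat.card (H ⊓ T : Subgroup G) := by
  classical
  have h := card_le_fiber (X := H) (K := H ⊓ T) (Y := Bool) (fun x => decide (x.1 ∈ T)) (by
    intro x y hxy
    refine ⟨H.mul_mem (H.inv_mem x.2) y.2, ?_⟩
    by_cases hx : x.1 ∈ T
    · have hy : y.1 ∈ T := by
        have : decide (x.1 ∈ T) = true := decide_eq_true hx
        simp only [this] at hxy
        exact of_decide_eq_true hxy.symm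
      exact T.mul_mem (T.inv_mem hx) hy
    · have hy : y.1 ∉ T := by
        have : decide (x.1 ∈ T) = false := decide_eq_false hx
        simp only [this] at hxy
        exact of_decide_eq_false hxy.symm
      have hx' : (x.1)⁻¹ ∉ T := fun h => hx (by simpa using T.inv_mem h)
      exact h3 _ _ hx' hy)
  simpa using h

variable {A : Subgroup G}

/-- The cover of `omg D`. -/
theorem cover_of_ne [Finite G] {D : Data A} (hW : Nat.card (omg D) = 4) {w₁ w₂ : G} (h₁ : w₁ ∈ omg D)
    (h₂ : w₂ ∈ omg D) (n₁ : w₁ ≠ 1) (n₂ : w₂ ≠ 1) (n : w₁ ≠ w₂) :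
    ∀ w ∈ omg D, w = 1 ∨ w = w₁ ∨ w = w₂ ∨ w = w₁ * w₂ := by
  classical
  have hinv : ∀ w ∈ omg D, w⁻¹ = w := fun w hw => by
    rw [inv_eq_iff_mul_eq_one, ← pow_two]; exact hw.2
  have hsub : ((({1, w₁, w₂, w₁ * w₂} : Finset G) : Set G)) ⊆ (omg D : Set G) := by
    intro x hx
    simp only [Finset.coe_insert, Finset.coe_singleton, Set.mem_insert_iff, Set.mem_singleton_iff] at hx
    rcases hx with rfl | rfl | rfl | rfl
    · exact (omg D).one_mem
    · exact h₁
    · exact h₂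
    · exact (omg D).mul_mem h₁ h₂
  have hcard : ({1, w₁, w₂, w₁ * w₂} : Finset G).card = 4 := by
    have e1 : w₁ * w₂ ≠ 1 := fun h => n ((eq_inv_of_mul_eq_one_left h).trans (hinv _ h₂))
    have e2 : w₁ * w₂ ≠ w₁ := fun h => n₂ (mul_eq_left.mp h)
    have e3 : w₁ * w₂ ≠ w₂ := fun h => n₁ (mul_eq_right.mp h)
    rw [Finset.card_insert_of_notMem, Finset.card_insert_of_notMem, Finset.card_insert_of_notMem,
      Finset.card_singleton]
    · simp only [Finset.mem_singleton]; exact fun h => e3 h.symm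
    · simp only [Finset.mem_insert, Finset.mem_singleton, not_or]; exact ⟨n, fun h => e2 h.symm⟩
    · simp only [Finset.mem_insert, Finset.mem_singleton, not_or]
      exact ⟨fun h => n₁ h.symm, fun h => n₂ h.symm, fun h => e1 h.symm⟩
  have heq : ((({1, w₁, w₂, w₁ * w₂} : Finset G) : Set G)) = (omg D : Set G) := by
    refine Set.eq_of_subset_of_ncard_le hsub ?_ (Set.toFinite _)
    rw [Set.ncard_coe_finset, hcard, ← hW]
    exact (Nat.card_coe_set_eq _).symm.le
  intro w hw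
  have h : w ∈ ((({1, w₁, w₂, w₁ * w₂} : Finset G) : Set G)) := by rw [heq]; exact hw
  simpa only [Finset.coe_insert, Finset.coe_singleton, Set.mem_insert_iff, Set.mem_singleton_iff] using h

/-- A second generator of `omg D`. -/
theorem exists_second [Finite G] {D : Data A} (hW : Nat.card (omg D) = 4) (w₁ : G) :
    ∃ w₂ ∈ omg D, w₂ ≠ 1 ∧ w₁ ≠ w₂ := by
  classical
  by_contra h
  push Not at h
  have hsub : (omg D : Set G) ⊆ (({1, w₁} : Finset G) : Set G) := by
    intro x hx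
    by_cases hx1 : x = 1
    · simp [hx1]
    · have := h x hx hx1
      simp [this]
  have h1 : (omg D : Set G).ncard ≤ 2 := by
    refine (Set.ncard_le_ncard hsub (Set.toFinite _)).trans ?_
    rw [Set.ncard_coe_finset]
    exact Finset.card_le_two
  rw [← Nat.card_coe_set_eq] at h1
  have : Nat.card (omg D) ≤ 2 := h1
  omega

theorem sq_mul {D : Data A} {a b : G} (ha : a ∈ A) (hb : b ∈ A) : (a * b) ^ 2 = a ^ 2 * b ^ 2 := by
  have hc : Commute a b := D.comm a ha b hb
  exact hc.mul_pow 2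

/-- Surjectivity of squaring `A → omg D` when `A` is not covered by two cosets of `omg D`. -/
theorem exists_sqrt [Finite G] {D : Data A} (hW : Nat.card (omg D) = 4)
    (hQ : ¬ ∃ a ∈ A, ∀ b ∈ A, b ∈ omg D ∨ b * a⁻¹ ∈ omg D) : ∀ w ∈ omg D, ∃ a ∈ A, a ^ 2 = w := by
  push Not at hQ
  obtain ⟨a, ha, haW, -⟩ := hQ 1 A.one_mem
  obtain ⟨b, hb, hbW, hbaW⟩ := hQ a ha
  have hmem : ∀ c ∈ A, c ^ 2 = 1 → c ∈ omg D := fun c hc h => ⟨hc, h⟩
  have n1 : a ^ 2 ≠ 1 := fun h => haW (hmem a ha h)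
  have n2 : b ^ 2 ≠ 1 := fun h => hbW (hmem b hb h)
  have n3 : a ^ 2 ≠ b ^ 2 := by
    intro h
    apply hbaW
    refine hmem _ (A.mul_mem hb (A.inv_mem ha)) ?_
    rw [sq_mul (D := D) hb (A.inv_mem ha), inv_pow, h, mul_inv_cancel]
  intro w hw
  rcases cover_of_ne hW (sq_mem_omg D ha) (sq_mem_omg D hb) n1 n2 n3 w hw with rfl | rfl | rfl | rfl
  · exact ⟨1, A.one_mem, one_pow 2⟩
  · exact ⟨a, ha, rfl⟩
  · exact ⟨b, hb, rfl⟩
  · exact ⟨a * b, A.mul_mem ha hb, sq_mul (D := D) ha hb⟩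

theorem sqs_le_self (H : Subgroup G) : sqs H ≤ H := sqs_le (fun _ hx => H.pow_mem hx 2)

/-- The case of a homocyclic `A`. -/
theorem case_big [Finite G] {D : Data A} (hG : IsPGroup 2 G) (hE : NoE8 G) (hW : Nat.card (omg D) = 4)
    (hQ : ¬ ∃ a ∈ A, ∀ b ∈ A, b ∈ omg D ∨ b * a⁻¹ ∈ omg D) {w₁ : G} (h₁ : w₁ ∈ omg D) (n₁ : w₁ ≠ 1)
    (hcen : ∀ g : G, g * w₁ = w₁ * g) (H : Subgroup G) : Nat.card H ≤ 16 * Nat.card (sqs H) := by
  obtain ⟨w₂, h₂, n₂, n⟩ := exists_second hW w₁
  obtain ⟨a₁, ha₁, rfl⟩ := exists_sqrt hW hQ w₁ h₁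
  obtain ⟨a₂, ha₂, rfl⟩ := exists_sqrt hW hQ w₂ h₂
  have hcov := cover_of_ne hW h₁ h₂ n₁ n₂ n
  have B : Basis D (a₁ ^ 2) (a₂ ^ 2) a₁ a₂ := ⟨ha₁, ha₂, rfl, rfl, n₁, n₂, n, hcov⟩
  have hg1 : ∀ g : G, g * a₁ ^ 2 * g⁻¹ = a₁ ^ 2 := fun g => by rw [hcen, mul_inv_cancel_right]
  by_cases hT : ∀ g : G, g ∈ tee D
  · exact case_top B hG hE hW hT H
  push Not at hT
  obtain ⟨t, ht⟩ := hT
  have hWn := omg_normal D
  have hout : ∀ g : G, g ∉ tee D → g * a₂ ^ 2 * g⁻¹ = a₁ ^ 2 * a₂ ^ 2 := by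
    intro g hg
    rcases hcov _ (hWn.conj_mem _ h₂ g) with h | h | h | h
    · exfalso; apply n₂
      have : a₂ ^ 2 = g⁻¹ * (g * a₂ ^ 2 * g⁻¹) * g := by group
      rw [this, h]; group
    · exfalso; apply n
      have h5 : a₂ ^ 2 = g⁻¹ * (g * a₂ ^ 2 * g⁻¹) * g := by group
      rw [h5, h]
      have := hg1 g⁻¹
      rw [inv_inv] at this
      exact this.symm
    · exfalso; apply hg
      rw [mem_tee]
      intro w hw
      have hc1 : Commute (a₁ ^ 2) g := (hcen g).symm
      have hc2 : Commute (a₂ ^ 2) g := by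
        rw [mul_inv_eq_iff_eq_mul] at h
        exact h.symm
      rcases hcov w hw with rfl | rfl | rfl | rfl
      · rw [one_mul, mul_one]
      · exact hc1
      · exact hc2
      · exact hc1.mul_left hc2
    · exact h
  have hB : Adapted B := by
    refine ⟨fun g _ => hg1 g, hout, fun g g' hg hg' => ?_⟩
    rw [mem_tee]
    have hc1 : Commute (a₁ ^ 2) (g * g') := (hcen (g * g')).symm
    have hc2 : Commute (a₂ ^ 2) (g * g') := by
      have h5 : (g * g') * a₂ ^ 2 * (g * g')⁻¹ = a₂ ^ 2 := by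
        calc (g * g') * a₂ ^ 2 * (g * g')⁻¹ = g * (g' * a₂ ^ 2 * g'⁻¹) * g⁻¹ := by group
          _ = g * (a₁ ^ 2 * a₂ ^ 2) * g⁻¹ := by rw [hout g' hg']
          _ = (g * a₁ ^ 2 * g⁻¹) * (g * a₂ ^ 2 * g⁻¹) := by group
          _ = a₁ ^ 2 * (a₁ ^ 2 * a₂ ^ 2) := by rw [hg1 g, hout g hg]
          _ = (a₁ ^ 2) ^ 2 * a₂ ^ 2 := by rw [pow_two (a₁ ^ 2)]; group
          _ = a₂ ^ 2 := by rw [h₁.2, one_mul]
      rw [mul_inv_eq_iff_eq_mul] at h5
      exact h5.symm
    intro w hw
    rcases hcov w hw with rfl | rfl | rfl | rfl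
    · rw [one_mul, mul_one]
    · exact hc1
    · exact hc2
    · exact hc1.mul_left hc2
  by_cases hH : H ≤ tee D
  · exact case_le B hG hE hW hB ht H hH
  · obtain ⟨t', ht'H, ht'⟩ : ∃ t ∈ H, t ∉ tee D := by
      by_contra h; push Not at h; exact hH h
    exact case_not_le B hG hE hW hB H ht'H ht'

/-- `A` covered by two cosets of `omg D`: counting. -/
theorem card_le_of_delta [Finite G] {D : Data A} {a : G}
    (hQ : ∀ b ∈ A, b ∈ omg D ∨ b * a⁻¹ ∈ omg D) {X V : Subgroup G} (hX : X ≤ tee D)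
    (hV : ∀ x ∈ X, x * a * x⁻¹ * a⁻¹ ∈ V) :
    Nat.card X ≤ Nat.card V * Nat.card (X ⊓ cen D : Subgroup G) := by
  refine card_le_fiber (Y := V) (fun x => ⟨x.1 * a * x.1⁻¹ * a⁻¹, hV x.1 x.2⟩) ?_
  intro x y hxy
  have h1 : x.1 * a * x.1⁻¹ * a⁻¹ = y.1 * a * y.1⁻¹ * a⁻¹ := congrArg (fun z : V => z.1) hxy
  have h2 : x.1 * a * x.1⁻¹ = y.1 * a * y.1⁻¹ := mul_right_cancel h1
  have hz : (x.1)⁻¹ * y.1 ∈ X := X.mul_mem (X.inv_mem x.2) y.2
  refine ⟨hz, (mem_cen D).2 ?_⟩
  have hca : Commute a ((x.1)⁻¹ * y.1) := by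
    have h3 : ((x.1)⁻¹ * y.1) * a * ((x.1)⁻¹ * y.1)⁻¹ = a := by
      calc ((x.1)⁻¹ * y.1) * a * ((x.1)⁻¹ * y.1)⁻¹ = (x.1)⁻¹ * (y.1 * a * y.1⁻¹) * x.1 := by group
        _ = (x.1)⁻¹ * (x.1 * a * x.1⁻¹) * x.1 := by rw [h2]
        _ = a := by group
    rw [mul_inv_eq_iff_eq_mul] at h3
    exact h3.symm
  intro b hb
  rcases hQ b hb with h | h
  · exact (mem_tee D).1 (hX hz) b h
  · have h3 : Commute (b * a⁻¹) ((x.1)⁻¹ * y.1) := (mem_tee D).1 (hX hz) _ h
    have h4 := h3.mul_left hca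
    rwa [inv_mul_cancel_right] at h4

theorem case_small [Finite G] {D : Data A} (hG : IsPGroup 2 G) (hW : Nat.card (omg D) ≤ 2) {a : G}
    (ha : a ∈ A) (hQ : ∀ b ∈ A, b ∈ omg D ∨ b * a⁻¹ ∈ omg D) (H : Subgroup G) :
    Nat.card H ≤ 16 * Nat.card (sqs H) := by
  classical
  have hWn := omg_normal D
  have hT : ∀ g : G, g ∈ tee D := by
    intro g
    rw [mem_tee]
    intro w hw
    by_contra hne
    have hw1 : w ≠ 1 := by rintro rfl; exact hne (by rw [one_mul, mul_one])
    have hc : g * w * g⁻¹ ≠ w := by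
      intro h
      rw [mul_inv_eq_iff_eq_mul] at h
      exact hne h.symm
    have hc1 : g * w * g⁻¹ ≠ 1 := by
      intro h
      apply hw1
      have : w = g⁻¹ * (g * w * g⁻¹) * g := by group
      rw [this, h]; group
    have hsub : ((({1, w, g * w * g⁻¹} : Finset G) : Set G)) ⊆ (omg D : Set G) := by
      intro x hx
      simp only [Finset.coe_insert, Finset.coe_singleton, Set.mem_insert_iff,
        Set.mem_singleton_iff] at hx
      rcases hx with rfl | rfl | rfl
      · exact (omg D).one_mem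
      · exact hw
      · exact hWn.conj_mem w hw g
    have h1 := Set.ncard_le_ncard hsub (Set.toFinite _)
    rw [Set.ncard_coe_finset, Finset.card_insert_of_notMem, Finset.card_insert_of_notMem,
      Finset.card_singleton, ← Nat.card_coe_set_eq] at h1
    · have : 3 ≤ Nat.card (omg D) := h1
      omega
    · simp only [Finset.mem_singleton]; exact fun h => hc h.symm
    · simp only [Finset.mem_insert, Finset.mem_singleton, not_or]
      exact ⟨fun h => hw1 h.symm, fun h => hc1 h.symm⟩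
  have h1 := card_le_of_delta hQ (X := H) (V := omg D) (fun x _ => hT x)
    (fun x _ => delta_mem (hT x) ha)
  have h2 : Nat.card (H ⊓ cen D : Subgroup G) ≤ Nat.card (sqs H) * Nat.card (omg D) :=
    card_le_mul D hG inf_le_right (fun k hk => sq_mem_sqs hk.1)
  calc Nat.card H ≤ Nat.card (omg D) * Nat.card (H ⊓ cen D : Subgroup G) := h1
    _ ≤ 2 * (Nat.card (sqs H) * 2) :=
        Nat.mul_le_mul hW (h2.trans (Nat.mul_le_mul_left _ hW))
    _ ≤ 16 * Nat.card (sqs H) := by omega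

theorem case_mid [Finite G] {D : Data A} (hG : IsPGroup 2 G) (hW : Nat.card (omg D) = 4) {a : G}
    (ha : a ∈ A) (hQ : ∀ b ∈ A, b ∈ omg D ∨ b * a⁻¹ ∈ omg D) {w₁ : G} (h₁ : w₁ ∈ omg D) (n₁ : w₁ ≠ 1)
    (hcen : ∀ g : G, g * w₁ = w₁ * g) (H : Subgroup G) :
    Nat.card H ≤ 16 * Nat.card (sqs H) := by
  classical
  have hWn := omg_normal D
  obtain ⟨w₂, h₂, n₂, n⟩ := exists_second hW w₁
  have hcov := cover_of_ne hW h₁ h₂ n₁ n₂ n
  have hg1 : ∀ g : G, g * w₁ * g⁻¹ = w₁ := fun g => by rw [hcen, mul_inv_cancel_right]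
  have hout : ∀ g : G, g ∉ tee D → g * w₂ * g⁻¹ = w₁ * w₂ := by
    intro g hg
    rcases hcov _ (hWn.conj_mem _ h₂ g) with h | h | h | h
    · exfalso; apply n₂
      have : w₂ = g⁻¹ * (g * w₂ * g⁻¹) * g := by group
      rw [this, h]; group
    · exfalso; apply n
      have h5 : w₂ = g⁻¹ * (g * w₂ * g⁻¹) * g := by group
      rw [h5, h]
      have := hg1 g⁻¹
      rw [inv_inv] at this
      exact this.symm
    · exfalso; apply hg
      rw [mem_tee]
      intro w hw
      have hc1 : Commute w₁ g := (hcen g).symm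
      have hc2 : Commute w₂ g := by
        rw [mul_inv_eq_iff_eq_mul] at h
        exact h.symm
      rcases hcov w hw with rfl | rfl | rfl | rfl
      · rw [one_mul, mul_one]
      · exact hc1
      · exact hc2
      · exact hc1.mul_left hc2
    · exact h
  have h₃ : ∀ g g' : G, g ∉ tee D → g' ∉ tee D → g * g' ∈ tee D := by
    intro g g' hg hg'
    rw [mem_tee]
    have hc1 : Commute w₁ (g * g') := (hcen (g * g')).symm
    have hc2 : Commute w₂ (g * g') := by
      have h5 : (g * g') * w₂ * (g * g')⁻¹ = w₂ := by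
        calc (g * g') * w₂ * (g * g')⁻¹ = g * (g' * w₂ * g'⁻¹) * g⁻¹ := by group
          _ = g * (w₁ * w₂) * g⁻¹ := by rw [hout g' hg']
          _ = (g * w₁ * g⁻¹) * (g * w₂ * g⁻¹) := by group
          _ = w₁ * (w₁ * w₂) := by rw [hg1 g, hout g hg]
          _ = w₁ ^ 2 * w₂ := by rw [pow_two w₁]; group
          _ = w₂ := by rw [h₁.2, one_mul]
      rw [mul_inv_eq_iff_eq_mul] at h5
      exact h5.symm
    intro w hw
    rcases hcov w hw with rfl | rfl | rfl | rfl
    · rw [one_mul, mul_one]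
    · exact hc1
    · exact hc2
    · exact hc1.mul_left hc2
  have hTn := tee_normal D
  by_contra hlt
  push Not at hlt
  have h32 : 32 * Nat.card (sqs H) ≤ Nat.card H := two_pow_step hG H (sqs H) 4 hlt
  have e1 := card_le_two_mul' h₃ H
  have e2 : Nat.card (H ⊓ tee D ⊓ cen D : Subgroup G) ≤ Nat.card (sqs H ⊓ cen D : Subgroup G) * 4 := by
    rw [← hW]
    exact card_le_mul D hG inf_le_right (fun k hk => ⟨sq_mem_sqs hk.1.1, (cen D).pow_mem hk.2 2⟩)
  have e3 : Nat.card (sqs H ⊓ cen D : Subgroup G) ≤ Nat.card (sqs H) :=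
    Subgroup.card_le_of_le inf_le_left
  have hpos : 0 < Nat.card (sqs H) := Nat.card_pos
  by_cases haW : a ∈ omg D
  · -- `A = omg D`
    have h6 : H ⊓ tee D ≤ H ⊓ tee D ⊓ cen D := by
      intro x hx
      refine ⟨hx, (mem_cen D).2 ?_⟩
      intro b hb
      have hbW : b ∈ omg D := by
        rcases hQ b hb with h | h
        · exact h
        · have := (omg D).mul_mem h haW
          rwa [inv_mul_cancel_right] at this
      exact (mem_tee D).1 hx.2 b hbW
    have h7 := Subgroup.card_le_of_le h6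
    omega
  · have e4 : Nat.card (H ⊓ tee D : Subgroup G) ≤
        Nat.card (omg D) * Nat.card (H ⊓ tee D ⊓ cen D : Subgroup G) :=
      card_le_of_delta hQ inf_le_right (fun x hx => delta_mem hx.2 ha)
    rw [hW] at e4
    -- `sqs H ≤ cen D`
    have hRC : sqs H ≤ cen D := by
      have h6 : Nat.card (sqs H) ≤ Nat.card (sqs H ⊓ cen D : Subgroup G) := by omega
      have h7 : (sqs H ⊓ cen D : Subgroup G) = sqs H := Subgroup.eq_of_le_of_card_ge inf_le_left h6
      exact inf_eq_left.1 h7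
    obtain ⟨t, htH, ht⟩ : ∃ t ∈ H, t ∉ tee D := by
      by_contra h
      push Not at h
      have : H ⊓ tee D = H := inf_eq_left.2 h
      rw [this] at e4 e2
      omega
    have hinv1 : w₁⁻¹ = w₁ := by rw [inv_eq_iff_mul_eq_one, ← pow_two]; exact h₁.2
    have hV : ∀ x ∈ H ⊓ tee D, x * a * x⁻¹ * a⁻¹ ∈ Subgroup.zpowers w₁ := by
      intro x hx
      have hd := delta_mem hx.2 ha
      have hc := hRC (comm_mem_sqs htH hx.1)
      have hta : t⁻¹ * a * t ∈ A := by
        have := D.norm.conj_mem a ha t⁻¹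
        rwa [inv_inv] at this
      have htaW : (t⁻¹ * a * t) * a⁻¹ ∈ omg D := by
        rcases hQ _ hta with h | h
        · exfalso; apply haW
          have := hWn.conj_mem _ h t
          have h6 : t * (t⁻¹ * a * t) * t⁻¹ = a := by group
          rwa [h6] at this
        · exact h
      -- `δ_x (t⁻¹ a t) = δ_x a`
      have h7 : x * (t⁻¹ * a * t) * x⁻¹ * (t⁻¹ * a * t)⁻¹ = x * a * x⁻¹ * a⁻¹ := by
        have h8 := delta_mul hx.2 htaW.1 ha
        rw [inv_mul_cancel_right] at h8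
        rw [h8]
        have h9 : x * (t⁻¹ * a * t * a⁻¹) * x⁻¹ * (t⁻¹ * a * t * a⁻¹)⁻¹ = 1 := by
          have h10 := (mem_tee D).1 hx.2 _ htaW
          rw [← h10]; group
        rw [h9, one_mul]
      have h8 : t * (x * a * x⁻¹ * a⁻¹) * t⁻¹ = x * a * x⁻¹ * a⁻¹ := by
        set c := t * x * t⁻¹ * x⁻¹ with hcdef
        have h9 : (x * a * x⁻¹) * c = c * (x * a * x⁻¹) :=
          (mem_cen D).1 hc _ (D.norm.conj_mem a ha x)
        calc t * (x * a * x⁻¹ * a⁻¹) * t⁻¹
            = t * (x * (t⁻¹ * a * t) * x⁻¹ * (t⁻¹ * a * t)⁻¹) * t⁻¹ := by rw [h7]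
          _ = (c * (x * a * x⁻¹)) * c⁻¹ * a⁻¹ := by rw [hcdef]; group
          _ = ((x * a * x⁻¹) * c) * c⁻¹ * a⁻¹ := by rw [h9]
          _ = x * a * x⁻¹ * a⁻¹ := by group
      rcases hcov _ hd with h | h | h | h
      · rw [h]; exact Subgroup.one_mem _
      · rw [h]; exact Subgroup.mem_zpowers w₁
      · exfalso
        rw [h, hout t ht] at h8
        exact n₁ (mul_eq_right.mp h8)
      · exfalso
        rw [h] at h8
        have h9 : t * (w₁ * w₂) * t⁻¹ = w₂ := by
          calc t * (w₁ * w₂) * t⁻¹ = (t * w₁ * t⁻¹) * (t * w₂ * t⁻¹) := by group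
            _ = w₁ * (w₁ * w₂) := by rw [hg1 t, hout t ht]
            _ = w₁ ^ 2 * w₂ := by rw [pow_two w₁]; group
            _ = w₂ := by rw [h₁.2, one_mul]
        rw [h9] at h8
        exact n₁ (mul_eq_right.mp h8.symm)
    have e5 := card_le_of_delta hQ (X := H ⊓ tee D) (V := Subgroup.zpowers w₁) inf_le_right hV
    have e6 : Nat.card (Subgroup.zpowers w₁) ≤ 2 := by
      rw [Nat.card_zpowers]
      exact Nat.le_of_dvd (by norm_num) (orderOf_dvd_of_pow_eq_one h₁.2)
    have e7 : Nat.card (H ⊓ tee D : Subgroup G) ≤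
        2 * Nat.card (H ⊓ tee D ⊓ cen D : Subgroup G) :=
      e5.trans (Nat.mul_le_mul_right _ e6)
    omega

/-- MacWilliams' four generator theorem, counting form. -/
theorem card_le_sqs [Finite G] (hG : IsPGroup 2 G) (hE : NoE8 G) (H : Subgroup G) :
    Nat.card H ≤ 16 * Nat.card (sqs H) := by
  classical
  -- a maximal normal abelian subgroup of exponent dividing 4
  let P : Subgroup G → Prop := fun A => A.Normal ∧ IsMulCommutative A ∧ ∀ a ∈ A, a ^ 4 = 1
  have hne : ({A | P A} : Set (Subgroup G)).Nonempty := by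
    refine ⟨⊥, inferInstance, inferInstance, ?_⟩
    intro a ha
    rw [Subgroup.mem_bot.1 ha, one_pow]
  obtain ⟨A, hA⟩ := Set.Finite.exists_maximal (Set.toFinite {A | P A}) hne
  obtain ⟨⟨hAn, hAc, hA4⟩, hmax⟩ := hA
  have hcomm : ∀ a ∈ A, ∀ b ∈ A, a * b = b * a := fun a ha b hb =>
    congrArg Subtype.val (hAc.is_comm.comm (⟨a, ha⟩ : A) ⟨b, hb⟩)
  have hp2 : Fact (Nat.Prime 2) := ⟨Nat.prime_two⟩
  have D : Data A := by
    refine ⟨hcomm, hA4, hAn, ?_⟩
    intro x hx hx4
    refine Cfsg.Agent.S0130.result hG 2 (by norm_num) A hAc (by simpa using hA4) ?_ x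
      (Subgroup.mem_centralizer_iff.2 hx) (by simpa using hx4)
    intro B hBn hBc hB4 hAB
    exact le_antisymm (hmax ⟨hBn, hBc, by simpa using hB4⟩ hAB) hAB
  have hWn := omg_normal D
  have hWle : Nat.card (omg D) ≤ 4 := by
    refine hE (omg D) hWn (fun a ha b hb => D.comm a ha.1 b hb.1) (fun a ha => ha.2)
  obtain ⟨k, hk⟩ := (hG.to_subgroup (omg D)).exists_card_eq
  have hWcases : Nat.card (omg D) ≤ 2 ∨ Nat.card (omg D) = 4 := by
    rcases Nat.lt_or_ge k 2 with h | h
    · left; rw [hk]; calc 2 ^ k ≤ 2 ^ 1 := Nat.pow_le_pow_right (by norm_num) (by omega)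
        _ = 2 := by norm_num
    · right
      have : 2 ^ 2 ≤ 2 ^ k := Nat.pow_le_pow_right (by norm_num) h
      omega
  rcases hWcases with hW | hW
  · -- `|omg D| ≤ 2`
    by_cases hAW : ∀ b ∈ A, b ∈ omg D
    · exact case_small hG hW A.one_mem (fun b hb => Or.inl (hAW b hb)) H
    · push Not at hAW
      obtain ⟨a, ha, haW⟩ := hAW
      refine case_small hG hW ha ?_ H
      intro b hb
      by_cases hbW : b ∈ omg D
      · exact Or.inl hbW
      · right
        -- `a ^ 2 = b ^ 2` is the unique nontrivial element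
        have ha2 : a ^ 2 ≠ 1 := fun h => haW ⟨ha, h⟩
        have hb2 : b ^ 2 ≠ 1 := fun h => hbW ⟨hb, h⟩
        have hab : a ^ 2 = b ^ 2 := by
          by_contra hab
          have hsub : ((({1, a ^ 2, b ^ 2} : Finset G) : Set G)) ⊆ (omg D : Set G) := by
            intro x hx
            simp only [Finset.coe_insert, Finset.coe_singleton, Set.mem_insert_iff,
              Set.mem_singleton_iff] at hx
            rcases hx with rfl | rfl | rfl
            · exact (omg D).one_mem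
            · exact sq_mem_omg D ha
            · exact sq_mem_omg D hb
          have h1 := Set.ncard_le_ncard hsub (Set.toFinite _)
          rw [Set.ncard_coe_finset, Finset.card_insert_of_notMem, Finset.card_insert_of_notMem,
            Finset.card_singleton, ← Nat.card_coe_set_eq] at h1
          · have : 3 ≤ Nat.card (omg D) := h1
            omega
          · simp only [Finset.mem_singleton]; exact hab
          · simp only [Finset.mem_insert, Finset.mem_singleton, not_or]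
            exact ⟨fun h => ha2 h.symm, fun h => hb2 h.symm⟩
        refine ⟨A.mul_mem hb (A.inv_mem ha), ?_⟩
        rw [sq_mul (D := D) hb (A.inv_mem ha), inv_pow, hab, mul_inv_cancel]
  · -- `|omg D| = 4`
    have hnil : Group.IsNilpotent G := hG.isNilpotent
    have hbot : omg D ≠ ⊥ := by
      intro h
      rw [h, Subgroup.card_bot] at hW
      omega
    have h1 := Cfsg.Agent.Lib.NormalAbelian.normal_inf_center_ne_bot (omg D) hbot
    obtain ⟨w₁, hn₁⟩ := (Subgroup.ne_bot_iff_exists_ne_one).1 h1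
    · by_cases hQ : ∃ a ∈ A, ∀ b ∈ A, b ∈ omg D ∨ b * a⁻¹ ∈ omg D
      · obtain ⟨a, ha, hQ⟩ := hQ
        exact case_mid hG hW ha hQ (w₁ := w₁.1) w₁.2.1 (fun h => hn₁ (Subtype.ext h))
          (fun g => Subgroup.mem_center_iff.1 w₁.2.2 g) H
      · exact case_big hG hE hW hQ (w₁ := w₁.1) w₁.2.1 (fun h => hn₁ (Subtype.ext h))
          (fun g => Subgroup.mem_center_iff.1 w₁.2.2 g) H

/-- MacWilliams' four generator theorem. -/
theorem card_le [Finite G] (hG : IsPGroup 2 G) (hE : NoE8 G) (H R : Subgroup G)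
    (hR : ∀ x ∈ H, x ^ 2 ∈ R) : Nat.card H ≤ 16 * Nat.card R :=
  (card_le_sqs hG hE H).trans (Nat.mul_le_mul_left _ (Subgroup.card_le_of_le (sqs_le hR)))

/-- The order of the preimage of a subgroup of a quotient. -/
theorem card_comap_mk {K : Type*} [Group K] (N : Subgroup K) [N.Normal] (B : Subgroup (K ⧸ N)) :
    Nat.card (B.comap (QuotientGroup.mk' N)) = Nat.card N * Nat.card B := by
  have hs := QuotientGroup.mk'_surjective N
  have hle : N ≤ B.comap (QuotientGroup.mk' N) := by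
    intro x hx
    rw [Subgroup.mem_comap, QuotientGroup.mk'_apply, (QuotientGroup.eq_one_iff x).mpr hx]
    exact B.one_mem
  have h1 : Nat.card ((B.comap (QuotientGroup.mk' N)).map (QuotientGroup.mk' N)) =
      N.relIndex (B.comap (QuotientGroup.mk' N)) := by
    rw [← Subgroup.relIndex_ker, QuotientGroup.ker_mk']
  rw [Subgroup.map_comap_eq_self_of_surjective hs] at h1
  rw [h1]
  have h2 := Subgroup.relIndex_mul_relIndex ⊥ N (B.comap (QuotientGroup.mk' N)) bot_le hle
  rw [Subgroup.relIndex_bot_left, Subgroup.relIndex_bot_left] at h2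
  rw [← h2]

end Cfsg.Agent.Classification.FourGenMain
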