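import Mathlib
import Cfsg.Prelude.Def_Characters
import Cfsg.Agent.CharactersDeep.BrauerLocal

/-!
# Brauer–Suzuki–Wall, end game, part 1: integrality and counting

`A` is a subgroup, `s` an involution outside `A` inverting `A`, and `A` is TI with normaliser
`A ∪ sA`.
-/

set_option autoImplicit false

open Cfsg
open scoped ComplexConjugate

namespace Cfsg.Agent.Classification.BSWCount

universe u

open Cfsg.Agent.Characters Cfsg.Agent.CharactersDeep.AChar
  Cfsg.Agent.CharactersDeep.Descent Cfsg.Agent.CharactersDeep.BrauerLocal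

/-- Integral values of a combination of characters are congruent mod `p`. -/
theorem dvd_sub_of_mem_achar {G : Type u} [Group G] [Finite G] {p : ℕ} (hp : p.Prime)
    {f : G → ℂ} (hf : f ∈ achar G) (g : G) {j k : ℕ} (h : (g ^ j) ^ (p ^ k) = g ^ (p ^ k))
    {a b : ℤ} (ha : f g = a) (hb : f (g ^ j) = b) : (p : ℤ) ∣ a - b := by
  obtain ⟨M, hM, hpM⟩ := exists_maximal p hp
  obtain ⟨m, hmM, hm⟩ := congr_of_mem_achar hp hM.isPrime hpM hf g h
  by_contra hcon
  have hcop : IsCoprime (a - b) (p : ℤ) :=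
    (((Nat.prime_iff_prime_int.1 hp).coprime_iff_not_dvd).2 hcon).symm
  apply not_mem_of_coprime hM.isPrime hpM hcop
  have : ((a - b : ℤ) : AlgInt) = m := by
    apply Subtype.ext
    rw [hm, ha, hb]
    push_cast
    ring
  rw [this]
  exact hmM

section count

variable {G : Type u} [Group G] [Fintype G]

open Classical in
/-- The set `A ∪ sA` has `2|A|` elements. -/
theorem card_union (A : Subgroup G) (s : G) (hsA : s ∉ A) :
    (Finset.univ.filter fun y : G => y ∈ A ∨ s * y ∈ A).card = 2 * Nat.card A := by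
  classical
  rw [Finset.filter_or, Finset.card_union_of_disjoint]
  · have h1 : (Finset.univ.filter fun y : G => y ∈ A).card = Nat.card A := by
      rw [Nat.card_eq_fintype_card, Fintype.card_subtype]
    have h2 : (Finset.univ.filter fun y : G => s * y ∈ A).card =
        (Finset.univ.filter fun y : G => y ∈ A).card := by
      apply Finset.card_bij (fun y _ => s * y)
      · intro y hy
        simpa using hy
      · intro a _ b _ h
        exact mul_left_cancel h
      · intro b hb
        refine ⟨s⁻¹ * b, ?_, by group⟩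
        simpa using hb
    rw [h2, h1]
    ring
  · rw [Finset.disjoint_left]
    intro y hy hy'
    simp only [Finset.mem_filter, Finset.mem_univ, true_and] at hy hy'
    apply hsA
    have := A.mul_mem hy' (A.inv_mem hy)
    simpa using this

open Classical in
/-- Sums over the elements not conjugate into `A`. -/
theorem sum_off (A : Subgroup G) (s : G) (hs : s * s = 1) (hsA : s ∉ A)
    (hA : ∀ a ∈ A, ∀ b ∈ A, a * b = b * a) (hinv : ∀ a ∈ A, s * a * s⁻¹ = a⁻¹)
    (hTI : ∀ g, ∀ x ∈ A, x ≠ 1 → g * x * g⁻¹ ∈ A → g ∈ A ∨ s * g ∈ A)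
    (h : G → ℤ) (hcl : ∀ x g, h (x * g * x⁻¹) = h g) :
    2 * (Nat.card A : ℤ) *
        (h 1 + ∑ g ∈ Finset.univ.filter (fun g : G => ∀ x : G, x * g * x⁻¹ ∉ A), h g) =
      2 * (Nat.card A : ℤ) * ∑ g : G, h g -
        (Nat.card G : ℤ) * ∑ a ∈ Finset.univ.filter (fun a : G => a ∈ A ∧ a ≠ 1), h a := by
  classical
  have hsinv : s⁻¹ = s := inv_eq_of_mul_eq_one_left hs
  -- the number of conjugating elements
  have hJ : ∀ g : G, g ≠ 1 → (∃ x, x * g * x⁻¹ ∈ A) →
      (Finset.univ.filter fun x : G => x * g * x⁻¹ ∈ A).card = 2 * Nat.card A := by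
    rintro g hg ⟨x₀, hx₀⟩
    rw [← card_union A s hsA]
    symm
    apply Finset.card_bij (fun y _ => y * x₀)
    · intro y hy
      simp only [Finset.mem_filter, Finset.mem_univ, true_and] at hy ⊢
      have h1 : y * x₀ * g * (y * x₀)⁻¹ = y * (x₀ * g * x₀⁻¹) * y⁻¹ := by group
      rw [h1]
      set a := x₀ * g * x₀⁻¹ with ha
      rcases hy with hy | hy
      · exact A.mul_mem (A.mul_mem hy hx₀) (A.inv_mem hy)
      · have h2 : y * a * y⁻¹ = s * (s * y * a * (s * y)⁻¹) * s⁻¹ := by
          rw [hsinv, mul_inv_rev, hsinv]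
          have : s * (s * y * a * (y⁻¹ * s)) * s = (s * s) * (y * a * y⁻¹) * (s * s) := by group
          rw [this, hs, one_mul, mul_one]
        rw [h2, hA _ hy _ hx₀, mul_inv_cancel_right, hinv _ hx₀]
        exact A.inv_mem hx₀
    · intro a _ b _ hab
      exact mul_right_cancel hab
    · intro x hx
      simp only [Finset.mem_filter, Finset.mem_univ, true_and] at hx
      refine ⟨x * x₀⁻¹, ?_, by group⟩
      simp only [Finset.mem_filter, Finset.mem_univ, true_and]
      apply hTI _ _ hx₀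
      · intro h1
        apply hg
        have : g = x₀⁻¹ * (x₀ * g * x₀⁻¹) * x₀ := by group
        rw [this, h1]
        group
      · have : x * x₀⁻¹ * (x₀ * g * x₀⁻¹) * (x * x₀⁻¹)⁻¹ = x * g * x⁻¹ := by group
        rw [this]
        exact hx
  -- double counting
  have hdc : ∑ g ∈ Finset.univ.filter (fun g : G => g ≠ 1 ∧ ∃ x, x * g * x⁻¹ ∈ A),
      2 * (Nat.card A : ℤ) * h g =
      (Nat.card G : ℤ) * ∑ a ∈ Finset.univ.filter (fun a : G => a ∈ A ∧ a ≠ 1), h a := by
    have h1 : ∀ x : G, ∑ g : G, (if g ≠ 1 ∧ x * g * x⁻¹ ∈ A then h g else 0) =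
        ∑ a ∈ Finset.univ.filter (fun a : G => a ∈ A ∧ a ≠ 1), h a := by
      intro x
      rw [Finset.sum_filter]
      refine Fintype.sum_equiv (MulAut.conj x).toEquiv _ _ fun g => ?_
      have h2 : (MulAut.conj x).toEquiv g = x * g * x⁻¹ := rfl
      rw [h2, hcl]
      have h3 : (g ≠ 1 ∧ x * g * x⁻¹ ∈ A) ↔ (x * g * x⁻¹ ∈ A ∧ x * g * x⁻¹ ≠ 1) := by
        rw [ne_eq, ne_eq, conj_eq_one_iff, and_comm]
      simp only [h3]
    have h4 : ∑ x : G, ∑ g : G, (if g ≠ 1 ∧ x * g * x⁻¹ ∈ A then h g else 0) =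
        (Nat.card G : ℤ) * ∑ a ∈ Finset.univ.filter (fun a : G => a ∈ A ∧ a ≠ 1), h a := by
      simp_rw [h1]
      rw [Finset.sum_const, Finset.card_univ, nsmul_eq_mul, Nat.card_eq_fintype_card]
    rw [← h4, Finset.sum_comm, Finset.sum_filter]
    refine Finset.sum_congr rfl fun g _ => ?_
    by_cases hg : g ≠ 1 ∧ ∃ x, x * g * x⁻¹ ∈ A
    · rw [if_pos hg]
      have h5 : ∑ x : G, (if g ≠ 1 ∧ x * g * x⁻¹ ∈ A then h g else 0) =
          ∑ x ∈ Finset.univ.filter (fun x : G => x * g * x⁻¹ ∈ A), h g := by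
        rw [Finset.sum_filter]
        refine Finset.sum_congr rfl fun x _ => ?_
        simp only [hg.1, ne_eq, not_false_eq_true, true_and]
      rw [h5, Finset.sum_const, hJ g hg.1 hg.2, nsmul_eq_mul]
      push_cast
      ring
    · rw [if_neg hg]
      symm
      apply Finset.sum_eq_zero
      intro x _
      rw [if_neg]
      rintro ⟨h5, h6⟩
      exact hg ⟨h5, x, h6⟩
  rw [← hdc, ← Finset.mul_sum]
  -- split the sum
  have hsplit : ∑ g : G, h g =
      (h 1 + ∑ g ∈ Finset.univ.filter (fun g : G => ∀ x : G, x * g * x⁻¹ ∉ A), h g) +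
      ∑ g ∈ Finset.univ.filter (fun g : G => g ≠ 1 ∧ ∃ x, x * g * x⁻¹ ∈ A), h g := by
    rw [← Finset.sum_filter_add_sum_filter_not Finset.univ (fun g : G => ∀ x : G, x * g * x⁻¹ ∉ A)]
    have h6 : Finset.univ.filter (fun g : G => ¬ ∀ x : G, x * g * x⁻¹ ∉ A) =
        insert 1 (Finset.univ.filter (fun g : G => g ≠ 1 ∧ ∃ x, x * g * x⁻¹ ∈ A)) := by
      ext g
      simp only [not_forall, not_not, Finset.mem_filter, Finset.mem_univ, true_and,
        Finset.mem_insert]
      constructor
      · rintro ⟨x, hx⟩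
        by_cases hg : g = 1
        · exact Or.inl hg
        · exact Or.inr ⟨hg, x, hx⟩
      · rintro (rfl | ⟨_, x, hx⟩)
        · exact ⟨1, by simp [A.one_mem]⟩
        · exact ⟨x, hx⟩
    rw [h6, Finset.sum_insert (by simp)]
    ring
  rw [hsplit]
  ring

end count

end Cfsg.Agent.Classification.BSWCount
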