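import Mathlib
import Cfsg.Agent.Classification.BSWStruct

/-!
# Brauer–Suzuki–Wall, end game, part 4: the subgroups of order `q`
-/

set_option autoImplicit false

namespace Cfsg.Agent.Classification.BSWSylow

universe u

open Cfsg.Agent.CharactersDeep.BrauerLocal Cfsg.Agent.Classification.BSWStruct

variable {G : Type u} [Group G] [Fintype G] {q k : ℕ} {d : ℤ} {n : G → ℤ}

section basic

variable (D : EndData G q k d n)

include D

/-- The exact power of `p` in the group order. -/
theorem factorization_eq {p a : ℕ} (hp : p.Prime) (hqa : q = p ^ a) (ha : 0 < a) :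
    (Nat.card G).factorization p = a := by
  obtain ⟨c, hc, hc0, hcard, hcq⟩ := D.exists_c
  have hkpos : 0 < k := by have := D.hk; omega
  have hpq : p ∣ q := by rw [hqa]; exact dvd_pow_self p ha.ne'
  have h1 : ¬ p ∣ k * c := D.not_dvd_of_dvd_q hp hpq hc
  have h2 : Nat.card G = p ^ a * (k * c) := by rw [hcard, ← hqa]; ring
  rw [h2, Nat.factorization_mul (pow_ne_zero _ hp.ne_zero) (Nat.mul_pos hkpos hc0).ne',
    Finsupp.add_apply, hp.factorization_pow, Finsupp.single_eq_same,
    Nat.factorization_eq_zero_of_not_dvd h1, add_zero]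

/-- Two subgroups of order `q` are conjugate. -/
theorem conj_of_card {H₁ H₂ : Subgroup G} (h₁ : Nat.card H₁ = q) (h₂ : Nat.card H₂ = q) :
    ∃ g : G, ∀ x, x ∈ H₁ ↔ g * x * g⁻¹ ∈ H₂ := by
  obtain ⟨p, a, hp, ha, hqa⟩ := D.q_prime_pow
  have := Fact.mk hp
  have hf := factorization_eq D hp hqa ha
  let P₁ : Sylow p G := Sylow.ofCard H₁ (by rw [h₁, hf, hqa])
  let P₂ : Sylow p G := Sylow.ofCard H₂ (by rw [h₂, hf, hqa])
  obtain ⟨g, hg⟩ := MulAction.exists_smul_eq G P₁ P₂
  refine ⟨g, fun x => ?_⟩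
  have h3 : ((g • P₁ : Sylow p G) : Subgroup G) = H₂ := by
    rw [hg]
    exact Sylow.coe_ofCard _ _
  rw [← h3, Sylow.coe_subgroup_smul, Sylow.coe_ofCard, Subgroup.mem_smul_pointwise_iff_exists]
  constructor
  · intro hx
    exact ⟨x, hx, rfl⟩
  · rintro ⟨y, hy, hyx⟩
    have h4 : g * y * g⁻¹ = g * x * g⁻¹ := hyx
    have h5 : y = x := by
      have := congrArg (fun z => g⁻¹ * z * g) h4
      simpa [mul_assoc] using this
    rwa [h5] at hy

theorem zero_of_mem {H : Subgroup G} (hH : Nat.card H = q) {x : G} (hx : x ∈ H) (hx1 : x ≠ 1) :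
    n x = 0 := by
  apply D.zero_of_primes _ x rfl hx1
  intro r hr hrx
  have h1 : orderOf x ∣ Nat.card H := by
    rw [← Subgroup.orderOf_mk x hx]
    exact orderOf_dvd_natCard _
  rw [hH] at h1
  exact hrx.trans h1

/-- A subgroup of order `q` has a central element different from `1`. -/
theorem exists_central {H : Subgroup G} (hH : Nat.card H = q) :
    ∃ z ∈ H, z ≠ 1 ∧ ∀ y ∈ H, z * y = y * z := by
  obtain ⟨p, a, hp, ha, hqa⟩ := D.q_prime_pow
  have := Fact.mk hp
  have hpg : IsPGroup p H := IsPGroup.of_card (hH.trans hqa)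
  have hnt : Nontrivial H := by
    rw [← Finite.one_lt_card_iff_nontrivial, hH]
    have := D.q_ge
    omega
  have hc := hpg.center_nontrivial
  obtain ⟨z, hz⟩ := exists_ne (1 : Subgroup.center H)
  refine ⟨((z : H) : G), (z : H).2, ?_, ?_⟩
  · intro h
    apply hz
    apply Subtype.ext
    apply Subtype.ext
    exact h
  · intro y hy
    have h1 := Subgroup.mem_center_iff.1 z.2 ⟨y, hy⟩
    exact (congrArg Subtype.val h1).symm

theorem centralizer_eq {H : Subgroup G} (hH : Nat.card H = q) {z : G} (hz : n z = 0)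
    (hc : ∀ y ∈ H, z * y = y * z) : Subgroup.centralizer ({z} : Set G) = H := by
  symm
  apply Subgroup.eq_of_le_of_card_ge
  · intro y hy
    exact Subgroup.mem_centralizer_singleton_iff.2 (hc y hy).symm
  · rw [hH, D.card_centralizer hz]

/-- If an involution acts on a set of elements, it centralises no element where `n` vanishes. -/
theorem not_commute_involution {x u : G} (hx : n x = 0) (hu : orderOf u = 2) :
    ¬ u * x = x * u := by
  intro h
  have h1 : u ∈ Subgroup.centralizer ({x} : Set G) := Subgroup.mem_centralizer_singleton_iff.2 h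
  have h2 : orderOf u ∣ Nat.card (Subgroup.centralizer ({x} : Set G)) := by
    rw [← Subgroup.orderOf_mk u h1]
    exact orderOf_dvd_natCard _
  rw [D.card_centralizer hx, hu] at h2
  obtain ⟨m, hm⟩ := D.odd_q
  omega

/-- Sylow `p`-subgroups normalised by a `p`-element contain it. -/
theorem mem_of_mem_normalizer {H : Subgroup G} (hH : Nat.card H = q) {x : G} (hx : n x = 0)
    (hxN : x ∈ Subgroup.normalizer (H : Set G)) : x ∈ H := by
  obtain ⟨p, a, hp, ha, hqa⟩ := D.q_prime_pow
  have := Fact.mk hp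
  have hf := factorization_eq D hp hqa ha
  let P : Sylow p G := Sylow.ofCard H (by rw [hH, hf, hqa])
  have hP : (P : Subgroup G) = H := Sylow.coe_ofCard _ _
  have hx' : IsPGroup p (Subgroup.zpowers x) := by
    have h1 : x ∈ Subgroup.centralizer ({x} : Set G) :=
      Subgroup.mem_centralizer_singleton_iff.2 rfl
    have h2 : orderOf x ∣ p ^ a := by
      rw [← hqa, ← D.card_centralizer hx, ← Subgroup.orderOf_mk x h1]
      exact orderOf_dvd_natCard _
    obtain ⟨b, -, hb⟩ := (Nat.dvd_prime_pow hp).1 h2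
    exact IsPGroup.of_card (by rw [Nat.card_zpowers, hb])
  have h3 := hx'.inf_normalizer_sylow P
  have h4 : x ∈ Subgroup.zpowers x ⊓ Subgroup.normalizer (P : Set G) := by
    refine ⟨Subgroup.mem_zpowers x, ?_⟩
    change x ∈ Subgroup.normalizer ((P : Subgroup G) : Set G)
    rw [hP]
    exact hxN
  rw [h3, hP] at h4
  exact h4.2

/-- fusion of central elements is controlled by the normaliser -/
theorem mem_normalizer_of_conj {H : Subgroup G} (hH : Nat.card H = q) {z g : G} (hz : n z = 0)
    (hc : ∀ y ∈ H, z * y = y * z) (hc' : ∀ y ∈ H, (g * z * g⁻¹) * y = y * (g * z * g⁻¹)) :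
    g ∈ Subgroup.normalizer (H : Set G) := by
  have hz' : n (g * z * g⁻¹) = 0 := by rw [D.conj, hz]
  have h1 := centralizer_eq D hH hz hc
  have h2 := centralizer_eq D hH hz' hc'
  rw [Subgroup.mem_normalizer_iff]
  intro x
  have h3 : x ∈ H ↔ x * z = z * x := by
    rw [← h1, Subgroup.mem_centralizer_singleton_iff]
  have h4 : g * x * g⁻¹ ∈ H ↔ (g * x * g⁻¹) * (g * z * g⁻¹) = (g * z * g⁻¹) * (g * x * g⁻¹) := by
    nth_rewrite 1 [← h2]
    rw [Subgroup.mem_centralizer_singleton_iff]
  change x ∈ H ↔ g * x * g⁻¹ ∈ H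
  rw [h3, h4]
  have e1 : (g * x * g⁻¹) * (g * z * g⁻¹) = g * (x * z) * g⁻¹ := by group
  have e2 : (g * z * g⁻¹) * (g * x * g⁻¹) = g * (z * x) * g⁻¹ := by group
  rw [e1, e2]
  constructor
  · intro h; rw [h]
  · intro h
    exact mul_left_cancel (mul_right_cancel h)

end basic

section pos

/-- In the case `d = 1` the subgroups of order `q` are abelian. -/
theorem abelian_of_pos (D : EndData G q k d n)
    (hF : ∀ g : G, n g = 0 → Nat.card {u : G // orderOf u = 2 ∧ u * g * u = g⁻¹} = q)
    {H : Subgroup G} (hH : Nat.card H = q) : ∀ x ∈ H, ∀ y ∈ H, x * y = y * x := by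
  classical
  obtain ⟨z, hzH, hz1, hzc⟩ := exists_central D hH
  have hz : n z = 0 := zero_of_mem D hH hzH hz1
  have hC := centralizer_eq D hH hz hzc
  have hcard := hF z hz
  have hq := D.q_ge
  obtain ⟨⟨u₀, hu₀, hu₀z⟩⟩ : Nonempty {u : G // orderOf u = 2 ∧ u * z * u = z⁻¹} := by
    rw [← Finite.card_pos_iff, hcard]
    omega
  have hu₀2 : u₀ * u₀ = 1 := by
    have := pow_orderOf_eq_one u₀
    rwa [hu₀, pow_two] at this
  -- the map `u ↦ u₀ u` is a bijection onto the centraliser
  have hmem : ∀ u : {u : G // orderOf u = 2 ∧ u * z * u = z⁻¹}, u₀ * u.1 ∈ H := by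
    rintro ⟨u, hu, huz⟩
    have hu2 : u * u = 1 := by
      have := pow_orderOf_eq_one u
      rwa [hu, pow_two] at this
    rw [← hC, Subgroup.mem_centralizer_singleton_iff]
    have h1 : u * z = z⁻¹ * u := by
      calc u * z = u * z * (u * u) := by rw [hu2, mul_one]
        _ = (u * z * u) * u := by group
        _ = z⁻¹ * u := by rw [huz]
    have h2 : u₀ * z⁻¹ = z * u₀ := by
      have h3 : u₀ * z⁻¹ * u₀ = z := by
        have : (u₀ * z * u₀)⁻¹ = u₀⁻¹ * z⁻¹ * u₀⁻¹ := by group
        rw [hu₀z, inv_inv, inv_eq_of_mul_eq_one_left hu₀2] at this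
        exact this.symm
      calc u₀ * z⁻¹ = u₀ * z⁻¹ * (u₀ * u₀) := by rw [hu₀2, mul_one]
        _ = (u₀ * z⁻¹ * u₀) * u₀ := by group
        _ = z * u₀ := by rw [h3]
    calc u₀ * u * z = u₀ * (u * z) := by group
      _ = (u₀ * z⁻¹) * u := by rw [h1]; group
      _ = z * (u₀ * u) := by rw [h2]; group
  let f : {u : G // orderOf u = 2 ∧ u * z * u = z⁻¹} → H := fun u => ⟨u₀ * u.1, hmem u⟩
  have hinj : Function.Injective f := by
    intro a b hab
    have h1 : u₀ * a.1 = u₀ * b.1 := congrArg Subtype.val hab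
    exact Subtype.ext (mul_left_cancel h1)
  have hbij : Function.Bijective f := by
    rw [Nat.bijective_iff_injective_and_card]
    exact ⟨hinj, by rw [hcard, hH]⟩
  have hinv : ∀ c ∈ H, u₀ * c * u₀ = c⁻¹ := by
    intro c hc
    obtain ⟨⟨u, hu, huz⟩, huc⟩ := hbij.2 ⟨c, hc⟩
    have h1 : u₀ * u = c := congrArg Subtype.val huc
    have hu2 : u * u = 1 := by
      have := pow_orderOf_eq_one u
      rwa [hu, pow_two] at this
    have h2 : u₀ * c * u₀ * c = 1 := by
      rw [← h1]
      calc u₀ * (u₀ * u) * u₀ * (u₀ * u) = (u₀ * u₀) * u * (u₀ * u₀) * u := by group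
        _ = 1 := by rw [hu₀2, one_mul, mul_one, hu2]
    exact eq_inv_of_mul_eq_one_left h2
  intro x hx y hy
  have h1 := hinv x hx
  have h2 := hinv y hy
  have h3 := hinv (x * y) (H.mul_mem hx hy)
  have h4 : u₀ * (x * y) * u₀ = (u₀ * x * u₀) * (u₀ * y * u₀) := by
    calc u₀ * (x * y) * u₀ = u₀ * x * 1 * y * u₀ := by group
      _ = u₀ * x * (u₀ * u₀) * y * u₀ := by rw [hu₀2]
      _ = (u₀ * x * u₀) * (u₀ * y * u₀) := by group
  rw [h3, h1, h2] at h4
  have h5 := congrArg (fun w => w⁻¹) h4
  simpa using h5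

end pos

section neg

open Classical in
/-- The nontrivial central elements of `P`. -/
theorem card_class_le (D : EndData G q k d n) (P : Subgroup G) (hP : Nat.card P = q) (g₁ : G) :
    (Finset.univ.filter fun z : G => (z ∈ P ∧ z ≠ 1 ∧ ∀ y ∈ P, z * y = y * z) ∧
      IsConj g₁ z).card * q ≤ Nat.card (Subgroup.normalizer (P : Set G)) := by
  classical
  set Z := Finset.univ.filter fun z : G => (z ∈ P ∧ z ≠ 1 ∧ ∀ y ∈ P, z * y = y * z) ∧
      IsConj g₁ z with hZ
  rcases Z.eq_empty_or_nonempty with h0 | ⟨z₀, hz₀⟩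
  · rw [h0]; simp
  have hmemZ : ∀ z, z ∈ Z ↔ (z ∈ P ∧ z ≠ 1 ∧ ∀ y ∈ P, z * y = y * z) ∧ IsConj g₁ z := by
    intro z; simp [hZ]
  obtain ⟨⟨hz₀P, hz₀1, hz₀c⟩, hz₀g⟩ := (hmemZ z₀).1 hz₀
  have hex : ∀ z : G, ∃ g : G, z ∈ Z → g * z₀ * g⁻¹ = z := by
    intro z
    by_cases hz : z ∈ Z
    · obtain ⟨g, hg⟩ := isConj_iff.1 (hz₀g.symm.trans ((hmemZ z).1 hz).2)
      exact ⟨g, fun _ => hg⟩
    · exact ⟨1, fun h => absurd h hz⟩
  choose f hf using hex
  have hPcard : (Finset.univ.filter fun x : G => x ∈ P).card = q := by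
    rw [← hP, Nat.card_eq_fintype_card, Fintype.card_subtype]
  have hNcard : (Finset.univ.filter fun x : G => x ∈ Subgroup.normalizer (P : Set G)).card =
      Nat.card (Subgroup.normalizer (P : Set G)) := by
    rw [Nat.card_eq_fintype_card, Fintype.card_subtype]
  have hprod : Z.card * q = (Z ×ˢ (Finset.univ.filter fun x : G => x ∈ P)).card := by
    rw [Finset.card_product, hPcard]
  rw [← hNcard, hprod]
  apply Finset.card_le_card_of_injOn (fun w => f w.1 * w.2)
  · rintro ⟨z, x⟩ hw
    simp only [Finset.coe_product, Set.mem_prod, Finset.mem_coe, Finset.mem_filter,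
      Finset.mem_univ, true_and] at hw
    obtain ⟨hzZ, hx⟩ := hw
    obtain ⟨⟨hzP, hz1, hzc⟩, -⟩ := (hmemZ z).1 hzZ
    simp only [Finset.coe_filter, Finset.mem_univ, true_and, Set.mem_ofPred_eq]
    apply Subgroup.mul_mem
    · apply mem_normalizer_of_conj D hP (zero_of_mem D hP hz₀P hz₀1) hz₀c
      rw [hf z hzZ]
      exact hzc
    · exact Subgroup.le_normalizer hx
  · rintro ⟨z, x⟩ hw ⟨z', x'⟩ hw' h
    simp only [Finset.coe_product, Set.mem_prod, Finset.mem_coe, Finset.mem_filter,
      Finset.mem_univ, true_and] at hw hw' h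
    have h1 : ∀ z ∈ Z, ∀ x ∈ P, (f z * x) * z₀ * (f z * x)⁻¹ = z := by
      intro z hz x hx
      have : f z * x * z₀ * (f z * x)⁻¹ = f z * (x * z₀) * x⁻¹ * (f z)⁻¹ := by group
      rw [this, ← hz₀c x hx]
      have : f z * (z₀ * x) * x⁻¹ * (f z)⁻¹ = f z * z₀ * (f z)⁻¹ := by group
      rw [this, hf z hz]
    have h2 : z = z' := by
      rw [← h1 z hw.1 x hw.2, ← h1 z' hw'.1 x' hw'.2, h]
    subst h2
    have h3 : x = x' := mul_left_cancel h
    rw [h3]

open Classical in
/-- The normaliser is large compared with the centre. -/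
theorem card_center_le (D : EndData G q k d n) (P : Subgroup G) (hP : Nat.card P = q) :
    (Finset.univ.filter fun z : G => z ∈ P ∧ z ≠ 1 ∧ ∀ y ∈ P, z * y = y * z).card * q ≤
      2 * Nat.card (Subgroup.normalizer (P : Set G)) := by
  classical
  obtain ⟨g₁, g₂, -, -, -, hall⟩ := D.exists_two
  have h1 := card_class_le D P hP g₁
  have h2 := card_class_le D P hP g₂
  have h3 : (Finset.univ.filter fun z : G => z ∈ P ∧ z ≠ 1 ∧ ∀ y ∈ P, z * y = y * z) ⊆
      (Finset.univ.filter fun z : G => (z ∈ P ∧ z ≠ 1 ∧ ∀ y ∈ P, z * y = y * z) ∧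
        IsConj g₁ z) ∪
      (Finset.univ.filter fun z : G => (z ∈ P ∧ z ≠ 1 ∧ ∀ y ∈ P, z * y = y * z) ∧
        IsConj g₂ z) := by
    intro z hz
    simp only [Finset.mem_filter, Finset.mem_univ, true_and, Finset.mem_union] at hz ⊢
    rcases hall z (zero_of_mem D hP hz.1 hz.2.1) with h | h
    · exact Or.inl ⟨hz, h⟩
    · exact Or.inr ⟨hz, h⟩
  have h4 := (Finset.card_le_card h3).trans (Finset.card_union_le _ _)
  nlinarith

open Classical in
/-- Many elements map the centre of `P` into `P`. -/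
theorem card_T_ge (D : EndData G q k d n) (P : Subgroup G) (hP : Nat.card P = q) :
    (q - 1) * Nat.card (Subgroup.normalizer (P : Set G)) ≤
      (Finset.univ.filter fun g : G => ∀ z ∈ P, (∀ y ∈ P, z * y = y * z) →
        g * z * g⁻¹ ∈ P).card *
      (Finset.univ.filter fun z : G => z ∈ P ∧ z ≠ 1 ∧ ∀ y ∈ P, z * y = y * z).card := by
  classical
  obtain ⟨z₀, hz₀P, hz₀1, hz₀c⟩ := exists_central D hP
  have hC₀ := centralizer_eq D hP (zero_of_mem D hP hz₀P hz₀1) hz₀c
  have hex : ∀ y : G, ∃ g : G, y ∈ P → y ≠ 1 →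
      ∀ x, x ∈ P ↔ g * x * g⁻¹ ∈ Subgroup.centralizer ({y} : Set G) := by
    intro y
    by_cases hy : y ∈ P ∧ y ≠ 1
    · obtain ⟨g, hg⟩ := conj_of_card D hP (D.card_centralizer (zero_of_mem D hP hy.1 hy.2))
      exact ⟨g, fun _ _ => hg⟩
    · exact ⟨1, fun h1 h2 => absurd ⟨h1, h2⟩ hy⟩
  choose f hf using hex
  have hPcard : (Finset.univ.filter fun x : G => x ∈ P ∧ x ≠ 1).card = q - 1 := by
    have h1 : (Finset.univ.filter fun x : G => x ∈ P ∧ x ≠ 1) =
        (Finset.univ.filter fun x : G => x ∈ P).erase 1 := by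
      ext x
      simp only [Finset.mem_filter, Finset.mem_univ, true_and, Finset.mem_erase]
      tauto
    rw [h1, Finset.card_erase_of_mem (by simp [P.one_mem])]
    rw [← hP, Nat.card_eq_fintype_card, Fintype.card_subtype]
  have hNcard : (Finset.univ.filter fun x : G => x ∈ Subgroup.normalizer (P : Set G)).card =
      Nat.card (Subgroup.normalizer (P : Set G)) := by
    rw [Nat.card_eq_fintype_card, Fintype.card_subtype]
  rw [← hNcard, ← hPcard, ← Finset.card_product, ← Finset.card_product]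
  apply Finset.card_le_card_of_injOn
    (fun w => (f w.1 * w.2, (f w.1 * w.2)⁻¹ * w.1 * (f w.1 * w.2)))
  · rintro ⟨y, m⟩ hw
    simp only [Finset.coe_product, Set.mem_prod, Finset.coe_filter, Finset.mem_univ, true_and,
      Set.mem_ofPred_eq] at hw
    obtain ⟨⟨hyP, hy1⟩, hm⟩ := hw
    have hfy := hf y hyP hy1
    -- `g = f y * m` maps `P` onto the centraliser of `y`
    have hg : ∀ x, x ∈ P ↔ (f y * m) * x * (f y * m)⁻¹ ∈ Subgroup.centralizer ({y} : Set G) := by
      intro x
      have h1 : x ∈ P ↔ m * x * m⁻¹ ∈ P := Subgroup.mem_normalizer_iff.1 hm x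
      rw [h1, hfy]
      have : f y * (m * x * m⁻¹) * (f y)⁻¹ = (f y * m) * x * (f y * m)⁻¹ := by group
      rw [this]
    simp only [Finset.coe_product, Set.mem_prod, Finset.coe_filter, Finset.mem_univ, true_and,
      Set.mem_ofPred_eq]
    set g := f y * m with hgdef
    refine ⟨?_, ?_, ?_, ?_⟩
    · intro z hz hzc
      rw [← hC₀, Subgroup.mem_centralizer_singleton_iff]
      -- `z₀` lies in the centraliser of `y`
      have h1 : z₀ ∈ Subgroup.centralizer ({y} : Set G) :=
        Subgroup.mem_centralizer_singleton_iff.2 (hz₀c y hyP)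
      have h2 : g⁻¹ * z₀ * g ∈ P := by
        rw [hg]
        have : g * (g⁻¹ * z₀ * g) * g⁻¹ = z₀ := by group
        rw [this]
        exact h1
      have h3 := hzc _ h2
      have h4 : g * (z * (g⁻¹ * z₀ * g)) * g⁻¹ = g * (g⁻¹ * z₀ * g * z) * g⁻¹ := by rw [h3]
      have e1 : g * (z * (g⁻¹ * z₀ * g)) * g⁻¹ = g * z * g⁻¹ * z₀ := by group
      have e2 : g * (g⁻¹ * z₀ * g * z) * g⁻¹ = z₀ * (g * z * g⁻¹) := by group
      rw [e1, e2] at h4
      exact h4
    · rw [hg]
      have : g * (g⁻¹ * y * g) * g⁻¹ = y := by group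
      rw [this]
      exact Subgroup.mem_centralizer_singleton_iff.2 rfl
    · intro h
      apply hy1
      have h2 := congrArg (fun w => g * w * g⁻¹) h
      simpa [mul_assoc] using h2
    · intro x hx
      have h1 := Subgroup.mem_centralizer_singleton_iff.1 ((hg x).1 hx)
      have e1 : g⁻¹ * y * g * x = g⁻¹ * (y * (g * x * g⁻¹)) * g := by group
      rw [e1, ← h1]
      group
  · rintro ⟨y, m⟩ hw ⟨y', m'⟩ hw' h
    simp only [Prod.mk.injEq] at h
    obtain ⟨h1, h2⟩ := h
    have h3 : y = y' := by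
      rw [h1] at h2
      exact mul_left_cancel (mul_right_cancel h2)
    subst h3
    have h4 : m = m' := mul_left_cancel h1
    rw [h4]

/-- In the case `d = -1` the subgroups of order `q` are abelian. -/
theorem abelian_of_neg (D : EndData G q k d n) (hd : d = -1)
    (hInv : Nat.card {u : G // orderOf u = 2} * (2 * k) = Nat.card G)
    (hF : ∀ g : G, n g = 0 → ∀ u : G, orderOf u = 2 → u * g * u ≠ g⁻¹)
    {H : Subgroup G} (hH : Nat.card H = q) : ∀ x ∈ H, ∀ y ∈ H, x * y = y * x := by
  classical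
  -- (c1): no nontrivial element of a subgroup of order `q` is mapped into it by an involution
  have hc1 : ∀ (P : Subgroup G), Nat.card P = q → ∀ u : G, orderOf u = 2 → ∀ x ∈ P,
      u * x * u ∈ P → x = 1 := by
    intro P hP u hu x hx hux
    by_contra hx1
    have hu2 : u * u = 1 := by
      have := pow_orderOf_eq_one u
      rwa [hu, pow_two] at this
    set w := x⁻¹ * (u * x * u) with hw
    have hwP : w ∈ P := P.mul_mem (P.inv_mem hx) hux
    have hwinv : u * w * u = w⁻¹ := by
      rw [hw]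
      calc u * (x⁻¹ * (u * x * u)) * u = u * x⁻¹ * u * x * (u * u) := by group
        _ = u * x⁻¹ * u * x := by rw [hu2, mul_one]
        _ = u⁻¹ * x⁻¹ * u⁻¹ * x := by rw [inv_eq_of_mul_eq_one_left hu2]
        _ = (x⁻¹ * (u * x * u))⁻¹ := by group
    by_cases hw1 : w = 1
    · apply not_commute_involution D (zero_of_mem D hP hx hx1) hu
      have h1 : u * x * u = x := by
        have := hw1
        rw [hw, inv_mul_eq_one] at this
        exact this.symm
      calc u * x = u * x * (u * u) := by rw [hu2, mul_one]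
        _ = (u * x * u) * u := by group
        _ = x * u := by rw [h1]
    · exact hF w (zero_of_mem D hP hwP hw1) u hu hwinv
  obtain ⟨c, hc, hc0, hcard, hcq⟩ := D.exists_c
  have hqk : q + 1 = 2 * k := by
    have := D.hq
    rw [hd] at this
    omega
  have hcq' : c + 1 = q := by
    rw [hd] at hc
    omega
  have hk := D.hk
  have hq3 := D.q_ge
  -- number of involutions
  have hcardI : Nat.card {u : G // orderOf u = 2} * 2 = q * c := by
    have h1 : (Nat.card {u : G // orderOf u = 2} * 2) * k = (q * c) * k := by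
      rw [hcard] at hInv
      linarith
    exact Nat.eq_of_mul_eq_mul_right (by omega) h1
  -- the central elements of `P` and the set `T`
  have hmain : ∀ (P : Subgroup G), Nat.card P = q → ∀ g : G,
      (∃ x ∈ P, x ≠ 1 ∧ g * x * g⁻¹ ∈ P) →
      ∀ z ∈ P, (∀ y ∈ P, z * y = y * z) → g * z * g⁻¹ ∈ P := by
    intro P hP
    obtain ⟨z₀, hz₀P, hz₀1, hz₀c⟩ := exists_central D hP
    set W := Finset.univ.filter fun g : G => ∀ x ∈ P, orderOf (g * x) ≠ 2 with hW
    set T := Finset.univ.filter fun g : G => ∀ z ∈ P, (∀ y ∈ P, z * y = y * z) →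
        g * z * g⁻¹ ∈ P with hT
    set Z := Finset.univ.filter fun z : G => z ∈ P ∧ z ≠ 1 ∧ ∀ y ∈ P, z * y = y * z with hZ
    -- elements mapping a nontrivial element of `P` into `P`
    have hSW : ∀ g : G, (∃ x ∈ P, x ≠ 1 ∧ g * x * g⁻¹ ∈ P) → g ∈ W := by
      rintro g ⟨x, hx, hx1, hgx⟩
      simp only [hW, Finset.mem_filter, Finset.mem_univ, true_and]
      intro y hy hu
      have hu2 : (g * y) * (g * y) = 1 := by
        have := pow_orderOf_eq_one (g * y)
        rwa [hu, pow_two] at this
      have h1 : y⁻¹ * x * y = 1 := by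
        apply hc1 P hP (g * y) hu _ (P.mul_mem (P.mul_mem (P.inv_mem hy) hx) hy)
        have h2 : g * y * (y⁻¹ * x * y) * (g * y) = g * x * g⁻¹ * ((g * y) * (g * y)) := by group
        rw [h2, hu2, mul_one]
        exact hgx
      apply hx1
      have h2 := congrArg (fun w => y * w * y⁻¹) h1
      simpa [mul_assoc] using h2
    have hTW : T ⊆ W := by
      intro g hg
      simp only [hT, Finset.mem_filter, Finset.mem_univ, true_and] at hg
      exact hSW g ⟨z₀, hz₀P, hz₀1, hg z₀ hz₀P hz₀c⟩
    -- the cardinality of `W`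
    have hPcard : (Finset.univ.filter fun x : G => x ∈ P).card = q := by
      rw [← hP, Nat.card_eq_fintype_card, Fintype.card_subtype]
    have hIcard : (Finset.univ.filter fun u : G => orderOf u = 2).card =
        Nat.card {u : G // orderOf u = 2} := by
      rw [Nat.card_eq_fintype_card, Fintype.card_subtype]
    have hWc : (Finset.univ.filter fun g : G => ¬ ∀ x ∈ P, orderOf (g * x) ≠ 2).card =
        Nat.card {u : G // orderOf u = 2} * q := by
      rw [← hIcard, ← hPcard, ← Finset.card_product]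
      symm
      apply Finset.card_bij (fun w _ => w.1 * w.2⁻¹)
      · rintro ⟨u, x⟩ hw
        simp only [Finset.mem_product, Finset.mem_filter, Finset.mem_univ, true_and] at hw
        simp only [Finset.mem_filter, Finset.mem_univ, true_and, not_forall]
        refine ⟨x, hw.2, ?_⟩
        rw [inv_mul_cancel_right, not_not]
        exact hw.1
      · rintro ⟨u, x⟩ hw ⟨u', x'⟩ hw' h
        simp only [Finset.mem_product, Finset.mem_filter, Finset.mem_univ, true_and] at hw hw'
        simp only at h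
        -- `u' = u * y` with `y ∈ P`
        have hy : x⁻¹ * x' ∈ P := P.mul_mem (P.inv_mem hw.2) hw'.2
        have h1 : u' = u * (x⁻¹ * x') := by
          rw [← mul_assoc, h, inv_mul_cancel_right]
        have hu2 : u * u = 1 := by
          have := pow_orderOf_eq_one u
          rwa [hw.1, pow_two] at this
        have hu2' : u' * u' = 1 := by
          have := pow_orderOf_eq_one u'
          rwa [hw'.1, pow_two] at this
        have h2 : u * (x⁻¹ * x') * u ∈ P := by
          have h3 : u * (x⁻¹ * x') * u = (x⁻¹ * x')⁻¹ := by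
            rw [h1] at hu2'
            have h4 : (u * (x⁻¹ * x') * u) * (x⁻¹ * x') = 1 := by
              rw [← hu2']; group
            exact eq_inv_of_mul_eq_one_left h4
          rw [h3]
          exact P.inv_mem hy
        have h3 := hc1 P hP u hw.1 _ hy h2
        have h4 : x = x' := by rwa [inv_mul_eq_one] at h3
        subst h4
        have h5 : u = u' := mul_right_cancel h
        rw [h5]
      · intro g hg
        simp only [Finset.mem_filter, Finset.mem_univ, true_and, not_forall, not_not] at hg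
        obtain ⟨x, hx, hgx⟩ := hg
        refine ⟨(g * x, x), ?_, by simp⟩
        simp only [Finset.mem_product, Finset.mem_filter, Finset.mem_univ, true_and]
        exact ⟨hgx, hx⟩
    have hWcard : 2 * W.card = q * (q - 1) := by
      have h1 := Finset.card_filter_add_card_filter_not (s := (Finset.univ : Finset G))
        (fun g : G => ∀ x ∈ P, orderOf (g * x) ≠ 2)
      rw [hWc, Finset.card_univ, ← Nat.card_eq_fintype_card, hcard] at h1
      have h2 : q - 1 = c := by omega
      rw [h2]
      have h3 : 2 * W.card + Nat.card {u : G // orderOf u = 2} * 2 * q = 2 * k * q * c := by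
        rw [← hW] at h1
        linear_combination 2 * h1
      rw [hcardI, ← hqk] at h3
      linarith
    have h1 := card_T_ge D P hP
    have h2 := card_center_le D P hP
    rw [← hT, ← hZ] at h1
    rw [← hZ] at h2
    have hZpos : 0 < Z.card := by
      rw [Finset.card_pos]
      exact ⟨z₀, by simp only [hZ, Finset.mem_filter, Finset.mem_univ, true_and]; exact
        ⟨hz₀P, hz₀1, hz₀c⟩⟩
    have h3 : W.card ≤ T.card := by
      have h4 : (q * (q - 1)) * Z.card ≤ (2 * T.card) * Z.card := by
        calc (q * (q - 1)) * Z.card = (q - 1) * (Z.card * q) := by ring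
          _ ≤ (q - 1) * (2 * Nat.card (Subgroup.normalizer (P : Set G))) :=
            Nat.mul_le_mul_left _ h2
          _ = 2 * ((q - 1) * Nat.card (Subgroup.normalizer (P : Set G))) := by ring
          _ ≤ 2 * (T.card * Z.card) := Nat.mul_le_mul_left _ h1
          _ = (2 * T.card) * Z.card := by ring
      have h5 := Nat.le_of_mul_le_mul_right h4 hZpos
      rw [← hWcard] at h5
      omega
    have hTeq : T = W := Finset.eq_of_subset_of_card_le hTW h3
    intro g hg z hz hzc
    have h6 := hSW g hg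
    rw [← hTeq] at h6
    simp only [hT, Finset.mem_filter, Finset.mem_univ, true_and] at h6
    exact h6 z hz hzc
  -- conclusion
  intro x hx y hy
  by_cases hx1 : x = 1
  · rw [hx1, one_mul, mul_one]
  by_cases hy1 : y = 1
  · rw [hy1, one_mul, mul_one]
  have hx0 := zero_of_mem D hH hx hx1
  have hy0 := zero_of_mem D hH hy hy1
  obtain ⟨z, hzH, hz1, hzc⟩ := exists_central D hH
  set Q := Subgroup.centralizer ({x} : Set G) with hQ
  set R := Subgroup.centralizer ({y} : Set G) with hR
  have hQc : Nat.card Q = q := D.card_centralizer hx0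
  have hRc : Nat.card R = q := D.card_centralizer hy0
  obtain ⟨g, hg⟩ := conj_of_card D hRc hQc
  have hzQ : z ∈ Q := Subgroup.mem_centralizer_singleton_iff.2 (hzc x hx)
  have hzR : z ∈ R := Subgroup.mem_centralizer_singleton_iff.2 (hzc y hy)
  have hxQ : x ∈ Q := Subgroup.mem_centralizer_singleton_iff.2 rfl
  -- `Q = g R g⁻¹`; apply `hmain` to `R` and `g⁻¹`... to get `x ∈ R`
  have h1 : g * (g⁻¹ * x * g) * g⁻¹ ∈ R := by
    apply hmain R hRc g ⟨g⁻¹ * z * g, ?_, ?_, ?_⟩
    · rw [hg]
      have : g * (g⁻¹ * x * g) * g⁻¹ = x := by group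
      rw [this]
      exact hxQ
    · intro w hw
      have h2 : g * w * g⁻¹ ∈ Q := (hg w).1 hw
      have h3 : (g * w * g⁻¹) * x = x * (g * w * g⁻¹) := Subgroup.mem_centralizer_singleton_iff.1 h2
      have h4 : g⁻¹ * x * g * w = g⁻¹ * (x * (g * w * g⁻¹)) * g := by group
      rw [h4, ← h3]
      group
    · rw [hg]
      have : g * (g⁻¹ * z * g) * g⁻¹ = z := by group
      rw [this]
      exact hzQ
    · intro h
      apply hz1
      have h2 := congrArg (fun w => g * w * g⁻¹) h
      simpa [mul_assoc] using h2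
    · have : g * (g⁻¹ * z * g) * g⁻¹ = z := by group
      rw [this]
      exact hzR
  have h2 : g * (g⁻¹ * x * g) * g⁻¹ = x := by group
  rw [h2] at h1
  exact Subgroup.mem_centralizer_singleton_iff.1 h1

end neg

end Cfsg.Agent.Classification.BSWSylow
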