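import Mathlib
import Cfsg.Prelude.Def_LieExceptional
import Cfsg.Agent.Classification.BSWSylow
import Cfsg.Agent.S0731

/-!
# Brauer–Suzuki–Wall, end game, part 5: the Zassenhaus group
-/

set_option autoImplicit false

namespace Cfsg.Agent.Classification.BSWZass

universe u

open Cfsg.Agent.CharactersDeep.BrauerLocal Cfsg.Agent.Classification.BSWStruct
  Cfsg.Agent.Classification.BSWSylow

variable {G : Type u} [Group G] [Fintype G] {q k : ℕ} {d : ℤ} {n : G → ℤ}

open Classical in
theorem card_normalizer_le (D : EndData G q k d n) {P : Subgroup G} (hP : Nat.card P = q)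
    (hab : ∀ x ∈ P, ∀ y ∈ P, x * y = y * x) {z : G} (hz : z ∈ P) (hz1 : z ≠ 1) :
    Nat.card (Subgroup.normalizer (P : Set G)) ≤
      q * (Finset.univ.filter fun x : G => x ∈ P ∧ x ≠ 1 ∧ IsConj z x).card := by
  classical
  have hNcard : (Finset.univ.filter fun x : G => x ∈ Subgroup.normalizer (P : Set G)).card =
      Nat.card (Subgroup.normalizer (P : Set G)) := by
    rw [Nat.card_eq_fintype_card, Fintype.card_subtype]
  have hPcard : (Finset.univ.filter fun x : G => x ∈ P).card = q := by
    rw [← hP, Nat.card_eq_fintype_card, Fintype.card_subtype]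
  have hC := centralizer_eq D hP (zero_of_mem D hP hz hz1) (hab z hz)
  rw [← hNcard]
  set N := Finset.univ.filter fun x : G => x ∈ Subgroup.normalizer (P : Set G) with hN
  have h1 : N.card ≤ q * (N.image fun m => m * z * m⁻¹).card := by
    apply Finset.card_le_mul_card_image
    intro a ha
    obtain ⟨m₀, hm₀, rfl⟩ := Finset.mem_image.1 ha
    rw [← hPcard]
    apply Finset.card_le_card_of_injOn (fun m => m₀⁻¹ * m)
    · intro m hm
      simp only [Finset.coe_filter, Set.mem_ofPred_eq] at hm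
      simp only [Finset.coe_filter, Finset.mem_univ, true_and, Set.mem_ofPred_eq]
      rw [← hC, Subgroup.mem_centralizer_singleton_iff]
      have h2 : m₀⁻¹ * (m * z * m⁻¹) * m = m₀⁻¹ * (m₀ * z * m₀⁻¹) * m := by
        have h3 : m * z * m⁻¹ = m₀ * z * m₀⁻¹ := hm.2
        rw [h3]
      have e1 : m₀⁻¹ * (m * z * m⁻¹) * m = m₀⁻¹ * m * z := by group
      have e2 : m₀⁻¹ * (m₀ * z * m₀⁻¹) * m = z * (m₀⁻¹ * m) := by group
      rw [e1, e2] at h2
      exact h2
    · intro a _ b _ h
      exact mul_left_cancel h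
  refine h1.trans (Nat.mul_le_mul_left _ (Finset.card_le_card ?_))
  intro x hx
  obtain ⟨m, hm, rfl⟩ := Finset.mem_image.1 hx
  simp only [hN, Finset.mem_filter, Finset.mem_univ, true_and] at hm ⊢
  refine ⟨(Subgroup.mem_normalizer_iff.1 hm z).1 hz, ?_, ?_⟩
  · rw [ne_eq, conj_eq_one_iff]
    exact hz1
  · exact isConj_iff.2 ⟨m, rfl⟩

/-- The order of the normaliser. -/
theorem card_normalizer (D : EndData G q k d n) {P : Subgroup G} (hP : Nat.card P = q)
    (hab : ∀ x ∈ P, ∀ y ∈ P, x * y = y * x) :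
    2 * Nat.card (Subgroup.normalizer (P : Set G)) = q * (q - 1) := by
  classical
  have hPcard : (Finset.univ.filter fun x : G => x ∈ P ∧ x ≠ 1).card = q - 1 := by
    have h1 : (Finset.univ.filter fun x : G => x ∈ P ∧ x ≠ 1) =
        (Finset.univ.filter fun x : G => x ∈ P).erase 1 := by
      ext x
      simp only [Finset.mem_filter, Finset.mem_univ, true_and, Finset.mem_erase]
      tauto
    rw [h1, Finset.card_erase_of_mem (by simp [P.one_mem])]
    rw [← hP, Nat.card_eq_fintype_card, Fintype.card_subtype]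
  apply le_antisymm
  · obtain ⟨g₁, g₂, hg₁, hg₂, h12, hall⟩ := D.exists_two
    have hex : ∀ g, n g = 0 → ∃ z ∈ P, z ≠ 1 ∧ IsConj g z := by
      intro g hg
      obtain ⟨x, hx⟩ := conj_of_card D (D.card_centralizer hg) hP
      refine ⟨x * g * x⁻¹, (hx g).1 (Subgroup.mem_centralizer_singleton_iff.2 rfl), ?_,
        isConj_iff.2 ⟨x, rfl⟩⟩
      rw [ne_eq, conj_eq_one_iff]
      exact D.ne_one_of_zero hg
    obtain ⟨z₁, hz₁P, hz₁1, hz₁⟩ := hex g₁ hg₁
    obtain ⟨z₂, hz₂P, hz₂1, hz₂⟩ := hex g₂ hg₂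
    have h1 := card_normalizer_le D hP hab hz₁P hz₁1
    have h2 := card_normalizer_le D hP hab hz₂P hz₂1
    have h3 : (Finset.univ.filter fun x : G => x ∈ P ∧ x ≠ 1 ∧ IsConj z₁ x).card +
        (Finset.univ.filter fun x : G => x ∈ P ∧ x ≠ 1 ∧ IsConj z₂ x).card ≤ q - 1 := by
      rw [← hPcard, ← Finset.card_union_of_disjoint]
      · apply Finset.card_le_card
        intro x hx
        simp only [Finset.mem_union, Finset.mem_filter, Finset.mem_univ, true_and] at hx ⊢
        rcases hx with hx | hx <;> exact ⟨hx.1, hx.2.1⟩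
      · rw [Finset.disjoint_left]
        intro x hx hx'
        simp only [Finset.mem_filter, Finset.mem_univ, true_and] at hx hx'
        exact h12 (hz₁.trans (hx.2.2.trans (hx'.2.2.symm.trans hz₂.symm)))
    calc 2 * Nat.card (Subgroup.normalizer (P : Set G)) ≤
        q * ((Finset.univ.filter fun x : G => x ∈ P ∧ x ≠ 1 ∧ IsConj z₁ x).card +
        (Finset.univ.filter fun x : G => x ∈ P ∧ x ≠ 1 ∧ IsConj z₂ x).card) := by
          rw [mul_add]; omega
      _ ≤ q * (q - 1) := Nat.mul_le_mul_left _ h3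
  · have h1 := card_center_le D P hP
    have h2 : (Finset.univ.filter fun z : G => z ∈ P ∧ z ≠ 1 ∧ ∀ y ∈ P, z * y = y * z).card =
        q - 1 := by
      rw [← hPcard]
      congr 1
      ext z
      simp only [Finset.mem_filter, Finset.mem_univ, true_and]
      exact ⟨fun h => ⟨h.1, h.2.1⟩, fun h => ⟨h.1, h.2, hab z h.1⟩⟩
    rw [h2] at h1
    rw [mul_comm]
    exact h1

section action

variable (D : EndData G q k d n) {P : Subgroup G} (hP : Nat.card P = q)
    (hab : ∀ x ∈ P, ∀ y ∈ P, x * y = y * x)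

include D hP hab

theorem card_quotient : Nat.card (G ⧸ Subgroup.normalizer (P : Set G)) = q + 1 := by
  obtain ⟨c, hc, hc0, hcard, hcq⟩ := D.exists_c
  have h1 := card_normalizer D hP hab
  have h2 := Subgroup.card_eq_card_quotient_mul_card_subgroup (Subgroup.normalizer (P : Set G))
  have hq3 := D.q_ge
  obtain ⟨q', rfl⟩ : ∃ q', q = q' + 1 := ⟨q - 1, by omega⟩
  rw [Nat.add_sub_cancel] at h1
  set N := Nat.card (Subgroup.normalizer (P : Set G))
  set I := Nat.card (G ⧸ Subgroup.normalizer (P : Set G))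
  have h3 : I * ((q' + 1) * q') = (q' + 1 + 1) * ((q' + 1) * q') := by
    rw [← h1]
    have h4 : 2 * (I * N) = 2 * k * c * (q' + 1) := by
      rw [← h2, hcard]; ring
    have h5 : 2 * k * c = (q' + 1 + 1) * q' := by
      have : 2 * k * c + 1 = (q' + 1 + 1) * q' + 1 := by rw [hcq]; ring
      omega
    rw [h5] at h4
    have h6 : (q' + 1 + 1) * (2 * N) = (q' + 1 + 1) * ((q' + 1) * q') := by rw [h1]
    linarith
  have h4 : 0 < (q' + 1) * q' := by
    apply Nat.mul_pos <;> omega
  exact Nat.eq_of_mul_eq_mul_right h4 h3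

/-- `P` acts semiregularly off the base point. -/
theorem smul_ne {x g : G} (hx : x ∈ P) (hx1 : x ≠ 1)
    (hg : (g : G ⧸ Subgroup.normalizer (P : Set G)) ≠ ((1 : G) : G ⧸ Subgroup.normalizer (P : Set G))) :
    x • (g : G ⧸ Subgroup.normalizer (P : Set G)) ≠ g := by
  intro h
  apply hg
  have h1 : g⁻¹ * x * g ∈ Subgroup.normalizer (P : Set G) := by
    have h2 : ((x * g : G) : G ⧸ Subgroup.normalizer (P : Set G)) = g := h
    have h3 := QuotientGroup.eq.1 h2.symm
    rwa [← mul_assoc] at h3
  have hx0 := zero_of_mem D hP hx hx1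
  have h2 : n (g⁻¹ * x * g) = 0 := by
    have := D.conj g⁻¹ x
    rw [inv_inv] at this
    rw [this, hx0]
  have h3 := mem_of_mem_normalizer D hP h2 h1
  rw [eq_comm, QuotientGroup.eq, inv_one, one_mul]
  have h4 : g⁻¹ ∈ Subgroup.normalizer (P : Set G) := by
    apply mem_normalizer_of_conj D hP hx0 (hab x hx)
    rw [inv_inv]
    exact hab _ h3
  have h5 := Subgroup.inv_mem _ h4
  rwa [inv_inv] at h5

omit [Fintype G] D hP hab in
/-- `P` fixes the base point. -/
theorem smul_one_of_mem {u : G} (hu : u ∈ P) :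
    u • ((1 : G) : G ⧸ Subgroup.normalizer (P : Set G)) =
      ((1 : G) : G ⧸ Subgroup.normalizer (P : Set G)) := by
  have : ((u * 1 : G) : G ⧸ Subgroup.normalizer (P : Set G)) =
      ((1 : G) : G ⧸ Subgroup.normalizer (P : Set G)) := by
    rw [mul_one, eq_comm, QuotientGroup.eq, inv_one, one_mul]
    exact Subgroup.le_normalizer hu
  exact this

/-- `P` acts regularly off the base point. -/
theorem existsUnique_smul (y z : G ⧸ Subgroup.normalizer (P : Set G))
    (hy : y ≠ ((1 : G) : G ⧸ Subgroup.normalizer (P : Set G)))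
    (hz : z ≠ ((1 : G) : G ⧸ Subgroup.normalizer (P : Set G))) :
    ∃! u : P, (u : G) • y = z := by
  classical
  let f : P → {w : G ⧸ Subgroup.normalizer (P : Set G) //
      w ≠ ((1 : G) : G ⧸ Subgroup.normalizer (P : Set G))} := fun u => ⟨(u : G) • y, by
    intro h
    apply hy
    have h1 := congrArg (fun w => (u : G)⁻¹ • w) h
    simp only [inv_smul_smul] at h1
    rw [h1, inv_smul_eq_iff, smul_one_of_mem u.2]⟩
  have hf : ∀ u, (f u : G ⧸ Subgroup.normalizer (P : Set G)) = (u : G) • y := fun _ => rfl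
  have hinj : Function.Injective f := by
    intro u v huv
    have h1 : (u : G) • y = (v : G) • y := by
      rw [← hf, ← hf, huv]
    by_contra hne
    obtain ⟨g, rfl⟩ := QuotientGroup.mk_surjective y
    have h2 : ((v : G)⁻¹ * (u : G)) ≠ 1 := by
      intro h
      apply hne
      rw [inv_mul_eq_one] at h
      exact Subtype.ext h.symm
    apply smul_ne D hP hab (P.mul_mem (P.inv_mem v.2) u.2) h2 hy
    rw [mul_smul, h1, inv_smul_smul]
  have hcard : Nat.card P = Nat.card {w : G ⧸ Subgroup.normalizer (P : Set G) //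
      w ≠ ((1 : G) : G ⧸ Subgroup.normalizer (P : Set G))} := by
    rw [hP]
    have h1 : Nat.card (G ⧸ Subgroup.normalizer (P : Set G)) = q + 1 := card_quotient D hP hab
    have h2 : Fintype (G ⧸ Subgroup.normalizer (P : Set G)) := Fintype.ofFinite _
    rw [Nat.card_eq_fintype_card, Fintype.card_subtype_compl, Fintype.card_subtype_eq,
      ← Nat.card_eq_fintype_card, h1]
    rfl
  have hbij := (Nat.bijective_iff_injective_and_card f).2 ⟨hinj, hcard⟩
  obtain ⟨u, hu⟩ := hbij.2 ⟨z, hz⟩
  have h3 : (u : G) • y = z := by rw [← hf, hu]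
  refine ⟨u, h3, ?_⟩
  intro v hv
  apply hinj
  apply Subtype.ext
  rw [hf, hf, h3]
  exact hv

/-- An element fixing three distinct points is trivial. -/
theorem eq_one_of_three_aux {g : G} {b c : G ⧸ Subgroup.normalizer (P : Set G)}
    (hb1 : b ≠ ((1 : G) : G ⧸ Subgroup.normalizer (P : Set G)))
    (hc1 : c ≠ ((1 : G) : G ⧸ Subgroup.normalizer (P : Set G))) (hbc : b ≠ c)
    (ha : g • ((1 : G) : G ⧸ Subgroup.normalizer (P : Set G)) =
      ((1 : G) : G ⧸ Subgroup.normalizer (P : Set G)))
    (hb : g • b = b) (hc : g • c = c) : g = 1 := by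
  by_contra hg1
  have hgN : g ∈ Subgroup.normalizer (P : Set G) := by
    have h1 : ((g * 1 : G) : G ⧸ Subgroup.normalizer (P : Set G)) =
      ((1 : G) : G ⧸ Subgroup.normalizer (P : Set G)) := ha
    rw [mul_one, eq_comm, QuotientGroup.eq, inv_one, one_mul] at h1
    exact h1
  obtain ⟨u, hu, huniq⟩ := existsUnique_smul D hP hab b c hb1 hc1
  have hu' : (u : G) • b = c := hu
  have hu1 : (u : G) ≠ 1 := by
    intro h
    apply hbc
    rw [h, one_smul] at hu'
    exact hu'
  have hmem : g * u * g⁻¹ ∈ P := (Subgroup.mem_normalizer_iff.1 hgN u).1 u.2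
  have h2 : (⟨g * u * g⁻¹, hmem⟩ : P) = u := by
    apply huniq
    change (g * u * g⁻¹) • b = c
    rw [mul_smul, mul_smul, inv_smul_eq_iff.2 hb.symm, hu', hc]
  have h3 : g * u * g⁻¹ = u := congrArg Subtype.val h2
  have h4 : g ∈ Subgroup.centralizer ({(u : G)} : Set G) := by
    rw [Subgroup.mem_centralizer_singleton_iff]
    rw [mul_inv_eq_iff_eq_mul] at h3
    exact h3
  rw [centralizer_eq D hP (zero_of_mem D hP u.2 hu1) (hab u u.2)] at h4
  obtain ⟨b', rfl⟩ := QuotientGroup.mk_surjective b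
  exact smul_ne D hP hab h4 hg1 hb1 hb

/-- An element fixing three distinct points is trivial. -/
theorem eq_one_of_three (g : G) (a b c : G ⧸ Subgroup.normalizer (P : Set G)) (hab' : a ≠ b)
    (hbc : b ≠ c) (hac : a ≠ c) (ha : g • a = a) (hb : g • b = b) (hc : g • c = c) : g = 1 := by
  obtain ⟨h, hh⟩ := MulAction.exists_smul_eq G a
    ((1 : G) : G ⧸ Subgroup.normalizer (P : Set G))
  have key : ∀ w : G ⧸ Subgroup.normalizer (P : Set G), g • w = w →
      (h * g * h⁻¹) • (h • w) = h • w := by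
    intro w hw
    rw [mul_smul, mul_smul, inv_smul_smul, hw]
  have h1 : h * g * h⁻¹ = 1 := by
    refine eq_one_of_three_aux D hP hab (b := h • b) (c := h • c) ?_ ?_ ?_ ?_ (key b hb) (key c hc)
    · rw [← hh]
      exact fun h' => hab' (smul_left_cancel h h').symm
    · rw [← hh]
      exact fun h' => hac (smul_left_cancel h h').symm
    · exact fun h' => hbc (smul_left_cancel h h')
    · rw [← hh]
      exact key a ha
  exact conj_eq_one_iff.1 h1

theorem exists_fix_two (h5 : 5 ≤ q) : ∃ g : G, g ≠ 1 ∧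
    ∃ a b : G ⧸ Subgroup.normalizer (P : Set G), a ≠ b ∧ g • a = a ∧ g • b = b := by
  classical
  have hcard := card_quotient D hP hab
  have hft : Fintype (G ⧸ Subgroup.normalizer (P : Set G)) := Fintype.ofFinite _
  have h2 : 1 < Fintype.card (G ⧸ Subgroup.normalizer (P : Set G)) := by
    rw [← Nat.card_eq_fintype_card, hcard]; omega
  obtain ⟨b, hb⟩ := Fintype.exists_ne_of_one_lt_card h2
    ((1 : G) : G ⧸ Subgroup.normalizer (P : Set G))
  by_contra hcon
  push Not at hcon
  have hfix : ∀ m ∈ Subgroup.normalizer (P : Set G),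
      m • ((1 : G) : G ⧸ Subgroup.normalizer (P : Set G)) =
      ((1 : G) : G ⧸ Subgroup.normalizer (P : Set G)) := by
    intro m hm
    have h1 : ((m * 1 : G) : G ⧸ Subgroup.normalizer (P : Set G)) =
      ((1 : G) : G ⧸ Subgroup.normalizer (P : Set G)) := by
      rw [mul_one, eq_comm, QuotientGroup.eq, inv_one, one_mul]
      exact hm
    exact h1
  let f : Subgroup.normalizer (P : Set G) → {w : G ⧸ Subgroup.normalizer (P : Set G) //
      w ≠ ((1 : G) : G ⧸ Subgroup.normalizer (P : Set G))} := fun m => ⟨(m : G) • b, by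
    intro h
    apply hb
    have h1 := congrArg (fun w => (m : G)⁻¹ • w) h
    simp only [inv_smul_smul] at h1
    rw [h1, inv_smul_eq_iff, hfix m m.2]⟩
  have hf : ∀ m, (f m : G ⧸ Subgroup.normalizer (P : Set G)) = (m : G) • b := fun _ => rfl
  have hinj : Function.Injective f := by
    intro m m' hmm
    have h1 : (m : G) • b = (m' : G) • b := by rw [← hf, ← hf, hmm]
    by_contra hne
    have h2 : ((m' : G)⁻¹ * (m : G)) ≠ 1 := by
      intro h
      apply hne
      rw [inv_mul_eq_one] at h
      exact Subtype.ext h.symm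
    refine hcon _ h2 _ b hb.symm (hfix _ (Subgroup.mul_mem _ (Subgroup.inv_mem _ m'.2) m.2)) ?_
    rw [mul_smul, h1, inv_smul_smul]
  have h3 := Nat.card_le_card_of_injective f hinj
  have h4 : Nat.card {w : G ⧸ Subgroup.normalizer (P : Set G) //
      w ≠ ((1 : G) : G ⧸ Subgroup.normalizer (P : Set G))} = q := by
    rw [Nat.card_eq_fintype_card, Fintype.card_subtype_compl, Fintype.card_subtype_eq,
      ← Nat.card_eq_fintype_card, hcard]
    rfl
  rw [h4] at h3
  have h6 := card_normalizer D hP hab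
  obtain ⟨q', rfl⟩ : ∃ q', q = q' + 1 := ⟨q - 1, by omega⟩
  rw [Nat.add_sub_cancel] at h6
  nlinarith

theorem isZassenhaus [IsSimpleGroup G] (h5 : 5 ≤ q) :
    Cfsg.IsZassenhausGroup G (G ⧸ Subgroup.normalizer (P : Set G)) := by
  classical
  have hcard := card_quotient D hP hab
  have hft : Fintype (G ⧸ Subgroup.normalizer (P : Set G)) := Fintype.ofFinite _
  have h3 : 2 < Fintype.card (G ⧸ Subgroup.normalizer (P : Set G)) := by
    rw [← Nat.card_eq_fintype_card, hcard]; omega
  obtain ⟨a, b, c, hab', hac, hbc⟩ := Fintype.two_lt_card_iff.1 h3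
  refine ⟨⟨?_⟩, ?_, ?_, ?_, ?_⟩
  · intro g₁ g₂ hg
    have h1 : g₂⁻¹ * g₁ = 1 := by
      have key : ∀ w : G ⧸ Subgroup.normalizer (P : Set G), (g₂⁻¹ * g₁) • w = w := by
        intro w
        rw [mul_smul, hg w, inv_smul_smul]
      exact eq_one_of_three D hP hab _ a b c hab' hbc hac (key a) (key b) (key c)
    rw [inv_mul_eq_one] at h1
    exact h1.symm
  · rw [MulAction.is_two_pretransitive_iff]
    intro a b c d hab' hcd
    obtain ⟨h1, hh1⟩ := MulAction.exists_smul_eq G a
      ((1 : G) : G ⧸ Subgroup.normalizer (P : Set G))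
    obtain ⟨h2, hh2⟩ := MulAction.exists_smul_eq G c
      ((1 : G) : G ⧸ Subgroup.normalizer (P : Set G))
    obtain ⟨u, hu, -⟩ := existsUnique_smul D hP hab (h1 • b) (h2 • d)
      (by rw [← hh1]; exact fun h' => hab' (smul_left_cancel h1 h').symm)
      (by rw [← hh2]; exact fun h' => hcd (smul_left_cancel h2 h').symm)
    refine ⟨h2⁻¹ * u * h1, ?_, ?_⟩
    · rw [mul_smul, mul_smul, hh1, smul_one_of_mem u.2, inv_smul_eq_iff, hh2]
    · rw [mul_smul, mul_smul]
      have hu' : (u : G) • h1 • b = h2 • d := hu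
      rw [hu', inv_smul_smul]
  · exact eq_one_of_three D hP hab
  · exact exists_fix_two D hP hab h5
  · intro M hM hMt
    rcases hM.eq_bot_or_eq_top with h | h
    · exfalso
      subst h
      obtain ⟨m, hm⟩ := hMt.exists_smul_eq a b
      apply hab'
      have hm' : (m : G) • a = b := hm
      have : (m : G) = 1 := Subgroup.mem_bot.1 m.2
      rw [this, one_smul] at hm'
      exact hm'
    · subst h
      obtain ⟨g, hg1, a, -, -, ha, -⟩ := exists_fix_two D hP hab h5
      refine ⟨a, ?_⟩
      intro hbot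
      have h4 := (Subgroup.eq_bot_iff_forall _).1 hbot ⟨g, Subgroup.mem_top g⟩ ha
      exact hg1 (congrArg Subtype.val h4)

/-- The recognition. -/
theorem psl [IsSimpleGroup G] (h5 : 5 ≤ q) :
    ∃ (K : Type) (_ : Field K) (_ : Fintype K), Odd (Fintype.card K) ∧
      Nonempty (G ≃* Matrix.ProjectiveSpecialLinearGroup (Fin 2) K) := by
  classical
  have hZ := isZassenhaus D hP hab h5
  have hft : Fintype (G ⧸ Subgroup.normalizer (P : Set G)) := Fintype.ofFinite _
  have hcard := card_quotient D hP hab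
  have hstab : MulAction.stabilizer G ((1 : G) : G ⧸ Subgroup.normalizer (P : Set G)) =
      Subgroup.normalizer (P : Set G) := by
    ext g
    rw [MulAction.mem_stabilizer_iff]
    constructor
    · intro h
      have h1 : ((g * 1 : G) : G ⧸ Subgroup.normalizer (P : Set G)) =
        ((1 : G) : G ⧸ Subgroup.normalizer (P : Set G)) := h
      rw [mul_one, eq_comm, QuotientGroup.eq, inv_one, one_mul] at h1
      exact h1
    · intro hm
      have h1 : ((g * 1 : G) : G ⧸ Subgroup.normalizer (P : Set G)) =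
        ((1 : G) : G ⧸ Subgroup.normalizer (P : Set G)) := by
        rw [mul_one, eq_comm, QuotientGroup.eq, inv_one, one_mul]
        exact hm
      exact h1
  have hFn : (P.subgroupOf (MulAction.stabilizer G
      ((1 : G) : G ⧸ Subgroup.normalizer (P : Set G)))).Normal := by
    rw [hstab]
    exact Subgroup.normal_in_normalizer
  have hFab : IsMulCommutative P := ⟨⟨fun x y => Subtype.ext (hab x x.2 y y.2)⟩⟩
  rcases Cfsg.Agent.S0731.result hZ _ P (by rw [hstab]; exact Subgroup.le_normalizer) hFn hFab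
    (fun y z hy hz => existsUnique_smul D hP hab y z hy hz) with h | h
  · exfalso
    obtain ⟨h3, -⟩ := h
    have hne : Nonempty (Fin 3 ↪ (G ⧸ Subgroup.normalizer (P : Set G))) := by
      apply Function.Embedding.nonempty_of_card_le
      rw [Fintype.card_fin, ← Nat.card_eq_fintype_card, hcard]
      omega
    obtain ⟨s⟩ := hne
    have hsurj : Function.Surjective (fun g : G => g • s) := h3.exists_smul_eq s
    have h4 := Nat.card_le_card_of_surjective _ hsurj
    rw [Nat.card_eq_fintype_card (α := Fin 3 ↪ (G ⧸ Subgroup.normalizer (P : Set G))),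
      Fintype.card_embedding_eq, Fintype.card_fin, ← Nat.card_eq_fintype_card, hcard] at h4
    simp only [Nat.descFactorial, Nat.sub_zero] at h4
    have h6 := card_normalizer D hP hab
    have h7 := Subgroup.card_eq_card_quotient_mul_card_subgroup (Subgroup.normalizer (P : Set G))
    rw [hcard] at h7
    obtain ⟨q', rfl⟩ : ∃ q', q = q' + 1 := ⟨q - 1, by omega⟩
    rw [Nat.add_sub_cancel] at h6
    have e1 : q' + 1 + 1 - 2 = q' := by omega
    have e2 : q' + 1 + 1 - 1 = q' + 1 := by omega
    rw [e1, e2] at h4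
    rw [h7] at h4
    have h8 : 0 < (q' + 1) * q' := by
      apply Nat.mul_pos <;> omega
    have h9 : (q' + 1 + 1) * (2 * Nat.card (Subgroup.normalizer (P : Set G))) =
        (q' + 1 + 1) * ((q' + 1) * q') := by rw [h6]
    nlinarith
  · obtain ⟨K, hK, hKf, hchar, he⟩ := h
    exact ⟨K, hK, hKf, Nat.odd_iff.2 (FiniteField.odd_card_of_char_ne_two hchar), he⟩

end action

end Cfsg.Agent.Classification.BSWZass
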