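import Mathlib
import Cfsg.Prelude.Def_CaseTheorems
import Cfsg.Agent.Lib.SolvableMinNormal

/-!
# Coprime triples with product one

`HasTriple G`: there are three non-identity elements with pairwise coprime orders and product `1`.
Soluble groups have none, and the existence for all finite insoluble groups reduces to minimal simple groups.
-/

set_option autoImplicit false
set_option linter.dupNamespace false

namespace Cfsg.Agent.Classification.CoprimeTriple

open Cfsg

/-- Three non-identity elements with pairwise coprime orders and product one. -/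
def HasTriple (G : Type*) [Group G] : Prop :=
  ∃ a b c : G, a ≠ 1 ∧ b ≠ 1 ∧ c ≠ 1 ∧ (orderOf a).Coprime (orderOf b) ∧
    (orderOf b).Coprime (orderOf c) ∧ (orderOf a).Coprime (orderOf c) ∧ a * b * c = 1

/-- In an abelian group there are no coprime triples: the first two elements are trivial. -/
theorem eq_one_of_comm {A : Type*} [CommGroup A] {a b c : A}
    (hab : (orderOf a).Coprime (orderOf b)) (hbc : (orderOf b).Coprime (orderOf c))
    (hac : (orderOf a).Coprime (orderOf c)) (h : a * b * c = 1) : a = 1 ∧ b = 1 := by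
  have h1 : orderOf (a * b) = orderOf a * orderOf b :=
    (Commute.all a b).orderOf_mul_eq_mul_orderOf_of_coprime hab
  have h2 : orderOf c = orderOf a * orderOf b := by
    rw [← h1, ← orderOf_inv (a * b), inv_eq_of_mul_eq_one_right h]
  constructor
  · rw [← orderOf_eq_one_iff]
    have : orderOf a ∣ orderOf c := ⟨_, h2⟩
    exact hac.eq_one_of_dvd this
  · rw [← orderOf_eq_one_iff]
    have : orderOf b ∣ orderOf c := ⟨_, by rw [h2, mul_comm]⟩
    exact hbc.eq_one_of_dvd this

theorem HasTriple.of_injective {G H : Type*} [Group G] [Group H] (f : G →* H)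
    (hf : Function.Injective f) (h : HasTriple G) : HasTriple H := by
  obtain ⟨a, b, c, ha, hb, hc, hab, hbc, hac, habc⟩ := h
  refine ⟨f a, f b, f c, ?_, ?_, ?_, ?_, ?_, ?_, ?_⟩
  · rwa [Ne, map_eq_one_iff f hf]
  · rwa [Ne, map_eq_one_iff f hf]
  · rwa [Ne, map_eq_one_iff f hf]
  · rwa [orderOf_injective f hf, orderOf_injective f hf]
  · rwa [orderOf_injective f hf, orderOf_injective f hf]
  · rwa [orderOf_injective f hf, orderOf_injective f hf]
  · rw [← map_mul, ← map_mul, habc, map_one]

theorem HasTriple.of_mulEquiv {G H : Type*} [Group G] [Group H] (f : G ≃* H)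
    (h : HasTriple G) : HasTriple H :=
  h.of_injective f.toMonoidHom f.injective

/-- A soluble group has no coprime triple with product one. -/
theorem not_hasTriple_of_isSolvable {G : Type*} [Group G] (hG : Group.IsSolvable G) :
    ¬ HasTriple G := by
  rintro ⟨a, b, c, ha, hb, hc, hab, hbc, hac, habc⟩
  set H : Subgroup G := Subgroup.closure {a, b} with hH
  have haH : a ∈ H := Subgroup.subset_closure (by simp)
  have hbH : b ∈ H := Subgroup.subset_closure (by simp)
  have hcH : c ∈ H := by
    have : c = (a * b)⁻¹ := (inv_eq_of_mul_eq_one_right habc).symm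
    rw [this]
    exact H.inv_mem (H.mul_mem haH hbH)
  have hsol : Group.IsSolvable H := inferInstance
  have hnt : Nontrivial H := ⟨⟨⟨a, haH⟩, 1, fun h => ha (congrArg Subtype.val h)⟩⟩
  set a' : H := ⟨a, haH⟩ with ha'
  set b' : H := ⟨b, hbH⟩ with hb'
  set c' : H := ⟨c, hcH⟩ with hc'
  have ho : ∀ x : H, orderOf (Abelianization.of x) ∣ orderOf (x : G) := by
    intro x
    have h1 : orderOf (x : G) = orderOf x := Subgroup.orderOf_coe x
    rw [h1]
    exact orderOf_map_dvd Abelianization.of x
  have hprod : Abelianization.of a' * Abelianization.of b' * Abelianization.of c' = 1 := by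
    rw [← map_mul, ← map_mul]
    have : a' * b' * c' = 1 := Subtype.ext habc
    rw [this, map_one]
  obtain ⟨h1, h2⟩ := eq_one_of_comm
    (Nat.Coprime.coprime_dvd_left (ho a') (Nat.Coprime.coprime_dvd_right (ho b') hab))
    (Nat.Coprime.coprime_dvd_left (ho b') (Nat.Coprime.coprime_dvd_right (ho c') hbc))
    (Nat.Coprime.coprime_dvd_left (ho a') (Nat.Coprime.coprime_dvd_right (ho c') hac)) hprod
  have h3 : a' ∈ commutator H := by
    rw [← Abelianization.ker_of]
    exact h1
  have h4 : b' ∈ commutator H := by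
    rw [← Abelianization.ker_of]
    exact h2
  have hlt := Group.IsSolvable.commutator_lt_top_of_nontrivial H
  apply hlt.ne
  rw [eq_top_iff]
  have h5 : H ≤ (commutator H).map H.subtype := by
    rw [hH, Subgroup.closure_le]
    rintro x (rfl | rfl)
    · exact ⟨a', h3, rfl⟩
    · exact ⟨b', h4, rfl⟩
  intro x _
  obtain ⟨y, hy, hyx⟩ := h5 x.2
  have : y = x := Subtype.ext hyx
  rw [← this]
  exact hy

section Lift

variable {G : Type*} [Group G] [Finite G] {p : ℕ} [Fact p.Prime]

/-- Lifting an element of order prime to `p` over a normal `p`-subgroup, keeping its order. -/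
theorem exists_lift (N : Subgroup G) [N.Normal] (hN : IsPGroup p N) (x : G ⧸ N)
    (hx : ¬ p ∣ orderOf x) :
    ∃ y : G, (QuotientGroup.mk' N y) = x ∧ orderOf y = orderOf x := by
  obtain ⟨z, hz⟩ := QuotientGroup.mk'_surjective N x
  set m := orderOf x with hm
  have hzm : z ^ m ∈ N := by
    rw [← QuotientGroup.eq_one_iff]
    change QuotientGroup.mk' N (z ^ m) = 1
    rw [map_pow, hz, hm, pow_orderOf_eq_one]
  obtain ⟨k, hk⟩ := hN ⟨z ^ m, hzm⟩
  have hk' : (z ^ m) ^ p ^ k = 1 := congrArg Subtype.val hk
  have hcop : (p ^ k).Coprime (orderOf x) := by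
    apply Nat.Coprime.pow_left
    rw [Nat.Prime.coprime_iff_not_dvd Fact.out]
    exact hx
  obtain ⟨u, hu⟩ := exists_pow_eq_self_of_coprime hcop
  refine ⟨(z ^ p ^ k) ^ u, ?_, ?_⟩
  · rw [map_pow, map_pow, hz, hu]
  · apply Nat.dvd_antisymm
    · rw [orderOf_dvd_iff_pow_eq_one, ← pow_mul, ← pow_mul]
      have h2 : p ^ k * (u * m) = m * p ^ k * u := by ring
      rw [h2, pow_mul, pow_mul, hk', one_pow]
    · have h1 : QuotientGroup.mk' N ((z ^ p ^ k) ^ u) = x := by
        rw [map_pow, map_pow, hz, hu]
      conv_lhs => rw [hm, ← h1]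
      exact orderOf_map_dvd _ _

theorem hasTriple_aux (N : Subgroup G) [N.Normal] (hN : IsPGroup p N) {a b c : G ⧸ N}
    (ha : a ≠ 1) (hb : b ≠ 1) (hc : c ≠ 1)
    (hab : (orderOf a).Coprime (orderOf b)) (hbc : (orderOf b).Coprime (orderOf c))
    (hac : (orderOf a).Coprime (orderOf c)) (habc : a * b * c = 1)
    (hpa : ¬ p ∣ orderOf a) (hpb : ¬ p ∣ orderOf b) : HasTriple G := by
  obtain ⟨x, hx, hxo⟩ := exists_lift N hN a hpa
  obtain ⟨y, hy, hyo⟩ := exists_lift N hN b hpb
  have hz : QuotientGroup.mk' N (x * y)⁻¹ = c := by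
    rw [map_inv, map_mul, hx, hy, inv_eq_of_mul_eq_one_right habc]
  have hxy : ((x * y)⁻¹) ^ orderOf c ∈ N := by
    rw [← QuotientGroup.eq_one_iff]
    change QuotientGroup.mk' N _ = 1
    rw [map_pow, hz, pow_orderOf_eq_one]
  obtain ⟨k, hk⟩ := hN ⟨_, hxy⟩
  have hk' : (((x * y)⁻¹) ^ orderOf c) ^ p ^ k = 1 := congrArg Subtype.val hk
  have hdvd : orderOf (x * y)⁻¹ ∣ orderOf c * p ^ k := by
    rw [orderOf_dvd_iff_pow_eq_one, pow_mul, hk']
  have hcopa : (orderOf a).Coprime (orderOf c * p ^ k) := by
    refine Nat.Coprime.mul_right hac (Nat.Coprime.pow_right _ ?_)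
    rw [Nat.coprime_comm, Nat.Prime.coprime_iff_not_dvd Fact.out]
    exact hpa
  have hcopb : (orderOf b).Coprime (orderOf c * p ^ k) := by
    refine Nat.Coprime.mul_right hbc (Nat.Coprime.pow_right _ ?_)
    rw [Nat.coprime_comm, Nat.Prime.coprime_iff_not_dvd Fact.out]
    exact hpb
  refine ⟨x, y, (x * y)⁻¹, ?_, ?_, ?_, ?_, ?_, ?_, ?_⟩
  · rintro rfl
    exact ha (by rw [← hx, map_one])
  · rintro rfl
    exact hb (by rw [← hy, map_one])
  · intro h
    exact hc (by rw [← hz, h, map_one])
  · rw [hxo, hyo]; exact hab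
  · rw [hyo]; exact Nat.Coprime.coprime_dvd_right hdvd hcopb
  · rw [hxo]; exact Nat.Coprime.coprime_dvd_right hdvd hcopa
  · rw [mul_inv_cancel]

/-- Coprime triples lift over normal `p`-subgroups. -/
theorem HasTriple.of_quotient (N : Subgroup G) [N.Normal] (hN : IsPGroup p N)
    (h : HasTriple (G ⧸ N)) : HasTriple G := by
  obtain ⟨a, b, c, ha, hb, hc, hab, hbc, hac, habc⟩ := h
  have hbca : b * c * a = 1 := by
    have : b * c = a⁻¹ := (inv_eq_of_mul_eq_one_right (by rw [← mul_assoc]; exact habc)).symm
    rw [this, inv_mul_cancel]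
  have hcab : c * a * b = 1 := by
    have : c = (a * b)⁻¹ := (inv_eq_of_mul_eq_one_right habc).symm
    rw [this, mul_assoc, inv_mul_cancel]
  have key : ∀ {m n : ℕ}, m.Coprime n → p ∣ m → ¬ p ∣ n := by
    intro m n hmn hpm hpn
    have := Nat.dvd_gcd hpm hpn
    rw [hmn] at this
    exact (Fact.out : p.Prime).one_lt.ne' (Nat.dvd_one.mp this)
  by_cases hpa : p ∣ orderOf a
  · exact hasTriple_aux N hN hb hc ha hbc hac.symm hab.symm hbca (key hab hpa) (key hac hpa)
  · by_cases hpb : p ∣ orderOf b
    · exact hasTriple_aux N hN hc ha hb hac.symm hab hbc.symm hcab (key hbc hpb) hpa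
    · exact hasTriple_aux N hN ha hb hc hab hbc hac habc hpa hpb

end Lift

/-- If every finite minimal simple group has a coprime triple, then so has every finite insoluble group. -/
theorem hasTriple_of_minimalSimple.{u}
    (hms : ∀ (G : Type u) [Group G] [Finite G], IsMinimalSimple G → HasTriple G) :
    ∀ (n : ℕ) (G : Type u) [Group G] [Finite G], Nat.card G = n → ¬ Group.IsSolvable G →
      HasTriple G := by
  intro n
  induction n using Nat.strong_induction_on with
  | _ n ih =>
    intro G _ _ hcard hG
    by_cases hsub : ∃ H : Subgroup G, H ≠ ⊤ ∧ ¬ Group.IsSolvable H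
    · obtain ⟨H, hH, hHs⟩ := hsub
      have hlt : Nat.card H < n := by
        rw [← hcard]
        refine lt_of_le_of_ne (Subgroup.card_le_card_group H) ?_
        intro h
        exact hH (Subgroup.eq_top_of_card_eq H h)
      exact (ih _ hlt H rfl hHs).of_injective H.subtype H.subtype_injective
    · push Not at hsub
      by_cases hN : ∃ N : Subgroup G, N.Normal ∧ N ≠ ⊥ ∧ N ≠ ⊤
      · obtain ⟨N, hNn, hN1, hN2⟩ := hN
        have hNs : Group.IsSolvable N := hsub N hN2
        have : Nontrivial N := (Subgroup.nontrivial_iff_ne_bot N).mpr hN1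
        obtain ⟨p, hp, P, hPc, -, hPp, hPne⟩ :=
          Cfsg.Agent.Lib.SolvableMinNormal.exists_characteristic_pgroup (G := N)
        have : Fact p.Prime := ⟨hp⟩
        set Q : Subgroup G := P.map N.subtype with hQ
        have hQn : Q.Normal := inferInstance
        have hQp : IsPGroup p Q := hPp.map _
        have hQne : Q ≠ ⊥ := by
          intro h
          rw [hQ, Subgroup.map_eq_bot_iff_of_injective _ N.subtype_injective] at h
          exact hPne h
        have hlt : Nat.card (G ⧸ Q) < n := by
          rw [← hcard, Subgroup.card_eq_card_quotient_mul_card_subgroup Q]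
          have h1 : 1 < Nat.card Q := by
            rw [Subgroup.one_lt_card_iff_ne_bot]
            exact hQne
          have h2 : 0 < Nat.card (G ⧸ Q) := Nat.card_pos
          nlinarith
        have hquot : ¬ Group.IsSolvable (G ⧸ Q) := by
          intro h
          have hQs : Group.IsSolvable Q := by
            have := hQp.isNilpotent
            infer_instance
          exact hG ((Group.isSolvable_iff_subgroup_quotient Q).mpr ⟨hQs, h⟩)
        exact (ih _ hlt (G ⧸ Q) rfl hquot).of_quotient Q hQp
      · push Not at hN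
        apply hms G
        refine ⟨?_, ?_, hsub⟩
        · have hnt : Nontrivial G := by
            by_contra h
            rw [not_nontrivial_iff_subsingleton] at h
            exact hG inferInstance
          refine { exists_pair_ne := hnt.exists_pair_ne, eq_bot_or_eq_top_of_normal := ?_ }
          intro H hH
          by_cases h : H = ⊥
          · exact Or.inl h
          · exact Or.inr (hN H hH h)
        · intro hc
          apply hG
          exact Group.isSolvable_of_comm mul_comm'

end Cfsg.Agent.Classification.CoprimeTriple
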