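import Mathlib
import Cfsg.Prelude.Def_Solvable
import Cfsg.Agent.Lib.Cores
import Cfsg.Agent.SignalizersComponents.CoreOfCentralizer

/-!
# Two-generator solvability (S0489), part A

In a finite simple group in which all proper subgroups are solvable and which is not generated by two elements,
the centralizer of a nontrivial `p`-element has no nontrivial normal `p'`-subgroup.
-/

set_option autoImplicit false

namespace Cfsg.Agent.Classification.FlavellA

open Cfsg Subgroup

variable {G : Type*} [Group G]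

/-- Divisibility of the order of an element by `p` can be tested modulo a normal `p'`-subgroup. -/
theorem dvd_orderOf_mk_iff {p : ℕ} (hp : p.Prime) (V : Subgroup G) [V.Normal]
    (hV : (Nat.card V).Coprime p) (x : G) :
    p ∣ orderOf x ↔ p ∣ orderOf (QuotientGroup.mk' V x) := by
  constructor
  · intro h
    by_contra hn
    have h1 : x ^ orderOf (QuotientGroup.mk' V x) ∈ V := by
      rw [← QuotientGroup.eq_one_iff, ← QuotientGroup.mk'_apply, map_pow, pow_orderOf_eq_one]
    have h2 : x ^ (orderOf (QuotientGroup.mk' V x) * Nat.card V) = 1 := by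
      rw [pow_mul]
      have := pow_card_eq_one' (x := (⟨_, h1⟩ : V))
      exact congrArg Subtype.val this
    have h3 := h.trans (orderOf_dvd_of_pow_eq_one h2)
    rcases (Nat.Prime.dvd_mul hp).mp h3 with h4 | h4
    · exact hn h4
    · exact hp.one_lt.ne' (Nat.dvd_one.mp (hV ▸ Nat.dvd_gcd h4 dvd_rfl))
  · intro h
    exact h.trans (orderOf_map_dvd _ x)

/-- The two-generator configuration: `closure {a d, g}` contains `a` and `d` if `a`, `d` commute and have coprime
orders. -/
theorem mem_closure_left {a d g : G} (hc : Commute a d) (hco : (orderOf a).Coprime (orderOf d)) :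
    a ∈ closure ({a * d, g} : Set G) ∧ d ∈ closure ({a * d, g} : Set G) := by
  have h0 : a * d ∈ closure ({a * d, g} : Set G) := subset_closure (by simp)
  obtain ⟨m, hm1, hm2⟩ := Nat.chineseRemainder hco 1 0
  have h1 : (a * d) ^ m = a := by
    rw [hc.mul_pow]
    have h2 : d ^ m = 1 := orderOf_dvd_iff_pow_eq_one.mp ((Nat.modEq_zero_iff_dvd).mp hm2)
    have h3 : a ^ m = a ^ 1 := pow_eq_pow_iff_modEq.mpr hm1
    rw [h2, h3, mul_one, pow_one]
  have h2 : a ∈ closure ({a * d, g} : Set G) := by
    have := pow_mem h0 m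
    rwa [h1] at this
  refine ⟨h2, ?_⟩
  have h3 := mul_mem (inv_mem h2) h0
  rwa [inv_mul_cancel_left] at h3

variable [Finite G]

/-- Key step: multiplication by an element of a normal `p'`-subgroup of the centralizer of a nontrivial `p`-element
does not change whether `p` divides the order. -/
theorem dvd_orderOf_mul_iff
    (hsol : ∀ H : Subgroup G, H ≠ ⊤ → Group.IsSolvable H)
    (hgen : ∀ x y : G, Subgroup.closure {x, y} ≠ ⊤) (p : ℕ) [Fact p.Prime] (a : G)
    (hap : IsPGroup p (Subgroup.zpowers a)) (D : Subgroup G)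
    (hD : D ≤ Subgroup.centralizer {a})
    (hDn : Subgroup.centralizer {a} ≤ Subgroup.normalizer (D : Set G))
    (hDp : (Nat.card D).Coprime p) {d : G} (hd : d ∈ D) (g : G) :
    p ∣ orderOf g ↔ p ∣ orderOf (d * g) := by
  have hp : p.Prime := Fact.out
  have hcomm : Commute a d := by
    have := Subgroup.mem_centralizer_iff.mp (hD hd) a rfl
    exact this
  have hco : (orderOf a).Coprime (orderOf d) := by
    obtain ⟨n, hn⟩ := IsPGroup.iff_card.mp hap
    rw [Nat.card_zpowers] at hn
    rw [hn]
    apply Nat.Coprime.pow_left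
    have h1 : orderOf d ∣ Nat.card D := by
      have := orderOf_dvd_natCard (⟨d, hd⟩ : D)
      rwa [Subgroup.orderOf_mk] at this
    exact (Nat.Coprime.coprime_dvd_left h1 hDp).symm
  set L : Subgroup G := closure ({a * d, g} : Set G) with hLdef
  obtain ⟨haL, hdL⟩ := mem_closure_left (g := g) hcomm hco
  have hgL : g ∈ L := subset_closure (by simp)
  have hLsol : Group.IsSolvable L := hsol L (hgen _ _)
  let a' : L := ⟨a, haL⟩
  have hP : IsPGroup p (zpowers a') := by
    rintro ⟨z, hz⟩
    obtain ⟨n, rfl⟩ := Subgroup.mem_zpowers_iff.mp hz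
    obtain ⟨k, hk⟩ := hap ⟨a ^ n, zpow_mem (mem_zpowers a) n⟩
    refine ⟨k, ?_⟩
    apply Subtype.ext
    apply Subtype.ext
    have h1 : (a ^ n) ^ p ^ k = 1 := congrArg Subtype.val hk
    exact h1
  have hcentr : ∀ c : L, c ∈ Subgroup.centralizer (Subgroup.zpowers a' : Set L) →
      (c : G) ∈ Subgroup.centralizer ({a} : Set G) := by
    intro c hc
    rw [Subgroup.mem_centralizer_iff]
    intro x hx
    rw [Set.mem_singleton_iff.mp hx]
    exact congrArg Subtype.val (Subgroup.mem_centralizer_iff.mp hc a' (mem_zpowers a'))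
  have hle : D.subgroupOf L ≤ pPrimeCore p L := by
    apply SignalizersComponents.CoreOfCentralizer.le_pPrimeCore_of_centralizer_normalizes hLsol
      (zpowers a') hP (D.subgroupOf L)
    · exact Nat.Coprime.coprime_dvd_left (Subgroup.card_comap_dvd_of_injective _ _
        L.subtype_injective) hDp
    · intro x hx
      rw [Subgroup.mem_centralizer_iff]
      intro c hc
      obtain ⟨n, rfl⟩ := Subgroup.mem_zpowers_iff.mp hc
      have h1 : Commute a' x := Subtype.ext (Subgroup.mem_centralizer_iff.mp (hD hx) a rfl)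
      exact (h1.zpow_left n).eq
    · intro c hc
      have h1 := hDn (hcentr c hc)
      rw [Subgroup.mem_normalizer_iff] at h1 ⊢
      intro x
      exact h1 x
  have hVn : (pPrimeCore p L).Normal := Lib.Cores.pPrimeCore_normal p
  have hVc : (Nat.card (pPrimeCore p L)).Coprime p := Lib.Cores.pPrimeCore_coprime p
  have hdV : (⟨d, hdL⟩ : L) ∈ pPrimeCore p L := hle hd
  have h1 := dvd_orderOf_mk_iff hp (pPrimeCore p L) hVc ⟨g, hgL⟩
  have h2 := dvd_orderOf_mk_iff hp (pPrimeCore p L) hVc (⟨d, hdL⟩ * ⟨g, hgL⟩)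
  have h3 : QuotientGroup.mk' (pPrimeCore p L) (⟨d, hdL⟩ * ⟨g, hgL⟩) =
      QuotientGroup.mk' (pPrimeCore p L) ⟨g, hgL⟩ := by
    rw [map_mul]
    have : QuotientGroup.mk' (pPrimeCore p L) ⟨d, hdL⟩ = 1 := (QuotientGroup.eq_one_iff _).mpr hdV
    rw [this, one_mul]
  rw [h3, ← h1] at h2
  have h4 : orderOf (⟨g, hgL⟩ : L) = orderOf g := Subgroup.orderOf_mk _ _
  have h5 : orderOf ((⟨d, hdL⟩ : L) * ⟨g, hgL⟩) = orderOf (d * g) := Subgroup.orderOf_mk (H := L) (d * g) (L.mul_mem hdL hgL)
  rw [h4, h5] at h2
  exact h2.symm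

/-- **Lemma A.** `O_{p'}(C_G(a)) = 1` for every nontrivial `p`-element `a` of a minimal counterexample `G` to the
two-generator theorem. -/
theorem lemmaA [IsSimpleGroup G]
    (hsol : ∀ H : Subgroup G, H ≠ ⊤ → Group.IsSolvable H)
    (hgen : ∀ x y : G, Subgroup.closure {x, y} ≠ ⊤) (p : ℕ) [Fact p.Prime] (a : G) (ha : a ≠ 1)
    (hap : IsPGroup p (Subgroup.zpowers a)) (D : Subgroup G)
    (hD : D ≤ Subgroup.centralizer {a})
    (hDn : Subgroup.centralizer {a} ≤ Subgroup.normalizer (D : Set G))
    (hDp : (Nat.card D).Coprime p) : D = ⊥ := by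
  have hp : p.Prime := Fact.out
  by_contra hne
  obtain ⟨⟨d, hd⟩, hd1⟩ := (Subgroup.ne_bot_iff_exists_ne_one).mp hne
  have hd1' : d ≠ 1 := fun h => hd1 (Subtype.ext h)
  have hpa : p ∣ orderOf a := by
    obtain ⟨n, hn⟩ := IsPGroup.iff_card.mp hap
    rw [Nat.card_zpowers] at hn
    rw [hn]
    apply dvd_pow_self
    rintro rfl
    rw [pow_zero, orderOf_eq_one_iff] at hn
    exact ha hn
  -- conjugates
  have key : ∀ x ∈ Subgroup.normalClosure ({d} : Set G), ∀ g : G,
      (p ∣ orderOf g ↔ p ∣ orderOf (x * g)) := by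
    intro x hx
    refine Subgroup.closure_induction (p := fun x _ => ∀ g : G,
      (p ∣ orderOf g ↔ p ∣ orderOf (x * g))) ?_ ?_ ?_ ?_ hx
    · intro y hy g
      obtain ⟨z, hz, hzy⟩ := Group.mem_conjugatesOfSet_iff.mp hy
      rw [Set.mem_singleton_iff] at hz
      subst hz
      obtain ⟨c, hc⟩ := isConj_iff.mp hzy
      have h1 := dvd_orderOf_mul_iff hsol hgen p a hap D hD hDn hDp hd (c⁻¹ * g * c)
      have h2 : orderOf (c⁻¹ * g * c) = orderOf g := by
        have := orderOf_injective (MulAut.conj c⁻¹).toMonoidHom (MulAut.conj c⁻¹).injective g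
        simpa using this
      have h3 : orderOf (z * (c⁻¹ * g * c)) = orderOf (y * g) := by
        have := orderOf_injective (MulAut.conj c).toMonoidHom (MulAut.conj c).injective
          (z * (c⁻¹ * g * c))
        rw [← this, ← hc]
        congr 1
        simp only [MulEquiv.coe_toMonoidHom, MulAut.conj_apply]
        group
      rw [h2, h3] at h1
      exact h1
    · intro g; rw [one_mul]
    · intro x y _ _ hx hy g
      rw [mul_assoc, ← hx, ← hy]
    · intro x _ hx g
      rw [hx (x⁻¹ * g), mul_inv_cancel_left]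
  have htop : Subgroup.normalClosure ({d} : Set G) = ⊤ := by
    rcases Subgroup.Normal.eq_bot_or_eq_top
      (Subgroup.normalClosure_normal (s := ({d} : Set G))) with h | h
    · exfalso
      apply hd1'
      have : d ∈ Subgroup.normalClosure ({d} : Set G) :=
        Subgroup.subset_normalClosure (Set.mem_singleton d)
      rwa [h, Subgroup.mem_bot] at this
    · exact h
  have h1 := (key a⁻¹ (htop ▸ Subgroup.mem_top _) a).mp hpa
  rw [inv_mul_cancel, orderOf_one] at h1
  exact hp.one_lt.ne' (Nat.dvd_one.mp h1)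

end Cfsg.Agent.Classification.FlavellA
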