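import Mathlib
import Cfsg.Prelude.Def_Solvable
import Cfsg.Prelude.Def_PLocal
import Cfsg.Agent.Lib.Cores
import Cfsg.Agent.Lib.HallHigman
import Cfsg.Agent.Lib.PSolvable
import Cfsg.Agent.Lib.CoprimeHyperplane
import Cfsg.Agent.Lib.CoprimeAbelian
import Cfsg.Agent.PLocal.ConjFunctor
import Cfsg.Agent.PLocal.PConstrainedLocal
import Cfsg.Agent.PLocal.StableClosure
import Cfsg.Agent.S0627
import Cfsg.Agent.S0636
import Cfsg.Agent.S0661

/-!
# Two-generator solvability: the strongly `p`-embedded subgroup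

Part of the proof of S0489. `G` is a finite simple group all of whose proper subgroups are solvable and which
is not generated by two elements. Assuming that `O_{p'}(C_G(a)) = 1` for all `p`-elements `a ≠ 1`
(hypothesis `hA`), for a prime `p ≥ 5` dividing `|G|`, we construct a strongly `p`-embedded subgroup, show
that Sylow `p`-subgroups are cyclic and that `C_G(z)` is a `p`-group for `z` of order `p`.
-/

set_option autoImplicit false

namespace Cfsg.Agent.Classification.FlavellB

open Subgroup Cfsg Cfsg.Agent.Lib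
open scoped Pointwise

universe u

section core

variable {G : Type u} [Group G]

/-- `O_{p'}(H)` as a subgroup of `G`. -/
def core (p : ℕ) (H : Subgroup G) : Subgroup G := (pPrimeCore p H).map H.subtype

theorem core_def (p : ℕ) (H : Subgroup G) : core p H = (pPrimeCore p H).map H.subtype := rfl

theorem core_le (p : ℕ) (H : Subgroup G) : core p H ≤ H := Subgroup.map_subtype_le _

theorem core_coprime [Finite G] (p : ℕ) (H : Subgroup G) : (Nat.card (core p H)).Coprime p := by
  rw [core_def, Nat.card_congr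
    ((pPrimeCore p H).equivMapOfInjective _ H.subtype_injective).symm.toEquiv]
  exact Cores.pPrimeCore_coprime p

theorem le_normalizer_core (p : ℕ) (H : Subgroup G) :
    H ≤ Subgroup.normalizer (core p H : Set G) := by
  have h1 := Subgroup.le_normalizer_map H.subtype (H := pPrimeCore p H)
  rw [Subgroup.normalizer_eq_top_iff.mpr (Cores.pPrimeCore_normal p), ← MonoidHom.range_eq_map,
    Subgroup.range_subtype] at h1
  exact h1

theorem le_core {p : ℕ} {H W : Subgroup G} (h1 : W ≤ H)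
    (h2 : H ≤ Subgroup.normalizer (W : Set G)) (h3 : (Nat.card W).Coprime p) :
    W ≤ core p H := by
  have hn : (W.subgroupOf H).Normal := (Subgroup.normal_subgroupOf_iff_le_normalizer h1).mpr h2
  have hc : (Nat.card (W.subgroupOf H)).Coprime p := by
    rwa [Nat.card_congr (Subgroup.subgroupOfEquivOfLe h1).toEquiv]
  have := Subgroup.map_mono (f := H.subtype) (Cores.le_pPrimeCore hn hc)
  rwa [Subgroup.subgroupOf_map_subtype, inf_eq_left.mpr h1] at this

theorem map_core (p : ℕ) (e : G ≃* G) (H : Subgroup G) :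
    (core p H).map (e : G →* G) = core p (H.map (e : G →* G)) := by
  have h1 := Cores.map_equiv_pPrimeCore (e.subgroupMap H) p
  rw [core_def, core_def, ← h1, Subgroup.map_map, Subgroup.map_map]
  rfl

theorem core_eq_bot_iff (p : ℕ) (H : Subgroup G) : core p H = ⊥ ↔ pPrimeCore p H = ⊥ := by
  rw [core_def, Subgroup.map_eq_bot_iff_of_injective _ H.subtype_injective]

end core

section solv

variable {G : Type u} [Group G] [Finite G]

theorem centralizer_pCore_quot_le [Group.IsSolvable G] (p : ℕ) [Fact p.Prime] :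
    Subgroup.centralizer (pCore p (G ⧸ pPrimeCore p G) : Set (G ⧸ pPrimeCore p G)) ≤
      pCore p (G ⧸ pPrimeCore p G) :=
  HallHigman.centralizer_pCore_le_of_solvable p (Cores.pPrimeCore_quotient_pPrimeCore p)

/-- `G` solvable: a `p'`-subgroup `W` centralised by the `p`-subgroup `X` and normalised by `C_G(X)` lies in
`O_{p'}(G)`. -/
theorem le_pPrimeCore_of_centralizer [Group.IsSolvable G] {p : ℕ} [Fact p.Prime]
    {X W : Subgroup G} (hX : IsPGroup p X) (hWX : W ≤ Subgroup.centralizer (X : Set G))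
    (hn : Subgroup.centralizer (X : Set G) ≤ Subgroup.normalizer (W : Set G))
    (hW : (Nat.card W).Coprime p) : W ≤ pPrimeCore p G := by
  have h1 : W ≤ core p (Subgroup.centralizer (X : Set G)) := le_core hWX hn hW
  have h2 : Subgroup.normalizer (X : Set G) ≤
      Subgroup.normalizer (core p (Subgroup.centralizer (X : Set G)) : Set G) := by
    intro n hn
    rw [Subgroup.mem_normalizer_iff_map_conj_eq] at hn ⊢
    have h5 : ((Subgroup.centralizer (X : Set G)).map (MulAut.conj n : G →* G)) =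
        Subgroup.centralizer ((X.map (MulAut.conj n : G →* G) : Subgroup G) : Set G) := by
      ext y
      simp only [Subgroup.mem_map, Subgroup.mem_centralizer_iff]
      constructor
      · rintro ⟨c, hc, rfl⟩ _ ⟨x, hx, rfl⟩
        rw [← map_mul, ← map_mul, hc x hx]
      · intro h
        refine ⟨n⁻¹ * y * n, ?_, by simp [MulAut.conj_apply, mul_assoc]⟩
        intro x hx
        have := h _ ⟨x, hx, rfl⟩
        simp only [MonoidHom.coe_coe, MulAut.conj_apply] at this
        calc x * (n⁻¹ * y * n) = n⁻¹ * (n * x * n⁻¹ * y) * n := by group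
          _ = n⁻¹ * (y * (n * x * n⁻¹)) * n := by rw [this]
          _ = n⁻¹ * y * n * x := by group
    rw [hn] at h5
    have h6 := map_core p (MulAut.conj n) (Subgroup.centralizer (X : Set G))
    rw [h5] at h6
    exact h6
  have h3 : core p (Subgroup.centralizer (X : Set G)) ≤ core p (Subgroup.normalizer (X : Set G)) :=
    le_core ((core_le _ _).trans (Subgroup.centralizer_le_normalizer _)) h2 (core_coprime _ _)
  have h4 := S0661.result (centralizer_pCore_quot_le (G := G) p) X hX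
  exact (h1.trans h3).trans (h4.le.trans inf_le_left)

theorem le_core_of_centralizer {p : ℕ} [Fact p.Prime] {H X W : Subgroup G}
    (hH : Group.IsSolvable H) (hX : IsPGroup p X) (hXH : X ≤ H) (hWH : W ≤ H)
    (hWX : W ≤ Subgroup.centralizer (X : Set G))
    (hn : H ⊓ Subgroup.centralizer (X : Set G) ≤ Subgroup.normalizer (W : Set G))
    (hW : (Nat.card W).Coprime p) : W ≤ core p H := by
  have h := le_pPrimeCore_of_centralizer (G := H) (X := X.subgroupOf H) (W := W.subgroupOf H)
    (hX.comap_of_injective H.subtype H.subtype_injective) ?_ ?_ ?_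
  · have := Subgroup.map_mono (f := H.subtype) h
    rwa [Subgroup.subgroupOf_map_subtype, inf_eq_left.mpr hWH] at this
  · intro w hw
    rw [Subgroup.mem_centralizer_iff]
    intro x hx
    exact Subtype.ext (Subgroup.mem_centralizer_iff.mp (hWX hw) x hx)
  · intro c hc
    have hc' : (c : G) ∈ Subgroup.normalizer (W : Set G) := by
      refine hn (Subgroup.mem_inf.mpr ⟨c.2, Subgroup.mem_centralizer_iff.mpr ?_⟩)
      intro x hx
      exact congrArg Subtype.val (Subgroup.mem_centralizer_iff.mp hc ⟨x, hXH hx⟩ hx)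
    rw [Subgroup.mem_normalizer_iff] at hc' ⊢
    intro w
    exact hc' w
  · rwa [Nat.card_congr (Subgroup.subgroupOfEquivOfLe hWH).toEquiv]

end solv

section min

variable {G : Type u} [Group G] [Finite G]

omit [Finite G] in
theorem zpowers_ne_top (hgen : ∀ x y : G, Subgroup.closure {x, y} ≠ ⊤) (a : G) :
    Subgroup.zpowers a ≠ ⊤ := by
  intro h
  apply hgen a a
  rw [Set.pair_eq_singleton, ← Subgroup.zpowers_eq_closure, h]

omit [Finite G] in
theorem centralizer_ne_top [IsSimpleGroup G] (hgen : ∀ x y : G, Subgroup.closure {x, y} ≠ ⊤)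
    {a : G} (ha : a ≠ 1) : Subgroup.centralizer ({a} : Set G) ≠ ⊤ := by
  intro h
  have hn : (Subgroup.zpowers a).Normal := by
    constructor
    intro x hx g
    have hg : g ∈ Subgroup.centralizer ({a} : Set G) := by rw [h]; trivial
    have hga : Commute g a := (Subgroup.mem_centralizer_singleton_iff.mp hg)
    obtain ⟨k, rfl⟩ := Subgroup.mem_zpowers_iff.mp hx
    have h2 : g * a ^ k * g⁻¹ = a ^ k := by
      rw [(hga.zpow_right k).eq, mul_inv_cancel_right]
    rw [h2]
    exact hx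
  rcases hn.eq_bot_or_eq_top with h1 | h1
  · exact ha (Subgroup.zpowers_eq_bot.mp h1)
  · exact zpowers_ne_top hgen a h1

theorem exists_central {p : ℕ} [Fact p.Prime] {X : Subgroup G} (hX : IsPGroup p X)
    (h : X ≠ ⊥) : ∃ z ∈ X, z ≠ 1 ∧ X ≤ Subgroup.centralizer ({z} : Set G) := by
  have hnt : Nontrivial X := (Subgroup.nontrivial_iff_ne_bot X).mpr h
  have hc := hX.center_nontrivial
  obtain ⟨z, hz⟩ := exists_ne (1 : Subgroup.center X)
  refine ⟨((z : X) : G), (z : X).2, ?_, ?_⟩
  · intro h1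
    apply hz
    apply Subtype.ext
    apply Subtype.ext
    exact h1
  · intro x hx
    rw [Subgroup.mem_centralizer_singleton_iff]
    exact congrArg Subtype.val (Subgroup.mem_center_iff.mp z.2 ⟨x, hx⟩)

omit [Finite G] in
theorem isPGroup_zpowers_of_mem {p : ℕ} {X : Subgroup G} (hX : IsPGroup p X) {z : G}
    (hz : z ∈ X) : IsPGroup p (Subgroup.zpowers z) :=
  hX.to_le (by rwa [Subgroup.zpowers_le])

omit [Finite G] in
theorem isPGroup_zpowers_of_orderOf {p : ℕ} {z : G} (hz : orderOf z = p) :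
    IsPGroup p (Subgroup.zpowers z) := by
  apply IsPGroup.of_card (n := 1)
  rw [Nat.card_zpowers, hz, pow_one]

theorem ne_top_of_isPGroup [IsSimpleGroup G] (hgen : ∀ x y : G, Subgroup.closure {x, y} ≠ ⊤)
    {p : ℕ} [Fact p.Prime] {X : Subgroup G} (hX : IsPGroup p X) : X ≠ ⊤ := by
  rintro rfl
  obtain ⟨z, -, hz1, hz⟩ := exists_central hX top_ne_bot
  exact centralizer_ne_top hgen hz1 (top_le_iff.mp hz)

theorem normalizer_ne_top [IsSimpleGroup G] (hgen : ∀ x y : G, Subgroup.closure {x, y} ≠ ⊤)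
    {p : ℕ} [Fact p.Prime] {X : Subgroup G} (hX : IsPGroup p X) (h : X ≠ ⊥) :
    Subgroup.normalizer (X : Set G) ≠ ⊤ := by
  intro h1
  have hn : X.Normal := Subgroup.normalizer_eq_top_iff.mp h1
  rcases hn.eq_bot_or_eq_top with h2 | h2
  · exact h h2
  · exact ne_top_of_isPGroup hgen hX h2

omit [Finite G] in
theorem le_centralizer_of_disjoint {A B : Subgroup G} (h1 : A ≤ Subgroup.normalizer (B : Set G))
    (h2 : B ≤ Subgroup.normalizer (A : Set G)) (h3 : A ⊓ B = ⊥) :
    A ≤ Subgroup.centralizer (B : Set G) := by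
  intro a ha
  rw [Subgroup.mem_centralizer_iff]
  intro b hb
  have hc1 : a * b * a⁻¹ * b⁻¹ ∈ B :=
    B.mul_mem ((Subgroup.mem_normalizer_iff.mp (h1 ha) b).mp hb) (B.inv_mem hb)
  have hc2 : a * (b * a⁻¹ * b⁻¹) ∈ A :=
    A.mul_mem ha ((Subgroup.mem_normalizer_iff.mp (h2 hb) a⁻¹).mp (A.inv_mem ha))
  have hc3 : a * b * a⁻¹ * b⁻¹ ∈ A ⊓ B :=
    Subgroup.mem_inf.mpr ⟨by simpa [mul_assoc] using hc2, hc1⟩
  rw [h3, Subgroup.mem_bot] at hc3
  have h4 : a * b = b * a := by
    calc a * b = (a * b * a⁻¹ * b⁻¹) * (b * a) := by group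
      _ = b * a := by rw [hc3, one_mul]
  exact h4.symm

/-- Lemma A': `O_{p'}(N_G(X)) = 1` for all `p`-subgroups `X ≠ 1`. -/
theorem core_normalizer_eq_bot [IsSimpleGroup G] (hsol : ∀ H : Subgroup G, H ≠ ⊤ → Group.IsSolvable H)
    (hgen : ∀ x y : G, Subgroup.closure {x, y} ≠ ⊤) {p : ℕ} [Fact p.Prime]
    (hA : ∀ a : G, a ≠ 1 → IsPGroup p (Subgroup.zpowers a) → ∀ D : Subgroup G,
      D ≤ Subgroup.centralizer {a} → Subgroup.centralizer {a} ≤ Subgroup.normalizer (D : Set G) →
      (Nat.card D).Coprime p → D = ⊥)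
    {X : Subgroup G} (hX : IsPGroup p X) (h : X ≠ ⊥) :
    core p (Subgroup.normalizer (X : Set G)) = ⊥ := by
  obtain ⟨z, hzX, hz1, hz⟩ := exists_central hX h
  set D := core p (Subgroup.normalizer (X : Set G)) with hD
  have hDX : D ≤ Subgroup.centralizer (X : Set G) := by
    apply le_centralizer_of_disjoint (core_le _ _)
    · exact Subgroup.le_normalizer.trans (le_normalizer_core p _)
    · rw [inf_comm]
      exact PLocal.PConstrained.inf_eq_bot_of_isPGroup_of_coprime hX (core_coprime _ _)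
  set H := Subgroup.centralizer ({z} : Set G) with hH
  have hDH : D ≤ H := hDX.trans (Subgroup.centralizer_le (by simpa using hzX))
  have h1 : D ≤ core p H := by
    refine le_core_of_centralizer (hsol H (centralizer_ne_top hgen hz1)) hX hz hDH hDX ?_
      (core_coprime _ _)
    exact inf_le_right.trans ((Subgroup.centralizer_le_normalizer _).trans (le_normalizer_core p _))
  have h2 : core p H = ⊥ := hA z hz1 (isPGroup_zpowers_of_mem hX hzX) _ (core_le _ _)
    (le_normalizer_core _ _) (core_coprime _ _)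
  rw [h2] at h1
  exact le_bot_iff.mp h1

end min

section W

/-- The image of `W(Q)` in `G`. -/
noncomputable def Wf {G : Type u} [Group G] (p : ℕ) (Q : Subgroup G) : Subgroup G :=
  (stableNormalClosure p ↥Q).map Q.subtype

variable {G H : Type u} [Group G] [Group H]

theorem Wf_le (p : ℕ) (Q : Subgroup G) : Wf p Q ≤ Q := Subgroup.map_subtype_le _

theorem Wf_ne_bot [Finite G] {p : ℕ} [Fact p.Prime] {Q : Subgroup G} (hQ : IsPGroup p Q)
    (h : Q ≠ ⊥) : Wf p Q ≠ ⊥ := by
  have hnt : Nontrivial Q := (Subgroup.nontrivial_iff_ne_bot Q).mpr h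
  rw [Wf, Ne, Subgroup.map_eq_bot_iff_of_injective _ Q.subtype_injective]
  exact PLocal.StableClosure.stableNormalClosure_ne_bot hQ

theorem map_Wf (p : ℕ) (f : G →* H) (hf : Function.Injective f) (Q : Subgroup G) :
    (Wf p Q).map f = Wf p (Q.map f) := by
  have h1 := PLocal.StableClosure.map_mulEquiv_stableNormalClosure p
    (Q.equivMapOfInjective f hf)
  rw [Wf, Wf, ← h1, Subgroup.map_map, Subgroup.map_map]
  congr 1

/-- `H = O_{p'}(H) N_H(W(S))` for a solvable subgroup `H` and `p ≥ 5`. -/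
theorem le_core_sup_normalizer [Finite G] {p : ℕ} [Fact p.Prime] (hp5 : 5 ≤ p)
    {K : Subgroup G} (hK : Group.IsSolvable K) (S : Sylow p K) :
    K ≤ core p K ⊔ Subgroup.normalizer (Wf p ((S : Subgroup K).map K.subtype) : Set G) := by
  have h1 := S0627.result hp5 (PSolvable.IsPSolvable_of_solvable (G := K) p) S
  have h2 := congrArg (Subgroup.map K.subtype) h1
  rw [Subgroup.map_sup, ← MonoidHom.range_eq_map, Subgroup.range_subtype] at h2
  rw [← map_Wf p K.subtype K.subtype_injective]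
  refine h2.ge.trans (sup_le_sup le_rfl ?_)
  exact Subgroup.le_normalizer_map _

end W

section embedded

variable {G : Type u} [Group G] [Finite G]

/-- Lemma B: the strongly `p`-embedded subgroup. -/
theorem exists_embedded [IsSimpleGroup G] (hsol : ∀ H : Subgroup G, H ≠ ⊤ → Group.IsSolvable H)
    (hgen : ∀ x y : G, Subgroup.closure {x, y} ≠ ⊤) {p : ℕ} [Fact p.Prime] (hp5 : 5 ≤ p)
    (hdvd : p ∣ Nat.card G)
    (hA : ∀ a : G, a ≠ 1 → IsPGroup p (Subgroup.zpowers a) → ∀ D : Subgroup G,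
      D ≤ Subgroup.centralizer {a} → Subgroup.centralizer {a} ≤ Subgroup.normalizer (D : Set G) →
      (Nat.card D).Coprime p → D = ⊥) :
    ∃ M : Subgroup G, M ≠ ⊤ ∧ (∃ P : Sylow p G, (P : Subgroup G) ≤ M) ∧
      ∀ X : Subgroup G, X ≤ M → IsPGroup p X → X ≠ ⊥ →
        Subgroup.normalizer (X : Set G) ≤ M := by
  obtain ⟨P⟩ : Nonempty (Sylow p G) := inferInstance
  have hP1 : (P : Subgroup G) ≠ ⊥ := P.ne_bot_of_dvd_card hdvd
  set M := Subgroup.normalizer (Wf p (P : Subgroup G) : Set G) with hM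
  have hZmap : ∀ (Q : Subgroup G) (x : G), (Wf p Q).map (MulAut.conj x).toMonoidHom =
      Wf p (Q.map (MulAut.conj x).toMonoidHom) := fun Q x =>
    map_Wf p _ (MulAut.conj x).injective Q
  have hlocal : ∀ Q : Subgroup G, Q ≤ P → Q ≠ ⊥ → Subgroup.normalizer (Q : Set G) ≤ M := by
    refine PLocal.ConjFunctor.normalizer_le (p := p) (Wf p) (Wf_le p)
      (fun Q hQ hQ1 => Wf_ne_bot hQ hQ1) hZmap ?_ P
    intro D hD hD1 S
    have h1 := le_core_sup_normalizer hp5 (hsol _ (normalizer_ne_top hgen hD hD1)) S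
    rwa [core_normalizer_eq_bot hsol hgen hA hD hD1, bot_sup_eq] at h1
  have hPM : (P : Subgroup G) ≤ M := by
    intro x hx
    have hx' : x ∈ Subgroup.normalizer ((P : Subgroup G) : Set G) := Subgroup.le_normalizer hx
    rw [hM, Subgroup.mem_normalizer_iff_map_conj_eq]
    rw [Subgroup.mem_normalizer_iff_map_conj_eq] at hx'
    have := hZmap P x
    change (Wf p (P : Subgroup G)).map (MulAut.conj x : G →* G) = _ at this
    rw [this]
    change Wf p ((P : Subgroup G).map (MulAut.conj x : G →* G)) = _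
    rw [hx']
  refine ⟨M, normalizer_ne_top hgen (P.isPGroup'.to_le (Wf_le p _)) (Wf_ne_bot P.isPGroup' hP1),
    ⟨P, hPM⟩, ?_⟩
  intro X hXM hX hX1
  obtain ⟨S, hS⟩ := PLocal.ConjFunctor.exists_sylow_of_le hX hXM
  obtain ⟨T, hT⟩ := PLocal.ConjFunctor.exists_sylow_of_le P.isPGroup' hPM
  have hT' : (P : Subgroup G) = (T : Subgroup M).map M.subtype :=
    (P.is_maximal' (PLocal.ConjFunctor.isPGroup_map_sylow T) hT).symm
  obtain ⟨x, hxM, hx⟩ := PLocal.ConjFunctor.exists_conj_sylow S T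
  have h1 : X.map (MulAut.conj x).toMonoidHom ≤ P := by
    rw [hT', ← hx]
    exact Subgroup.map_mono hS
  have h2 : X.map (MulAut.conj x).toMonoidHom ≠ ⊥ := by
    rwa [Ne, Subgroup.map_eq_bot_iff_of_injective _ (MulAut.conj x).injective]
  have h3 := hlocal _ h1 h2
  intro g hg
  have h4 : (MulAut.conj x) g ∈ M := by
    apply h3
    have h5 := Subgroup.le_normalizer_map (MulAut.conj x).toMonoidHom (H := X)
    exact h5 ⟨g, hg, rfl⟩
  rw [MulAut.conj_apply] at h4
  have h5 : g = x⁻¹ * (x * g * x⁻¹) * x := by group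
  rw [h5]
  exact M.mul_mem (M.mul_mem (M.inv_mem hxM) h4) hxM

section M

variable {p : ℕ} [Fact p.Prime] {M : Subgroup G}
  (hM : ∀ X : Subgroup G, X ≤ M → IsPGroup p X → X ≠ ⊥ → Subgroup.normalizer (X : Set G) ≤ M)

include hM

omit [Finite G] [Fact (Nat.Prime p)] in
theorem centralizer_le_M {x : G} (hx : x ∈ M) (hx1 : x ≠ 1)
    (hxp : IsPGroup p (Subgroup.zpowers x)) : Subgroup.centralizer ({x} : Set G) ≤ M := by
  refine le_trans ?_ (hM (Subgroup.zpowers x) (by rwa [Subgroup.zpowers_le]) hxp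
    (by rwa [Ne, Subgroup.zpowers_eq_bot]))
  rw [← Subgroup.centralizer_closure, ← Subgroup.zpowers_eq_closure]
  exact Subgroup.centralizer_le_normalizer _

/-- A `p`-subgroup meeting `M` nontrivially lies in `M`. -/
theorem le_M_of_inf_ne_bot {Q : Subgroup G} (hQ : IsPGroup p Q) (h : Q ⊓ M ≠ ⊥) : Q ≤ M := by
  obtain ⟨x, hx, hx1⟩ := (Subgroup.ne_bot_iff_exists_ne_one).mp h |>.elim
    (fun x hx => (⟨(x : G), x.2, fun h1 => hx (Subtype.ext h1)⟩ :
      ∃ x : G, x ∈ Q ⊓ M ∧ x ≠ 1))
  have hQ1 : Q ≠ ⊥ := by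
    rintro rfl
    exact h (bot_inf_eq _)
  obtain ⟨z, hzQ, hz1, hz⟩ := exists_central hQ hQ1
  have h1 : z ∈ Subgroup.centralizer ({x} : Set G) := by
    rw [Subgroup.mem_centralizer_singleton_iff]
    exact (Subgroup.mem_centralizer_singleton_iff.mp (hz hx.1)).symm
  have h2 : z ∈ M := centralizer_le_M hM hx.2 hx1 (isPGroup_zpowers_of_mem hQ hx.1) h1
  exact hz.trans (centralizer_le_M hM h2 hz1 (isPGroup_zpowers_of_mem hQ hzQ))

/-- Lemma F. -/
theorem le_M_of_core_le (hp5 : 5 ≤ p) {H : Subgroup G} (hH : Group.IsSolvable H) {a : G}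
    (haH : a ∈ H) (haM : a ∈ M) (ha1 : a ≠ 1) (hap : IsPGroup p (Subgroup.zpowers a))
    (hc : core p H ≤ M) : H ≤ M := by
  obtain ⟨S, hS⟩ := PLocal.ConjFunctor.exists_sylow_of_le hap
    (N := H) (by rwa [Subgroup.zpowers_le])
  set T := (S : Subgroup H).map H.subtype with hT
  have hTp : IsPGroup p T := PLocal.ConjFunctor.isPGroup_map_sylow S
  have haT : a ∈ T := hS (Subgroup.mem_zpowers a)
  have hTM : T ≤ M := by
    apply le_M_of_inf_ne_bot hM hTp
    intro h
    have : a ∈ T ⊓ M := ⟨haT, haM⟩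
    rw [h, Subgroup.mem_bot] at this
    exact ha1 this
  have hT1 : T ≠ ⊥ := by
    intro h
    rw [h, Subgroup.mem_bot] at haT
    exact ha1 haT
  have h1 := le_core_sup_normalizer hp5 hH S
  refine h1.trans (sup_le hc ?_)
  exact hM _ ((Wf_le p T).trans hTM) (hTp.to_le (Wf_le p T)) (Wf_ne_bot hTp hT1)

/-- Lemma C. -/
theorem le_M_of_elemAb (hp5 : 5 ≤ p) {H E : Subgroup G} (hH : Group.IsSolvable H)
    (hE : IsElementaryAbelian p E) (hcard : Nat.card E = p ^ 2) (hEM : E ≤ M) (hEH : E ≤ H) :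
    H ≤ M := by
  have hpp : p.Prime := Fact.out
  have hE1 : E ≠ ⊥ := by
    rintro rfl
    rw [Subgroup.card_bot] at hcard
    have := Nat.one_lt_pow (n := 2) (by norm_num) hpp.one_lt
    omega
  have hEp : IsPGroup p E := IsPGroup.of_card hcard
  obtain ⟨a, haE, ha1, -⟩ := exists_central hEp hE1
  refine le_M_of_core_le hM hp5 hH (hEH haE) (hEM haE) ha1 (isPGroup_zpowers_of_mem hEp haE) ?_
  have h1 := CoprimeHyperplane.iSup_centralizer_hyperplane (p := p) (A := E) (Q := core p H)
    hE hE1 ((Nat.Prime.coprime_iff_not_dvd hpp).mp (core_coprime p H).symm)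
    (hEH.trans (le_normalizer_core p H))
  rw [← h1]
  refine iSup_le ?_
  rintro ⟨B, hBE, hB⟩
  have hcB : Nat.card B = p := by
    have h2 := Subgroup.relIndex_mul_relIndex ⊥ B E bot_le hBE
    rw [Subgroup.relIndex_bot_left, Subgroup.relIndex_bot_left, hB, hcard] at h2
    have h3 : Nat.card B * p = p * p := by rw [h2]; ring
    exact Nat.eq_of_mul_eq_mul_right hpp.pos h3
  have hB1 : B ≠ ⊥ := by
    rintro rfl
    rw [Subgroup.card_bot] at hcB
    exact hpp.one_lt.ne hcB
  have hBp : IsPGroup p B := hEp.to_le hBE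
  refine inf_le_right.trans ?_
  refine (Subgroup.centralizer_le_normalizer _).trans (hM B (hBE.trans hEM) hBp hB1)

end M

/-- If `z` of order `p` normalises the `p'`-subgroup `K` and `k ∈ K` then `z^k = z^l` for some
`l ∈ K ∩ ⟨z, z^k⟩`. -/
theorem exists_conj_mem {p : ℕ} [Fact p.Prime] {z : G} (hz : orderOf z = p) {K : Subgroup G}
    (hK : (Nat.card K).Coprime p) (hzK : z ∈ Subgroup.normalizer (K : Set G)) {k : G}
    (hk : k ∈ K) : ∃ l ∈ K, l ∈ Subgroup.closure {z, k⁻¹ * z * k} ∧
      l⁻¹ * z * l = k⁻¹ * z * k := by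
  have hpp : p.Prime := Fact.out
  set z' := k⁻¹ * z * k with hz'
  set J := Subgroup.closure {z, z'} with hJ
  set L := K ⊔ Subgroup.zpowers z with hL
  have hle : Subgroup.zpowers z ≤ Subgroup.normalizer (K : Set G) := by
    rwa [Subgroup.zpowers_le]
  have hLcoe : (L : Set G) = (K : Set G) * (Subgroup.zpowers z : Set G) :=
    Subgroup.coe_mul_of_right_le_normalizer_left _ _ hle
  have hzL : z ∈ L := (le_sup_right : Subgroup.zpowers z ≤ L) (Subgroup.mem_zpowers z)
  have hkL : k ∈ L := (le_sup_left : K ≤ L) hk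
  have hz'L : z' ∈ L := L.mul_mem (L.mul_mem (L.inv_mem hkL) hzL) hkL
  have hJL : J ≤ L := by
    rw [hJ, Subgroup.closure_le]
    rintro x (rfl | rfl)
    · exact hzL
    · exact hz'L
  have hzJ : z ∈ J := Subgroup.subset_closure (by simp)
  have hz'J : z' ∈ J := Subgroup.subset_closure (by simp)
  have hoz' : orderOf z' = p := by
    have h1 : z' = MulAut.conj k⁻¹ z := by rw [MulAut.conj_apply, inv_inv]
    rw [h1, MulEquiv.orderOf_eq, hz]
  -- card of L
  have hcardL : Nat.card L ∣ Nat.card K * p := by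
    have h1 : K.relIndex L = K.relIndex (Subgroup.zpowers z) := by
      have hKN : K ≤ Subgroup.normalizer (K : Set G) := Subgroup.le_normalizer
      rw [← Subgroup.relIndex_subgroupOf (H := K) hle,
        ← Subgroup.relIndex_subgroupOf (H := K) (sup_le hKN hle : L ≤ _),
        Subgroup.subgroupOf_sup hKN hle, Subgroup.relIndex_sup_left]
    have h2 := Subgroup.relIndex_mul_relIndex ⊥ K L bot_le le_sup_left
    rw [Subgroup.relIndex_bot_left, Subgroup.relIndex_bot_left, h1] at h2
    rw [← h2]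
    refine Nat.mul_dvd_mul_left _ ?_
    have := Subgroup.relIndex_dvd_card K (Subgroup.zpowers z)
    rwa [Nat.card_zpowers, hz] at this
  have hsyl : ∀ y : G, y ∈ J → orderOf y = p →
      ∃ S : Sylow p J, (S : Subgroup J) = (Subgroup.zpowers y).subgroupOf J := by
    intro y hy hyo
    have hyJ : Subgroup.zpowers y ≤ J := by rwa [Subgroup.zpowers_le]
    have hcy : Nat.card ((Subgroup.zpowers y).subgroupOf J) = p := by
      rw [Nat.card_congr (Subgroup.subgroupOfEquivOfLe hyJ).toEquiv, Nat.card_zpowers, hyo]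
    have hyp : IsPGroup p ((Subgroup.zpowers y).subgroupOf J) :=
      IsPGroup.of_card (n := 1) (by rw [hcy, pow_one])
    refine ⟨hyp.toSylow ?_, rfl⟩
    intro hdvd
    have h1 := Subgroup.card_mul_index ((Subgroup.zpowers y).subgroupOf J)
    rw [hcy] at h1
    have h2 : p * ((Subgroup.zpowers y).subgroupOf J).index ∣ Nat.card K * p := by
      rw [h1]
      exact (Subgroup.card_dvd_of_le hJL).trans hcardL
    rw [mul_comm (Nat.card K)] at h2
    have h3 := Nat.dvd_of_mul_dvd_mul_left hpp.pos h2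
    have h4 := hdvd.trans h3
    exact (Nat.Prime.coprime_iff_not_dvd hpp).mp hK.symm h4
  obtain ⟨S1, hS1⟩ := hsyl z hzJ hz
  obtain ⟨S2, hS2⟩ := hsyl z' hz'J hoz'
  obtain ⟨g, hg⟩ := MulAction.exists_smul_eq J S1 S2
  have hgz : (g : G) * z * (g : G)⁻¹ ∈ Subgroup.zpowers z' := by
    have h1 : (⟨z, hzJ⟩ : J) ∈ (S1 : Subgroup J) := by
      rw [hS1, Subgroup.mem_subgroupOf]
      exact Subgroup.mem_zpowers z
    have h2 : g * ⟨z, hzJ⟩ * g⁻¹ ∈ (S2 : Subgroup J) := by
      rw [← hg]
      exact ⟨⟨z, hzJ⟩, h1, rfl⟩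
    rw [hS2, Subgroup.mem_subgroupOf] at h2
    exact h2
  have hgL : (g : G) ∈ (L : Set G) := hJL g.2
  rw [hLcoe] at hgL
  obtain ⟨κ, hκ, w, hw, hκw⟩ := hgL
  obtain ⟨i, rfl⟩ := Subgroup.mem_zpowers_iff.mp hw
  have hκz : κ * z * κ⁻¹ ∈ Subgroup.zpowers z' := by
    have h1 : (g : G) * z * (g : G)⁻¹ = κ * z * κ⁻¹ := by
      rw [← hκw]
      simp only
      group
    rwa [h1] at hgz
  have hκJ : κ ∈ J := by
    have h1 : κ = (g : G) * (z ^ i)⁻¹ := by rw [← hκw]; simp
    rw [h1]
    exact J.mul_mem g.2 (J.inv_mem (J.zpow_mem hzJ i))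
  obtain ⟨t, ht⟩ := Subgroup.mem_zpowers_iff.mp hκz
  have hzt : z' ^ t = k⁻¹ * z ^ t * k := by
    have h1 : z' = MulAut.conj k⁻¹ z := by rw [MulAut.conj_apply, inv_inv]
    rw [h1, ← map_zpow, MulAut.conj_apply, inv_inv]
  have hconjK : ∀ y : G, y ∈ Subgroup.zpowers z → ∀ x ∈ K, y * x * y⁻¹ ∈ K := fun y hy x hx =>
    (Subgroup.mem_normalizer_iff.mp (hle hy) x).mp hx
  have h1 : κ * z * κ⁻¹ * z⁻¹ ∈ K := by
    have := K.mul_mem hκ (hconjK z (Subgroup.mem_zpowers z) κ⁻¹ (K.inv_mem hκ))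
    simpa [mul_assoc] using this
  have h2 : z' ^ t * (z ^ t)⁻¹ ∈ K := by
    have := K.mul_mem (K.inv_mem hk) (hconjK (z ^ t) (Subgroup.zpow_mem_zpowers z t) k hk)
    rw [hzt]
    simpa [mul_assoc] using this
  have h3 : z ^ t * z⁻¹ ∈ K := by
    have := K.mul_mem (K.inv_mem h2) h1
    rw [← ht] at this
    have h4 : (z' ^ t * (z ^ t)⁻¹)⁻¹ * (z' ^ t * z⁻¹) = z ^ t * z⁻¹ := by group
    rwa [h4] at this
  have h4 : z ^ t * z⁻¹ = 1 := by
    have h5 : z ^ t * z⁻¹ ∈ Subgroup.zpowers z :=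
      Subgroup.mul_mem _ (Subgroup.zpow_mem_zpowers z t) (Subgroup.inv_mem _ (Subgroup.mem_zpowers z))
    have h6 : Subgroup.zpowers z ⊓ K = ⊥ :=
      PLocal.PConstrained.inf_eq_bot_of_isPGroup_of_coprime (isPGroup_zpowers_of_orderOf hz) hK
    have h7 : z ^ t * z⁻¹ ∈ Subgroup.zpowers z ⊓ K := ⟨h5, h3⟩
    rwa [h6, Subgroup.mem_bot] at h7
  have h5 : z ^ t = z := by
    rwa [mul_inv_eq_one] at h4
  refine ⟨κ⁻¹, K.inv_mem hκ, J.inv_mem hκJ, ?_⟩
  rw [inv_inv, ← ht, hzt, h5]

/-- Lemma D: `M` contains no elementary abelian subgroup of order `p ^ 2`. -/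
theorem no_elemAb (hsol : ∀ H : Subgroup G, H ≠ ⊤ → Group.IsSolvable H)
    (hgen : ∀ x y : G, Subgroup.closure {x, y} ≠ ⊤) {p : ℕ} [Fact p.Prime] (hp5 : 5 ≤ p)
    {M : Subgroup G} (hMtop : M ≠ ⊤)
    (hM : ∀ X : Subgroup G, X ≤ M → IsPGroup p X → X ≠ ⊥ → Subgroup.normalizer (X : Set G) ≤ M)
    {E : Subgroup G} (hE : IsElementaryAbelian p E) (hcard : Nat.card E = p ^ 2) (hEM : E ≤ M) :
    False := by
  have hpp : p.Prime := Fact.out
  have hE1 : E ≠ ⊥ := by
    rintro rfl
    rw [Subgroup.card_bot] at hcard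
    have := Nat.one_lt_pow (n := 2) (by norm_num) hpp.one_lt
    omega
  have hEp : IsPGroup p E := IsPGroup.of_card hcard
  obtain ⟨z, hzE, hz1, -⟩ := exists_central hEp hE1
  have hzo : orderOf z = p := orderOf_eq_prime (hE.2 z hzE) hz1
  have hzM : z ∈ M := hEM hzE
  have hzp := isPGroup_zpowers_of_mem hEp hzE
  have hcz := centralizer_le_M hM hzM hz1 hzp
  -- an element `c` of `E` outside `⟨z⟩`
  have hzE' : Subgroup.zpowers z ≤ E := by rwa [Subgroup.zpowers_le]
  obtain ⟨c, hcE, hc⟩ : ∃ c ∈ E, c ∉ Subgroup.zpowers z := by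
    by_contra hcon
    push Not at hcon
    have h1 : Nat.card E ≤ Nat.card (Subgroup.zpowers z) := Subgroup.card_le_of_le hcon
    rw [Nat.card_zpowers, hzo, hcard] at h1
    have := hpp.one_lt
    nlinarith
  have hcomm : ∀ x ∈ E, ∀ y ∈ E, x * y = y * x := fun x hx y hy =>
    congrArg Subtype.val (hE.1.is_comm.comm (⟨x, hx⟩ : E) ⟨y, hy⟩)
  -- `E ≤ ⟨z, c⟩`
  have hEgen : ∀ H : Subgroup G, z ∈ H → c ∈ H → E ≤ H := by
    intro H hzH hcH
    have h1 : Nat.card ↥(E ⊓ H) ∣ p ^ 2 := by
      rw [← hcard]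
      exact Subgroup.card_dvd_of_le inf_le_left
    obtain ⟨i, hi, hi'⟩ := (Nat.dvd_prime_pow hpp).mp h1
    have h2 : Subgroup.zpowers z < E ⊓ H := by
      refine lt_of_le_of_ne (le_inf hzE' (by rwa [Subgroup.zpowers_le])) ?_
      intro h
      apply hc
      rw [h]
      exact ⟨hcE, hcH⟩
    have h3 : p < Nat.card ↥(E ⊓ H) := by
      have := PLocal.ConjFunctor.card_lt_card_of_lt h2
      rwa [Nat.card_zpowers, hzo] at this
    have h4 : i = 2 := by
      rw [hi'] at h3
      interval_cases i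
      · simp at h3
        have := hpp.one_lt
        omega
      · simp at h3
      · rfl
    have h5 : E ⊓ H = E := by
      apply Subgroup.eq_of_le_of_card_ge inf_le_left
      rw [hi', h4, hcard]
    exact inf_eq_left.mp h5
  -- `y ∉ M`
  obtain ⟨y, hy⟩ : ∃ y, y ∉ M := by
    by_contra hcon
    push Not at hcon
    exact hMtop (top_le_iff.mp fun x _ => hcon x)
  set H := Subgroup.closure {z, y} with hH
  have hzH : z ∈ H := Subgroup.subset_closure (by simp)
  have hyH : y ∈ H := Subgroup.subset_closure (by simp)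
  have hHM : ¬ H ≤ M := fun h => hy (h hyH)
  have hcore : ¬ core p H ≤ M := fun h =>
    hHM (le_M_of_core_le hM hp5 (hsol H (hgen z y)) hzH hzM hz1 hzp h)
  obtain ⟨k, hkK, hkM⟩ := SetLike.not_le_iff_exists.mp hcore
  obtain ⟨l, -, hlJ, hl⟩ := exists_conj_mem hzo (core_coprime p H)
    (le_normalizer_core p H hzH) hkK
  have hlM : l ∉ M := by
    intro hlM
    apply hkM
    have h1 : k * l⁻¹ ∈ M := by
      apply hcz
      rw [Subgroup.mem_centralizer_singleton_iff]
      have h2 : l⁻¹ * z = k⁻¹ * z * k * l⁻¹ := by rw [← hl]; group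
      calc k * l⁻¹ * z = k * (l⁻¹ * z) := by group
        _ = k * (k⁻¹ * z * k * l⁻¹) := by rw [h2]
        _ = z * (k * l⁻¹) := by group
    have h3 : k = (k * l⁻¹) * l := by group
    rw [h3]
    exact M.mul_mem h1 hlM
  set H' := Subgroup.closure {z, c * l} with hH'
  have hzH' : z ∈ H' := Subgroup.subset_closure (by simp)
  have hclH' : c * l ∈ H' := Subgroup.subset_closure (by simp)
  have hz'H' : k⁻¹ * z * k ∈ H' := by
    have h1 : (c * l)⁻¹ * z * (c * l) ∈ H' :=
      H'.mul_mem (H'.mul_mem (H'.inv_mem hclH') hzH') hclH'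
    have h2 : (c * l)⁻¹ * z * (c * l) = k⁻¹ * z * k := by
      rw [← hl]
      have h3 : c⁻¹ * z * c = z := by
        rw [mul_assoc, hcomm z hzE c hcE, ← mul_assoc, inv_mul_cancel, one_mul]
      calc (c * l)⁻¹ * z * (c * l) = l⁻¹ * (c⁻¹ * z * c) * l := by group
        _ = l⁻¹ * z * l := by rw [h3]
    rwa [h2] at h1
  have hlH' : l ∈ H' := by
    have h1 : Subgroup.closure {z, k⁻¹ * z * k} ≤ H' := by
      rw [Subgroup.closure_le]
      rintro x (rfl | rfl)
      · exact hzH'
      · exact hz'H'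
    exact h1 hlJ
  have hcH' : c ∈ H' := by
    have h1 := H'.mul_mem hclH' (H'.inv_mem hlH')
    rwa [mul_inv_cancel_right] at h1
  have hfin : H' ≤ M := le_M_of_elemAb hM hp5 (hsol H' (hgen _ _)) hE hcard hEM
    (hEgen H' hzH' hcH')
  exact hlM (hfin hlH')

/-- Lemmas B, C, D: Sylow `p`-subgroups are cyclic. -/
theorem isCyclic_sylow [IsSimpleGroup G] (hsol : ∀ H : Subgroup G, H ≠ ⊤ → Group.IsSolvable H)
    (hgen : ∀ x y : G, Subgroup.closure {x, y} ≠ ⊤) {p : ℕ} [Fact p.Prime] (hp5 : 5 ≤ p)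
    (hdvd : p ∣ Nat.card G)
    (hA : ∀ a : G, a ≠ 1 → IsPGroup p (Subgroup.zpowers a) → ∀ D : Subgroup G,
      D ≤ Subgroup.centralizer {a} → Subgroup.centralizer {a} ≤ Subgroup.normalizer (D : Set G) →
      (Nat.card D).Coprime p → D = ⊥) (P : Sylow p G) : IsCyclic P := by
  obtain ⟨M, hMtop, ⟨P₀, hP₀⟩, hM⟩ := exists_embedded hsol hgen hp5 hdvd hA
  by_contra hcon
  have hcon' : ¬ IsCyclic (⊤ : Subgroup P) := by
    intro h
    apply hcon
    exact Subgroup.topEquiv.isCyclic.mp h
  obtain ⟨A, -, -, hA1, hA2⟩ := S0636.result (p := p) (by omega) P.isPGroup' (⊤ : Subgroup P) hcon'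
  obtain ⟨g, hg⟩ := MulAction.exists_smul_eq G P P₀
  set f : P →* G := ((MulAut.conj g : G ≃* G) : G →* G).comp (P : Subgroup G).subtype with hf
  have hfi : Function.Injective f := (MulAut.conj g).injective.comp (P : Subgroup G).subtype_injective
  refine no_elemAb hsol hgen hp5 hMtop hM (E := A.map f) ⟨?_, ?_⟩ ?_ ?_
  · have := hA1.1
    infer_instance
  · rintro _ ⟨a, ha, rfl⟩
    rw [← map_pow, hA1.2 a ha, map_one]
  · rw [← hA2]
    exact (Nat.card_congr (A.equivMapOfInjective f hfi).toEquiv).symm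
  · refine le_trans ?_ hP₀
    rw [← hg]
    rintro _ ⟨a, ha, rfl⟩
    exact ⟨(a : G), a.2, rfl⟩

omit [Finite G] in
/-- A cyclic group has at most one subgroup of order `n`. -/
theorem mem_zpowers_of_isCyclic {A : Type*} [Group A] [Finite A] [IsCyclic A] {n : ℕ}
    {z v : A} (hz : orderOf z = n) (hv : v ^ n = 1) : v ∈ Subgroup.zpowers z := by
  classical
  have hn : 0 < n := hz ▸ orderOf_pos z
  have := Fintype.ofFinite A
  have h1 := IsCyclic.card_pow_eq_one_le (α := A) hn
  have h2 : (Finset.univ.filter fun a : A => a ∈ Subgroup.zpowers z) ⊆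
      (Finset.univ.filter fun a : A => a ^ n = 1) := by
    intro a ha
    rw [Finset.mem_filter] at ha ⊢
    refine ⟨Finset.mem_univ _, ?_⟩
    obtain ⟨i, rfl⟩ := Subgroup.mem_zpowers_iff.mp ha.2
    rw [← zpow_natCast, ← zpow_mul, mul_comm, zpow_mul, zpow_natCast, ← hz, pow_orderOf_eq_one,
      one_zpow]
  have h3 : (Finset.univ.filter fun a : A => a ∈ Subgroup.zpowers z).card = n := by
    rw [← hz, ← Nat.card_zpowers, Nat.card_eq_fintype_card, Fintype.card_subtype]
  have h4 := Finset.eq_of_subset_of_card_le h2 (by rw [h3]; exact h1)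
  have h5 : v ∈ Finset.univ.filter fun a : A => a ^ n = 1 := by
    rw [Finset.mem_filter]
    exact ⟨Finset.mem_univ _, hv⟩
  rw [← h4, Finset.mem_filter] at h5
  exact h5.2

/-- Lemma E: the centraliser of an element of order `p` is a `p`-group. -/
theorem isPGroup_centralizer [IsSimpleGroup G]
    (hsol : ∀ H : Subgroup G, H ≠ ⊤ → Group.IsSolvable H)
    (hgen : ∀ x y : G, Subgroup.closure {x, y} ≠ ⊤) {p : ℕ} [Fact p.Prime]
    (hA : ∀ a : G, a ≠ 1 → IsPGroup p (Subgroup.zpowers a) → ∀ D : Subgroup G,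
      D ≤ Subgroup.centralizer {a} → Subgroup.centralizer {a} ≤ Subgroup.normalizer (D : Set G) →
      (Nat.card D).Coprime p → D = ⊥) (hcyc : ∀ P : Sylow p G, IsCyclic P)
    {z : G} (hz : orderOf z = p) : IsPGroup p (Subgroup.centralizer ({z} : Set G)) := by
  have hpp : p.Prime := Fact.out
  have hz1 : z ≠ 1 := by
    rintro rfl
    rw [orderOf_one] at hz
    exact hpp.one_lt.ne hz
  set C := Subgroup.centralizer ({z} : Set G) with hC
  have hCsol : Group.IsSolvable C := hsol C (centralizer_ne_top hgen hz1)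
  have hcore : core p C = ⊥ := hA z hz1 (isPGroup_zpowers_of_orderOf hz) _ (core_le _ _)
    (le_normalizer_core _ _) (core_coprime _ _)
  have hcent := HallHigman.centralizer_pCore_le_of_solvable (G := C) p
    ((core_eq_bot_iff p C).mp hcore)
  -- subgroups of `G` that are `p`-groups are cyclic
  have hcyc' : ∀ Q : Subgroup G, IsPGroup p Q → IsCyclic Q := by
    intro Q hQ
    obtain ⟨P, hP⟩ := hQ.exists_le_sylow
    have := hcyc P
    exact isCyclic_of_injective (Subgroup.inclusion hP) (Subgroup.inclusion_injective hP)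
  set O := pCore p C with hO
  have hOp : IsPGroup p O := Cores.pCore_isPGroup p
  set O' := O.map C.subtype with hO'
  have hO'p : IsPGroup p O' := hOp.map _
  have hO'cyc := hcyc' O' hO'p
  have hzC : z ∈ C := by rw [hC, Subgroup.mem_centralizer_singleton_iff]
  have hzO' : z ∈ O' := by
    have hn : ((Subgroup.zpowers z).subgroupOf C).Normal := by
      rw [Subgroup.normal_subgroupOf_iff_le_normalizer (by rwa [Subgroup.zpowers_le])]
      rw [hC, ← Subgroup.centralizer_closure, ← Subgroup.zpowers_eq_closure]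
      exact Subgroup.centralizer_le_normalizer _
    have h1 : (Subgroup.zpowers z).subgroupOf C ≤ O :=
      Cores.le_pCore hn ((isPGroup_zpowers_of_orderOf hz).comap_of_injective _ C.subtype_injective)
    exact ⟨⟨z, hzC⟩, h1 (Subgroup.mem_zpowers z), rfl⟩
  refine PLocal.PConstrainedLocal.isPGroup_of_forall_coprime C ?_
  intro y hyC hyo
  -- `y` centralises `O'`
  have hcomm : ∀ x ∈ O', ∀ y ∈ O', x * y = y * x := fun a ha b hb =>
    congrArg Subtype.val (hO'cyc.isMulCommutative.is_comm.comm (⟨a, ha⟩ : O') ⟨b, hb⟩)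
  have h1 : Subgroup.zpowers y ≤ Subgroup.centralizer (O' : Set G) := by
    obtain ⟨n, hn⟩ := IsPGroup.iff_card.mp hO'p
    apply CoprimeAbelian.le_centralizer_of_prime_order
    · exact hcomm
    · rw [Subgroup.zpowers_le]
      have h2 := Subgroup.le_normalizer_map C.subtype (H := O)
      rw [Subgroup.normalizer_eq_top_iff.mpr (Cores.pCore_normal p), ← MonoidHom.range_eq_map,
        Subgroup.range_subtype] at h2
      exact h2 hyC
    · rw [Nat.card_zpowers, hn]
      exact Nat.Coprime.pow_right n hyo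
    · intro v hv hvo a ha
      have hvp : orderOf v = p := by
        obtain ⟨m, hm⟩ := (IsPGroup.iff_orderOf.mp hO'p) ⟨v, hv⟩
        rw [Subgroup.orderOf_mk] at hm
        rw [hm] at hvo ⊢
        have hm1 : m = 1 := by
          rcases m with _ | m
          · simp at hvo
            exact absurd hvo Nat.not_prime_one
          · rcases m with _ | m
            · rfl
            · exfalso
              rw [pow_succ] at hvo
              have := Nat.not_prime_mul (a := p ^ (m + 1)) (b := p)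
                (by
                  have := Nat.one_lt_pow (n := m + 1) (by omega) hpp.one_lt
                  omega) hpp.one_lt.ne'
              exact this hvo
        rw [hm1, pow_one]
      -- `v ∈ ⟨z⟩`
      have hvz : v ∈ Subgroup.zpowers z := by
        have h4 : (⟨v, hv⟩ : O') ∈ Subgroup.zpowers (⟨z, hzO'⟩ : O') := by
          apply mem_zpowers_of_isCyclic
          · rw [Subgroup.orderOf_mk, hz]
          · apply Subtype.ext
            change v ^ p = 1
            rw [← hvp, pow_orderOf_eq_one]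
        obtain ⟨i, hi⟩ := Subgroup.mem_zpowers_iff.mp h4
        exact Subgroup.mem_zpowers_iff.mpr ⟨i, congrArg Subtype.val hi⟩
      obtain ⟨i, rfl⟩ := Subgroup.mem_zpowers_iff.mp hvz
      obtain ⟨j, rfl⟩ := Subgroup.mem_zpowers_iff.mp ha
      have hyz : Commute y z := Subgroup.mem_centralizer_singleton_iff.mp hyC
      exact (hyz.zpow_zpow j i).eq
  have h2 : (⟨y, hyC⟩ : C) ∈ O := by
    apply hcent
    rw [Subgroup.mem_centralizer_iff]
    intro x hx
    apply Subtype.ext
    exact Subgroup.mem_centralizer_iff.mp (h1 (Subgroup.mem_zpowers y)) x ⟨x, hx, rfl⟩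
  obtain ⟨m, hm⟩ := (IsPGroup.iff_orderOf.mp hOp) ⟨_, h2⟩
  rw [Subgroup.orderOf_mk, Subgroup.orderOf_mk] at hm
  rw [hm] at hyo
  have hm0 : m = 0 := by
    by_contra hm0
    have := Nat.Coprime.eq_one_of_dvd hyo.symm (dvd_pow_self p hm0)
    exact hpp.one_lt.ne' this
  rw [hm0, pow_zero, orderOf_eq_one_iff] at hm
  exact hm

/-- Lemmas B, C, D, E. -/
theorem cyclic_and_centralizer [IsSimpleGroup G]
    (hsol : ∀ H : Subgroup G, H ≠ ⊤ → Group.IsSolvable H)
    (hgen : ∀ x y : G, Subgroup.closure {x, y} ≠ ⊤) (p : ℕ) [Fact p.Prime] (hp5 : 5 ≤ p)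
    (hdvd : p ∣ Nat.card G)
    (hA : ∀ a : G, a ≠ 1 → IsPGroup p (Subgroup.zpowers a) → ∀ D : Subgroup G,
      D ≤ Subgroup.centralizer {a} → Subgroup.centralizer {a} ≤ Subgroup.normalizer (D : Set G) →
      (Nat.card D).Coprime p → D = ⊥) :
    (∀ P : Sylow p G, IsCyclic P) ∧
      (∀ z : G, orderOf z = p → IsPGroup p (Subgroup.centralizer ({z} : Set G))) := by
  have h1 := isCyclic_sylow hsol hgen hp5 hdvd hA
  exact ⟨h1, fun z hz => isPGroup_centralizer hsol hgen hA h1 hz⟩

end embedded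

end Cfsg.Agent.Classification.FlavellB
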