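import Mathlib
import Cfsg.Prelude.Def_PLocal
import Cfsg.Agent.Lib.Cores
import Cfsg.Agent.Lib.PSolvable
import Cfsg.Agent.SignalizersComponents.CoreOfCentralizer
import Cfsg.Agent.PLocal.StableClosure
import Cfsg.Agent.PLocal.ConjFunctor
import Cfsg.Agent.S0627

/-!
# Two-generator solvability (S0489), part B: the strongly `p`-embedded subgroup

Under the conclusion of Lemma A (`O_{p'}(C_G(a)) = 1` for all nontrivial `p`-elements `a`), `p ≥ 5`, the normalizer
of `W(P)` contains the normalizer of every nontrivial subgroup of the Sylow `p`-subgroup `P`.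
-/

set_option autoImplicit false

namespace Cfsg.Agent.Classification.FlavellM

open Cfsg Subgroup

universe u

/-- The conclusion of Lemma A. -/
def LemmaA (G : Type u) [Group G] (p : ℕ) : Prop :=
  ∀ a : G, a ≠ 1 → IsPGroup p (Subgroup.zpowers a) → ∀ D : Subgroup G,
    D ≤ Subgroup.centralizer {a} → Subgroup.centralizer {a} ≤ Subgroup.normalizer (D : Set G) →
      (Nat.card D).Coprime p → D = ⊥

variable {G : Type u} [Group G] [Finite G]

omit [Finite G] in
/-- Centralizers of nontrivial elements are proper in a simple nonsolvable group. -/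
theorem centralizer_ne_top [IsSimpleGroup G] (hns : ¬ Group.IsSolvable G) {a : G} (ha : a ≠ 1) :
    Subgroup.centralizer ({a} : Set G) ≠ ⊤ := by
  intro h
  have h1 : a ∈ Subgroup.center G := by
    rw [Subgroup.mem_center_iff]
    intro g
    have h2 : g ∈ Subgroup.centralizer ({a} : Set G) := h ▸ Subgroup.mem_top g
    exact (Subgroup.mem_centralizer_iff.mp h2 a rfl).symm
  rcases Subgroup.Normal.eq_bot_or_eq_top (inferInstance : (Subgroup.center G).Normal) with h2 | h2
  · rw [h2, Subgroup.mem_bot] at h1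
    exact ha h1
  · apply hns
    apply Group.isSolvable_of_comm
    intro x y
    have : y ∈ Subgroup.center G := h2 ▸ Subgroup.mem_top y
    exact Subgroup.mem_center_iff.mp this x

/-- Normalizers of nontrivial `p`-subgroups are proper in a simple nonsolvable group. -/
theorem normalizer_ne_top [IsSimpleGroup G] (hns : ¬ Group.IsSolvable G) {p : ℕ} [Fact p.Prime]
    {Q : Subgroup G} (hQ : IsPGroup p Q) (hQ1 : Q ≠ ⊥) : Subgroup.normalizer (Q : Set G) ≠ ⊤ := by
  intro h
  rw [Subgroup.normalizer_eq_top_iff] at h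
  rcases h.eq_bot_or_eq_top with h1 | h1
  · exact hQ1 h1
  · apply hns
    rw [h1] at hQ
    have h2 : IsPGroup p G := hQ.of_equiv Subgroup.topEquiv
    have := h2.isNilpotent
    infer_instance

/-- `O_{p'}` of a `p`-local subgroup is trivial. -/
theorem pPrimeCore_normalizer_eq_bot [IsSimpleGroup G]
    (hsol : ∀ H : Subgroup G, H ≠ ⊤ → Group.IsSolvable H) (hns : ¬ Group.IsSolvable G)
    {p : ℕ} [Fact p.Prime] (hA : LemmaA G p)
    {Q : Subgroup G} (hQ : IsPGroup p Q) (hQ1 : Q ≠ ⊥) :
    pPrimeCore p ↥(Subgroup.normalizer (Q : Set G)) = ⊥ := by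
  have hp : p.Prime := Fact.out
  set N := Subgroup.normalizer (Q : Set G) with hN
  set X : Subgroup G := (pPrimeCore p N).map N.subtype with hX
  have hXn : (pPrimeCore p N).Normal := Lib.Cores.pPrimeCore_normal p
  have hXc : (Nat.card X).Coprime p := by
    rw [hX, Subgroup.card_map_of_injective N.subtype_injective]
    exact Lib.Cores.pPrimeCore_coprime p
  have hXN : X ≤ N := Subgroup.map_subtype_le _
  have hNX : N ≤ Subgroup.normalizer (X : Set G) := by
    have h := Subgroup.le_normalizer_map N.subtype (H := pPrimeCore p N)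
    rw [Subgroup.normalizer_eq_top_iff.mpr hXn, ← MonoidHom.range_eq_map, Subgroup.range_subtype] at h
    exact h
  have hQN : Q ≤ N := Subgroup.le_normalizer
  -- `X` centralizes `Q`
  have hXQ : X ≤ Subgroup.centralizer (Q : Set G) := by
    obtain ⟨n, hn⟩ := IsPGroup.iff_card.mp hQ
    have hinf : X ⊓ Q = ⊥ := by
      apply Disjoint.eq_bot
      apply Subgroup.disjoint_of_coprime_natCard
      rw [hn]
      exact Nat.Coprime.pow_right n hXc
    intro x hx
    rw [Subgroup.mem_centralizer_iff]
    intro q hq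
    have h1 : q * x * q⁻¹ * x⁻¹ ∈ X :=
      X.mul_mem ((Subgroup.mem_normalizer_iff.mp (hNX (hQN hq)) x).mp hx) (X.inv_mem hx)
    have h2 : q * x * q⁻¹ * x⁻¹ ∈ Q := by
      have h3 := Q.mul_mem hq ((Subgroup.mem_normalizer_iff.mp (hXN hx) _).mp (Q.inv_mem hq))
      simpa [mul_assoc] using h3
    have h3 : q * x * q⁻¹ * x⁻¹ ∈ X ⊓ Q := ⟨h1, h2⟩
    rw [hinf, Subgroup.mem_bot] at h3
    have h4 : q * x = 1 * x * q := by rw [← h3]; group
    simpa using h4
  -- an element of the center of `Q`
  have hQnt : Nontrivial Q := (Subgroup.nontrivial_iff_ne_bot Q).mpr hQ1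
  have hcn : Nontrivial (Subgroup.center Q) := hQ.center_nontrivial
  obtain ⟨⟨z, hz⟩, hz1⟩ := exists_ne (1 : Subgroup.center Q)
  have hz1' : (z : G) ≠ 1 := fun h => hz1 (Subtype.ext (Subtype.ext h))
  have hzp : IsPGroup p (Subgroup.zpowers (z : G)) := by
    refine hQ.to_le ?_
    rw [Subgroup.zpowers_le]
    exact z.2
  set C : Subgroup G := Subgroup.centralizer ({(z : G)} : Set G) with hC
  have hCsol : Group.IsSolvable C := hsol C (centralizer_ne_top hns hz1')
  have hQC : Q ≤ C := by
    intro q hq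
    rw [hC, Subgroup.mem_centralizer_iff]
    intro y hy
    rw [Set.mem_singleton_iff.mp hy]
    exact (congrArg Subtype.val (Subgroup.mem_center_iff.mp hz ⟨q, hq⟩)).symm
  have hXC : X ≤ C := by
    intro x hx
    rw [hC, Subgroup.mem_centralizer_iff]
    intro y hy
    rw [Set.mem_singleton_iff.mp hy]
    exact Subgroup.mem_centralizer_iff.mp (hXQ hx) z z.2
  have hcentr : ∀ c : C, c ∈ Subgroup.centralizer ((Q.subgroupOf C : Subgroup C) : Set C) →
      (c : G) ∈ Subgroup.centralizer (Q : Set G) := by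
    intro c hc
    rw [Subgroup.mem_centralizer_iff]
    intro q hq
    exact congrArg Subtype.val (Subgroup.mem_centralizer_iff.mp hc ⟨q, hQC hq⟩ hq)
  have hle : X.subgroupOf C ≤ pPrimeCore p C := by
    apply SignalizersComponents.CoreOfCentralizer.le_pPrimeCore_of_centralizer_normalizes hCsol
      (Q.subgroupOf C) (hQ.comap_subtype) (X.subgroupOf C)
    · exact Nat.Coprime.coprime_dvd_left (Subgroup.card_comap_dvd_of_injective _ _
        C.subtype_injective) hXc
    · intro x hx
      rw [Subgroup.mem_centralizer_iff]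
      intro c hc
      exact Subtype.ext (Subgroup.mem_centralizer_iff.mp (hXQ hx) c hc)
    · intro c hc
      have h1 := hNX (Subgroup.centralizer_le_normalizer _ (hcentr c hc))
      rw [Subgroup.mem_normalizer_iff] at h1 ⊢
      intro x
      exact h1 x
  have hCn : (pPrimeCore p C).Normal := Lib.Cores.pPrimeCore_normal p
  have hD := hA (z : G) hz1' hzp ((pPrimeCore p C).map C.subtype) (Subgroup.map_subtype_le _) (by
    have h := Subgroup.le_normalizer_map C.subtype (H := pPrimeCore p C)
    rw [Subgroup.normalizer_eq_top_iff.mpr hCn, ← MonoidHom.range_eq_map, Subgroup.range_subtype] at h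
    exact h) (by
    rw [Subgroup.card_map_of_injective C.subtype_injective]
    exact Lib.Cores.pPrimeCore_coprime p)
  have hX1 : X = ⊥ := by
    rw [eq_bot_iff, ← hD]
    intro x hx
    exact ⟨⟨x, hXC hx⟩, hle hx, rfl⟩
  rwa [hX, Subgroup.map_eq_bot_iff_of_injective _ N.subtype_injective] at hX1

/-- `W(P)` as a subgroup of `G`, for a subgroup `P`. -/
def W (p : ℕ) (P : Subgroup G) : Subgroup G := (stableNormalClosure p P).map P.subtype

omit [Finite G] in
theorem W_def (p : ℕ) (P : Subgroup G) : W p P = (stableNormalClosure p P).map P.subtype := rfl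

omit [Finite G] in
theorem map_W {H : Type u} [Group H] (p : ℕ) (f : G →* H) (hf : Function.Injective f)
    (P : Subgroup G) : (W p P).map f = W p (P.map f) := by
  rw [W_def, W_def, ← PLocal.StableClosure.map_mulEquiv_stableNormalClosure p
    (P.equivMapOfInjective f hf), Subgroup.map_map, Subgroup.map_map]
  congr 1

theorem normalizer_le_normalizer_W [IsSimpleGroup G]
    (hsol : ∀ H : Subgroup G, H ≠ ⊤ → Group.IsSolvable H) (hns : ¬ Group.IsSolvable G)
    {p : ℕ} [Fact p.Prime] (hp5 : 5 ≤ p) (hA : LemmaA G p)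
    (P : Sylow p G) (Q : Subgroup G) (hQP : Q ≤ P) (hQ1 : Q ≠ ⊥) :
    Subgroup.normalizer (Q : Set G) ≤ Subgroup.normalizer (W p (P : Subgroup G) : Set G) := by
  refine PLocal.ConjFunctor.normalizer_le (p := p) (fun P => W p P)
    (fun P => Subgroup.map_subtype_le _) ?_
    (fun P x => map_W p _ (MulAut.conj x).injective P) ?_ P Q hQP hQ1
  · intro P hP hP1 h
    have := (Subgroup.nontrivial_iff_ne_bot P).mpr hP1
    have h1 := PLocal.StableClosure.stableNormalClosure_ne_bot hP
    apply h1
    rwa [W_def, Subgroup.map_eq_bot_iff_of_injective _ P.subtype_injective] at h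
  · intro D hD hD1 S
    have hNs : Group.IsSolvable ↥(Subgroup.normalizer (D : Set G)) :=
      hsol _ (normalizer_ne_top hns hD hD1)
    have h1 := S0627.result hp5 (Lib.PSolvable.IsPSolvable_of_solvable p) S
    rw [pPrimeCore_normalizer_eq_bot hsol hns hA hD hD1, bot_sup_eq, ← W_def] at h1
    have h4 := Subgroup.le_normalizer_map (Subgroup.normalizer (D : Set G)).subtype
      (H := W p (S : Subgroup ↥(Subgroup.normalizer (D : Set G))))
    rw [h1, ← MonoidHom.range_eq_map, Subgroup.range_subtype,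
      map_W p _ (Subgroup.subtype_injective _)] at h4
    exact h4

/-- **Part B**: a strongly `p`-embedded subgroup. -/
theorem exists_stronglyEmb [IsSimpleGroup G]
    (hsol : ∀ H : Subgroup G, H ≠ ⊤ → Group.IsSolvable H) (hns : ¬ Group.IsSolvable G)
    {p : ℕ} [Fact p.Prime] (hp5 : 5 ≤ p) (hdvd : p ∣ Nat.card G) (hA : LemmaA G p)
    (P : Sylow p G) :
    ∃ M : Subgroup G, M ≠ ⊤ ∧ (P : Subgroup G) ≤ M ∧
      ∀ Q : Subgroup G, IsPGroup p Q → Q ≠ ⊥ → Q ≤ M → Subgroup.normalizer (Q : Set G) ≤ M := by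
  have hP1 : (P : Subgroup G) ≠ ⊥ := P.ne_bot_of_dvd_card hdvd
  have hPn : Nontrivial (P : Subgroup G) := (Subgroup.nontrivial_iff_ne_bot _).mpr hP1
  have hPM : (P : Subgroup G) ≤ Subgroup.normalizer (W p (P : Subgroup G) : Set G) :=
    Subgroup.le_normalizer.trans (normalizer_le_normalizer_W hsol hns hp5 hA P P le_rfl hP1)
  refine ⟨Subgroup.normalizer (W p (P : Subgroup G) : Set G), ?_, hPM, ?_⟩
  · apply normalizer_ne_top hns (p := p)
    · exact P.isPGroup'.to_le (Subgroup.map_subtype_le _)
    · intro h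
      rw [W_def, Subgroup.map_eq_bot_iff_of_injective _ (Subgroup.subtype_injective _)] at h
      exact PLocal.StableClosure.stableNormalClosure_ne_bot P.isPGroup' h
  · intro Q hQ hQ1 hQM
    set M := Subgroup.normalizer (W p (P : Subgroup G) : Set G) with hM
    -- conjugate `Q` into `P` inside `M`
    obtain ⟨T, hT⟩ := (hQ.comap_subtype (K := M)).exists_le_sylow
    obtain ⟨m, hm⟩ := MulAction.exists_smul_eq M T (P.subtype hPM)
    have hQm : Q.map (MulAut.conj (m : G)).toMonoidHom ≤ P := by
      rintro _ ⟨q, hq, rfl⟩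
      have h1 : (⟨q, hQM hq⟩ : M) ∈ (T : Subgroup M) := hT hq
      have h2 : m * ⟨q, hQM hq⟩ * m⁻¹ ∈ ((P.subtype hPM : Sylow p M) : Subgroup M) := by
        rw [← hm, Sylow.coe_subgroup_smul]
        exact ⟨⟨q, hQM hq⟩, h1, rfl⟩
      exact h2
    have hQm1 : Q.map (MulAut.conj (m : G)).toMonoidHom ≠ ⊥ := by
      rwa [Ne, Subgroup.map_eq_bot_iff_of_injective _ (MulAut.conj (m : G)).injective]
    have h3 := normalizer_le_normalizer_W hsol hns hp5 hA P _ hQm hQm1
    intro x hx
    have h4 : (m : G) * x * (m : G)⁻¹ ∈ M := by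
      apply h3
      have h5 := Subgroup.le_normalizer_map (MulAut.conj (m : G)).toMonoidHom (H := Q)
      exact h5 ⟨x, hx, rfl⟩
    have h6 := M.mul_mem (M.mul_mem (M.inv_mem m.2) h4) m.2
    have h7 : (m : G)⁻¹ * ((m : G) * x * (m : G)⁻¹) * m = x := by group
    rwa [h7] at h6

end Cfsg.Agent.Classification.FlavellM
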