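import Mathlib
import Cfsg.Agent.S0144

/-!
# Two-generator solvability (S0489), reduction to a minimal counterexample
-/

set_option autoImplicit false

namespace Cfsg.Agent.Classification.FlavellRed

open Subgroup

universe u

/-- A number whose prime divisors are all less than `5` is of the form `2 ^ a * 3 ^ b`. -/
theorem exists_pow_two_three {n : ℕ} (hn : n ≠ 0) (h : ∀ p : ℕ, p.Prime → p ∣ n → p < 5) :
    ∃ a b : ℕ, n = 2 ^ a * 3 ^ b := by
  refine ⟨n.factorization 2, n.factorization 3, ?_⟩
  have h1 := Nat.prod_factorization_pow_eq_self hn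
  have h2 : n.factorization.support ⊆ ({2, 3} : Finset ℕ) := by
    intro p hp
    rw [Nat.support_factorization, Nat.mem_primeFactors] at hp
    have h3 := h p hp.1 hp.2.1
    have h4 := hp.1
    interval_cases p
    · exact absurd h4 (by norm_num)
    · exact absurd h4 (by norm_num)
    · simp
    · simp
    · exact absurd h4 (by norm_num)
  rw [Finsupp.prod_of_support_subset _ h2 _ (by simp)] at h1
  rw [Finset.prod_pair (by norm_num)] at h1
  exact h1.symm

/-- The hypothesis passes to subgroups. -/
theorem pairs_subgroup {G : Type u} [Group G]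
    (h : ∀ a b : G, Group.IsSolvable (closure ({a, b} : Set G))) (H : Subgroup G) (a b : H) :
    Group.IsSolvable (closure ({a, b} : Set H)) := by
  have h1 := h (a : G) (b : G)
  have h2 : (closure ({a, b} : Set H)).map H.subtype = closure ({(a : G), (b : G)} : Set G) := by
    rw [MonoidHom.map_closure]
    congr 1
    ext x
    simp only [Set.mem_image, Set.mem_insert_iff, Set.mem_singleton_iff]
    constructor
    · rintro ⟨y, (rfl | rfl), rfl⟩
      · exact Or.inl rfl
      · exact Or.inr rfl
    · rintro (rfl | rfl)
      · exact ⟨a, Or.inl rfl, rfl⟩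
      · exact ⟨b, Or.inr rfl, rfl⟩
  rw [← h2] at h1
  exact Group.isSolvable_of_isSolvable_injective
    (f := ((closure ({a, b} : Set H)).equivMapOfInjective H.subtype H.subtype_injective).toMonoidHom)
    (MulEquiv.injective _)

/-- The hypothesis passes to quotients. -/
theorem pairs_quotient {G : Type u} [Group G]
    (h : ∀ a b : G, Group.IsSolvable (closure ({a, b} : Set G))) (N : Subgroup G) [N.Normal]
    (a b : G ⧸ N) : Group.IsSolvable (closure ({a, b} : Set (G ⧸ N))) := by
  obtain ⟨a, rfl⟩ := QuotientGroup.mk'_surjective N a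
  obtain ⟨b, rfl⟩ := QuotientGroup.mk'_surjective N b
  have h2 : (closure ({a, b} : Set G)).map (QuotientGroup.mk' N) =
      closure ({QuotientGroup.mk' N a, QuotientGroup.mk' N b} : Set (G ⧸ N)) := by
    rw [MonoidHom.map_closure, Set.image_pair]
  rw [← h2]
  have h1 := h a b
  exact Group.isSolvable_of_surjective
    (f := (QuotientGroup.mk' N).subgroupMap (closure ({a, b} : Set G)))
    ((QuotientGroup.mk' N).subgroupMap_surjective _)

/-- Reduction to a minimal counterexample of order divisible by a prime `p ≥ 5`. -/
theorem solvable_of_no_minimal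
    (hmain : ∀ (G : Type u) [Group G] [Finite G] [IsSimpleGroup G],
      (∀ H : Subgroup G, H ≠ ⊤ → Group.IsSolvable H) → (∀ x y : G, closure {x, y} ≠ ⊤) →
      ¬ Group.IsSolvable G → ∀ (p : ℕ) [Fact p.Prime], 5 ≤ p → p ∣ Nat.card G → False)
    (G : Type u) [Group G] [Finite G]
    (h : ∀ a b : G, Group.IsSolvable (closure ({a, b} : Set G))) : Group.IsSolvable G := by
  induction hn : Nat.card G using Nat.strong_induction_on generalizing G with
  | _ n ih =>
    subst hn
    by_contra hns
    have hsol : ∀ H : Subgroup G, H ≠ ⊤ → Group.IsSolvable H := by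
      intro H hH
      refine ih (Nat.card H) ?_ H (pairs_subgroup h H) rfl
      have h1 : Nat.card H ≠ Nat.card G := fun h => hH (Subgroup.eq_top_of_card_eq H h)
      exact lt_of_le_of_ne (Subgroup.card_le_card_group H) h1
    have hgen : ∀ x y : G, closure {x, y} ≠ ⊤ := by
      intro x y hxy
      have h1 := h x y
      rw [hxy] at h1
      exact hns (Group.isSolvable_of_surjective (f := (⊤ : Subgroup G).subtype)
        (fun g => ⟨⟨g, Subgroup.mem_top g⟩, rfl⟩))
    have hnt : Nontrivial G := by
      by_contra hnt
      rw [not_nontrivial_iff_subsingleton] at hnt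
      exact hns inferInstance
    have hsimple : IsSimpleGroup G := by
      refine ⟨fun N hN => ?_⟩
      by_contra hcon
      rw [not_or] at hcon
      obtain ⟨hN1, hN2⟩ := hcon
      have := hN
      have h1 := hsol N hN2
      have h2 : Group.IsSolvable (G ⧸ N) := by
        refine ih (Nat.card (G ⧸ N)) ?_ (G ⧸ N) (pairs_quotient h N) rfl
        have h3 := Subgroup.card_eq_card_quotient_mul_card_subgroup N
        have h4 : 1 < Nat.card N := by
          have := (Subgroup.one_lt_card_iff_ne_bot N).mpr hN1
          exact this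
        have h5 : 0 < Nat.card (G ⧸ N) := Nat.card_pos
        nlinarith
      exact hns (Group.isSolvable_of_ker_le_range N.subtype (QuotientGroup.mk' N)
        (by rw [QuotientGroup.ker_mk', Subgroup.range_subtype]))
    obtain ⟨p, hp, hpd, hp5⟩ : ∃ p : ℕ, p.Prime ∧ p ∣ Nat.card G ∧ 5 ≤ p := by
      by_contra hcon
      push Not at hcon
      obtain ⟨a, b, hab⟩ := exists_pow_two_three (n := Nat.card G) Nat.card_pos.ne' hcon
      exact hns (Cfsg.Agent.S0144.result 2 3 a b Nat.prime_two Nat.prime_three hab)
    have : Fact p.Prime := ⟨hp⟩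
    exact hmain G hsol hgen hns p hp5 hpd

end Cfsg.Agent.Classification.FlavellRed
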