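import Mathlib
import Cfsg.Agent.Lib.Cores
import Cfsg.Agent.Lib.HallHigman
import Cfsg.Agent.Lib.LocalCore
import Cfsg.Agent.S0033
import Cfsg.Agent.S0035

/-!
# The end of the proof of the two-generator solvability theorem

In a finite simple group `G` in which every proper subgroup is solvable and no two elements
generate `G`, it is impossible that the Sylow `p`-subgroups are cyclic and the centralizer of an
element of order `p` is a `p`-group: the normalizer of a subgroup of order `p` would be a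
Frobenius complement.
-/

set_option autoImplicit false
set_option linter.style.haveILetI false
set_option linter.unusedSectionVars false

namespace Cfsg.Agent.Classification.FlavellU

open Subgroup Cfsg
open scoped Pointwise

variable {G : Type*} [Group G]

/-! ### Cyclic groups -/

theorem pow_card_eq_one_of_mem [Finite G] {A : Subgroup G} {x : G} (h : x ∈ A) :
    x ^ Nat.card A = 1 := by
  have h1 := pow_card_eq_one' (x := (⟨x, h⟩ : A))
  have h2 := congrArg (Subtype.val) h1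
  rwa [SubmonoidClass.coe_pow] at h2

theorem mem_iff_pow_card [Finite G] [IsCyclic G] (A : Subgroup G) (x : G) :
    x ∈ A ↔ x ^ Nat.card A = 1 := by
  classical
  have := Fintype.ofFinite G
  constructor
  · intro h
    exact pow_card_eq_one_of_mem h
  · intro h
    have h1 := IsCyclic.card_pow_eq_one_le (α := G) (n := Nat.card A) Nat.card_pos
    have h2 : (Finset.univ.filter fun a : G => a ∈ A) ⊆
        (Finset.univ.filter fun a : G => a ^ Nat.card A = 1) := by
      intro a ha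
      rw [Finset.mem_filter] at ha ⊢
      exact ⟨Finset.mem_univ _, pow_card_eq_one_of_mem ha.2⟩
    have h3 : (Finset.univ.filter fun a : G => a ∈ A).card = Nat.card A := by
      rw [Nat.card_eq_fintype_card, Fintype.card_subtype]
    have h4 := Finset.eq_of_subset_of_card_le h2 (h1.trans h3.ge)
    have : x ∈ (Finset.univ.filter fun a : G => a ^ Nat.card A = 1) :=
      Finset.mem_filter.2 ⟨Finset.mem_univ _, h⟩
    rw [← h4] at this
    exact (Finset.mem_filter.1 this).2

theorem eq_of_card_eq_of_isCyclic [Finite G] [IsCyclic G] {A B : Subgroup G}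
    (h : Nat.card A = Nat.card B) : A = B := by
  ext x
  rw [mem_iff_pow_card, mem_iff_pow_card, h]

theorem eq_of_card_eq_of_le_cyclic [Finite G] {Z A B : Subgroup G} (hZ : IsCyclic Z)
    (hA : A ≤ Z) (hB : B ≤ Z) (h : Nat.card A = Nat.card B) : A = B := by
  have h3 : A.subgroupOf Z = B.subgroupOf Z := by
    apply eq_of_card_eq_of_isCyclic
    rw [Nat.card_congr (subgroupOfEquivOfLe hA).toEquiv,
      Nat.card_congr (subgroupOfEquivOfLe hB).toEquiv, h]
  have := congrArg (Subgroup.map Z.subtype) h3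
  rwa [map_subgroupOf_eq_of_le hA, map_subgroupOf_eq_of_le hB] at this

/-- Elements of the same order in a cyclic subgroup generate the same subgroup. -/
theorem zpowers_eq_of_le_cyclic [Finite G] {R : Subgroup G} (hR : IsCyclic R) {x w : G}
    (hx : x ∈ R) (hw : w ∈ R) (h : orderOf x = orderOf w) : zpowers x = zpowers w :=
  eq_of_card_eq_of_le_cyclic hR ((zpowers_le).2 hx) ((zpowers_le).2 hw)
    (by rw [Nat.card_zpowers, Nat.card_zpowers, h])

/-! ### Conjugates of cyclic subgroups -/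

theorem zpowers_conj (g x : G) :
    zpowers (g⁻¹ * x * g) = (zpowers x).map (MulAut.conj g⁻¹).toMonoidHom := by
  rw [MonoidHom.map_zpowers]
  simp

theorem zpowers_conj_congr {x y : G} (g : G) (h : zpowers x = zpowers y) :
    zpowers (g⁻¹ * x * g) = zpowers (g⁻¹ * y * g) := by
  rw [zpowers_conj, zpowers_conj, h]

theorem mem_normalizer_zpowers {x g : G} :
    g ∈ normalizer ((zpowers x : Subgroup G) : Set G) ↔ zpowers (g⁻¹ * x * g) = zpowers x := by
  rw [← inv_mem_iff (x := g), mem_normalizer_iff_map_conj_eq, zpowers_conj]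
  rfl

theorem isPGroup_zpowers [Finite G] {p : ℕ} [Fact p.Prime] {x : G} (hx : orderOf x = p) :
    IsPGroup p (zpowers x) := by
  refine IsPGroup.of_card (n := 1) ?_
  rw [Nat.card_zpowers, hx, pow_one]

theorem orderOf_conj (g x : G) : orderOf (g⁻¹ * x * g) = orderOf x := by
  have h := (MulAut.conj g⁻¹).orderOf_eq x
  rw [← h]
  simp

/-- If the `p`-subgroups are cyclic then the subgroups of order `p` are conjugate. -/
theorem exists_conj [Finite G] {p : ℕ} [Fact p.Prime]
    (hcyc : ∀ P : Subgroup G, IsPGroup p P → IsCyclic P) {x w : G} (hx : orderOf x = p)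
    (hw : orderOf w = p) : ∃ g : G, zpowers (g⁻¹ * x * g) = zpowers w := by
  obtain ⟨P₁, hP₁⟩ := (isPGroup_zpowers hx).exists_le_sylow
  obtain ⟨P₂, hP₂⟩ := (isPGroup_zpowers hw).exists_le_sylow
  obtain ⟨c, hc⟩ := MulAction.exists_smul_eq G P₁ P₂
  have hgP : c * x * c⁻¹ ∈ P₂ := by
    rw [← hc]
    have h1 : x ∈ (P₁ : Subgroup G) := hP₁ (mem_zpowers x)
    have h2 : (MulAut.conj c) x ∈ (MulAut.conj c • (P₁ : Subgroup G)) :=
      smul_mem_pointwise_smul _ _ _ h1
    exact h2
  refine ⟨c⁻¹, ?_⟩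
  rw [inv_inv]
  refine zpowers_eq_of_le_cyclic (hcyc P₂ P₂.2) hgP (hP₂ (mem_zpowers w)) ?_
  have := orderOf_conj c⁻¹ x
  rw [inv_inv] at this
  rw [this, hx, hw]

theorem isCyclic_quotient [Finite G] {p : ℕ} [Fact p.Prime]
    (hcyc : ∀ P : Subgroup G, IsPGroup p P → IsCyclic P) (N : Subgroup G) [N.Normal]
    (P : Subgroup (G ⧸ N)) (hP : IsPGroup p P) : IsCyclic P := by
  obtain ⟨S, hS⟩ := hP.exists_le_sylow
  obtain ⟨R, hR⟩ := Sylow.mapSurjective_surjective (QuotientGroup.mk'_surjective N) p S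
  haveI := hcyc R R.2
  have h1 : IsCyclic ((R : Subgroup G).map (QuotientGroup.mk' N)) :=
    isCyclic_of_surjective ((QuotientGroup.mk' N).subgroupMap (R : Subgroup G))
      ((QuotientGroup.mk' N).subgroupMap_surjective _)
  have h2 : P ≤ (R : Subgroup G).map (QuotientGroup.mk' N) := by
    rw [← Sylow.coe_mapSurjective (QuotientGroup.mk'_surjective N) R, hR]
    exact hS
  exact isCyclic_of_le h2

theorem isCyclic_sub {p : ℕ}
    (hcyc : ∀ P : Subgroup G, IsPGroup p P → IsCyclic P) (H : Subgroup G)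
    (P : Subgroup H) (hP : IsPGroup p P) : IsCyclic P := by
  haveI := hcyc (P.map H.subtype) (hP.map _)
  exact isCyclic_of_injective (P.equivMapOfInjective H.subtype H.subtype_injective).toMonoidHom
    (P.equivMapOfInjective H.subtype H.subtype_injective).injective

/-! ### Solvable groups with cyclic Sylow `p`-subgroups -/

theorem conj_mem_sup [Finite G] [Group.IsSolvable G] {p : ℕ} [hp : Fact p.Prime]
    (hcyc : ∀ P : Subgroup G, IsPGroup p P → IsCyclic P) {x : G} (hx : orderOf x = p) (g : G) :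
    g * x * g⁻¹ ∈ zpowers x ⊔ pPrimeCore p G := by
  set N := pPrimeCore p G with hN
  haveI hNn : N.Normal := Lib.Cores.pPrimeCore_normal p
  have hNc : (Nat.card N).Coprime p := Lib.Cores.pPrimeCore_coprime p
  set f := QuotientGroup.mk' N with hf
  have hfs : Function.Surjective f := QuotientGroup.mk'_surjective N
  have hbot : pPrimeCore p (G ⧸ N) = ⊥ := Lib.Cores.pPrimeCore_quotient_pPrimeCore p
  have hcent := Lib.HallHigman.centralizer_pCore_le_of_solvable (G := G ⧸ N) p hbot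
  set B := pCore p (G ⧸ N) with hB
  haveI hBn : B.Normal := Lib.Cores.pCore_normal p
  have hBp : IsPGroup p B := Lib.Cores.pCore_isPGroup p
  have hQcyc := isCyclic_quotient hcyc N
  have hBcyc : IsCyclic B := hQcyc B hBp
  have hfx1 : f x ≠ 1 := by
    intro h
    have h1 : x ∈ N := by
      rwa [← MonoidHom.mem_ker, hf, QuotientGroup.ker_mk'] at h
    have h2 : p ∣ Nat.card N := by
      have := orderOf_dvd_of_pow_eq_one (pow_card_eq_one_of_mem h1)
      rwa [hx] at this
    have h3 := Nat.dvd_gcd h2 dvd_rfl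
    rw [hNc] at h3
    exact hp.out.one_lt.ne' (Nat.dvd_one.mp h3)
  have hfx : ∀ y : G, orderOf y = p → f y ≠ 1 → orderOf (f y) = p := by
    intro y hy hy1
    have h1 : orderOf (f y) ∣ p := hy ▸ orderOf_map_dvd f y
    rcases (Nat.dvd_prime hp.out).mp h1 with h2 | h2
    · exact absurd (orderOf_eq_one_iff.mp h2) hy1
    · exact h2
  have hfxo := hfx x hx hfx1
  have hBbot : B ≠ ⊥ := by
    intro h
    rw [h] at hcent
    have h1 : f x ∈ centralizer ((⊥ : Subgroup (G ⧸ N)) : Set (G ⧸ N)) := by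
      rw [mem_centralizer_iff]
      intro y hy
      rw [SetLike.mem_coe, mem_bot] at hy
      rw [hy, one_mul, mul_one]
    exact hfx1 (mem_bot.mp (hcent h1))
  obtain ⟨b, hb⟩ : ∃ b : B, orderOf b = p := by
    refine exists_prime_orderOf_dvd_card' p ?_
    obtain ⟨n, hn⟩ := IsPGroup.iff_card.mp hBp
    rw [hn]
    refine dvd_pow_self p ?_
    rintro rfl
    rw [pow_zero] at hn
    exact hBbot (eq_bot_of_card_eq B hn)
  have hb' : orderOf (b : G ⧸ N) = p := by rw [orderOf_coe]; exact hb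
  obtain ⟨c, hc⟩ := exists_conj hQcyc hb' hfxo
  have hfxB : f x ∈ B := by
    have h1 : f x ∈ zpowers (c⁻¹ * b * c) := by rw [hc]; exact mem_zpowers _
    have h2 : c⁻¹ * b * c ∈ B := by
      have := hBn.conj_mem b b.2 c⁻¹
      rwa [inv_inv] at this
    exact (zpowers_le.mpr h2) h1
  have h1 : f (g * x * g⁻¹) ∈ zpowers (f x) := by
    have h2 : f (g * x * g⁻¹) = f g * f x * (f g)⁻¹ := by simp
    have h3 : f g * f x * (f g)⁻¹ ∈ B := hBn.conj_mem _ hfxB _
    have h4 : orderOf (f g * f x * (f g)⁻¹) = orderOf (f x) := by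
      have := orderOf_conj (f g)⁻¹ (f x)
      rwa [inv_inv] at this
    rw [h2, zpowers_eq_of_le_cyclic hBcyc hfxB h3 h4.symm]
    exact mem_zpowers _
  have h5 : g * x * g⁻¹ ∈ ((zpowers x).map f).comap f := by
    rw [mem_comap, MonoidHom.map_zpowers]
    exact h1
  rwa [comap_map_eq, hf, QuotientGroup.ker_mk'] at h5

theorem exists_core_conj [Finite G] [Group.IsSolvable G] {p : ℕ} [hp : Fact p.Prime]
    (hcyc : ∀ P : Subgroup G, IsPGroup p P → IsCyclic P) {x w : G} (hx : orderOf x = p)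
    (hw : orderOf w = p) : ∃ n ∈ pPrimeCore p G, zpowers (n⁻¹ * x * n) = zpowers w := by
  obtain ⟨h, hh⟩ := exists_conj hcyc hx hw
  haveI hNn : (pPrimeCore p G).Normal := Lib.Cores.pPrimeCore_normal p
  have hNc : (Nat.card (pPrimeCore p G)).Coprime p := Lib.Cores.pPrimeCore_coprime p
  have h1 : ∀ y ∈ zpowers x, h * y * h⁻¹ ∈ zpowers x ⊔ pPrimeCore p G := by
    intro y hy
    obtain ⟨i, rfl⟩ := mem_zpowers_iff.mp hy
    rw [← conj_zpow]
    exact Subgroup.zpow_mem _ (conj_mem_sup hcyc hx h) i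
  obtain ⟨n, hn, hnm⟩ := Lib.LocalCore.exists_mul_mem_normalizer p (pPrimeCore p G) (zpowers x)
    hNc (isPGroup_zpowers hx) h1
  refine ⟨h⁻¹ * n⁻¹ * h, ?_, ?_⟩
  · have := hNn.conj_mem n⁻¹ (inv_mem hn) h⁻¹
    rwa [inv_inv] at this
  · rw [mem_normalizer_zpowers] at hnm
    rw [← hh]
    have h2 := zpowers_conj_congr (h⁻¹ * n⁻¹ * h) hnm
    rw [← h2]
    congr 1
    group

/-! ### Invariant `p'`-subgroups -/

/-- `K` is a `p'`-subgroup normalized by `x`. -/
structure Inv (p : ℕ) (x : G) (K : Subgroup G) : Prop where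
  norm : x ∈ normalizer (K : Set G)
  cop : (Nat.card K).Coprime p

theorem Inv.congr {p : ℕ} {x y : G} {K : Subgroup G} (h : Inv p x K) (hxy : zpowers x = zpowers y) :
    Inv p y K := by
  refine ⟨?_, h.cop⟩
  have h1 : zpowers x ≤ normalizer (K : Set G) := zpowers_le.mpr h.norm
  rw [hxy] at h1
  exact h1 (mem_zpowers y)

theorem inv_congr {p : ℕ} {x y : G} (hxy : zpowers x = zpowers y) : Inv p x = Inv p y := by
  funext K
  exact propext ⟨fun h => h.congr hxy, fun h => h.congr hxy.symm⟩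

/-- The hypotheses on the group. -/
structure Ctx (G : Type*) [Group G] (p : ℕ) : Prop where
  cyc : ∀ P : Subgroup G, IsPGroup p P → IsCyclic P
  sol : ∀ H : Subgroup G, H ≠ ⊤ → Group.IsSolvable H
  gen : ∀ x y : G, closure ({x, y} : Set G) ≠ ⊤
  cen : ∀ x : G, orderOf x = p → ∀ y : G, y * x = x * y → ∃ n : ℕ, y ^ p ^ n = 1

section

variable [Finite G] {p : ℕ} [hp : Fact p.Prime]

theorem Inv.eq_one (C : Ctx G p) {x : G} (hx : orderOf x = p) {K : Subgroup G} (hK : Inv p x K)
    {k : G} (hk : k ∈ K) (hc : k * x = x * k) : k = 1 := by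
  obtain ⟨n, hn⟩ := C.cen x hx k hc
  have h1 : orderOf k ∣ p ^ n := orderOf_dvd_of_pow_eq_one hn
  have h2 : orderOf k ∣ Nat.card K := orderOf_dvd_of_pow_eq_one (pow_card_eq_one_of_mem hk)
  have h3 := Nat.dvd_gcd h2 h1
  rw [(Nat.Coprime.pow_right n hK.cop)] at h3
  exact orderOf_eq_one_iff.mp (Nat.dvd_one.mp h3)

theorem Inv.exists_eq (C : Ctx G p) {x : G} (hx : orderOf x = p) {K : Subgroup G}
    (hK : Inv p x K) {l : G} (hl : l ∈ K) : ∃ k ∈ K, x * l = k⁻¹ * x * k := by
  have hinv : x⁻¹ ∈ normalizer (K : Set G) := inv_mem hK.norm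
  let φ : K → K := fun k => ⟨x⁻¹ * (k : G)⁻¹ * x * k, by
    refine K.mul_mem ?_ k.2
    have := (mem_normalizer_iff.mp hinv (k : G)⁻¹).mp (K.inv_mem k.2)
    rwa [inv_inv] at this⟩
  have hφ : Function.Injective φ := by
    intro a b hab
    have h1 : x⁻¹ * (a : G)⁻¹ * x * a = x⁻¹ * (b : G)⁻¹ * x * b := congrArg Subtype.val hab
    have h2 : (b : G) * (a : G)⁻¹ * x = x * ((b : G) * (a : G)⁻¹) := by
      have h3 : (a : G)⁻¹ * x * a = (b : G)⁻¹ * x * b := by
        have := congrArg (fun t => x * t) h1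
        simpa [mul_assoc] using this
      calc (b : G) * (a : G)⁻¹ * x = b * ((a : G)⁻¹ * x * a) * (a : G)⁻¹ := by group
        _ = b * ((b : G)⁻¹ * x * b) * (a : G)⁻¹ := by rw [h3]
        _ = _ := by group
    have h4 := hK.eq_one C hx (K.mul_mem b.2 (K.inv_mem a.2)) h2
    exact Subtype.ext (mul_inv_eq_one.mp h4).symm
  obtain ⟨k, hk⟩ := (Finite.injective_iff_surjective.mp hφ) ⟨l, hl⟩
  refine ⟨k, k.2, ?_⟩
  have h1 : x⁻¹ * (k : G)⁻¹ * x * k = l := congrArg Subtype.val hk
  rw [← h1]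
  group

theorem Inv.inf {x : G} {K H : Subgroup G} (hK : Inv p x K) (hH : x ∈ H) : Inv p x (K ⊓ H) := by
  refine ⟨?_, hK.cop.coprime_dvd_left (card_dvd_of_le inf_le_left)⟩
  rw [mem_normalizer_iff]
  intro h
  rw [mem_inf, mem_inf, mem_normalizer_iff.mp hK.norm h,
    mem_normalizer_iff.mp (le_normalizer hH) h]

theorem Inv.mem_of_conj (C : Ctx G p) {x : G} (hx : orderOf x = p) {K H : Subgroup G}
    (hK : Inv p x K) {l : G} (hl : l ∈ K) (hxH : x ∈ H) (h : l⁻¹ * x * l ∈ H) : l ∈ H := by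
  have h1 : x⁻¹ * (l⁻¹ * x * l) ∈ K ⊓ H := by
    refine mem_inf.mpr ⟨?_, H.mul_mem (H.inv_mem hxH) h⟩
    have h2 := (mem_normalizer_iff.mp (inv_mem hK.norm) l⁻¹).mp (K.inv_mem hl)
    rw [inv_inv] at h2
    have h3 := K.mul_mem h2 hl
    simpa [mul_assoc] using h3
  obtain ⟨k, hk, hk'⟩ := (hK.inf hxH).exists_eq C hx h1
  rw [mem_inf] at hk
  have h2 : l⁻¹ * x * l = k⁻¹ * x * k := by
    rw [← hk']; group
  have h3 : l * k⁻¹ * x = x * (l * k⁻¹) := by
    calc l * k⁻¹ * x = l * (k⁻¹ * x * k) * k⁻¹ := by group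
      _ = l * (l⁻¹ * x * l) * k⁻¹ := by rw [h2]
      _ = _ := by group
  have h4 := hK.eq_one C hx (K.mul_mem hl (K.inv_mem hk.1)) h3
  rw [mul_inv_eq_one.mp h4]
  exact hk.2

theorem eq_of_conj_zpowers (C : Ctx G p) {x : G} (hx : orderOf x = p) {K : Subgroup G}
    (hK : Inv p x K) {k : G} (hk : k ∈ K) (h : zpowers (k⁻¹ * x * k) = zpowers x) : k = 1 := by
  refine hK.eq_one C hx hk ?_
  have h1 : k⁻¹ * x * k ∈ zpowers x := by rw [← h]; exact mem_zpowers _
  have h2 : x⁻¹ * (k⁻¹ * x * k) ∈ zpowers x := mul_mem (inv_mem (mem_zpowers x)) h1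
  have h3 : x⁻¹ * (k⁻¹ * x * k) ∈ K := by
    have h2 := (mem_normalizer_iff.mp (inv_mem hK.norm) k⁻¹).mp (K.inv_mem hk)
    rw [inv_inv] at h2
    have h3 := K.mul_mem h2 hk
    simpa [mul_assoc] using h3
  have h4 : Disjoint K (zpowers x) := by
    refine disjoint_of_coprime_natCard ?_
    rw [Nat.card_zpowers, hx]
    exact hK.cop
  have h5 : x⁻¹ * (k⁻¹ * x * k) = 1 := (disjoint_def.mp h4) h3 h2
  have h6 : k⁻¹ * x * k = x := by
    have := congrArg (fun t => x * t) h5
    simpa using this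
  calc k * x = k * (k⁻¹ * x * k) := by rw [h6]
    _ = x * k := by group

/-- The core of a proper subgroup containing `x`. -/
theorem exists_core (C : Ctx G p) {x : G} (hx : orderOf x = p) {H : Subgroup G} (hH : H ≠ ⊤)
    (hxH : x ∈ H) : ∃ N : Subgroup G, N ≤ H ∧ Inv p x N ∧ H ≤ normalizer (N : Set G) ∧
      (∀ L : Subgroup G, L ≤ H → Inv p x L → L ≤ N) ∧
      (∀ w ∈ H, orderOf w = p → ∃ n ∈ N, zpowers (n⁻¹ * x * n) = zpowers w) := by
  haveI := C.sol H hH
  have hcycH := isCyclic_sub C.cyc H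
  haveI hNn : (pPrimeCore p H).Normal := Lib.Cores.pPrimeCore_normal p
  have hNc : (Nat.card (pPrimeCore p H)).Coprime p := Lib.Cores.pPrimeCore_coprime p
  set N : Subgroup G := (pPrimeCore p H).map H.subtype with hN
  have hle : N ≤ H := map_subtype_le _
  have hnorm : H ≤ normalizer (N : Set G) := Lib.LocalCore.le_normalizer_map_pPrimeCore p H
  have hcop : (Nat.card N).Coprime p := Lib.LocalCore.card_map_pPrimeCore_coprime p H
  have hx' : orderOf (⟨x, hxH⟩ : H) = p := by rw [orderOf_mk]; exact hx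
  refine ⟨N, hle, ⟨hnorm hxH, hcop⟩, hnorm, ?_, ?_⟩
  · intro L hLH hL
    -- `L ≤ ⟨x⟩ N`
    have h1 : L.subgroupOf H ≤ zpowers (⟨x, hxH⟩ : H) ⊔ pPrimeCore p H := by
      intro l hl
      rw [mem_subgroupOf] at hl
      obtain ⟨k, hk, hk'⟩ := hL.exists_eq C hx hl
      have h2 := conj_mem_sup hcycH hx' (⟨k, hLH hk⟩⁻¹ : H)
      rw [inv_inv] at h2
      have h3 : (⟨k, hLH hk⟩⁻¹ : H) * (⟨x, hxH⟩ : H) * ⟨k, hLH hk⟩ = (⟨x, hxH⟩ : H) * l := by
        apply Subtype.ext
        exact hk'.symm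
      rw [h3] at h2
      have h4 := mul_mem (inv_mem (mem_sup_left (mem_zpowers (⟨x, hxH⟩ : H)))) h2
      rwa [inv_mul_cancel_left] at h4
    have h2 : Nat.card (zpowers (⟨x, hxH⟩ : H) ⊔ pPrimeCore p H : Subgroup H) =
        p * Nat.card (pPrimeCore p H) := by
      rw [Lib.LocalCore.card_sup_of_coprime, Nat.card_zpowers, hx']
      rw [Nat.card_zpowers, hx']
      exact hNc.symm
    have h3 : (Nat.card (pPrimeCore p H ⊔ L.subgroupOf H : Subgroup H)).Coprime p := by
      refine Nat.Coprime.coprime_dvd_left (Lib.Cores.card_sup_dvd _ _ hNn) ?_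
      refine Nat.Coprime.mul_left hNc ?_
      rw [Nat.card_congr (subgroupOfEquivOfLe hLH).toEquiv]
      exact hL.cop
    have h4 : Nat.card (pPrimeCore p H ⊔ L.subgroupOf H : Subgroup H) ∣
        p * Nat.card (pPrimeCore p H) := by
      rw [← h2]
      exact card_dvd_of_le (sup_le le_sup_right h1)
    have h5 := h3.dvd_of_dvd_mul_left h4
    have h6 : pPrimeCore p H = pPrimeCore p H ⊔ L.subgroupOf H :=
      eq_of_le_of_card_ge le_sup_left (Nat.le_of_dvd Nat.card_pos h5)
    have h7 : L.subgroupOf H ≤ pPrimeCore p H := by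
      rw [h6]; exact le_sup_right
    have h8 := Subgroup.map_mono (f := H.subtype) h7
    rwa [map_subgroupOf_eq_of_le hLH] at h8
  · intro w hw hwo
    have hw' : orderOf (⟨w, hw⟩ : H) = p := by rw [orderOf_mk]; exact hwo
    obtain ⟨n, hn, hn'⟩ := exists_core_conj hcycH hx' hw'
    refine ⟨n, ⟨n, hn, rfl⟩, ?_⟩
    have h1 := congrArg (Subgroup.map H.subtype) hn'
    rw [MonoidHom.map_zpowers, MonoidHom.map_zpowers] at h1
    simpa using h1

theorem Inv.isNilpotent (C : Ctx G p) {x : G} (hx : orderOf x = p) {K : Subgroup G}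
    (hK : Inv p x K) : Group.IsNilpotent K := by
  by_cases hb : K = ⊥
  · subst hb
    infer_instance
  · let φ : K ≃* K := normalizerMonoidHom K ⟨x, hK.norm⟩
    have hφa : ∀ k : K, ((φ k : K) : G) = x * k * x⁻¹ := fun k => rfl
    have hfix : MonoidHom.FixedPointFree (φ : K →* K) := by
      intro k hk
      have h1 : x * (k : G) * x⁻¹ = k := by
        rw [← hφa]; exact congrArg Subtype.val hk
      have h2 : (k : G) * x = x * k := by
        calc (k : G) * x = (x * (k : G) * x⁻¹) * x := by rw [h1]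
          _ = x * k := by group
      exact Subtype.ext (hK.eq_one C hx k.2 h2)
    refine Cfsg.Agent.S0033.result φ hfix p hp.out ?_
    have h1 : φ ^ p = 1 := by
      have : (normalizerMonoidHom K (⟨x, hK.norm⟩ : normalizer (K : Set G))) ^ p = 1 := by
        rw [← map_pow]
        have h2 : (⟨x, hK.norm⟩ : normalizer (K : Set G)) ^ p = 1 := by
          apply Subtype.ext
          have : x ^ p = 1 := by rw [← hx]; exact pow_orderOf_eq_one x
          simpa using this
        rw [h2, map_one]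
      exact this
    rcases (Nat.dvd_prime hp.out).mp (orderOf_dvd_of_pow_eq_one h1) with h2 | h2
    · exfalso
      apply hb
      rw [eq_bot_iff]
      intro k hk
      have h3 : φ = 1 := orderOf_eq_one_iff.mp h2
      have h4 : (φ : K →* K) ⟨k, hk⟩ = ⟨k, hk⟩ := by
        show φ ⟨k, hk⟩ = ⟨k, hk⟩
        rw [h3]; rfl
      have h5 := hfix _ h4
      exact mem_bot.mpr (congrArg Subtype.val h5)
    · exact h2

end

/-! ### Maximal invariant `p'`-subgroups -/

/-- `K` is a maximal `x`-invariant `p'`-subgroup. -/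
def IMax (p : ℕ) (x : G) (K : Subgroup G) : Prop :=
  Inv p x K ∧ ∀ L : Subgroup G, Inv p x L → K ≤ L → K = L

theorem IMax.congr {p : ℕ} {x y : G} {K : Subgroup G} (h : IMax p x K)
    (hxy : zpowers x = zpowers y) : IMax p y K :=
  ⟨h.1.congr hxy, fun L hL hKL => h.2 L (hL.congr hxy.symm) hKL⟩

theorem mem_map_conj_inv {g y : G} {K : Subgroup G} :
    y ∈ K.map (MulAut.conj g⁻¹).toMonoidHom ↔ g * y * g⁻¹ ∈ K := by
  constructor
  · rintro ⟨k, hk, rfl⟩
    have : g * (MulAut.conj g⁻¹).toMonoidHom k * g⁻¹ = k := by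
      show g * (g⁻¹ * k * g⁻¹⁻¹) * g⁻¹ = k
      group
    rw [this]; exact hk
  · intro h
    refine ⟨g * y * g⁻¹, h, ?_⟩
    show g⁻¹ * (g * y * g⁻¹) * g⁻¹⁻¹ = y
    group

theorem Inv.conj {p : ℕ} {x : G} {K : Subgroup G} (h : Inv p x K) (g : G) :
    Inv p (g⁻¹ * x * g) (K.map (MulAut.conj g⁻¹).toMonoidHom) := by
  refine ⟨?_, ?_⟩
  · rw [mem_normalizer_iff]
    intro y
    rw [mem_map_conj_inv, mem_map_conj_inv, mem_normalizer_iff.mp h.norm]
    have : x * (g * y * g⁻¹) * x⁻¹ = g * (g⁻¹ * x * g * y * (g⁻¹ * x * g)⁻¹) * g⁻¹ := by group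
    rw [this]
  · rw [card_map_of_injective (MulAut.conj g⁻¹).injective]
    exact h.cop

theorem map_conj_self {K : Subgroup G} {g : G} (hg : g ∈ K) :
    K.map (MulAut.conj g⁻¹).toMonoidHom = K := by
  ext y
  rw [mem_map_conj_inv]
  exact (mem_normalizer_iff.mp (le_normalizer hg) y).symm

/-- Conjugating by an element of `K`. -/
theorem IMax.conj_self {p : ℕ} {x : G} {K : Subgroup G} (h : IMax p x K) {g : G} (hg : g ∈ K) :
    IMax p (g⁻¹ * x * g) K := by
  refine ⟨?_, ?_⟩
  · have := h.1.conj g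
    rwa [map_conj_self hg] at this
  · intro L hL hKL
    refine h.2 L ?_ hKL
    have h1 := hL.conj g⁻¹
    have h2 : g⁻¹⁻¹ * (g⁻¹ * x * g) * g⁻¹ = x := by group
    rw [h2, map_conj_self (L.inv_mem (hKL hg))] at h1
    exact h1

section

variable [Finite G] {p : ℕ} [hp : Fact p.Prime]

theorem exists_iMax {x : G} {K : Subgroup G} (hK : Inv p x K) :
    ∃ L : Subgroup G, IMax p x L ∧ K ≤ L := by
  obtain ⟨L, hKL, hL⟩ := (Set.toFinite {L : Subgroup G | Inv p x L}).exists_le_maximal hK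
  exact ⟨L, ⟨hL.prop, fun M hM hLM => le_antisymm hLM (hL.le_of_ge hM hLM)⟩, hKL⟩

theorem Inv.ne_top {x : G} (hx : orderOf x = p) {K : Subgroup G} (hK : Inv p x K) : K ≠ ⊤ := by
  rintro rfl
  have h1 : p ∣ Nat.card (⊤ : Subgroup G) := by
    have := orderOf_dvd_of_pow_eq_one (pow_card_eq_one_of_mem (mem_top x))
    rwa [hx] at this
  have h3 := Nat.dvd_gcd h1 dvd_rfl
  rw [hK.cop] at h3
  exact hp.out.one_lt.ne' (Nat.dvd_one.mp h3)

variable [IsSimpleGroup G]

/-- Distinct maximal `x`-invariant `p'`-subgroups intersect trivially. -/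
theorem IMax.eq_of_inf_ne_bot (C : Ctx G p) {x : G} (hx : orderOf x = p) :
    ∀ (n : ℕ) (K L : Subgroup G), IMax p x K → IMax p x L → K ⊓ L ≠ ⊥ →
      Nat.card G - Nat.card (K ⊓ L : Subgroup G) = n → K = L := by
  intro n
  induction n using Nat.strong_induction_on with
  | _ n ih =>
    intro K L hK hL hbot hn
    by_contra hne
    set D := K ⊓ L with hD
    have hDK : D < K := by
      refine lt_of_le_of_ne inf_le_left ?_
      intro h
      exact hne (hK.2 L hL.1 (h ▸ inf_le_right))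
    have hDL : D < L := by
      refine lt_of_le_of_ne inf_le_right ?_
      intro h
      exact hne (hL.2 K hK.1 (h ▸ inf_le_left)).symm
    have hxD : Inv p x D := by
      refine ⟨?_, hK.1.cop.coprime_dvd_left (card_dvd_of_le inf_le_left)⟩
      rw [mem_normalizer_iff]
      intro h
      rw [hD, mem_inf, mem_inf, mem_normalizer_iff.mp hK.1.norm h,
        mem_normalizer_iff.mp hL.1.norm h]
    set H := normalizer (D : Set G) with hH
    have hHtop : H ≠ ⊤ := by
      intro h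
      have h1 : D.Normal := normalizer_eq_top_iff.mp h
      rcases h1.eq_bot_or_eq_top with h2 | h2
      · exact hbot h2
      · exact hxD.ne_top hx h2
    have hxH : x ∈ H := hxD.norm
    obtain ⟨N, hNH, hN, _, hNmax, _⟩ := exists_core C hx hHtop hxH
    obtain ⟨M, hM, hNM⟩ := exists_iMax hN
    have key : ∀ A : Subgroup G, IMax p x A → D < A → A = M := by
      intro A hA hDA
      haveI := hA.1.isNilpotent C hx
      have h1 : D < A ⊓ H := by
        have h2 : D.subgroupOf A < ⊤ := by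
          rw [lt_top_iff_ne_top, Ne, subgroupOf_eq_top]
          exact not_le_of_gt hDA
        have h3 := (Group.normalizerCondition_of_isNilpotent (G := A)) _ h2
        obtain ⟨a, ha, ha'⟩ := SetLike.exists_of_lt h3
        refine lt_of_le_of_ne (le_inf hDA.le le_normalizer) ?_
        intro h4
        apply ha'
        rw [mem_subgroupOf, h4]
        refine ⟨a.2, ?_⟩
        refine mem_normalizer_iff.mpr fun y => ?_
        by_cases hy : y ∈ A
        · have h5 := mem_normalizer_iff.mp ha ⟨y, hy⟩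
          rw [mem_subgroupOf, mem_subgroupOf] at h5
          exact h5
        · constructor
          · intro hyD
            exact absurd (hDA.le hyD) hy
          · intro hyD
            have h6 := hDA.le hyD
            have h7 := A.mul_mem (A.mul_mem (A.inv_mem a.2) h6) a.2
            have h8 : (a : G)⁻¹ * (a * y * (a : G)⁻¹) * a = y := by group
            rw [h8] at h7
            exact absurd h7 hy
      have h2 : A ⊓ H ≤ A ⊓ M :=
        le_inf inf_le_left ((hNmax _ inf_le_right (hA.1.inf hxH)).trans hNM)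
      have h3 : D < A ⊓ M := lt_of_lt_of_le h1 h2
      have h4 : Nat.card D < Nat.card (A ⊓ M : Subgroup G) := by
        refine lt_of_le_of_ne (Nat.le_of_dvd Nat.card_pos (card_dvd_of_le h3.le)) ?_
        intro h5
        exact h3.ne (eq_of_le_of_card_ge h3.le h5.ge)
      have h5 : Nat.card (A ⊓ M : Subgroup G) ≤ Nat.card G :=
        Nat.le_of_dvd Nat.card_pos (card_subgroup_dvd_card _)
      refine ih _ ?_ A M hA hM ?_ rfl
      · omega
      · intro h6
        rw [h6] at h3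
        exact not_lt_bot h3
    exact hne ((key K hK hDK).trans (key L hL hDL).symm)

theorem IMax.eq_of_mem (C : Ctx G p) {x : G} (hx : orderOf x = p) {K L : Subgroup G}
    (hK : IMax p x K) (hL : IMax p x L) {k : G} (hkK : k ∈ K) (hkL : k ∈ L) (hk : k ≠ 1) :
    K = L := by
  refine IMax.eq_of_inf_ne_bot C hx _ K L hK hL ?_ rfl
  intro h
  have : k ∈ K ⊓ L := mem_inf.mpr ⟨hkK, hkL⟩
  rw [h, mem_bot] at this
  exact hk this

/-- The normalizer of `⟨x⟩` normalizes every maximal `x`-invariant `p'`-subgroup. -/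
theorem IMax.conj_mem (C : Ctx G p) {x : G} (hx : orderOf x = p) {K : Subgroup G}
    (hK : IMax p x K) {c : G} (hc : c ∈ normalizer ((zpowers x : Subgroup G) : Set G)) {l : G}
    (hl : l ∈ K) : c⁻¹ * l * c ∈ K := by
  by_cases hl1 : l = 1
  · rw [hl1]; simp
  · have hgen := C.gen x (c * l)
    set H := closure ({x, c * l} : Set G) with hH
    have hxH : x ∈ H := subset_closure (by simp)
    have hclH : c * l ∈ H := subset_closure (by simp)
    have h1 : c * x * c⁻¹ ∈ H := by
      have : c * x * c⁻¹ ∈ zpowers x := (mem_normalizer_iff.mp hc x).mp (mem_zpowers x)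
      exact (zpowers_le.mpr hxH) this
    have h2 : l⁻¹ * x * l ∈ H := by
      have h3 := H.mul_mem (H.mul_mem (H.inv_mem hclH) h1) hclH
      have h4 : (c * l)⁻¹ * (c * x * c⁻¹) * (c * l) = l⁻¹ * x * l := by group
      rwa [h4] at h3
    have hlH : l ∈ H := hK.1.mem_of_conj C hx hl hxH h2
    have hcH : c ∈ H := by
      have := H.mul_mem hclH (H.inv_mem hlH)
      simpa using this
    obtain ⟨N, hNH, hN, hHN, hNmax, _⟩ := exists_core C hx hgen hxH
    have hlN : l ∈ N := hNmax (K ⊓ H) inf_le_right (hK.1.inf hxH) (mem_inf.mpr ⟨hl, hlH⟩)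
    obtain ⟨M, hM, hNM⟩ := exists_iMax hN
    rw [hK.eq_of_mem C hx hM hl (hNM hlN) hl1]
    apply hNM
    have h5 := (mem_normalizer_iff.mp (hHN (H.inv_mem hcH)) l).mp hlN
    rwa [inv_inv] at h5

theorem exists_factor (C : Ctx G p) {x : G} (hx : orderOf x = p) (g : G) :
    ∃ K : Subgroup G, IMax p x K ∧ ∃ k ∈ K, zpowers (g⁻¹ * x * g) = zpowers (k⁻¹ * x * k) := by
  have hgen := C.gen x (g⁻¹ * x * g)
  set H := closure ({x, g⁻¹ * x * g} : Set G) with hH
  have hxH : x ∈ H := subset_closure (by simp)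
  have hgH : g⁻¹ * x * g ∈ H := subset_closure (by simp)
  obtain ⟨N, hNH, hN, hHN, hNmax, hNc⟩ := exists_core C hx hgen hxH
  obtain ⟨n, hn, hn'⟩ := hNc _ hgH (by rw [orderOf_conj, hx])
  obtain ⟨M, hM, hNM⟩ := exists_iMax hN
  exact ⟨M, hM, n, hNM hn, hn'.symm⟩

/-- The key rigidity property. -/
theorem eq_of_conj_eq (C : Ctx G p) {x : G} (hx : orderOf x = p) {K L : Subgroup G}
    (hK : IMax p x K) (hL : IMax p x L) {k l : G} (hk : k ∈ K) (hl : l ∈ L)
    (h : zpowers (k⁻¹ * x * k) = zpowers (l⁻¹ * x * l)) : k = l := by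
  have hgen := C.gen x (k⁻¹ * x * k)
  set H := closure ({x, k⁻¹ * x * k} : Set G) with hH
  have hxH : x ∈ H := subset_closure (by simp)
  have hkH' : k⁻¹ * x * k ∈ H := subset_closure (by simp)
  have hlH' : l⁻¹ * x * l ∈ H := by
    have h1 : l⁻¹ * x * l ∈ zpowers (k⁻¹ * x * k) := by rw [h]; exact mem_zpowers _
    exact (zpowers_le.mpr hkH') h1
  have hkH : k ∈ H := hK.1.mem_of_conj C hx hk hxH hkH'
  have hlH : l ∈ H := hL.1.mem_of_conj C hx hl hxH hlH'
  obtain ⟨N, hNH, hN, hHN, hNmax, hNc⟩ := exists_core C hx hgen hxH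
  have hkN : k ∈ N := hNmax (K ⊓ H) inf_le_right (hK.1.inf hxH) (mem_inf.mpr ⟨hk, hkH⟩)
  have hlN : l ∈ N := hNmax (L ⊓ H) inf_le_right (hL.1.inf hxH) (mem_inf.mpr ⟨hl, hlH⟩)
  have h2 := zpowers_conj_congr l⁻¹ h
  have h3 : l⁻¹⁻¹ * (k⁻¹ * x * k) * l⁻¹ = (k * l⁻¹)⁻¹ * x * (k * l⁻¹) := by group
  have h4 : l⁻¹⁻¹ * (l⁻¹ * x * l) * l⁻¹ = x := by group
  rw [h3, h4] at h2
  exact mul_inv_eq_one.mp (eq_of_conj_zpowers C hx hN (N.mul_mem hkN (N.inv_mem hlN)) h2)

/-- An element normalizing `⟨x⟩` and `⟨x⟩ᵏ` centralizes every other `L`. -/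
theorem commute_of_ne (C : Ctx G p) {x : G} (hx : orderOf x = p) {K L : Subgroup G}
    (hK : IMax p x K) (hL : IMax p x L) (hKL : K ≠ L) {k : G} (hk : k ∈ K) (hk1 : k ≠ 1) {c : G}
    (hc : c ∈ normalizer ((zpowers x : Subgroup G) : Set G))
    (hc' : c ∈ normalizer ((zpowers (k⁻¹ * x * k) : Subgroup G) : Set G)) {l : G} (hl : l ∈ L) :
    c⁻¹ * l * c = l := by
  set u := k⁻¹ * x * k with hu
  set v := l⁻¹ * x * l with hv
  have huo : orderOf u = p := by rw [hu, orderOf_conj, hx]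
  have hvo : orderOf v = p := by rw [hv, orderOf_conj, hx]
  obtain ⟨M, hM, a, ha, hav⟩ := exists_factor C huo (k⁻¹ * l)
  have h1 : (k⁻¹ * l)⁻¹ * u * (k⁻¹ * l) = v := by rw [hu, hv]; group
  rw [h1] at hav
  -- conjugates under `c`
  have hl' : c⁻¹ * l * c ∈ L := hL.conj_mem C hx hc hl
  have ha' : c⁻¹ * a * c ∈ M := hM.conj_mem C huo hc' ha
  have hLv : IMax p v L := hL.conj_self hl
  have hMv : IMax p v M := (hM.conj_self ha).congr hav.symm
  -- `t ∈ L` and `s ∈ M` conjugate `⟨v⟩` to `⟨v⟩ᶜ`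
  have ht : l⁻¹ * (c⁻¹ * l * c) ∈ L := L.mul_mem (L.inv_mem hl) hl'
  have hs : a⁻¹ * (c⁻¹ * a * c) ∈ M := M.mul_mem (M.inv_mem ha) ha'
  have e1 : zpowers ((l⁻¹ * (c⁻¹ * l * c))⁻¹ * v * (l⁻¹ * (c⁻¹ * l * c))) =
      zpowers (c⁻¹ * v * c) := by
    have h2 : (l⁻¹ * (c⁻¹ * l * c))⁻¹ * v * (l⁻¹ * (c⁻¹ * l * c)) =
        (c⁻¹ * l * c)⁻¹ * x * (c⁻¹ * l * c) := by rw [hv]; group
    have h3 : c⁻¹ * v * c = (c⁻¹ * l * c)⁻¹ * (c⁻¹ * x * c) * (c⁻¹ * l * c) := by rw [hv]; group
    rw [h2, h3]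
    exact zpowers_conj_congr _ (mem_normalizer_zpowers.mp hc).symm
  have e2 : zpowers ((a⁻¹ * (c⁻¹ * a * c))⁻¹ * v * (a⁻¹ * (c⁻¹ * a * c))) =
      zpowers (c⁻¹ * v * c) := by
    have h2 := zpowers_conj_congr (a⁻¹ * (c⁻¹ * a * c)) hav
    have h3 := zpowers_conj_congr c hav
    have h4 : (a⁻¹ * (c⁻¹ * a * c))⁻¹ * (a⁻¹ * u * a) * (a⁻¹ * (c⁻¹ * a * c)) =
        (c⁻¹ * a * c)⁻¹ * u * (c⁻¹ * a * c) := by group
    have h5 : c⁻¹ * (a⁻¹ * u * a) * c = (c⁻¹ * a * c)⁻¹ * (c⁻¹ * u * c) * (c⁻¹ * a * c) := by group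
    rw [h2, h3, h4, h5]
    exact zpowers_conj_congr _ (mem_normalizer_zpowers.mp hc').symm
  have hts := eq_of_conj_eq C hvo hLv hMv ht hs (e1.trans e2.symm)
  by_cases ht1 : l⁻¹ * (c⁻¹ * l * c) = 1
  · exact (inv_mul_eq_one.mp ht1).symm
  · exfalso
    have hLM : L = M := hLv.eq_of_mem C hvo hMv ht (hts ▸ hs) ht1
    rw [← hLM] at ha
    -- `⟨u⟩ = ⟨x⟩^(l a⁻¹)`
    have h2 := zpowers_conj_congr a⁻¹ hav
    have h3 : a⁻¹⁻¹ * v * a⁻¹ = (l * a⁻¹)⁻¹ * x * (l * a⁻¹) := by rw [hv]; group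
    have h4 : a⁻¹⁻¹ * (a⁻¹ * u * a) * a⁻¹ = u := by group
    rw [h3, h4] at h2
    have h5 := eq_of_conj_eq C hx hK hL hk (L.mul_mem hl (L.inv_mem ha)) h2.symm
    exact hKL (hK.eq_of_mem C hx hL hk (h5 ▸ L.mul_mem hl (L.inv_mem ha)) hk1)

/-- There is a second maximal invariant `p'`-subgroup. -/
theorem exists_other (C : Ctx G p) {x : G} (hx : orderOf x = p) {K : Subgroup G}
    (hK : IMax p x K) {k : G} (hk : k ∈ K) (hk1 : k ≠ 1) :
    ∃ L : Subgroup G, IMax p x L ∧ K ≠ L ∧ ∃ l ∈ L, l ≠ 1 := by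
  by_contra hcon
  push Not at hcon
  have hall : ∀ L : Subgroup G, IMax p x L → K = L := by
    intro L hL
    by_contra hne
    have h1 : L = ⊥ := by
      rw [eq_bot_iff]
      intro l hl
      exact mem_bot.mpr (hcon L hL hne l hl)
    exact hne (hL.2 K hK.1 (h1 ▸ bot_le)).symm
  have hn : K.Normal := by
    refine ⟨fun n hn g => ?_⟩
    obtain ⟨L, hL, l, hl, hl'⟩ := exists_factor C hx g⁻¹
    rw [← hall L hL] at hl
    -- `g⁻¹ = m l`
    have h1 := zpowers_conj_congr l⁻¹ hl'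
    have h2 : l⁻¹⁻¹ * (g⁻¹⁻¹ * x * g⁻¹) * l⁻¹ = (g⁻¹ * l⁻¹)⁻¹ * x * (g⁻¹ * l⁻¹) := by group
    have h3 : l⁻¹⁻¹ * (l⁻¹ * x * l) * l⁻¹ = x := by group
    rw [h2, h3, ← mem_normalizer_zpowers] at h1
    have h4 := hK.conj_mem C hx h1 hn
    have h5 := K.mul_mem (K.mul_mem (K.inv_mem hl) h4) hl
    have h6 : l⁻¹ * ((g⁻¹ * l⁻¹)⁻¹ * n * (g⁻¹ * l⁻¹)) * l = g * n * g⁻¹ := by group
    rwa [h6] at h5
  rcases hn.eq_bot_or_eq_top with h | h
  · rw [h, mem_bot] at hk
    exact hk1 hk
  · exact hK.1.ne_top hx h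

theorem two_point_stabilizer (C : Ctx G p) (hnc : center G = ⊥) {x : G} (hx : orderOf x = p)
    {K : Subgroup G} (hK : IMax p x K) {k : G} (hk : k ∈ K) (hk1 : k ≠ 1) {c : G}
    (hc : c ∈ normalizer ((zpowers x : Subgroup G) : Set G))
    (hc' : c ∈ normalizer ((zpowers (k⁻¹ * x * k) : Subgroup G) : Set G)) : c = 1 := by
  obtain ⟨L, hL, hKL, l, hl, hl1⟩ := exists_other C hx hK hk hk1
  have hcl : c⁻¹ * l * c = l := commute_of_ne C hx hK hL hKL hk hk1 hc hc' hl
  have hcl' : c ∈ normalizer ((zpowers (l⁻¹ * x * l) : Subgroup G) : Set G) := by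
    rw [mem_normalizer_zpowers]
    have h1 := zpowers_conj_congr l (mem_normalizer_zpowers.mp hc)
    rw [← h1]
    congr 1
    have h2 : l * c = c * l := by
      calc l * c = c * (c⁻¹ * l * c) := by group
        _ = c * l := by rw [hcl]
    calc c⁻¹ * (l⁻¹ * x * l) * c = (l * c)⁻¹ * x * (l * c) := by group
      _ = (c * l)⁻¹ * x * (c * l) := by rw [h2]
      _ = _ := by group
  -- `c` centralizes every `M`
  have hall : ∀ M : Subgroup G, IMax p x M → ∀ m ∈ M, c⁻¹ * m * c = m := by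
    intro M hM m hm
    by_cases hKM : K = M
    · subst hKM
      exact commute_of_ne C hx hL hM hKL.symm hl hl1 hc hcl' hm
    · exact commute_of_ne C hx hK hM hKM hk hk1 hc hc' hm
  set T : Subgroup G := closure {g : G | ∃ M : Subgroup G, IMax p x M ∧ g ∈ M} with hT
  have hTn : T.Normal := by
    rw [← normalizer_eq_top_iff, eq_top_iff]
    -- `T` is normalized by the normalizer of `⟨x⟩`
    have hN : normalizer ((zpowers x : Subgroup G) : Set G) ≤ normalizer (T : Set G) := by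
      intro m hm
      have key : ∀ m : G, m ∈ normalizer ((zpowers x : Subgroup G) : Set G) → ∀ t ∈ T,
          m⁻¹ * t * m ∈ T := by
        intro m hm t ht
        have h1 : T ≤ T.comap (MulAut.conj m⁻¹).toMonoidHom := by
          refine (closure_le _).mpr ?_
          rintro g ⟨M, hM, hg⟩
          show m⁻¹ * g * m⁻¹⁻¹ ∈ T
          rw [inv_inv]
          exact subset_closure ⟨M, hM, hM.conj_mem C hx hm hg⟩
        have h2 : m⁻¹ * t * m⁻¹⁻¹ ∈ T := h1 ht
        rwa [inv_inv] at h2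
      rw [mem_normalizer_iff]
      intro t
      constructor
      · intro ht
        have := key m⁻¹ (inv_mem hm) t ht
        rwa [inv_inv] at this
      · intro ht
        have := key m hm _ ht
        have h1 : m⁻¹ * (m * t * m⁻¹) * m = t := by group
        rwa [h1] at this
    intro g _
    obtain ⟨M, hM, m, hm, hm'⟩ := exists_factor C hx g
    have h1 := zpowers_conj_congr m⁻¹ hm'
    have h2 : m⁻¹⁻¹ * (g⁻¹ * x * g) * m⁻¹ = (g * m⁻¹)⁻¹ * x * (g * m⁻¹) := by group
    have h3 : m⁻¹⁻¹ * (m⁻¹ * x * m) * m⁻¹ = x := by group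
    rw [h2, h3, ← mem_normalizer_zpowers] at h1
    have hmT : m ∈ normalizer (T : Set G) := le_normalizer (subset_closure ⟨M, hM, hm⟩)
    have := mul_mem (hN h1) hmT
    simpa using this
  have hTtop : T = ⊤ := by
    rcases hTn.eq_bot_or_eq_top with h | h
    · exfalso
      have : k ∈ T := subset_closure ⟨K, hK, hk⟩
      rw [h, mem_bot] at this
      exact hk1 this
    · exact h
  have hcT : T ≤ centralizer {c} := by
    rw [hT, closure_le]
    rintro m ⟨M, hM, hm⟩
    rw [SetLike.mem_coe, mem_centralizer_singleton_iff]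
    have h1 := hall M hM m hm
    calc m * c = c * (c⁻¹ * m * c) := by group
      _ = c * m := by rw [h1]
  have hcc : c ∈ center G := by
    rw [mem_center_iff]
    intro g
    have : g ∈ centralizer {c} := hcT (hTtop ▸ mem_top g)
    exact mem_centralizer_singleton_iff.mp this
  rw [hnc, mem_bot] at hcc
  exact hcc

theorem contradiction (C : Ctx G p) (hns : ¬ Group.IsSolvable G) {x : G} (hx : orderOf x = p) :
    False := by
  have hx1 : x ≠ 1 := by
    rintro rfl
    rw [orderOf_one] at hx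
    exact hp.out.one_lt.ne hx
  have hnc : center G = ⊥ := by
    rcases (inferInstance : (center G).Normal).eq_bot_or_eq_top with h | h
    · exact h
    · exfalso
      apply hns
      refine Group.isSolvable_of_comm fun a b => ?_
      exact (mem_center_iff.mp (h ▸ mem_top b) a)
  set M := normalizer ((zpowers x : Subgroup G) : Set G) with hM
  have hMbot : M ≠ ⊥ := by
    intro h
    have : x ∈ M := le_normalizer (mem_zpowers x)
    rw [h, mem_bot] at this
    exact hx1 this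
  have hMtop : M ≠ ⊤ := by
    intro h
    have h1 : (zpowers x).Normal := normalizer_eq_top_iff.mp h
    rcases h1.eq_bot_or_eq_top with h2 | h2
    · exact hx1 (zpowers_eq_bot.mp h2)
    · apply hns
      haveI : IsCyclic G := isCyclic_iff_exists_zpowers_eq_top.mpr ⟨x, h2⟩
      infer_instance
  have hF : IsFrobeniusComplement M := by
    refine ⟨hMbot, hMtop, ?_⟩
    intro g hg
    rw [eq_bot_iff]
    intro c hc
    rw [mem_inf] at hc
    obtain ⟨hc1, hc2⟩ := hc
    rw [mem_pointwise_smul_iff_inv_smul_mem, ← map_inv] at hc2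
    have hc3 : g⁻¹ * c * g ∈ M := by simpa using hc2
    obtain ⟨K, hK, k, hk, hk'⟩ := exists_factor C hx g⁻¹
    rw [mem_bot]
    refine two_point_stabilizer C hnc hx hK hk ?_ hc1 ?_
    · rintro rfl
      apply hg
      rw [← inv_mem_iff, hM, mem_normalizer_zpowers, hk']
      simp
    · rw [← hk', mem_normalizer_zpowers]
      rw [hM, mem_normalizer_zpowers] at hc3
      have h1 := zpowers_conj_congr g⁻¹ hc3
      rw [← h1]
      congr 1
      group
  obtain ⟨N, -, hN, hNM⟩ := Cfsg.Agent.S0035.result M hF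
  rcases hN.eq_bot_or_eq_top with h | h
  · rw [h] at hNM
    exact hMtop (isComplement'_bot_left.mp hNM)
  · rw [h] at hNM
    exact hMbot (isComplement'_top_left.mp hNM)

end

/-- **The end of the proof**: in a nonsolvable finite simple group with solvable proper subgroups
and no pair of generators, if the Sylow `p`-subgroups are cyclic, the centralizer of an element of
order `p` is not a `p`-group. -/
theorem frobenius_contradiction {G : Type*} [Group G] [Finite G] [IsSimpleGroup G]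
    (hsol : ∀ H : Subgroup G, H ≠ ⊤ → Group.IsSolvable H)
    (hgen : ∀ x y : G, Subgroup.closure {x, y} ≠ ⊤) (p : ℕ) [Fact p.Prime]
    (hnc : ¬ Group.IsSolvable G) (hcyc : ∀ P : Sylow p G, IsCyclic P) (z : G)
    (hz : orderOf z = p) (hC : IsPGroup p (Subgroup.centralizer {z})) : False := by
  have hcyc' : ∀ P : Subgroup G, IsPGroup p P → IsCyclic P := by
    intro P hP
    obtain ⟨S, hS⟩ := hP.exists_le_sylow
    haveI := hcyc S
    exact isCyclic_of_le hS
  refine contradiction (p := p) ⟨hcyc', hsol, hgen, ?_⟩ hnc hz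
  intro x hx y hy
  obtain ⟨g, hg⟩ := exists_conj hcyc' hz hx
  -- `g y g⁻¹` centralizes `z`
  have h1 : g * y * g⁻¹ ∈ centralizer ({z} : Set G) := by
    rw [mem_centralizer_singleton_iff]
    have h2 : g⁻¹ * z * g ∈ zpowers x := by rw [← hg]; exact mem_zpowers _
    obtain ⟨i, hi⟩ := mem_zpowers_iff.mp h2
    have h3 : y * (g⁻¹ * z * g) = (g⁻¹ * z * g) * y := by
      rw [← hi]
      exact (show Commute y x from hy).zpow_right i
    calc g * y * g⁻¹ * z = g * (y * (g⁻¹ * z * g)) * g⁻¹ := by group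
      _ = g * ((g⁻¹ * z * g) * y) * g⁻¹ := by rw [h3]
      _ = _ := by group
  obtain ⟨n, hn⟩ := hC ⟨_, h1⟩
  refine ⟨n, ?_⟩
  have h2 : (g * y * g⁻¹) ^ p ^ n = 1 := by
    have := congrArg Subtype.val hn
    simpa using this
  rw [conj_pow] at h2
  have h3 : y ^ p ^ n = g⁻¹ * (g * y ^ p ^ n * g⁻¹) * g := by group
  rw [h3, h2]
  group

end Cfsg.Agent.Classification.FlavellU
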