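import Mathlib
import Cfsg.Agent.Classification.TypeZ.ZFinal
import Cfsg.Agent.Classification.TypeZIV.Main
import Cfsg.Agent.S0205

/-!
# The Gorenstein–Walter theorem

* `gw_simple`: simple groups with dihedral Sylow 2-subgroups of order at least 4;
* `gw_nGroup`: the version for groups with solvable local subgroups.
-/

set_option autoImplicit false

namespace Cfsg.Agent.Classification.GWTheorem

open Cfsg.Agent.Classification.DihReduction Cfsg.Agent.Classification.DihMinimal
open Cfsg.Agent.Classification.GWDefs

universe u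

theorem oddOrder : OddOrder.{u} := fun _ _ _ h => Cfsg.Agent.S0205.result h

/-- Simple groups with solvable local subgroups and dihedral Sylow 2-subgroups. -/
theorem locSol {G : Type u} [Group G] [Finite G] [IsSimpleGroup G] (S : Sylow 2 G) (n : ℕ)
    (hn : 2 ≤ n) (hS : Nonempty ((S : Subgroup G) ≃* DihedralGroup n)) (hs : LocSol G) :
    GWConcl G :=
  GWMain.nGroup oddOrder (TypeZ.ZFinal.fixAll fun G _ _ => TypeZIV.Main.lStar G) S n hn hS hs

/-- `N`-groups with dihedral Sylow 2-subgroups. -/
theorem nGroup {G : Type u} [Group G] [Finite G] [IsSimpleGroup G] (S : Sylow 2 G) (n : ℕ)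
    (hn : 2 ≤ n) (hS : Nonempty ((S : Subgroup G) ≃* DihedralGroup n)) (hN : Cfsg.IsNGroup G) :
    GWConcl G :=
  locSol S n hn hS (GWSolvable.Induct.locSol_of_isNGroup hN)

end Cfsg.Agent.Classification.GWTheorem
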