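import Mathlib
import Cfsg.Agent.Classification.DihTypeAMain
import Cfsg.Agent.Classification.GWAbove

/-!
# Type A in the form needed for the reduction to type Z

`G` finite simple with dihedral Sylow 2-subgroups of order at least `8` and `SubAlt G`: either the
conclusion holds, or `O(C(t)) = 1`, or all proper subgroups containing the centraliser of an
involution have a normal 2-complement.
-/

set_option autoImplicit false

namespace Cfsg.Agent.Classification.GWTypeA

open Subgroup Cfsg
open Cfsg.Agent.Classification.DihedralCentral Cfsg.Agent.Classification.TransferSign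
open Cfsg.Agent.Classification.DihReduction Cfsg.Agent.Classification.DihStructure
open Cfsg.Agent.Classification.DihMinimal Cfsg.Agent.Classification.GWDefs
open Cfsg.Agent.Classification.GWAbove
open Cfsg.Agent.Classification.TypeB.Basic

universe u

/-- `OddClosed` is inherited by subgroups. -/
theorem oddClosed_of_le {G : Type*} [Group G] {X M : Subgroup G} (hXM : X ≤ M)
    (hM : OddClosed M) : OddClosed X := by
  intro x y hx hy
  have h1 := hM (inclusion hXM x) (inclusion hXM y)
    (by rwa [orderOf_injective _ (inclusion_injective hXM)])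
    (by rwa [orderOf_injective _ (inclusion_injective hXM)])
  rwa [← map_mul, orderOf_injective _ (inclusion_injective hXM)] at h1

/-- If `π : C(t) → D` has trivial kernel, with `D` a 2-group, then `O(C(t)) = 1`. -/
theorem oddCore_eq_bot {C : Type*} [Group C] [Finite C] {D : Type*} [Group D] (π : C →* D)
    (hD : IsPGroup 2 D) (hker : Nat.card π.ker = 1) : Cfsg.oddCore C = ⊥ := by
  have hbot : π.ker = ⊥ := eq_bot_of_card_eq _ hker
  rw [eq_bot_iff]
  intro x hx
  have h1 : Odd (orderOf x) := by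
    have h2 : orderOf (⟨x, hx⟩ : Cfsg.oddCore C) ∣ Nat.card (Cfsg.oddCore C) :=
      orderOf_dvd_natCard _
    rw [← Subgroup.orderOf_coe] at h2
    exact Odd.of_dvd_nat (odd_card_oddCore C) h2
  rw [← hbot, MonoidHom.mem_ker]
  obtain ⟨k, hk⟩ := hD (π x)
  have h3 : orderOf (π x) ∣ 2 ^ k := orderOf_dvd_of_pow_eq_one hk
  have h4 : orderOf (π x) ∣ orderOf x := orderOf_map_dvd π x
  obtain ⟨c, -, hc⟩ := (Nat.dvd_prime_pow Nat.prime_two).1 h3
  rw [hc] at h4
  have hc0 : c = 0 := by
    by_contra hc0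
    exact (Nat.not_odd_iff_even.2 (Nat.even_pow.2 ⟨even_two, hc0⟩)) (Odd.of_dvd_nat h1 h4)
  rw [hc0, pow_zero, orderOf_eq_one_iff] at hc
  exact hc

/-- **The result on type A**, as needed in `GWAbove.gw_or_zhyp`. -/
theorem hE {G : Type u} [Group G] [Finite G] [IsSimpleGroup G] (hFT : OddOrder.{u})
    (S : Sylow 2 G) (n : ℕ) (hS : Nonempty ((S : Subgroup G) ≃* DihedralGroup n))
    (hA : SubAlt G) (hn : 4 ≤ n) :
    GWConcl G ∨ (∃ t : G, IsInv t ∧ TypeZ.Bender.Kc t = ⊥) ∨ Above G := by
  by_cases hG : GWConcl G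
  · exact Or.inl hG
  by_cases ht : ∃ t : G, IsInv t ∧ TypeZ.Bender.Kc t = ⊥
  · exact Or.inr (Or.inl ht)
  refine Or.inr (Or.inr ?_)
  intro w hw X hX hwX
  obtain hXt | ⟨M, hM, hXM⟩ := eq_top_or_exists_le_coatom X
  · exact absurd hXt hX
  refine oddClosed_of_le hXM ?_
  let _ : Fintype G := Fintype.ofFinite G
  obtain ⟨m, hm, rfl⟩ := exists_pow S n (by omega) hS
  have hnz : NeZero (2 ^ m) := ⟨by positivity⟩
  obtain ⟨π, h⟩ := BGStructure.exists_hyp S m hm hS
    (isConj_of_simple S (2 ^ m) (by omega) hS) w hw.orderOf_eq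
  rcases DihTypeAMain.main hFT hA hn h S hS M hM (hwX.trans hXM) with h1 | h1 | h1
  · exfalso
    refine ht ⟨w, hw, ?_⟩
    have h2 : Cfsg.oddCore (centralizer ({w} : Set G)) = ⊥ := by
      refine oddCore_eq_bot π ?_ h1
      rw [IsPGroup.iff_card]
      exact ⟨m + 1, by rw [DihedralGroup.nat_card]; ring⟩
    rw [TypeZ.Bender.kc_def, TypeZ.Comp.oc_eq_map, h2, Subgroup.map_bot]
  · exact absurd h1 hG
  · exact oddClosed_of_quotient h1

/-- The reduction to type Z. -/
theorem gw_or_zhyp {G : Type u} [Group G] [Finite G] [IsSimpleGroup G] (hFT : OddOrder.{u})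
    (S : Sylow 2 G) (n : ℕ) (hn : 2 ≤ n) (hS : Nonempty ((S : Subgroup G) ≃* DihedralGroup n))
    (hA : SubAlt G) (hsig : SigHyp G) :
    GWConcl G ∨ ∃ t : G, t ∈ (S : Subgroup G) ∧ (∀ s ∈ (S : Subgroup G), s * t = t * s) ∧
      TypeZ.Bender.ZHyp G t :=
  GWAbove.gw_or_zhyp hFT S n hn hS hA hsig (hE hFT S n hS hA)

end Cfsg.Agent.Classification.GWTypeA
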