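import Mathlib
import Cfsg.Agent.Lib.ThompsonPQ
import Cfsg.Agent.SignalizersComponents.CoprimeBasic

/-!
# Transvection-like elements in groups of odd order

Let `H` be a finite group of odd order, `T` a normal `p`-subgroup with `C_H(T) ≤ T` and `z` a `p`-element of `H`
centralizing a subgroup of index at most `p` in `T`. Then `z` centralizes every `p'`-subgroup `Q` of `H` that it
normalizes. (A substitute for `p`-stability with an elementary counting proof: otherwise `⟨z, z^x⟩` would permute
`p + 1` objects transitively.)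
-/

set_option autoImplicit false

namespace Cfsg.Agent.Classification.TransvectionOdd

open Subgroup

/-- A `p`-group acting on a set with `p` elements and having a fixed point acts trivially. -/
theorem mem_fixedPoints_of_card_eq {P α : Type*} [Group P] [MulAction P α] {p : ℕ} [hp : Fact p.Prime]
    (hP : IsPGroup p P) [Finite α] (hα : Nat.card α = p) (a : α)
    (ha : a ∈ MulAction.fixedPoints P α) (b : α) : b ∈ MulAction.fixedPoints P α := by
  have h1 := hP.card_modEq_card_fixedPoints α
  rw [hα] at h1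
  have h2 : p ∣ Nat.card (MulAction.fixedPoints P α) := by
    have h3 : 0 ≡ Nat.card (MulAction.fixedPoints P α) [MOD p] :=
      (Nat.modEq_zero_iff_dvd.2 dvd_rfl).symm.trans h1
    exact Nat.modEq_zero_iff_dvd.1 h3.symm
  have h3 : 0 < Nat.card (MulAction.fixedPoints P α) := by
    have : Nonempty (MulAction.fixedPoints P α) := ⟨⟨a, ha⟩⟩
    exact Nat.card_pos
  have h4 : p ≤ Nat.card (MulAction.fixedPoints P α) := Nat.le_of_dvd h3 h2
  have h5 : MulAction.fixedPoints P α = Set.univ := by
    apply Set.eq_of_subset_of_ncard_le (Set.subset_univ _) _ (Set.toFinite _)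
    rw [Set.ncard_univ, hα]
    exact h4
  rw [h5]
  trivial

/-- A `p`-element normalising `S ≤ T`, `|T : S| = p`, acts trivially on the cosets of `S` in `T`. -/
theorem coset_fix {G : Type*} [Group G] [Finite G] {p : ℕ} [hp : Fact p.Prime] {S T : Subgroup G}
    (hidx : S.relIndex T = p) {c : G} (hc : IsPGroup p (zpowers c))
    (hcS : c ∈ normalizer (S : Set G)) (hcT : c ∈ normalizer (T : Set G)) :
    ∀ t ∈ T, t⁻¹ * (c * t * c⁻¹) ∈ S := by
  have hPS : zpowers c ≤ normalizer (S : Set G) := zpowers_le.2 hcS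
  have hPT : zpowers c ≤ normalizer (T : Set G) := zpowers_le.2 hcT
  let S' : Subgroup T := S.subgroupOf T
  let m : zpowers c → T → T := fun b t =>
    ⟨b * t * (b : G)⁻¹, (mem_normalizer_iff.1 (hPT b.2) t).1 t.2⟩
  have hm : ∀ (b : zpowers c) (t u : T), QuotientGroup.leftRel S' t u → QuotientGroup.leftRel S' (m b t) (m b u) := by
    intro b t u h
    rw [QuotientGroup.leftRel_apply] at h ⊢
    rw [mem_subgroupOf] at h ⊢
    have h2 := (mem_normalizer_iff.1 (hPS b.2) _).1 h
    convert h2 using 1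
    simp only [m, Subgroup.coe_mul, Subgroup.coe_inv]
    group
  let act : MulAction (zpowers c) (T ⧸ S') :=
    { smul := fun b => Quotient.map' (m b) (hm b)
      one_smul := by
        intro x
        induction x using QuotientGroup.induction_on with
        | H t =>
          show Quotient.map' (m 1) (hm 1) (QuotientGroup.mk t) = QuotientGroup.mk t
          have : m 1 t = t := by
            apply Subtype.ext
            simp [m]
          show (QuotientGroup.mk (m 1 t) : T ⧸ S') = QuotientGroup.mk t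
          rw [this]
      mul_smul := by
        intro a b x
        induction x using QuotientGroup.induction_on with
        | H t =>
          show (QuotientGroup.mk (m (a * b) t) : T ⧸ S') = QuotientGroup.mk (m a (m b t))
          have : m (a * b) t = m a (m b t) := by
            apply Subtype.ext
            simp only [m, Subgroup.coe_mul]
            group
          rw [this] }
  have hsm : ∀ (b : zpowers c) (t : T), b • (QuotientGroup.mk t : T ⧸ S') = QuotientGroup.mk (m b t) :=
    fun b t => rfl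
  have hcard : Nat.card (T ⧸ S') = p := hidx
  have hfix : (QuotientGroup.mk (1 : T) : T ⧸ S') ∈ MulAction.fixedPoints (zpowers c) (T ⧸ S') := by
    intro b
    rw [hsm]
    have : m b 1 = 1 := by
      apply Subtype.ext
      simp [m]
    rw [this]
  intro t ht
  have h := mem_fixedPoints_of_card_eq hc hcard _ hfix (QuotientGroup.mk (⟨t, ht⟩ : T))
    ⟨c, mem_zpowers c⟩
  rw [hsm, eq_comm, QuotientGroup.eq] at h
  exact h

/-- Two `p`-elements centralising the same hyperplane `S` of `T` whose quotient is a `p'`-element agree on `T`. -/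
theorem commute_of_same {G : Type*} [Group G] [Finite G] {p : ℕ} [hp : Fact p.Prime] {S T : Subgroup G}
    (hT : IsPGroup p T) (hidx : S.relIndex T = p) {c c' : G}
    (hc : IsPGroup p (zpowers c)) (hc' : IsPGroup p (zpowers c'))
    (hcS : S ≤ centralizer ({c} : Set G)) (hcS' : S ≤ centralizer ({c'} : Set G))
    (hcT : c ∈ normalizer (T : Set G)) (hcT' : c' ∈ normalizer (T : Set G))
    (hy : (orderOf (c' * c⁻¹)).Coprime p) : ∀ t ∈ T, Commute t (c' * c⁻¹) := by
  have e1 : ∀ s ∈ S, c * s = s * c := fun s hs => (mem_centralizer_singleton_iff.1 (hcS hs)).symm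
  have e2 : ∀ s ∈ S, c' * s = s * c' := fun s hs => (mem_centralizer_singleton_iff.1 (hcS' hs)).symm
  have n1 : c ∈ normalizer (S : Set G) := by
    have : c ∈ centralizer (S : Set G) := mem_centralizer_iff.2 fun s hs => (e1 s hs).symm
    exact centralizer_le_normalizer _ this
  have n2 : c' ∈ normalizer (S : Set G) := by
    have : c' ∈ centralizer (S : Set G) := mem_centralizer_iff.2 fun s hs => (e2 s hs).symm
    exact centralizer_le_normalizer _ this
  have f1 := coset_fix hidx hc n1 hcT
  have f2 := coset_fix hidx hc' n2 hcT'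
  set y : G := c' * c⁻¹ with hydef
  have hyT : y ∈ normalizer (T : Set G) := mul_mem hcT' (inv_mem hcT)
  have hyc : ∀ s ∈ S, Commute s y := by
    intro s hs
    have h1 : Commute s c := (e1 s hs).symm
    have h2 : Commute s c' := (e2 s hs).symm
    exact h2.mul_right h1.inv_right
  have hyS : ∀ t ∈ T, t⁻¹ * (y * t * y⁻¹) ∈ S := by
    intro t ht
    have ht1 : c⁻¹ * t * c ∈ T := by
      have := (mem_normalizer_iff.1 (inv_mem hcT) t).1 ht
      simpa using this
    have h1 := f1 _ ht1
    have h2 := S.inv_mem h1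
    have h3 : t⁻¹ * (y * t * y⁻¹) = (t⁻¹ * (c' * t * c'⁻¹)) *
        (c' * ((c⁻¹ * t * c)⁻¹ * (c * (c⁻¹ * t * c) * c⁻¹))⁻¹ * c'⁻¹) := by
      rw [hydef]; group
    rw [h3, e2 _ h2, mul_inv_cancel_right]
    exact S.mul_mem (f2 t ht) h2
  refine Cfsg.Agent.Lib.ThompsonPQ.commute_of_commutator_commute ?_ hyT ?_
  · obtain ⟨n, hn⟩ := hT.exists_card_eq
    rw [hn]
    exact Nat.Coprime.pow_right n hy
  · intro u hu
    apply hyc
    have hu1 : y⁻¹ * u⁻¹ * y ∈ T := by
      have := (mem_normalizer_iff.1 (inv_mem hyT) u⁻¹).1 (T.inv_mem hu)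
      simpa using this
    have h := hyS _ hu1
    convert h using 1
    group

/-- A proper subgroup of a finite `p`-group has index at least `p`. -/
theorem mul_card_le_of_lt {G : Type*} [Group G] [Finite G] {p : ℕ} [hp : Fact p.Prime] {A B : Subgroup G}
    (hB : IsPGroup p B) (h : A < B) : p * Nat.card A ≤ Nat.card B := by
  obtain ⟨b, hb⟩ := hB.exists_card_eq
  obtain ⟨a, ha⟩ := (hB.to_le h.le).exists_card_eq
  have h1 : Nat.card A < Nat.card B := by
    have : (A : Set G) ⊂ (B : Set G) := SetLike.coe_ssubset_coe.2 h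
    exact Set.ncard_lt_ncard this (Set.toFinite _)
  rw [ha, hb] at h1 ⊢
  have h2 : a < b := (Nat.pow_lt_pow_iff_right hp.out.one_lt).1 h1
  rw [← pow_succ']
  exact Nat.pow_le_pow_right hp.out.pos h2

theorem orderOf_dvd_card_of_mem {G : Type*} [Group G] {K : Subgroup G} {x : G} (hx : x ∈ K) :
    orderOf x ∣ Nat.card K := by
  have h := orderOf_dvd_natCard (⟨x, hx⟩ : K)
  rwa [Subgroup.orderOf_mk] at h

theorem isPGroup_zpowers_of_pow {G : Type*} [Group G] {p : ℕ} [hp : Fact p.Prime] {c : G} {k : ℕ}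
    (h : c ^ p ^ k = 1) : IsPGroup p (zpowers c) := by
  obtain ⟨l, _, hl⟩ := (Nat.dvd_prime_pow hp.out).1 (orderOf_dvd_of_pow_eq_one h)
  exact IsPGroup.of_card (n := l) (by rw [Nat.card_zpowers, hl])

/-- The disjoint hyperplanes count: subgroups `S i` of order `m = p n` in `T`, `|T| = p ^ 2 n`, any two of them
meeting in the subgroup `N` of order `n`, are at most `p + 1` in number. -/
theorem card_le_of_pairwise {G : Type*} [Group G] [Finite G] {p : ℕ} (hp : 1 < p) {T N : Subgroup G}
    (C : Set G) (S : G → Subgroup G) (hS : ∀ c ∈ C, S c ≤ T) (hN : ∀ c ∈ C, N ≤ S c)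
    (hNT : N ≤ T)
    (hcard : ∀ c ∈ C, Nat.card (S c) = p * Nat.card N) (hT : Nat.card T = p * (p * Nat.card N))
    (hd : ∀ c ∈ C, ∀ c' ∈ C, c ≠ c' → S c ⊓ S c' ≤ N) : Nat.card C ≤ p + 1 := by
  classical
  have := Fintype.ofFinite G
  let A : G → Finset G := fun c => Finset.univ.filter (fun h => h ∈ S c ∧ h ∉ N)
  let B : Finset G := Finset.univ.filter (fun h => h ∈ T ∧ h ∉ N)
  have key : ∀ U : Subgroup G, N ≤ U →
      (Finset.univ.filter (fun h => h ∈ U ∧ h ∉ N)).card = Nat.card U - Nat.card N := by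
    intro U hU
    have h1 : ((Finset.univ.filter (fun h => h ∈ U ∧ h ∉ N) : Finset G) : Set G) = (U : Set G) \ (N : Set G) := by
      ext h; simp
    rw [← Set.ncard_coe_finset, h1, Set.ncard_sdiff (SetLike.coe_subset_coe.2 hU) (Set.toFinite _)]
    rfl
  have hdisj : (C.toFinset : Set G).PairwiseDisjoint A := by
    intro c hc c' hc' hne
    rw [Function.onFun, Finset.disjoint_left]
    intro h h1 h2
    simp only [A, Finset.mem_filter, Finset.mem_univ, true_and] at h1 h2
    exact h1.2 (hd c (by simpa using hc) c' (by simpa using hc') hne ⟨h1.1, h2.1⟩)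
  have h1 := Finset.card_biUnion hdisj
  have h2 : ∀ c ∈ C.toFinset, (A c).card = p * Nat.card N - Nat.card N := by
    intro c hc
    have hc' : c ∈ C := by simpa using hc
    rw [← hcard c hc']
    exact key (S c) (hN c hc')
  rw [Finset.sum_congr rfl h2, Finset.sum_const, smul_eq_mul] at h1
  have h3 : C.toFinset.biUnion A ⊆ B := by
    intro h hh
    rw [Finset.mem_biUnion] at hh
    obtain ⟨c, hc, hhc⟩ := hh
    simp only [A, B, Finset.mem_filter, Finset.mem_univ, true_and] at hhc ⊢
    exact ⟨hS c (by simpa using hc) hhc.1, hhc.2⟩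
  have h4 := Finset.card_le_card h3
  have h5 : B.card = Nat.card T - Nat.card N := key T hNT
  rw [h1, h5, hT] at h4
  have h6 : C.toFinset.card = Nat.card C := by
    rw [Set.toFinset_card, Nat.card_eq_fintype_card]
  rw [h6] at h4
  obtain ⟨r, rfl⟩ : ∃ r, p = r + 1 := ⟨p - 1, by omega⟩
  have hn : 0 < Nat.card N := Nat.card_pos
  have hr : 0 < r := by omega
  have h7 : (r + 1) * Nat.card N - Nat.card N = r * Nat.card N := by
    rw [add_mul, one_mul, Nat.add_sub_cancel]
  have h8 : (r + 1) * ((r + 1) * Nat.card N) - Nat.card N = (r + 2) * (r * Nat.card N) := by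
    have : (r + 1) * ((r + 1) * Nat.card N) = (r + 2) * (r * Nat.card N) + Nat.card N := by ring
    rw [this, Nat.add_sub_cancel]
  rw [h7, h8] at h4
  exact Nat.le_of_mul_le_mul_right h4 (Nat.mul_pos hr hn)

/-- **Transvection-like elements in groups of odd order.** -/
theorem commute_of_index_le {H : Type*} [Group H] [Finite H] (hodd : Odd (Nat.card H)) {p : ℕ}
    [hp : Fact p.Prime] {T Q : Subgroup H} (hTn : T.Normal) (hT : IsPGroup p T)
    (hCT : centralizer (T : Set H) ≤ T) {z : H} (hz : IsPGroup p (zpowers z))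
    (hidx : Nat.card T ≤ p * Nat.card ↥(T ⊓ centralizer ({z} : Set H)))
    (hQ : (Nat.card Q).Coprime p) (hzQ : z ∈ normalizer (Q : Set H)) : ∀ x ∈ Q, Commute x z := by
  intro x hx
  by_contra hne
  have hTQ : ∀ y, y ∈ T → y ∈ Q → y = 1 := by
    intro y h1 h2
    have hd : Disjoint Q T := by
      apply Subgroup.disjoint_of_coprime_natCard
      obtain ⟨n, hn⟩ := hT.exists_card_eq
      rw [hn]
      exact Nat.Coprime.pow_right n hQ
    exact Subgroup.disjoint_def.1 hd h2 h1
  have hzconj : ∀ u ∈ Q, u * z * u⁻¹ * z⁻¹ ∈ Q := by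
    intro u hu
    have h1 : z * u⁻¹ * z⁻¹ ∈ Q := (mem_normalizer_iff.1 hzQ u⁻¹).1 (Q.inv_mem hu)
    have h2 : u * z * u⁻¹ * z⁻¹ = u * (z * u⁻¹ * z⁻¹) := by group
    rw [h2]; exact Q.mul_mem hu h1
  have hzT : z ∉ T := by
    intro h
    apply hne
    have h1 : x * z * x⁻¹ * z⁻¹ ∈ T := T.mul_mem (hTn.conj_mem z h x) (T.inv_mem h)
    have h2 := hTQ _ h1 (hzconj x hx)
    rw [mul_inv_eq_one, mul_inv_eq_iff_eq_mul] at h2
    exact h2
  obtain ⟨k, hk⟩ := hz ⟨z, mem_zpowers z⟩
  have hk : z ^ p ^ k = 1 := by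
    have := congrArg Subtype.val hk
    simpa using this
  have hp2 : p ≠ 2 := by
    rintro rfl
    apply hne
    have h1 : z = 1 := by
      have h2 : orderOf z ∣ 2 ^ k := orderOf_dvd_of_pow_eq_one hk
      have h3 : orderOf z ∣ Nat.card H := orderOf_dvd_natCard z
      have h4 : Nat.Coprime (2 ^ k) (Nat.card H) := Nat.Coprime.pow_left k (Nat.coprime_two_left.2 hodd)
      have h5 := Nat.eq_one_of_dvd_coprimes h4 h2 h3
      exact orderOf_eq_one_iff.1 h5
    rw [h1]; exact Commute.one_right x
  -- properties of the `Q`-conjugates of `z`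
  have good_pow : ∀ u ∈ Q, (u * z * u⁻¹) ^ p ^ k = 1 := by
    intro u _
    rw [conj_pow, hk]; simp
  have good_p : ∀ u ∈ Q, IsPGroup p (zpowers (u * z * u⁻¹)) := fun u hu =>
    isPGroup_zpowers_of_pow (good_pow u hu)
  have good_card : ∀ u ∈ Q, p * Nat.card ↥(T ⊓ centralizer ({u * z * u⁻¹} : Set H)) = Nat.card T := by
    intro u hu
    have h1 : T ⊓ centralizer ({u * z * u⁻¹} : Set H) =
        (T ⊓ centralizer ({z} : Set H)).map (MulAut.conj u).toMonoidHom := by
      ext y
      simp only [mem_inf, mem_centralizer_singleton_iff, mem_map, MulEquiv.coe_toMonoidHom, MulAut.conj_apply]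
      constructor
      · rintro ⟨h2, h3⟩
        refine ⟨u⁻¹ * y * u, ⟨?_, ?_⟩, by group⟩
        · have := hTn.conj_mem y h2 u⁻¹
          simpa using this
        · have h4 : u⁻¹ * y * u * z = u⁻¹ * (y * (u * z * u⁻¹)) * u := by group
          rw [h4, h3]; group
      · rintro ⟨w, ⟨h2, h3⟩, rfl⟩
        refine ⟨hTn.conj_mem w h2 u, ?_⟩
        have h4 : u * w * u⁻¹ * (u * z * u⁻¹) = u * (w * z) * u⁻¹ := by group
        rw [h4, h3]; group
    have h2 : Nat.card ↥(T ⊓ centralizer ({u * z * u⁻¹} : Set H)) =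
        Nat.card ↥(T ⊓ centralizer ({z} : Set H)) := by
      rw [h1]
      exact Subgroup.card_map_of_injective (MulAut.conj u).injective
    refine le_antisymm ?_ (by rw [h2]; exact hidx)
    refine mul_card_le_of_lt hT (lt_of_le_of_ne inf_le_left fun h => hzT ?_)
    have h3 : u * z * u⁻¹ ∈ T := by
      apply hCT
      rw [mem_centralizer_iff]
      intro t ht
      have h4 : t ∈ T ⊓ centralizer ({u * z * u⁻¹} : Set H) := by rw [h]; exact ht
      exact mem_centralizer_singleton_iff.1 h4.2
    have h5 := hTn.conj_mem _ h3 u⁻¹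
    have h6 : u⁻¹ * (u * z * u⁻¹) * u⁻¹⁻¹ = z := by group
    rwa [h6] at h5
  have good_idx : ∀ u ∈ Q, (T ⊓ centralizer ({u * z * u⁻¹} : Set H)).relIndex T = p := by
    intro u hu
    have h1 := good_card u hu
    have h2 : Nat.card ↥(T ⊓ centralizer ({u * z * u⁻¹} : Set H)) *
        (T ⊓ centralizer ({u * z * u⁻¹} : Set H)).relIndex T = Nat.card T := by
      rw [← Subgroup.card_mul_index ((T ⊓ centralizer ({u * z * u⁻¹} : Set H)).subgroupOf T)]
      congr 1
      exact (Nat.card_congr (subgroupOfEquivOfLe inf_le_left).toEquiv).symm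
    rw [← h1, mul_comm p] at h2
    exact Nat.eq_of_mul_eq_mul_left Nat.card_pos h2
  have good_inj : ∀ u ∈ Q, ∀ v ∈ Q, T ⊓ centralizer ({u * z * u⁻¹} : Set H) =
      T ⊓ centralizer ({v * z * v⁻¹} : Set H) → u * z * u⁻¹ = v * z * v⁻¹ := by
    intro u hu v hv h
    have hyQ : v * z * v⁻¹ * (u * z * u⁻¹)⁻¹ ∈ Q := by
      have h1 : v * z * v⁻¹ * (u * z * u⁻¹)⁻¹ = (v * z * v⁻¹ * z⁻¹) * (u * z * u⁻¹ * z⁻¹)⁻¹ := by group
      rw [h1]
      exact Q.mul_mem (hzconj v hv) (Q.inv_mem (hzconj u hu))
    have hy : (orderOf (v * z * v⁻¹ * (u * z * u⁻¹)⁻¹)).Coprime p :=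
      Nat.Coprime.coprime_dvd_left (orderOf_dvd_card_of_mem hyQ) hQ
    have hnT : ∀ g : H, g ∈ normalizer (T : Set H) := fun g => by
      rw [Subgroup.normalizer_eq_top]; trivial
    have h1 := commute_of_same hT (good_idx u hu) (good_p u hu) (good_p v hv) inf_le_right
      (by rw [h]; exact inf_le_right) (hnT _) (hnT _) hy
    have h2 : v * z * v⁻¹ * (u * z * u⁻¹)⁻¹ ∈ T := by
      apply hCT
      rw [mem_centralizer_iff]
      exact fun t ht => h1 t ht
    have h3 := hTQ _ h2 hyQ
    rw [mul_inv_eq_one] at h3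
    exact h3.symm
  have good_comm : ∀ u ∈ Q, Commute (u * z * u⁻¹) z → u * z * u⁻¹ = z := by
    intro u hu hc
    have h1 : (u * z * u⁻¹ * z⁻¹) ^ p ^ k = 1 := by
      rw [hc.inv_right.mul_pow, good_pow u hu, inv_pow, hk]; simp
    have h2 : orderOf (u * z * u⁻¹ * z⁻¹) ∣ p ^ k := orderOf_dvd_of_pow_eq_one h1
    have h3 : orderOf (u * z * u⁻¹ * z⁻¹) ∣ Nat.card Q := orderOf_dvd_card_of_mem (hzconj u hu)
    have h4 := Nat.eq_one_of_dvd_coprimes (Nat.Coprime.pow_right k hQ) h3 h2
    rw [orderOf_eq_one_iff, mul_inv_eq_one] at h4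
    exact h4
  have hzz' : x * z * x⁻¹ ≠ z := by
    intro h
    apply hne
    rw [mul_inv_eq_iff_eq_mul] at h
    exact h
  -- the group generated by `z` and its conjugate
  set z' : H := x * z * x⁻¹ with hz'
  set J : Subgroup H := closure {z, z'} with hJdef
  have hzJ : z ∈ J := subset_closure (by simp)
  have hz'J : z' ∈ J := subset_closure (by simp)
  have hPQ : zpowers z ≤ normalizer (Q : Set H) := zpowers_le.2 hzQ
  have hJ : ∀ j ∈ J, ∃ u ∈ Q, ∃ w ∈ zpowers z, u * w = j := by
    intro j hj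
    rw [← Cfsg.Agent.SignalizersComponents.CoprimeBasic.mem_sup_iff hPQ]
    have hle : J ≤ Q ⊔ zpowers z := by
      rw [hJdef, closure_le]
      have h1 : z ∈ Q ⊔ zpowers z := (le_sup_right : zpowers z ≤ Q ⊔ zpowers z) (mem_zpowers z)
      have h2 : x ∈ Q ⊔ zpowers z := (le_sup_left : Q ≤ Q ⊔ zpowers z) hx
      rintro y (rfl | rfl)
      · exact h1
      · exact mul_mem (mul_mem h2 h1) (inv_mem h2)
    exact hle hj
  have hconj : ∀ j ∈ J, ∃ u ∈ Q, j * z * j⁻¹ = u * z * u⁻¹ := by
    intro j hj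
    obtain ⟨u, hu, w, hw, rfl⟩ := hJ j hj
    refine ⟨u, hu, ?_⟩
    obtain ⟨i, rfl⟩ := mem_zpowers_iff.1 hw
    have h1 : z ^ i * z = z * z ^ i := ((Commute.refl z).zpow_left i)
    have h2 : u * z ^ i * z * (u * z ^ i)⁻¹ = u * (z ^ i * z) * (z ^ i)⁻¹ * u⁻¹ := by group
    rw [h2, h1]; group
  let C : Set H := {c | ∃ j ∈ J, j * z * j⁻¹ = c}
  have hCgood : ∀ c ∈ C, ∃ u ∈ Q, c = u * z * u⁻¹ := by
    rintro c ⟨j, hj, rfl⟩
    exact hconj j hj
  have hCJ : ∀ c ∈ C, c ∈ J := by
    rintro c ⟨j, hj, rfl⟩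
    exact J.mul_mem (J.mul_mem hj hzJ) (J.inv_mem hj)
  have hzC : z ∈ C := ⟨1, J.one_mem, by simp⟩
  have hone : ∀ w : H, 1 * w * (1 : H)⁻¹ = w := fun w => by simp
  have gz : p * Nat.card ↥(T ⊓ centralizer ({z} : Set H)) = Nat.card T := by
    have := good_card 1 Q.one_mem
    rwa [hone] at this
  have gzi : (T ⊓ centralizer ({z} : Set H)).relIndex T = p := by
    have := good_idx 1 Q.one_mem
    rwa [hone] at this
  set N : Subgroup H := (T ⊓ centralizer ({z} : Set H)) ⊓ (T ⊓ centralizer ({z'} : Set H)) with hN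
  have hNT : N ≤ T := inf_le_left.trans inf_le_left
  have hNJ : ∀ c ∈ J, N ≤ T ⊓ centralizer ({c} : Set H) := by
    intro c hc
    refine le_inf hNT ?_
    have hle : J ≤ centralizer (N : Set H) := by
      rw [hJdef, closure_le]
      rintro y (rfl | rfl)
      · exact mem_centralizer_iff.2 fun t ht => mem_centralizer_singleton_iff.1 ht.1.2
      · exact mem_centralizer_iff.2 fun t ht => mem_centralizer_singleton_iff.1 ht.2.2
    intro t ht
    rw [mem_centralizer_singleton_iff]
    exact mem_centralizer_iff.1 (hle hc) t ht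
  have hNlt : N < T ⊓ centralizer ({z} : Set H) := by
    refine lt_of_le_of_ne inf_le_left fun h => hzz' ?_
    have h1 : T ⊓ centralizer ({z} : Set H) ≤ T ⊓ centralizer ({z'} : Set H) := inf_eq_left.1 h
    have h2 : T ⊓ centralizer ({z} : Set H) = T ⊓ centralizer ({z'} : Set H) := by
      apply Subgroup.eq_of_le_of_card_ge h1
      apply Nat.le_of_mul_le_mul_left _ hp.out.pos
      rw [gz, good_card x hx]
    have h3 := good_inj x hx 1 Q.one_mem (by rw [hone]; exact h2.symm)
    rwa [hone] at h3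
  have hTcard : Nat.card T = p * (p * Nat.card N) := by
    apply le_antisymm
    · have h3 : N.relIndex T ≤ p * p := by
        have := Subgroup.relIndex_inf_le (H := T ⊓ centralizer ({z} : Set H))
          (K := T ⊓ centralizer ({z'} : Set H)) (L := T)
        rwa [gzi, good_idx x hx] at this
      have h4 : Nat.card N * N.relIndex T = Nat.card T := by
        rw [← Subgroup.card_mul_index (N.subgroupOf T)]
        congr 1
        exact (Nat.card_congr (subgroupOfEquivOfLe hNT).toEquiv).symm
      rw [← h4]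
      calc Nat.card N * N.relIndex T ≤ Nat.card N * (p * p) := Nat.mul_le_mul_left _ h3
        _ = p * (p * Nat.card N) := by ring
    · rw [← gz]
      exact Nat.mul_le_mul_left _ (mul_card_le_of_lt (hT.to_le inf_le_left) hNlt)
  have hcardC : ∀ c ∈ C, Nat.card ↥(T ⊓ centralizer ({c} : Set H)) = p * Nat.card N := by
    intro c hc
    obtain ⟨u, hu, rfl⟩ := hCgood c hc
    apply Nat.eq_of_mul_eq_mul_left hp.out.pos
    rw [good_card u hu, hTcard]
  have hcount : Nat.card C ≤ p + 1 := by
    refine card_le_of_pairwise hp.out.one_lt (T := T) (N := N) C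
      (fun c => T ⊓ centralizer ({c} : Set H)) (fun c _ => inf_le_left) (fun c hc => hNJ c (hCJ c hc)) hNT
      hcardC hTcard ?_
    intro c hc c' hc' hcc
    have h1 : (T ⊓ centralizer ({c} : Set H)) ⊓ (T ⊓ centralizer ({c'} : Set H)) <
        T ⊓ centralizer ({c} : Set H) := by
      refine lt_of_le_of_ne inf_le_left fun h => hcc ?_
      have h2 : T ⊓ centralizer ({c} : Set H) = T ⊓ centralizer ({c'} : Set H) := by
        apply Subgroup.eq_of_le_of_card_ge (inf_eq_left.1 h)
        rw [hcardC c hc, hcardC c' hc']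
      obtain ⟨u, hu, rfl⟩ := hCgood c hc
      obtain ⟨v, hv, rfl⟩ := hCgood c' hc'
      exact good_inj u hu v hv h2
    have h3 := mul_card_le_of_lt (hT.to_le inf_le_left) h1
    rw [hcardC c hc] at h3
    have h4 := Nat.le_of_mul_le_mul_left h3 hp.out.pos
    exact (Subgroup.eq_of_le_of_card_ge (le_inf (hNJ c (hCJ c hc)) (hNJ c' (hCJ c' hc'))) h4).ge
  -- the action of `J` on `C`
  let act : MulAction J C :=
    { smul := fun j c => ⟨j * c.1 * (j : H)⁻¹, by
        obtain ⟨i, hi, hc⟩ := c.2
        refine ⟨j * i, J.mul_mem j.2 hi, ?_⟩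
        rw [← hc]; group⟩
      one_smul := by
        intro c
        apply Subtype.ext
        show (1 : H) * c.1 * (1 : H)⁻¹ = c.1
        simp
      mul_smul := by
        intro i j c
        apply Subtype.ext
        show ((i : H) * j) * c.1 * ((i : H) * j)⁻¹ = i * (j * c.1 * (j : H)⁻¹) * (i : H)⁻¹
        group }
  have hact : ∀ (j : J) (c : C), ((j • c : C) : H) = j * c.1 * (j : H)⁻¹ := fun j c => rfl
  have htrans : MulAction.IsPretransitive J C := by
    refine ⟨fun c d => ?_⟩
    obtain ⟨i, hi, hc⟩ := c.2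
    obtain ⟨j, hj, hd⟩ := d.2
    refine ⟨⟨j * i⁻¹, J.mul_mem hj (J.inv_mem hi)⟩, Subtype.ext ?_⟩
    rw [hact, ← hc, ← hd]
    show j * i⁻¹ * (i * z * i⁻¹) * (j * i⁻¹)⁻¹ = j * z * j⁻¹
    group
  have hCodd : Odd (Nat.card C) := by
    have h1 : (MulAction.stabilizer J (⟨z, hzC⟩ : C)).index = Nat.card C :=
      MulAction.index_stabilizer_of_transitive J _
    have h2 : Nat.card C ∣ Nat.card H := by
      rw [← h1]
      exact (Subgroup.index_dvd_card _).trans (Subgroup.card_subgroup_dvd_card J)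
    exact Odd.of_dvd_nat hodd h2
  have hCmod : 1 ≡ Nat.card C [MOD p] := by
    have hzJ' : zpowers z ≤ J := zpowers_le.2 hzJ
    let act2 : MulAction (zpowers z) C := MulAction.compHom C (Subgroup.inclusion hzJ')
    have hact2 : ∀ (b : zpowers z) (c : C), ((b • c : C) : H) = b * c.1 * (b : H)⁻¹ := fun b c => rfl
    have h1 := hz.card_modEq_card_fixedPoints C
    have h2 : MulAction.fixedPoints (zpowers z) C = {⟨z, hzC⟩} := by
      ext c
      rw [Set.mem_singleton_iff]
      constructor
      · intro hc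
        have h3 := congrArg Subtype.val (hc ⟨z, mem_zpowers z⟩)
        rw [hact2] at h3
        apply Subtype.ext
        obtain ⟨u, hu, hcu⟩ := hCgood c.1 c.2
        have h4 : Commute (u * z * u⁻¹) z := by
          rw [← hcu]
          rw [mul_inv_eq_iff_eq_mul] at h3
          exact h3.symm
        have h5 := good_comm u hu h4
        rw [hcu, h5]
      · rintro rfl b
        apply Subtype.ext
        rw [hact2]
        obtain ⟨i, hi⟩ := mem_zpowers_iff.1 b.2
        rw [← hi]
        have : Commute (z ^ i) z := (Commute.refl z).zpow_left i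
        show z ^ i * z * (z ^ i)⁻¹ = z
        rw [this.eq, mul_inv_cancel_right]
    rw [h2] at h1
    have h3 : Nat.card ({⟨z, hzC⟩} : Set C) = 1 := by
      rw [Nat.card_coe_set_eq, Set.ncard_singleton]
    rw [h3] at h1
    exact h1.symm
  have hCgt : 1 < Nat.card C := by
    have h1 : z' * z * z'⁻¹ ∈ C := ⟨z', hz'J, rfl⟩
    have h2 : z' * z * z'⁻¹ ≠ z := by
      intro h
      apply hzz'
      apply good_comm x hx
      rw [mul_inv_eq_iff_eq_mul] at h
      exact h
    have h3 : Nontrivial C := ⟨⟨_, h1⟩, ⟨z, hzC⟩, fun h => h2 (congrArg Subtype.val h)⟩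
    exact Finite.one_lt_card
  -- contradiction: `|C| = p + 1` would be even
  have hmod2 : p ∣ Nat.card C - 1 := (Nat.modEq_iff_dvd' hCgt.le).1 hCmod
  obtain ⟨m, hm⟩ := hmod2
  have hm1 : m = 1 := by
    have h1 : 0 < m := by
      rcases Nat.eq_zero_or_pos m with rfl | h
      · omega
      · exact h
    have h2 : p * m ≤ p * 1 := by omega
    have h3 := Nat.le_of_mul_le_mul_left h2 hp.out.pos
    omega
  rw [hm1, mul_one] at hm
  have hCeq : Nat.card C = p + 1 := by omega
  rw [hCeq] at hCodd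
  have hpodd : Odd p := hp.out.odd_of_ne_two hp2
  have hev : Even (p + 1) := hpodd.add_one
  exact (Nat.not_even_iff_odd.2 hCodd) hev

end Cfsg.Agent.Classification.TransvectionOdd
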