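import Mathlib
import Cfsg.Prelude.Def_Solvable
import Cfsg.Agent.Lib.ThompsonPQ
import Cfsg.Agent.Lib.HallHigman
import Cfsg.Agent.Lib.CoprimeCommutator
import Cfsg.Agent.Classification.TransvectionOdd

/-!
# `B`-invariant `p'`-subgroups lie in `O_{p'}(H)`

`H` is a finite group with a normal `p'`-subgroup `N` such that `C(O_p(H/N)) ≤ O_p(H/N)` (for example `H` solvable
and `N = O_{p'}(H)`).

* `le_of_centralizer_le_normalizer` : if the `p`-subgroup `Y` centralises `R ≤ L`, `L` a `p'`-subgroup normalised by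
  `C_H(Y)`, then `R ≤ N`  (that is, `O_{p'}(C_H(Y)) ≤ O_{p'}(H)`).
* `le_of_sylow_le_normalizer` : if the abelian `p`-subgroup `B` contains all `p`-elements of its centraliser and is
  normal in a Sylow subgroup, all `B`-invariant `p'`-subgroups lie in `N`.
* `le_of_index_le` : `H` of odd order; reduction of the same statement from `H` to `C_H(V)`, `V ≤ B`, when all
  elements of `V` have centralisers of index at most `p` in a Sylow `p`-subgroup.
-/

set_option autoImplicit false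

namespace Cfsg.Agent.Classification.InvariantCore

open Subgroup

variable {H : Type*} [Group H]

theorem eq_bot_of_centralizer_le_normalizer [Finite H] {p : ℕ} [hp : Fact p.Prime]
    (hc : centralizer (Cfsg.pCore p H : Set H) ≤ Cfsg.pCore p H) {Y R L : Subgroup H}
    (hY : IsPGroup p Y) (hRL : R ≤ L) (hL : (Nat.card L).Coprime p) (hYR : Y ≤ centralizer (R : Set H))
    (hn : ∀ u ∈ Cfsg.pCore p H, u ∈ centralizer (Y : Set H) → u ∈ normalizer (L : Set H)) : R = ⊥ := by
  have hUp : IsPGroup p (Cfsg.pCore p H) := Cfsg.Agent.Lib.HallHigman.pCore_isPGroup p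
  have hUn : (Cfsg.pCore p H).Normal := Cfsg.Agent.Lib.HallHigman.pCore_normal p
  have hUL : ∀ y, y ∈ Cfsg.pCore p H → y ∈ L → y = 1 := by
    intro y h1 h2
    have hd : Disjoint L (Cfsg.pCore p H) := by
      apply Subgroup.disjoint_of_coprime_natCard
      obtain ⟨n, hn⟩ := hUp.exists_card_eq
      rw [hn]
      exact Nat.Coprime.pow_right n hL
    exact Subgroup.disjoint_def.1 hd h2 h1
  have hR : (Nat.card R).Coprime p := Nat.Coprime.coprime_dvd_left (card_dvd_of_le hRL) hL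
  have htop : ∀ K : Subgroup H, K ≤ normalizer (Cfsg.pCore p H : Set H) := fun K => by
    rw [Subgroup.normalizer_eq_top]; exact le_top
  have key : R ≤ centralizer (Cfsg.pCore p H : Set H) := by
    refine Cfsg.Agent.Lib.ThompsonPQ.thompson_p_times_q p Y R (Cfsg.pCore p H) hY hR hUp hYR
      (htop Y) (htop R) ?_
    rintro u ⟨hu1, hu2⟩
    rw [mem_centralizer_iff]
    intro r hr
    have h1 : u * r * u⁻¹ ∈ L := (mem_normalizer_iff.1 (hn u hu1 hu2) r).1 (hRL hr)
    have h2 : u * r * u⁻¹ * r⁻¹ ∈ L := L.mul_mem h1 (L.inv_mem (hRL hr))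
    have h3 : u * r * u⁻¹ * r⁻¹ ∈ Cfsg.pCore p H := by
      have h4 : u * r * u⁻¹ * r⁻¹ = u * (r * u⁻¹ * r⁻¹) := by group
      rw [h4]
      exact mul_mem hu1 (hUn.conj_mem _ (inv_mem hu1) r)
    have h5 := hUL _ h3 h2
    rw [mul_inv_eq_one, mul_inv_eq_iff_eq_mul] at h5
    exact h5.symm
  rw [eq_bot_iff]
  intro r hr
  rw [mem_bot]
  exact hUL r (hc (key hr)) (hRL hr)

/-- Elements of `H / N` centralising the image of a `p`-subgroup `Y` lift to elements centralising `Y`. -/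
theorem exists_lift [Finite H] {p : ℕ} [hp : Fact p.Prime] {N : Subgroup H} [hNn : N.Normal]
    (hN : (Nat.card N).Coprime p) {Y : Subgroup H} (hY : IsPGroup p Y) {x : H ⧸ N}
    (hx : x ∈ centralizer ((Y.map (QuotientGroup.mk' N) : Subgroup (H ⧸ N)) : Set (H ⧸ N))) :
    ∃ c ∈ centralizer (Y : Set H), QuotientGroup.mk' N c = x := by
  obtain ⟨g, rfl⟩ := QuotientGroup.mk'_surjective N x
  have hpN : ¬ p ∣ Nat.card N := fun h => hp.out.one_lt.ne'
    (Nat.dvd_one.1 (hN ▸ Nat.dvd_gcd h dvd_rfl))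
  obtain ⟨c, hc, hgc⟩ := Cfsg.Agent.Lib.CoprimeCommutator.exists_fixed_in_coset p Y N hY
    (by rw [Subgroup.normalizer_eq_top]; exact le_top) hpN g (by
      intro a ha
      have h1 := mem_centralizer_iff.1 hx (QuotientGroup.mk' N a) ⟨a, ha, rfl⟩
      have h2 : QuotientGroup.mk' N (g⁻¹ * (a * g * a⁻¹)) = 1 := by
        rw [map_mul, map_mul, map_mul, h1, map_inv, map_inv]
        group
      exact (QuotientGroup.eq_one_iff _).1 h2)
  refine ⟨c, hc, ?_⟩
  have h3 : QuotientGroup.mk' N (g⁻¹ * c) = 1 := (QuotientGroup.eq_one_iff _).2 hgc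
  rw [map_mul, map_inv, inv_mul_eq_one] at h3
  exact h3.symm

theorem map_coprime [Finite H] {p : ℕ} (N : Subgroup H) [N.Normal] {R : Subgroup H}
    (hR : (Nat.card R).Coprime p) : (Nat.card (R.map (QuotientGroup.mk' N))).Coprime p :=
  Nat.Coprime.coprime_dvd_left (card_map_dvd R _) hR

theorem le_of_map_eq_bot {N : Subgroup H} [N.Normal] {R : Subgroup H}
    (h : R.map (QuotientGroup.mk' N) = ⊥) : R ≤ N := by
  rw [Subgroup.map_eq_bot_iff, QuotientGroup.ker_mk'] at h
  exact h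

theorem map_le_normalizer_map {G' : Type*} [Group G'] (f : H →* G') {A L : Subgroup H}
    (h : A ≤ normalizer (L : Set H)) : A.map f ≤ normalizer ((L.map f : Subgroup G') : Set G') :=
  (Subgroup.map_mono h).trans (le_normalizer_map f)

theorem map_le_centralizer_map {G' : Type*} [Group G'] (f : H →* G') {A L : Subgroup H}
    (h : A ≤ centralizer (L : Set H)) : A.map f ≤ centralizer ((L.map f : Subgroup G') : Set G') := by
  rintro _ ⟨a, ha, rfl⟩
  rw [mem_centralizer_iff]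
  rintro _ ⟨l, hl, rfl⟩
  rw [← map_mul, ← map_mul, mem_centralizer_iff.1 (h ha) l hl]

/-- `O_{p'}(C_H(Y)) ≤ O_{p'}(H)` for a `p`-subgroup `Y` of the `p`-constrained group `H`. -/
theorem le_of_centralizer_le_normalizer [Finite H] {p : ℕ} [hp : Fact p.Prime] {N : Subgroup H}
    [hNn : N.Normal] (hN : (Nat.card N).Coprime p)
    (hc : centralizer (Cfsg.pCore p (H ⧸ N) : Set (H ⧸ N)) ≤ Cfsg.pCore p (H ⧸ N)) {Y R L : Subgroup H}
    (hY : IsPGroup p Y) (hRL : R ≤ L) (hL : (Nat.card L).Coprime p) (hYR : Y ≤ centralizer (R : Set H))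
    (hn : centralizer (Y : Set H) ≤ normalizer (L : Set H)) : R ≤ N := by
  apply le_of_map_eq_bot
  refine eq_bot_of_centralizer_le_normalizer hc (Y := Y.map (QuotientGroup.mk' N))
    (L := L.map (QuotientGroup.mk' N)) (hY.map _) (Subgroup.map_mono hRL) (map_coprime N hL)
    (map_le_centralizer_map _ hYR) ?_
  intro u _ hu
  obtain ⟨c, hcY, rfl⟩ := exists_lift hN hY hu
  exact le_normalizer_map _ ⟨c, hn hcY, rfl⟩

/-- The case of `O_p(H)` normalising `B`. -/
theorem eq_bot_of_pCore_le_normalizer [Finite H] {p : ℕ} [hp : Fact p.Prime]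
    (hc : centralizer (Cfsg.pCore p H : Set H) ≤ Cfsg.pCore p H) {B R : Subgroup H}
    (hBp : IsPGroup p B) (hBc : ∀ x ∈ B, ∀ y ∈ B, x * y = y * x)
    (hi : ∀ x ∈ centralizer (B : Set H), x ∈ Cfsg.pCore p H → x ∈ B)
    (hii : Cfsg.pCore p H ≤ normalizer (B : Set H))
    (hR : (Nat.card R).Coprime p) (hBR : B ≤ normalizer (R : Set H)) : R = ⊥ := by
  have hUp : IsPGroup p (Cfsg.pCore p H) := Cfsg.Agent.Lib.HallHigman.pCore_isPGroup p
  have hUn : (Cfsg.pCore p H).Normal := Cfsg.Agent.Lib.HallHigman.pCore_normal p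
  have hUR : ∀ y, y ∈ Cfsg.pCore p H → y ∈ R → y = 1 := by
    intro y h1 h2
    have hd : Disjoint R (Cfsg.pCore p H) := by
      apply Subgroup.disjoint_of_coprime_natCard
      obtain ⟨n, hn⟩ := hUp.exists_card_eq
      rw [hn]
      exact Nat.Coprime.pow_right n hR
    exact Subgroup.disjoint_def.1 hd h2 h1
  -- `R` centralises `B ∩ O_p(H)`
  have hRZ : ∀ r ∈ R, ∀ y ∈ B, y ∈ Cfsg.pCore p H → r * y = y * r := by
    intro r hr y hyB hyU
    have h1 : y * r * y⁻¹ * r⁻¹ ∈ R := R.mul_mem ((mem_normalizer_iff.1 (hBR hyB) r).1 hr) (R.inv_mem hr)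
    have h2 : y * r * y⁻¹ * r⁻¹ ∈ Cfsg.pCore p H := by
      have h4 : y * r * y⁻¹ * r⁻¹ = y * (r * y⁻¹ * r⁻¹) := by group
      rw [h4]
      exact mul_mem hyU (hUn.conj_mem _ (inv_mem hyU) r)
    have h5 := hUR _ h2 h1
    rw [mul_inv_eq_one, mul_inv_eq_iff_eq_mul] at h5
    exact h5.symm
  -- `B` acts trivially on `O_p(H)` modulo `B ∩ O_p(H)`
  have hBU : ∀ b ∈ B, ∀ u ∈ Cfsg.pCore p H, u⁻¹ * (b * u * b⁻¹) ∈ B ∧
      u⁻¹ * (b * u * b⁻¹) ∈ Cfsg.pCore p H := by
    intro b hb u hu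
    refine ⟨?_, mul_mem (inv_mem hu) (hUn.conj_mem u hu b)⟩
    have h1 : u⁻¹ * b * u ∈ B := by
      have := (mem_normalizer_iff.1 (hii (inv_mem hu)) b).1 hb
      simpa using this
    have h2 : u⁻¹ * (b * u * b⁻¹) = (u⁻¹ * b * u) * b⁻¹ := by group
    rw [h2]
    exact B.mul_mem h1 (B.inv_mem hb)
  have hcomm : ∀ b ∈ B, ∀ r ∈ R, b * r = r * b := by
    intro b hb r hr
    set y : H := b * r * b⁻¹ * r⁻¹ with hy
    have hyR : y ∈ R := R.mul_mem ((mem_normalizer_iff.1 (hBR hb) r).1 hr) (R.inv_mem hr)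
    have hyU : ∀ u ∈ Cfsg.pCore p H, u⁻¹ * (y * u * y⁻¹) ∈ B ∧ u⁻¹ * (y * u * y⁻¹) ∈ Cfsg.pCore p H := by
      intro u hu
      have hu1 : r⁻¹ * u * r ∈ Cfsg.pCore p H := by
        have := hUn.conj_mem u hu r⁻¹
        simpa using this
      obtain ⟨h1, h1'⟩ := hBU b⁻¹ (B.inv_mem hb) _ hu1
      obtain ⟨h2, h2'⟩ := hBU b hb u hu
      set z₁ : H := (r⁻¹ * u * r)⁻¹ * (b⁻¹ * (r⁻¹ * u * r) * b⁻¹⁻¹) with hz₁
      have e1 : r * z₁ = z₁ * r := hRZ r hr z₁ h1 h1'
      have e2 : b * z₁ = z₁ * b := hBc b hb z₁ h1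
      have e3 : u⁻¹ * (y * u * y⁻¹) = u⁻¹ * (b * (u * (r * z₁ * r⁻¹)) * b⁻¹) := by
        rw [hy, hz₁]; group
      have e4 : u⁻¹ * (b * (u * (r * z₁ * r⁻¹)) * b⁻¹) = (u⁻¹ * (b * u * b⁻¹)) * (b * (r * z₁ * r⁻¹) * b⁻¹) := by
        group
      have e5 : b * (r * z₁ * r⁻¹) * b⁻¹ = z₁ := by
        rw [e1, mul_inv_cancel_right, e2, mul_inv_cancel_right]
      rw [e3, e4, e5]
      exact ⟨B.mul_mem h2 h1, mul_mem h2' h1'⟩
    have hyc : y ∈ centralizer (Cfsg.pCore p H : Set H) := by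
      rw [mem_centralizer_iff]
      refine Cfsg.Agent.Lib.ThompsonPQ.commute_of_commutator_commute ?_ ?_ ?_
      · obtain ⟨n, hn⟩ := hUp.exists_card_eq
        rw [hn]
        exact Nat.Coprime.pow_right n (Nat.Coprime.coprime_dvd_left
          (TransvectionOdd.orderOf_dvd_card_of_mem hyR) hR)
      · rw [Subgroup.normalizer_eq_top]; trivial
      · intro u hu
        have hu1 : y⁻¹ * u⁻¹ * y ∈ Cfsg.pCore p H := by
          have := hUn.conj_mem u⁻¹ (inv_mem hu) y⁻¹
          simpa using this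
        obtain ⟨h1, h2⟩ := hyU _ hu1
        have h3 : y⁻¹ * u * y * u⁻¹ = (y⁻¹ * u⁻¹ * y)⁻¹ * (y * (y⁻¹ * u⁻¹ * y) * y⁻¹) := by group
        rw [h3]
        exact (hRZ y hyR _ h1 h2).symm
    have h1 := hUR y (hc hyc) hyR
    rw [hy, mul_inv_eq_one, mul_inv_eq_iff_eq_mul] at h1
    exact h1
  refine eq_bot_of_centralizer_le_normalizer hc (Y := B) (L := R) hBp le_rfl hR ?_ ?_
  · intro b hb
    exact mem_centralizer_iff.2 fun r hr => (hcomm b hb r hr).symm
  · intro u hu huB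
    exact hBR (hi u huB hu)

/-- If the abelian `p`-subgroup `B` contains all `p`-elements of its centraliser and is normal in a Sylow
`p`-subgroup, all `B`-invariant `p'`-subgroups lie in `O_{p'}(H)`. -/
theorem le_of_sylow_le_normalizer [Finite H] {p : ℕ} [hp : Fact p.Prime] {N : Subgroup H}
    [hNn : N.Normal] (hN : (Nat.card N).Coprime p)
    (hc : centralizer (Cfsg.pCore p (H ⧸ N) : Set (H ⧸ N)) ≤ Cfsg.pCore p (H ⧸ N)) {B R : Subgroup H}
    (hBp : IsPGroup p B) (hBc : ∀ x ∈ B, ∀ y ∈ B, x * y = y * x)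
    (hi : ∀ x ∈ centralizer (B : Set H), IsPGroup p (zpowers x) → x ∈ B)
    (S : Sylow p H) (hS : (S : Subgroup H) ≤ normalizer (B : Set H))
    (hR : (Nat.card R).Coprime p) (hBR : B ≤ normalizer (R : Set H)) : R ≤ N := by
  apply le_of_map_eq_bot
  refine eq_bot_of_pCore_le_normalizer hc (B := B.map (QuotientGroup.mk' N)) (hBp.map _) ?_ ?_ ?_
    (map_coprime N hR) (map_le_normalizer_map _ hBR)
  · rintro _ ⟨x, hx, rfl⟩ _ ⟨y, hy, rfl⟩
    rw [← map_mul, ← map_mul, hBc x hx y hy]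
  · intro x hx hxU
    obtain ⟨c, hcB, rfl⟩ := exists_lift hN hBp hx
    -- replace `c` by its `p`-part
    obtain ⟨n, hn⟩ := (Cfsg.Agent.Lib.HallHigman.pCore_isPGroup (G := H ⧸ N) p) ⟨_, hxU⟩
    have hn' : (QuotientGroup.mk' N c) ^ p ^ n = 1 := by
      have := congrArg Subtype.val hn
      simpa using this
    have hcN : c ^ p ^ n ∈ N := by
      rw [← map_pow] at hn'
      exact (QuotientGroup.eq_one_iff _).1 hn'
    -- the order of `c ^ p ^ n` is prime to `p`
    set m : ℕ := orderOf (c ^ p ^ n) with hm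
    have hmp : m.Coprime p := Nat.Coprime.coprime_dvd_left (TransvectionOdd.orderOf_dvd_card_of_mem hcN) hN
    obtain ⟨k, hk⟩ : ∃ k : ℕ, m * k ≡ 1 [MOD p ^ n] := by
      obtain ⟨k, hk⟩ := Nat.exists_mul_mod_eq_of_coprime 1 (Nat.Coprime.pow_right n hmp)
        (pow_pos hp.out.pos n).ne'
      exact ⟨k, hk.2⟩
    have h1 : (c ^ (m * k)) ^ p ^ n = 1 := by
      have : (c ^ (m * k)) ^ p ^ n = ((c ^ p ^ n) ^ m) ^ k := by
        rw [← pow_mul, ← pow_mul, ← pow_mul]
        congr 1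
        ring
      rw [this, hm, pow_orderOf_eq_one, one_pow]
    have h2 : c ^ (m * k) ∈ B := hi _ (pow_mem hcB _) (TransvectionOdd.isPGroup_zpowers_of_pow h1)
    have h3 : QuotientGroup.mk' N (c ^ (m * k)) = QuotientGroup.mk' N c := by
      rw [map_pow]
      have h4 : orderOf (QuotientGroup.mk' N c) ∣ p ^ n := orderOf_dvd_of_pow_eq_one hn'
      have h5 : m * k ≡ 1 [MOD orderOf (QuotientGroup.mk' N c)] := hk.of_dvd h4
      have h6 := pow_eq_pow_iff_modEq.2 h5
      rw [h6, pow_one]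
    exact ⟨_, h2, h3⟩
  · have h1 := Cfsg.Agent.Lib.HallHigman.pCore_le_sylow p
      (S.mapSurjective (QuotientGroup.mk'_surjective N))
    rw [Sylow.coe_mapSurjective] at h1
    exact h1.trans (map_le_normalizer_map _ hS)

theorem relIndex_ne_zero_of_finite {G : Type*} [Group G] [Finite G] (A B : Subgroup G) :
    A.relIndex B ≠ 0 := Subgroup.index_ne_zero_of_finite

/-- Reduction from `H` to `C_H(V)` in a group of odd order. -/
theorem le_of_index_le [Finite H] (hodd : Odd (Nat.card H)) {p : ℕ} [hp : Fact p.Prime] {N : Subgroup H}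
    [hNn : N.Normal] (hN : (Nat.card N).Coprime p)
    (hc : centralizer (Cfsg.pCore p (H ⧸ N) : Set (H ⧸ N)) ≤ Cfsg.pCore p (H ⧸ N)) {V B L R : Subgroup H}
    (hVp : IsPGroup p V) (hVB : V ≤ B)
    (S : Sylow p H) (hS : ∀ z ∈ V, (centralizer ({z} : Set H)).relIndex (S : Subgroup H) ≤ p)
    (hBV : B ≤ centralizer (V : Set H))
    (hL : (Nat.card L).Coprime p) (hLn : centralizer (V : Set H) ≤ normalizer (L : Set H))
    (hLV : ∀ R₁ : Subgroup H, R₁ ≤ centralizer (V : Set H) → (Nat.card R₁).Coprime p →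
      B ≤ normalizer (R₁ : Set H) → R₁ ≤ L)
    (hR : (Nat.card R).Coprime p) (hBR : B ≤ normalizer (R : Set H)) : R ≤ N := by
  have hUp : IsPGroup p (Cfsg.pCore p (H ⧸ N)) := Cfsg.Agent.Lib.HallHigman.pCore_isPGroup p
  have hUn : (Cfsg.pCore p (H ⧸ N)).Normal := Cfsg.Agent.Lib.HallHigman.pCore_normal p
  have hoddq : Odd (Nat.card (H ⧸ N)) := by
    refine Odd.of_dvd_nat hodd ?_
    exact Subgroup.card_quotient_dvd_card N
  have hR' := map_coprime N hR
  have hBR' : B.map (QuotientGroup.mk' N) ≤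
      normalizer ((R.map (QuotientGroup.mk' N) : Subgroup (H ⧸ N)) : Set (H ⧸ N)) :=
    map_le_normalizer_map _ hBR
  -- `V` centralises the image of `R`
  have hVR : ∀ v ∈ V, ∀ r ∈ R, v * r * v⁻¹ * r⁻¹ ∈ N := by
    intro v hv r hr
    have h1 := TransvectionOdd.commute_of_index_le hoddq hUn hUp hc (z := QuotientGroup.mk' N v)
      (Q := R.map (QuotientGroup.mk' N)) ?_ ?_ hR' (hBR' ⟨v, hVB hv, rfl⟩) (QuotientGroup.mk' N r) ⟨r, hr, rfl⟩
    · have h2 : QuotientGroup.mk' N (v * r * v⁻¹ * r⁻¹) = 1 := by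
        rw [map_mul, map_mul, map_mul, map_inv, map_inv, ← h1.eq]
        group
      exact (QuotientGroup.eq_one_iff _).1 h2
    · rw [← MonoidHom.map_zpowers]
      exact (hVp.to_le (zpowers_le.2 hv)).map _
    · -- the index
      have h2 : (centralizer ({QuotientGroup.mk' N v} : Set (H ⧸ N))).relIndex (Cfsg.pCore p (H ⧸ N)) ≤ p := by
        have h3 := Cfsg.Agent.Lib.HallHigman.pCore_le_sylow p
          (S.mapSurjective (QuotientGroup.mk'_surjective N))
        rw [Sylow.coe_mapSurjective] at h3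
        have h4 : (centralizer ({QuotientGroup.mk' N v} : Set (H ⧸ N))).relIndex
            ((S : Subgroup H).map (QuotientGroup.mk' N)) ≤ p := by
          rw [← Subgroup.relIndex_comap]
          refine le_trans ?_ (hS v hv)
          refine Subgroup.relIndex_le_of_le_left ?_ (relIndex_ne_zero_of_finite _ _)
          intro x hx
          rw [mem_centralizer_singleton_iff] at hx
          rw [mem_comap, mem_centralizer_singleton_iff, ← map_mul, ← map_mul, hx]
        exact le_trans (Subgroup.relIndex_le_of_le_right h3 (relIndex_ne_zero_of_finite _ _)) h4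
      have h5 : Nat.card ↥(Cfsg.pCore p (H ⧸ N) ⊓ centralizer ({QuotientGroup.mk' N v} : Set (H ⧸ N))) *
          (centralizer ({QuotientGroup.mk' N v} : Set (H ⧸ N))).relIndex (Cfsg.pCore p (H ⧸ N)) =
          Nat.card (Cfsg.pCore p (H ⧸ N)) := by
        rw [← Subgroup.card_mul_index ((centralizer ({QuotientGroup.mk' N v} : Set (H ⧸ N))).subgroupOf
          (Cfsg.pCore p (H ⧸ N)))]
        congr 1
        rw [inf_comm, ← Subgroup.subgroupOf_map_subtype]
        exact (Subgroup.card_map_of_injective (Subgroup.subtype_injective _))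
      rw [← h5, mul_comm]
      exact Nat.mul_le_mul_right _ h2
  have hpN : ¬ p ∣ Nat.card N := fun h => hp.out.one_lt.ne'
    (Nat.dvd_one.1 (hN ▸ Nat.dvd_gcd h dvd_rfl))
  -- `R` is covered by `C_{RN}(V)`
  have hR₁ : (R ⊔ N) ⊓ centralizer (V : Set H) ≤ N := by
    have hRN : (Nat.card ↥(R ⊔ N)).Coprime p := by
      have h1 := Cfsg.Agent.SignalizersComponents.CoprimeBasic.card_sup_dvd (X := N) (Y := R)
        (by rw [Subgroup.normalizer_eq_top]; exact le_top)
      rw [sup_comm]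
      exact Nat.Coprime.coprime_dvd_left h1 (Nat.Coprime.mul_left hN hR)
    have hRN' : (Nat.card ↥((R ⊔ N) ⊓ centralizer (V : Set H))).Coprime p :=
      Nat.Coprime.coprime_dvd_left (card_dvd_of_le inf_le_left) hRN
    have hBRN : B ≤ normalizer (((R ⊔ N) ⊓ centralizer (V : Set H) : Subgroup H) : Set H) := by
      intro b hb
      have e1 : b ∈ normalizer ((R ⊔ N : Subgroup H) : Set H) := by
        have h1 : b ∈ normalizer (R : Set H) := hBR hb
        have h2 : b ∈ normalizer (N : Set H) := by rw [Subgroup.normalizer_eq_top]; trivial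
        have h3 : R.map (MulAut.conj b).toMonoidHom = R := mem_normalizer_iff_map_conj_eq.1 h1
        have h4 : N.map (MulAut.conj b).toMonoidHom = N := mem_normalizer_iff_map_conj_eq.1 h2
        have h5 : (R ⊔ N).map (MulAut.conj b).toMonoidHom = R ⊔ N := by
          rw [Subgroup.map_sup, h3, h4]
        exact mem_normalizer_iff_map_conj_eq.2 h5
      have e2 : b ∈ normalizer ((centralizer (V : Set H) : Subgroup H) : Set H) := le_normalizer (hBV hb)
      rw [mem_normalizer_iff] at e1 e2 ⊢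
      intro x
      rw [mem_inf, mem_inf, e1 x, e2 x]
    refine le_of_centralizer_le_normalizer hN hc (Y := V) (L := L) hVp ?_ hL ?_ hLn
    · exact hLV _ inf_le_right hRN' hBRN
    · intro v hv
      exact mem_centralizer_iff.2 fun r hr => (mem_centralizer_iff.1 hr.2 v hv).symm
  intro r hr
  obtain ⟨c, hcV, hrc⟩ := Cfsg.Agent.Lib.CoprimeCommutator.exists_fixed_in_coset p V N hVp
    (by rw [Subgroup.normalizer_eq_top]; exact le_top) hpN r (by
      intro v hv
      have h1 := hVR v hv r hr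
      have h2 : r⁻¹ * (v * r * v⁻¹) = r⁻¹ * (v * r * v⁻¹ * r⁻¹) * r⁻¹⁻¹ := by group
      rw [h2]
      exact hNn.conj_mem _ h1 r⁻¹)
  have h1 : c ∈ R ⊔ N := by
    have h2 : c = r * (r⁻¹ * c) := by group
    rw [h2]
    exact mul_mem ((le_sup_left : R ≤ R ⊔ N) hr) ((le_sup_right : N ≤ R ⊔ N) hrc)
  have h3 : c ∈ N := hR₁ ⟨h1, hcV⟩
  have h4 : r = c * (r⁻¹ * c)⁻¹ := by group
  rw [h4]
  exact N.mul_mem h3 (N.inv_mem hrc)

end Cfsg.Agent.Classification.InvariantCore
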