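import Mathlib
import Cfsg.Prelude.Def_Sz
import Cfsg.Prelude.Def_CaseTheorems
import Cfsg.Agent.LieRecognition.SzMatrix
import Cfsg.Agent.ClassicalGeometry.PSL2Basic
import Cfsg.Agent.S1162
import Cfsg.Agent.S1163

/-!
# Minimal simple Suzuki groups

`Sz(2^(2m+1))` is minimal simple only if `2m+1` is prime (subfield subgroups).
-/

set_option autoImplicit false

namespace Cfsg.Agent.Classification.MinSimpleSuzuki

open Matrix
open Cfsg.Agent.LieRecognition.SzMatrix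

variable {K F : Type*} [Field K] [Field F]

theorem map_mem_Sp4 (f : K →+* F) {g : GL (Fin 4) K} (hg : g ∈ Cfsg.Lie.Sp4 K) :
    Matrix.GeneralLinearGroup.map f g ∈ Cfsg.Lie.Sp4 F := by
  rw [mem_Sp4_iff] at hg ⊢
  have h1 : ((Matrix.GeneralLinearGroup.map f g : GL (Fin 4) F) : Matrix (Fin 4) (Fin 4) F) =
      (g : Matrix (Fin 4) (Fin 4) K).map f := rfl
  have hJ : (LieRecognition.SzMatrix.J K).map f = LieRecognition.SzMatrix.J F := by
    ext i j
    fin_cases i <;> fin_cases j <;> simp [LieRecognition.SzMatrix.J]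
  rw [h1, ← hJ, ← Matrix.transpose_map, ← Matrix.map_mul, ← Matrix.map_mul, hg]

theorem star4_map (f : K →+* F) (A : Matrix (Fin 4) (Fin 4) K) :
    Cfsg.Lie.star4 (A.map f) = (Cfsg.Lie.star4 A).map f := by
  ext i j
  simp [Cfsg.Lie.star4]

theorem map_Sz_le (f : K →+* F) {e e' : ℕ} (he : ∀ x : K, x ^ e = x ^ e') :
    (Cfsg.Lie.Sz K e).map (Matrix.GeneralLinearGroup.map f) ≤ Cfsg.Lie.Sz F e' := by
  rw [Sz_eq_closure, MonoidHom.map_closure, Subgroup.closure_le]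
  rintro _ ⟨g, ⟨hg1, hg2⟩, rfl⟩
  refine Subgroup.subset_closure ⟨map_mem_Sp4 f hg1, ?_⟩
  have h1 : ((Matrix.GeneralLinearGroup.map f g : GL (Fin 4) F) : Matrix (Fin 4) (Fin 4) F) =
      (g : Matrix (Fin 4) (Fin 4) K).map f := rfl
  rw [h1, star4_map, hg2]
  ext i j
  simp only [Matrix.map_apply]
  rw [← map_pow, he]

/-- The Suzuki groups `Sz(2^(2m+1))`, `m ≥ 1`, are not solvable. -/
theorem not_isSolvable_Sz [Fintype K] {m : ℕ} (hm : 1 ≤ m) (hK : Fintype.card K = 2 ^ (2 * m + 1)) :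
    ¬ Group.IsSolvable ↥(Cfsg.Lie.Sz K (2 ^ (m + 1))) := by
  intro hs
  have hsimp := Cfsg.Agent.S1162.result hm hK
  have hcomm : ∀ a b : ↥(Cfsg.Lie.Sz K (2 ^ (m + 1))), a * b = b * a :=
    IsSimpleGroup.comm_iff_isSolvable.mpr hs
  -- a commutative simple group has prime order
  have hcard := (Cfsg.Agent.S1163.result hm hK).1
  have : Finite ↥(Cfsg.Lie.Sz K (2 ^ (m + 1))) := by
    apply Nat.finite_of_card_ne_zero
    rw [hcard]
    have h1 : 0 < (2 ^ (2 * m + 1)) ^ 2 := by positivity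
    have h2 : 0 < 2 ^ (2 * m + 1) - 1 := by
      have : 2 ^ 1 ≤ 2 ^ (2 * m + 1) := Nat.pow_le_pow_right (by norm_num) (by omega)
      omega
    positivity
  let _ : CommGroup ↥(Cfsg.Lie.Sz K (2 ^ (m + 1))) := { mul_comm := hcomm }
  have hp : (Nat.card ↥(Cfsg.Lie.Sz K (2 ^ (m + 1)))).Prime := IsSimpleGroup.prime_card
  rw [hcard] at hp
  have h1 : 2 ∣ (2 ^ (2 * m + 1)) ^ 2 * (2 ^ (2 * m + 1) - 1) * ((2 ^ (2 * m + 1)) ^ 2 + 1) := by
    apply Dvd.dvd.mul_right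
    apply Dvd.dvd.mul_right
    exact dvd_pow (dvd_pow_self 2 (by omega)) (by norm_num)
  have h2 := (Nat.prime_dvd_prime_iff_eq Nat.prime_two hp).1 h1
  have h3 : 2 ^ 3 ≤ 2 ^ (2 * m + 1) := Nat.pow_le_pow_right (by norm_num) (by omega)
  have h4 : 8 ≤ 2 ^ (2 * m + 1) := by simpa using h3
  generalize 2 ^ (2 * m + 1) = q at *
  have h5 : 1 ≤ q - 1 := by omega
  have h6 : q ^ 2 * 1 * 1 ≤ q ^ 2 * (q - 1) * (q ^ 2 + 1) :=
    Nat.mul_le_mul (Nat.mul_le_mul_left _ h5) (by omega)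
  nlinarith

theorem prime_of_isMinimalSimple [Fintype F] {m : ℕ} (hm : 1 ≤ m)
    (hF : Fintype.card F = 2 ^ (2 * m + 1))
    (h : Cfsg.IsMinimalSimple ↥(Cfsg.Lie.Sz F (2 ^ (m + 1)))) : (2 * m + 1).Prime := by
  by_contra hnp
  obtain ⟨a, ha, ha1, han⟩ := Nat.exists_dvd_of_not_prime (by omega) hnp
  obtain ⟨b, hb⟩ := ha
  -- `a = 2 k + 1`
  have hodd : Odd (a * b) := by rw [← hb]; exact ⟨m, rfl⟩
  obtain ⟨haodd, hbodd⟩ := Nat.odd_mul.1 hodd
  obtain ⟨k, hk⟩ := haodd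
  obtain ⟨c, hc⟩ := hbodd
  have hk1 : 1 ≤ k := by omega
  have hb2 : 2 ≤ b := by
    by_contra hb2
    have : b = 0 ∨ b = 1 := by omega
    rcases this with rfl | rfl <;> omega
  have ha0 : a ≠ 0 := by omega
  have hfact : Fact (Nat.Prime 2) := ⟨Nat.prime_two⟩
  have hfin : Fintype (GaloisField 2 a) := Fintype.ofFinite _
  have hcardK : Fintype.card (GaloisField 2 a) = 2 ^ a := by
    rw [Fintype.card_eq_nat_card]
    exact GaloisField.card 2 a ha0
  obtain ⟨f⟩ := Cfsg.Agent.ClassicalGeometry.PSL2Basic.exists_ringHom_of_card_pow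
    (K := GaloisField 2 a) (L := F) (m := b) (by rw [hcardK, hF, ← pow_mul, hb])
  have hcardK' : Fintype.card (GaloisField 2 a) = 2 ^ (2 * k + 1) := by rw [hcardK, hk]
  have he : ∀ x : GaloisField 2 a, x ^ (2 ^ (k + 1)) = x ^ (2 ^ (m + 1)) := by
    intro x
    have h1 : m + 1 = a * c + (k + 1) := by
      have : 2 * m + 1 = a * (2 * c + 1) := by rw [← hc, ← hb]
      have h2 : 2 * (m + 1) = 2 * (a * c + (k + 1)) := by
        rw [hk] at this ⊢
        ring_nf at this ⊢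
        omega
      omega
    have h2 : x ^ 2 ^ (a * c) = x := by
      rw [pow_mul, ← hcardK, FiniteField.pow_card_pow]
    rw [h1, pow_add 2 (a * c) (k + 1), pow_mul x (2 ^ (a * c)), h2]
  have hle := map_Sz_le f he
  set Φ : GL (Fin 4) (GaloisField 2 a) →* GL (Fin 4) F := Matrix.GeneralLinearGroup.map f with hΦ
  have hinjΦ : Function.Injective Φ := by
    intro x y hxy
    apply Units.ext
    have h0 : (x : Matrix (Fin 4) (Fin 4) (GaloisField 2 a)).map f =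
        (y : Matrix (Fin 4) (Fin 4) (GaloisField 2 a)).map f := by
      have h1 : ((Φ x : GL (Fin 4) F) : Matrix (Fin 4) (Fin 4) F) = (Φ y : GL (Fin 4) F) := by
        rw [hxy]
      exact h1
    exact Matrix.map_injective f.injective h0
  set D : Subgroup ↥(Cfsg.Lie.Sz F (2 ^ (m + 1))) :=
    ((Cfsg.Lie.Sz (GaloisField 2 a) (2 ^ (k + 1))).map Φ).subgroupOf
      (Cfsg.Lie.Sz F (2 ^ (m + 1))) with hD
  let e1 : ↥(Cfsg.Lie.Sz (GaloisField 2 a) (2 ^ (k + 1))) ≃* ↥D :=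
    ((Cfsg.Lie.Sz (GaloisField 2 a) (2 ^ (k + 1))).equivMapOfInjective Φ hinjΦ).trans
      (Subgroup.subgroupOfEquivOfLe hle).symm
  have hDtop : D ≠ ⊤ := by
    intro htop
    have h1 : Nat.card D = Nat.card ↥(Cfsg.Lie.Sz F (2 ^ (m + 1))) := by
      rw [htop]; exact Subgroup.card_top
    rw [← Nat.card_congr e1.toEquiv, (Cfsg.Agent.S1163.result hk1 hcardK').1,
      (Cfsg.Agent.S1163.result hm hF).1, ← hk, hb] at h1
    have h2 : 2 ^ a < 2 ^ (a * b) := Nat.pow_lt_pow_right (by norm_num) (by nlinarith)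
    have h3 : 2 ^ 1 ≤ 2 ^ a := Nat.pow_le_pow_right (by norm_num) (by omega)
    generalize 2 ^ (a * b) = Q at *
    generalize 2 ^ a = q at *
    have h4 : q ^ 2 * (q - 1) * (q ^ 2 + 1) < Q ^ 2 * (Q - 1) * (Q ^ 2 + 1) := by
      have h5 : q ^ 2 < Q ^ 2 := Nat.pow_lt_pow_left h2 (by norm_num)
      apply Nat.mul_lt_mul_of_lt_of_le
      · apply Nat.mul_lt_mul_of_lt_of_le h5 (by omega) (by omega)
      · omega
      · omega
    omega
  have hsol := h.2.2 D hDtop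
  exact not_isSolvable_Sz hk1 hcardK' (Group.isSolvable_of_surjective (f := e1.symm.toMonoidHom)
    e1.symm.surjective)

theorem isMinimalSimple_congr {G H : Type*} [Group G] [Group H] (e : G ≃* H)
    (hG : Cfsg.IsMinimalSimple G) : Cfsg.IsMinimalSimple H := by
  obtain ⟨h1, h2, h3⟩ := hG
  refine ⟨(MulEquiv.isSimpleGroup_congr e).1 h1, ?_, ?_⟩
  · intro hc
    apply h2
    refine ⟨⟨fun a b => e.injective ?_⟩⟩
    rw [map_mul, map_mul]
    exact hc.is_comm.comm _ _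
  · intro D hD
    have h4 : D.comap e.toMonoidHom ≠ ⊤ := by
      intro ht
      apply hD
      rw [← Subgroup.map_comap_eq_self_of_surjective (f := e.toMonoidHom) e.surjective D, ht,
        ← MonoidHom.range_eq_map]
      exact MonoidHom.range_eq_top.2 e.surjective
    have h5 := h3 _ h4
    refine Group.isSolvable_of_surjective
      (f := (e.toMonoidHom.subgroupComap D : ↥(D.comap e.toMonoidHom) →* ↥D)) ?_
    rintro ⟨y, hy⟩
    refine ⟨⟨e.symm y, ?_⟩, ?_⟩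
    · show e (e.symm y) ∈ D
      rw [e.apply_symm_apply]; exact hy
    · apply Subtype.ext
      show e (e.symm y) = y
      exact e.apply_symm_apply y

/-- The last alternative of S0488 from the explicit form of the Suzuki group. -/
theorem suzuki {G : Type*} [Group G] [Finite G] (hG : Cfsg.IsMinimalSimple G)
    (h : Cfsg.Lie.IsoSuzuki G) :
    Cfsg.IsSuzuki G ∧ ∃ p : ℕ, p.Prime ∧ Nat.card G = (2 ^ p) ^ 2 * ((2 ^ p) ^ 2 + 1) * (2 ^ p - 1) := by
  obtain ⟨F, _, _, m, hm, hF, ⟨e⟩⟩ := h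
  have h1 := isMinimalSimple_congr e hG
  have h2 := prime_of_isMinimalSimple hm hF h1
  have h3 : Nat.card G =
      (2 ^ (2 * m + 1)) ^ 2 * ((2 ^ (2 * m + 1)) ^ 2 + 1) * (2 ^ (2 * m + 1) - 1) := by
    rw [Nat.card_congr e.toEquiv, (Cfsg.Agent.S1163.result hm hF).1]
    ring
  exact ⟨⟨hG.1, m, hm, h3⟩, 2 * m + 1, h2, h3⟩

end Cfsg.Agent.Classification.MinSimpleSuzuki
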