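import Mathlib
import Cfsg.Prelude.Def_Classical
import Cfsg.Prelude.Def_CaseTheorems
import Cfsg.Agent.ClassicalGeometry.PSL2Solvable
import Cfsg.Agent.LieExceptional.PSUThreeWitness
import Cfsg.Agent.LieClassical.SUBasic
import Cfsg.Agent.S0281

/-!
# `PSL₃(q)`, `PSU₃(q)` are not N-groups

`PSL₃(F)`, `|F| ≥ 5` odd, and `PSU₃(q)`, `q ≥ 4`, contain a non-solvable local subgroup (the normaliser of a
subgroup of prime order of the image of the diagonal matrices `diag(c, c, c⁻²)`, which contains `SL₂(q)`).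
-/

set_option autoImplicit false

open Cfsg

namespace Cfsg.Agent.Classification.NGroupExclude

open Matrix

/-- The property "every local subgroup is solvable" is invariant under isomorphism. -/
theorem isNGroup_congr {G H : Type*} [Group G] [Group H] (e : G ≃* H) (hG : IsNGroup G) :
    IsNGroup H := by
  rintro N ⟨p, T, hp, hT, hT1, rfl⟩
  have h1 : Group.IsSolvable (Subgroup.normalizer ((T.comap e.toMonoidHom : Subgroup G) : Set G)) := by
    refine hG _ ⟨p, T.comap e.toMonoidHom, hp, ?_, ?_, rfl⟩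
    · exact hT.comap_of_injective _ e.injective
    · intro h
      apply hT1
      rw [← Subgroup.map_comap_eq_self_of_surjective (f := e.toMonoidHom) e.surjective T, h,
        Subgroup.map_bot]
  have hcod : ∀ x : Subgroup.normalizer ((T.comap e.toMonoidHom : Subgroup G) : Set G),
      e (x : G) ∈ Subgroup.normalizer (T : Set H) := by
    intro x
    have hx := x.2
    rw [Subgroup.mem_normalizer_iff] at hx ⊢
    intro h
    have := hx (e.symm h)
    simpa using this
  let f : Subgroup.normalizer ((T.comap e.toMonoidHom : Subgroup G) : Set G) →*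
      Subgroup.normalizer (T : Set H) :=
    (e.toMonoidHom.comp (Subgroup.subtype _)).codRestrict _ hcod
  refine Group.isSolvable_of_surjective (f := f) ?_
  rintro ⟨y, hy⟩
  refine ⟨⟨e.symm y, ?_⟩, ?_⟩
  · rw [Subgroup.mem_normalizer_iff] at hy ⊢
    intro h
    have := hy (e h)
    simpa using this
  · apply Subtype.ext
    change e (e.symm y) = y
    simp

/-- If `Q` is a non-solvable subgroup of `G` centralised by an element outside the centre, then `G / Z(G)` is
not an N-group. -/
theorem not_isNGroup_quotient_center {Q G : Type*} [Group Q] [Group G] [Finite G]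
    (hQ : ¬ Group.IsSolvable Q) (f : Q →* G) (hf : Function.Injective f) (z : G)
    (hz : z ∉ Subgroup.center G) (hcomm : ∀ x, f x * z = z * f x) :
    ¬ IsNGroup (G ⧸ Subgroup.center G) := by
  intro hN
  set π : G →* G ⧸ Subgroup.center G := QuotientGroup.mk' _ with hπ
  have hz1 : π z ≠ 1 := by
    intro h
    exact hz ((QuotientGroup.eq_one_iff z).1 h)
  obtain ⟨p, hp, hpo⟩ := Nat.exists_prime_and_dvd (fun h => hz1 (orderOf_eq_one_iff.1 h))
  have := Fact.mk hp
  obtain ⟨k, hk⟩ := hpo
  have hk0 : k ≠ 0 := by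
    rintro rfl
    rw [mul_zero] at hk
    exact (orderOf_pos (π z)).ne' hk
  have hord : orderOf (π z ^ k) = p := by
    rw [orderOf_pow_of_dvd hk0 ⟨p, by rw [hk, mul_comm]⟩, hk, Nat.mul_div_cancel _ (Nat.pos_of_ne_zero hk0)]
  set T : Subgroup (G ⧸ Subgroup.center G) := Subgroup.zpowers (π z ^ k) with hT
  have hTp : IsPGroup p T := by
    apply IsPGroup.of_card (n := 1)
    rw [hT, Nat.card_zpowers, hord, pow_one]
  have hT1 : T ≠ ⊥ := by
    intro h
    have h2 : π z ^ k = 1 := by
      have : π z ^ k ∈ T := Subgroup.mem_zpowers _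
      rwa [h, Subgroup.mem_bot] at this
    rw [h2, orderOf_one] at hord
    exact hp.one_lt.ne hord
  have hsol := hN _ ⟨p, T, hp, hTp, hT1, rfl⟩
  have hle : ∀ x, (π.comp f) x ∈ Subgroup.normalizer (T : Set (G ⧸ Subgroup.center G)) := by
    intro x
    have hc : (π.comp f) x * (π z ^ k) * ((π.comp f) x)⁻¹ = π z ^ k := by
      have h1 : Commute (π (f x)) (π z) := by
        change π (f x) * π z = π z * π (f x)
        rw [← map_mul, ← map_mul, hcomm]
      have h2 := h1.pow_right k
      change π (f x) * (π z ^ k) * (π (f x))⁻¹ = _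
      rw [h2.eq, mul_inv_cancel_right]
    rw [Subgroup.mem_normalizer_iff]
    intro h
    constructor
    · intro hh
      obtain ⟨n, rfl⟩ := Subgroup.mem_zpowers_iff.1 hh
      refine Subgroup.mem_zpowers_iff.2 ⟨n, ?_⟩
      rw [← conj_zpow, hc]
    · intro hh
      obtain ⟨n, hn⟩ := Subgroup.mem_zpowers_iff.1 hh
      refine Subgroup.mem_zpowers_iff.2 ⟨n, ?_⟩
      have h3 : (π.comp f) x * (π z ^ k) ^ n * ((π.comp f) x)⁻¹ = (π.comp f) x * h * ((π.comp f) x)⁻¹ := by
        rw [← conj_zpow, hc, hn]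
      exact mul_left_cancel (mul_right_cancel h3)
  let g : Q →* Subgroup.normalizer (T : Set (G ⧸ Subgroup.center G)) := (π.comp f).codRestrict _ hle
  apply hQ
  have hker : Group.IsSolvable g.ker := by
    have hcen : ∀ a b : g.ker, a * b = b * a := by
      intro a b
      apply Subtype.ext
      apply hf
      have ha : f a ∈ Subgroup.center G := by
        have : g a = 1 := a.2
        have h2 := congrArg Subtype.val this
        exact (QuotientGroup.eq_one_iff (f a)).1 h2
      change f (a * b) = f (b * a)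
      rw [map_mul, map_mul]
      exact (Subgroup.mem_center_iff.1 ha (f b)).symm
    exact Group.isSolvable_of_comm hcen
  have := hsol
  exact Group.isSolvable_of_ker_le_range (g.ker.subtype) g (by
    intro x hx
    exact ⟨⟨x, hx⟩, rfl⟩)

/-! ### The block embedding -/

section block

variable {F : Type*} [Field F]

/-- The block matrix `diag(A, 1)`. -/
def blk (A : Matrix (Fin 2) (Fin 2) F) : Matrix (Fin 3) (Fin 3) F :=
  !![A 0 0, A 0 1, 0; A 1 0, A 1 1, 0; 0, 0, 1]

theorem blk_one : blk (1 : Matrix (Fin 2) (Fin 2) F) = 1 := by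
  ext i j
  fin_cases i <;> fin_cases j <;> simp [blk]

theorem blk_mul (A B : Matrix (Fin 2) (Fin 2) F) : blk (A * B) = blk A * blk B := by
  ext i j
  fin_cases i <;> fin_cases j <;>
    simp [blk, Matrix.mul_apply, Fin.sum_univ_two, Fin.sum_univ_three]

theorem det_blk (A : Matrix (Fin 2) (Fin 2) F) : (blk A).det = A.det := by
  rw [Matrix.det_fin_three, Matrix.det_fin_two]
  simp [blk]

theorem blk_injective : Function.Injective (blk : Matrix (Fin 2) (Fin 2) F → _) := by
  intro A B h
  have h00 := congrFun (congrFun h 0) 0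
  have h01 := congrFun (congrFun h 0) 1
  have h10 := congrFun (congrFun h 1) 0
  have h11 := congrFun (congrFun h 1) 1
  simp [blk] at h00 h01 h10 h11
  ext i j
  fin_cases i <;> fin_cases j <;> assumption

/-- `SL₂ → SL₃`, `A ↦ diag(A, 1)`. -/
def blkSL : Matrix.SpecialLinearGroup (Fin 2) F →* Matrix.SpecialLinearGroup (Fin 3) F where
  toFun A := ⟨blk A.1, by rw [det_blk, A.2]⟩
  map_one' := Subtype.ext (by simp [blk_one])
  map_mul' A B := Subtype.ext (by
    change blk (A * B).1 = blk A.1 * blk B.1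
    rw [← blk_mul]
    simp)

theorem blkSL_injective : Function.Injective (blkSL (F := F)) := by
  intro A B h
  exact Subtype.ext (blk_injective (congrArg Subtype.val h))

theorem coe_blkSL (A : Matrix.SpecialLinearGroup (Fin 2) F) :
    ((blkSL A : Matrix.SpecialLinearGroup (Fin 3) F) : Matrix (Fin 3) (Fin 3) F) = blk A.1 := rfl

theorem blk_mulVec (A : Matrix (Fin 2) (Fin 2) F) (u : Fin 3 → F) :
    blk A *ᵥ u = ![(A *ᵥ ![u 0, u 1]) 0, (A *ᵥ ![u 0, u 1]) 1, u 2] := by
  ext i
  fin_cases i <;> simp [blk, Matrix.mulVec, dotProduct, Fin.sum_univ_two, Fin.sum_univ_three]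

theorem hermForm_three (q : ℕ) (u v : Fin 3 → F) :
    hermForm 3 F q u v = hermForm 2 F q ![u 0, u 1] ![v 0, v 1] + u 2 * (v 2) ^ q := by
  simp [hermForm, Fin.sum_univ_two, Fin.sum_univ_three]

theorem blkSL_mem_SU {q : ℕ} {A : Matrix.SpecialLinearGroup (Fin 2) F} (hA : A ∈ SU 2 F q) :
    blkSL A ∈ SU 3 F q := by
  rw [LieClassical.SUBasic.mem_SU_iff] at hA ⊢
  intro u v
  have h := hA ![u 0, u 1] ![v 0, v 1]
  rw [coe_blkSL, hermForm_three, hermForm_three q u v, blk_mulVec, blk_mulVec, ← h]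
  congr 2
  · ext i
    fin_cases i <;> simp
  · ext i
    fin_cases i <;> simp

/-- `SU₂ → SU₃`, `A ↦ diag(A, 1)`. -/
def blkSU (q : ℕ) : SU 2 F q →* SU 3 F q :=
  (blkSL.comp (SU 2 F q).subtype).codRestrict _ (fun x => blkSL_mem_SU x.2)

theorem blkSU_injective (q : ℕ) : Function.Injective (blkSU (F := F) q) := by
  intro A B h
  exact Subtype.ext (blkSL_injective (congrArg Subtype.val h))

/-- The diagonal element `diag(c, c, c⁻²)`. -/
def dg (c : Fˣ) : Matrix.SpecialLinearGroup (Fin 3) F :=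
  ⟨Matrix.diagonal ![(c : F), (c : F), ((c⁻¹ ^ 2 : Fˣ) : F)], by
    rw [Matrix.det_diagonal, Fin.prod_univ_three]
    simp
    field_simp⟩

theorem blkSL_comm_dg (A : Matrix.SpecialLinearGroup (Fin 2) F) (c : Fˣ) :
    blkSL A * dg c = dg c * blkSL A := by
  apply Subtype.ext
  change blk A.1 * Matrix.diagonal _ = Matrix.diagonal _ * blk A.1
  ext i j
  rw [Matrix.mul_diagonal, Matrix.diagonal_mul]
  fin_cases i <;> fin_cases j <;> simp [blk, mul_comm]

/-- A diagonal matrix commuting with a matrix with nonzero `(i,j)` entry. -/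
theorem eq_of_comm_diagonal {d : Fin 3 → F} {B : Matrix (Fin 3) (Fin 3) F}
    (h : B * Matrix.diagonal d = Matrix.diagonal d * B) {i j : Fin 3} (hB : B i j ≠ 0) :
    d i = d j := by
  have h1 := congrFun (congrFun h i) j
  rw [Matrix.mul_diagonal, Matrix.diagonal_mul, mul_comm] at h1
  exact (mul_right_cancel₀ hB h1).symm

/-- The permutation matrix of a 3-cycle. -/
def cyc (q : ℕ) : SU 3 F q :=
  LieClassical.SUBasic.suPerm q (finRotate 3) (by rw [sign_finRotate]; rfl)

theorem cyc_apply (q : ℕ) :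
    (((cyc q : SU 3 F q) : Matrix.SpecialLinearGroup (Fin 3) F) : Matrix (Fin 3) (Fin 3) F) 1 2 ≠ 0 := by
  rw [cyc, LieClassical.SUBasic.coe_suPerm]
  rw [Equiv.Perm.permMatrix, PEquiv.toMatrix_apply]
  simp

theorem cube_of_comm {c : Fˣ} {B : Matrix.SpecialLinearGroup (Fin 3) F}
    (h : B * dg c = dg c * B) (hB : B.1 1 2 ≠ 0) : c ^ 3 = 1 := by
  have h1 : B.1 * Matrix.diagonal ![(c : F), (c : F), ((c⁻¹ ^ 2 : Fˣ) : F)] =
      Matrix.diagonal ![(c : F), (c : F), ((c⁻¹ ^ 2 : Fˣ) : F)] * B.1 := congrArg Subtype.val h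
  have h2 := eq_of_comm_diagonal h1 hB
  simp only [Matrix.cons_val_one, Matrix.cons_val] at h2
  have h3 : c = c⁻¹ ^ 2 := Units.ext h2
  rw [inv_pow] at h3
  calc c ^ 3 = c * c ^ 2 := by rw [pow_succ']
    _ = (c ^ 2)⁻¹ * c ^ 2 := by rw [← h3]
    _ = 1 := inv_mul_cancel _

/-- `SL₂(F)` is not solvable for `|F| ≥ 4`. -/
theorem not_isSolvable_sl (F : Type*) [Field F] [Fintype F] (h : 4 ≤ Fintype.card F) :
    ¬ Group.IsSolvable (Matrix.SpecialLinearGroup (Fin 2) F) := by
  intro hs
  refine ClassicalGeometry.PSL2Solvable.not_isSolvable_psl F h ?_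
  exact Group.isSolvable_of_surjective (f := QuotientGroup.mk' _) (QuotientGroup.mk'_surjective _)

/-- `PSL₃(F)`, `|F| ≥ 5`, is not an N-group. -/
theorem not_isNGroup_psl_three (F : Type*) [Field F] [Fintype F] (h : 5 ≤ Fintype.card F) :
    ¬ IsNGroup (Matrix.ProjectiveSpecialLinearGroup (Fin 3) F) := by
  classical
  obtain ⟨g, hg⟩ := IsCyclic.exists_generator (α := Fˣ)
  have ho : orderOf g = Fintype.card F - 1 := by
    rw [orderOf_eq_card_of_forall_mem_zpowers hg, Nat.card_eq_fintype_card, Fintype.card_units]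
  have hg3 : g ^ 3 ≠ 1 := by
    intro h3
    have := Nat.le_of_dvd (by norm_num) (orderOf_dvd_of_pow_eq_one h3)
    omega
  refine not_isNGroup_quotient_center (not_isSolvable_sl F (by omega)) blkSL blkSL_injective
    (dg g) ?_ (fun x => blkSL_comm_dg x g)
  intro hz
  exact hg3 (cube_of_comm ((Subgroup.mem_center_iff.1 hz) (cyc 0 : SU 3 F 0).1) (cyc_apply 0))

/-- `PSU₃(q)`, `q ≥ 4`, is not an N-group. -/
theorem not_isNGroup_psu_three {F : Type*} [Field F] [Fintype F] {q : ℕ}
    (hF : Fintype.card F = q ^ 2) (h : 4 ≤ q) : ¬ IsNGroup (PSU 3 F q) := by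
  classical
  obtain ⟨l, hl, hl3⟩ := LieExceptional.PSUThreeWitness.exists_lam hF h
  have hl0 : l ≠ 0 := by
    rintro rfl
    rw [zero_pow (Nat.succ_ne_zero q)] at hl
    exact zero_ne_one hl
  -- a field with `q` elements
  obtain ⟨p, hp⟩ := CharP.exists F
  have hpp : p.Prime := (CharP.char_is_prime_or_zero F p).resolve_right
    (CharP.char_ne_zero_of_finite F p)
  have := Fact.mk hpp
  obtain ⟨m, _, hm⟩ := FiniteField.card F p
  rw [hF] at hm
  have h1 : q ∣ p ^ (m : ℕ) := by rw [← hm]; exact dvd_pow_self q two_ne_zero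
  obtain ⟨n, -, hn⟩ := (Nat.dvd_prime_pow hpp).1 h1
  have hn0 : n ≠ 0 := by
    rintro rfl
    rw [pow_zero] at hn
    omega
  have : Fintype (GaloisField p n) := Fintype.ofFinite _
  have hcard : Fintype.card (GaloisField p n) = q := by
    rw [← Nat.card_eq_fintype_card, GaloisField.card p n hn0, hn]
  obtain ⟨e⟩ := S0281.result hF hcard
  have hns : ¬ Group.IsSolvable (SU 2 F q) := by
    intro hs
    refine not_isSolvable_sl (GaloisField p n) (by rw [hcard]; exact h) ?_
    exact Group.isSolvable_of_surjective (f := e.toMonoidHom) e.surjective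
  set c : Fˣ := Units.mk0 l hl0 with hc
  have hcq : c ^ (q + 1) = 1 := Units.ext (by simpa [hc] using hl)
  have hmem : dg c ∈ SU 3 F q := by
    have hnorm : ∀ i : Fin 3, (![(c : F), (c : F), ((c⁻¹ ^ 2 : Fˣ) : F)] i) ^ (q + 1) = 1 := by
      have h2 : ((c⁻¹ ^ 2 : Fˣ) : F) ^ (q + 1) = 1 := by
        rw [← Units.val_pow_eq_pow_val, ← pow_mul, mul_comm, pow_mul, inv_pow, hcq]
        simp
      have h3 : (c : F) ^ (q + 1) = 1 := hl
      intro i
      fin_cases i
      · exact h3
      · exact h3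
      · exact h2
    exact (LieClassical.SUBasic.suDiag q ![(c : F), (c : F), ((c⁻¹ ^ 2 : Fˣ) : F)]
      (by rw [← Matrix.det_diagonal]; exact (dg c).2) hnorm).2
  refine not_isNGroup_quotient_center hns (blkSU q) (blkSU_injective q) ⟨dg c, hmem⟩ ?_ ?_
  · intro hz
    have h3 := (Subgroup.mem_center_iff.1 hz) (cyc q : SU 3 F q)
    have h4 := cube_of_comm (congrArg Subtype.val h3) (cyc_apply q)
    apply hl3
    have := congrArg Units.val h4
    simpa [hc] using this
  · intro x
    exact Subtype.ext (blkSL_comm_dg x.1 c)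

end block

end Cfsg.Agent.Classification.NGroupExclude
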