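import Mathlib
import Cfsg.Prelude.Def_Sz
import Cfsg.Prelude.Def_CaseTheorems
import Cfsg.Prelude.Def_Involutions
import Cfsg.Agent.Classification.MinSimpleSuzuki
import Cfsg.Agent.Classification.NGroupExclude
import Cfsg.Agent.Lib.ComponentSolvable
import Cfsg.Agent.Lib.Cores
import Cfsg.Agent.S0810

/-!
# The classification of the minimal simple groups: assembly

The deep inputs are hypotheses; `S0488` and `S0490` instantiate them.
-/

set_option autoImplicit false

namespace Cfsg.Agent.Classification.MinSimpleMain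

open Cfsg

universe u

variable {G : Type u} [Group G]

/-- The list of S0488, with explicit Suzuki groups. -/
def Concl (G : Type u) [Group G] : Prop :=
  (∃ p : ℕ, p.Prime ∧ ∃ (F : Type) (_ : Field F) (_ : Fintype F), Fintype.card F = 2 ^ p ∧
      Nonempty (G ≃* Matrix.ProjectiveSpecialLinearGroup (Fin 2) F)) ∨
    (∃ p : ℕ, p.Prime ∧ p ≠ 2 ∧ ∃ (F : Type) (_ : Field F) (_ : Fintype F), Fintype.card F = 3 ^ p ∧
      Nonempty (G ≃* Matrix.ProjectiveSpecialLinearGroup (Fin 2) F)) ∨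
    (∃ p : ℕ, p.Prime ∧ (p = 5 ∨ (5 < p ∧ (p % 5 = 2 ∨ p % 5 = 3))) ∧
      ∃ (F : Type) (_ : Field F) (_ : Fintype F), Fintype.card F = p ∧
        Nonempty (G ≃* Matrix.ProjectiveSpecialLinearGroup (Fin 2) F)) ∨
    (∃ (F : Type) (_ : Field F) (_ : Fintype F), Fintype.card F = 3 ∧
      Nonempty (G ≃* Matrix.ProjectiveSpecialLinearGroup (Fin 3) F)) ∨
    (∃ (F : Type) (_ : Field F) (_ : Fintype F) (m : ℕ), 1 ≤ m ∧ (2 * m + 1).Prime ∧
      Fintype.card F = 2 ^ (2 * m + 1) ∧ Nonempty (G ≃* Cfsg.Lie.Sz F (2 ^ (m + 1))))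

/-- Minimal simple groups are N-groups. -/
theorem isNGroup [Finite G] (hG : IsMinimalSimple G) : IsNGroup G := by
  rintro N ⟨p, T, hp, hT, hT1, rfl⟩
  apply hG.2.2
  intro htop
  have hTn : T.Normal := Subgroup.normalizer_eq_top_iff.1 htop
  have hsimp := hG.1
  rcases hTn.eq_bot_or_eq_top with h | h
  · exact hT1 h
  · apply hG.2.1
    have hfact : Fact p.Prime := ⟨hp⟩
    have hGp : IsPGroup p G := by
      rw [h] at hT
      exact hT.of_equiv Subgroup.topEquiv
    have hnil : Group.IsNilpotent G := hGp.isNilpotent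
    have hs : Group.IsSolvable G := inferInstance
    exact ⟨⟨IsSimpleGroup.comm_iff_isSolvable.mpr hs⟩⟩

theorem of_psl_two {F : Type} [Field F] [Fintype F] (hG : IsMinimalSimple G)
    (e : G ≃* Matrix.ProjectiveSpecialLinearGroup (Fin 2) F) : Concl G := by
  have h := MinSimpleSuzuki.isMinimalSimple_congr e hG
  rcases (S0810.result (F := F) rfl).1 h with ⟨r, hr, hF⟩ | ⟨r, hr, hr2, hF⟩ | ⟨hp, h5, h23⟩ | h5
  · exact Or.inl ⟨r, hr, F, _, _, hF, ⟨e⟩⟩
  · exact Or.inr (Or.inl ⟨r, hr, hr2, F, _, _, hF, ⟨e⟩⟩)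
  · exact Or.inr (Or.inr (Or.inl ⟨_, hp, Or.inr ⟨h5, h23⟩, F, _, _, rfl, ⟨e⟩⟩))
  · exact Or.inr (Or.inr (Or.inl ⟨5, by norm_num, Or.inl rfl, F, _, _, h5, ⟨e⟩⟩))

theorem of_isoSuzuki (hG : IsMinimalSimple G) (h : Cfsg.Lie.IsoSuzuki G) : Concl G := by
  obtain ⟨F, _, _, m, hm, hF, ⟨e⟩⟩ := h
  exact Or.inr (Or.inr (Or.inr (Or.inr ⟨F, _, _, m, hm,
    MinSimpleSuzuki.prime_of_isMinimalSimple hm hF (MinSimpleSuzuki.isMinimalSimple_congr e hG),
    hF, ⟨e⟩⟩)))

theorem not_psl_three [Finite G] {F : Type} [Field F] [Fintype F] (hG : IsMinimalSimple G)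
    (h5 : 5 ≤ Fintype.card F) (e : G ≃* Matrix.ProjectiveSpecialLinearGroup (Fin 3) F) : False :=
  NGroupExclude.not_isNGroup_psl_three F h5 (NGroupExclude.isNGroup_congr e (isNGroup hG))

theorem not_psu_three [Finite G] {F : Type} [Field F] [Fintype F] {q : ℕ}
    (hG : IsMinimalSimple G) (hq : Fintype.card F = q ^ 2) (h4 : 4 ≤ q) (e : G ≃* Cfsg.PSU 3 F q) :
    False :=
  NGroupExclude.not_isNGroup_psu_three hq h4 (NGroupExclude.isNGroup_congr e (isNGroup hG))

/-- The alternating group of degree 7 is not minimal simple. -/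
theorem not_alternating_seven (hG : IsMinimalSimple G)
    (e : G ≃* alternatingGroup (Fin 7)) : False := by
  have h := MinSimpleSuzuki.isMinimalSimple_congr e hG
  let c : Fin 5 ≃ {i : Fin 7 // (i : ℕ) < 5} := Fin.castLEquiv (show 5 ≤ 7 by norm_num)
  let f : Equiv.Perm (Fin 5) →* Equiv.Perm (Fin 7) := Equiv.Perm.extendDomainHom c
  have hf : Function.Injective f := Equiv.Perm.extendDomainHom_injective c
  have hle : (alternatingGroup (Fin 5)).map f ≤ alternatingGroup (Fin 7) := by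
    rintro _ ⟨x, hx, rfl⟩
    rw [SetLike.mem_coe, Equiv.Perm.mem_alternatingGroup] at hx
    rw [Equiv.Perm.mem_alternatingGroup]
    show Equiv.Perm.sign (x.extendDomain c) = 1
    rw [Equiv.Perm.sign_extendDomain, hx]
  set D : Subgroup (alternatingGroup (Fin 7)) :=
    ((alternatingGroup (Fin 5)).map f).subgroupOf (alternatingGroup (Fin 7)) with hD
  let e1 : alternatingGroup (Fin 5) ≃* D :=
    ((alternatingGroup (Fin 5)).equivMapOfInjective f hf).trans
      (Subgroup.subgroupOfEquivOfLe hle).symm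
  have hDtop : D ≠ ⊤ := by
    intro ht
    have h1 : Nat.card D = Nat.card (alternatingGroup (Fin 7)) := by
      rw [ht]; exact Subgroup.card_top
    rw [← Nat.card_congr e1.toEquiv] at h1
    have h2 : 2 * Nat.card (alternatingGroup (Fin 5)) = (5 : ℕ).factorial := by
      rw [two_mul_nat_card_alternatingGroup, Nat.card_perm, Nat.card_fin]
    have h3 : 2 * Nat.card (alternatingGroup (Fin 7)) = (7 : ℕ).factorial := by
      rw [two_mul_nat_card_alternatingGroup, Nat.card_perm, Nat.card_fin]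
    rw [← h1, h2] at h3
    have h4 : (5 : ℕ).factorial < (7 : ℕ).factorial := (Nat.factorial_lt (by norm_num)).2 (by norm_num)
    omega
  have hsol := h.2.2 _ hDtop
  exact ClassicalGeometry.PSL2Solvable.not_isSolvable_alternating_five
    (Group.isSolvable_of_surjective (f := e1.symm.toMonoidHom) e1.symm.surjective)

/-- The groups with a strongly embedded subgroup. -/
theorem of_bender [Finite G] (hG : IsMinimalSimple G)
    (h : (∃ (F : Type) (_ : Field F) (_ : Fintype F),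
        Nonempty (G ≃* Matrix.ProjectiveSpecialLinearGroup (Fin 2) F)) ∨ Cfsg.Lie.IsoSuzuki G ∨
      (∃ (F : Type) (_ : Field F) (_ : Fintype F) (q : ℕ), Fintype.card F = q ^ 2 ∧ 4 ≤ q ∧
        Nonempty (G ≃* Cfsg.PSU 3 F q))) : Concl G := by
  rcases h with ⟨F, _, _, ⟨e⟩⟩ | h | ⟨F, _, _, q, hq, h4, ⟨e⟩⟩
  · exact of_psl_two hG e
  · exact of_isoSuzuki hG h
  · exact (not_psu_three hG hq h4 e).elim

theorem not_comm (hG : IsMinimalSimple G) : ∃ a b : G, a * b ≠ b * a := by
  by_contra hcon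
  push Not at hcon
  exact hG.2.1 ⟨⟨hcon⟩⟩

theorem even_card [Finite G] (hG : IsMinimalSimple G)
    (h205 : Odd (Nat.card G) → Group.IsSolvable G) : Even (Nat.card G) := by
  rw [← Nat.not_odd_iff_even]
  intro hodd
  have hs := h205 hodd
  have := hG.1
  obtain ⟨a, b, hab⟩ := not_comm hG
  exact hab (IsSimpleGroup.comm_iff_isSolvable.mpr hs a b)

theorem index_ne_two (hG : IsMinimalSimple G) (N : Subgroup G) (hNn : N.Normal) :
    N.index ≠ 2 := by
  intro hi
  have := hG.1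
  obtain ⟨a, b, hab⟩ := not_comm hG
  rcases hNn.eq_bot_or_eq_top with rfl | rfl
  · rw [Subgroup.index_bot] at hi
    have : IsCyclic G := isCyclic_of_prime_card (p := 2) (hp := ⟨Nat.prime_two⟩) hi
    exact hab ((IsCyclic.isMulCommutative (α := G)).is_comm.comm a b)
  · rw [Subgroup.index_top] at hi
    omega

theorem oddCore_eq_bot [Finite G] (hG : IsMinimalSimple G) (heven : Even (Nat.card G)) :
    oddCore G = ⊥ := by
  have := hG.1
  have hn : (oddCore G).Normal := Lib.Cores.pPrimeCore_normal 2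
  rcases hn.eq_bot_or_eq_top with h | h
  · exact h
  · exfalso
    have hc : (Nat.card (oddCore G)).Coprime 2 := Lib.Cores.pPrimeCore_coprime (G := G) 2
    rw [h, Subgroup.card_top] at hc
    exact (Nat.not_even_iff_odd.2 (Nat.coprime_two_right.1 hc)) heven

/-- Groups all of whose 2-local subgroups are solvable are not of component type. -/
theorem not_isComponentType (hG : IsMinimalSimple G) [Finite G] : ¬ IsComponentType G := by
  rintro ⟨t, ht, K, -, hK⟩
  have hs : Group.IsSolvable (Subgroup.centralizer ({t} : Set G)) := by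
    apply hG.2.2
    intro htop
    have hsimp := hG.1
    have hc : t ∈ Subgroup.center G := by
      rw [Subgroup.mem_center_iff]
      intro g
      have : g ∈ Subgroup.centralizer ({t} : Set G) := by rw [htop]; trivial
      rw [Subgroup.mem_centralizer_singleton_iff] at this
      exact this
    rcases (inferInstance : (Subgroup.center G).Normal).eq_bot_or_eq_top with h | h
    · rw [h, Subgroup.mem_bot] at hc
      rw [hc, orderOf_one] at ht
      omega
    · obtain ⟨a, b, hab⟩ := not_comm hG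
      have : b ∈ Subgroup.center G := by rw [h]; trivial
      exact hab (Subgroup.mem_center_iff.1 this a)
  have hq : Group.IsSolvable (↥(Subgroup.centralizer ({t} : Set G)) ⧸
      oddCore ↥(Subgroup.centralizer ({t} : Set G))) := inferInstance
  exact Lib.ComponentSolvable.quasisimple_not_solvable hK inferInstance

/-- The minimal simple groups of 2-rank at most 2, from the possible Sylow 2-subgroups. -/
theorem rank_two [Finite G] (hG : IsMinimalSimple G)
    (hsyl : ∃ S : Sylow 2 G,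
      (∃ n : ℕ, 2 ≤ n ∧ Nonempty ((S : Subgroup G) ≃* DihedralGroup n)) ∨
        Cfsg.IsQuasiDihedral (S : Subgroup G) ∨ Cfsg.IsWreathed (S : Subgroup G) ∨
        ∃ P : Sylow 2 (Cfsg.PSU 3 (GaloisField 2 4) 4),
          Nonempty ((S : Subgroup G) ≃* (P : Subgroup (Cfsg.PSU 3 (GaloisField 2 4) 4))))
    (hdih : ∀ S : Sylow 2 G, (∃ n : ℕ, 2 ≤ n ∧ Nonempty ((S : Subgroup G) ≃* DihedralGroup n)) →
      (∃ (F : Type) (_ : Field F) (_ : Fintype F),
        Nonempty (G ≃* Matrix.ProjectiveSpecialLinearGroup (Fin 2) F)) ∨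
      Nonempty (G ≃* alternatingGroup (Fin 7)))
    (hR2 : ∀ S : Sylow 2 G, Cfsg.IsQuasiDihedral (S : Subgroup G) ∨
        Cfsg.IsWreathed (S : Subgroup G) →
      ∃ (F : Type) (_ : Field F) (_ : Fintype F), Fintype.card F = 3 ∧
        Nonempty (G ≃* Matrix.ProjectiveSpecialLinearGroup (Fin 3) F))
    (hU : ∀ (S : Sylow 2 G) (P : Sylow 2 (Cfsg.PSU 3 (GaloisField 2 4) 4)),
      Nonempty ((S : Subgroup G) ≃* (P : Subgroup (Cfsg.PSU 3 (GaloisField 2 4) 4))) →
        Nonempty (G ≃* Cfsg.PSU 3 (GaloisField 2 4) 4)) : Concl G := by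
  have : Fact (Nat.Prime 2) := ⟨Nat.prime_two⟩
  obtain ⟨S, h | h | h | ⟨P, h⟩⟩ := hsyl
  · rcases hdih S h with ⟨F, _, _, ⟨e⟩⟩ | ⟨⟨e⟩⟩
    · exact of_psl_two hG e
    · exact (not_alternating_seven hG e).elim
  · exact Or.inr (Or.inr (Or.inr (Or.inl (hR2 S (Or.inl h)))))
  · exact Or.inr (Or.inr (Or.inr (Or.inl (hR2 S (Or.inr h)))))
  · obtain ⟨e⟩ := hU S P h
    have hfin : Fintype (GaloisField 2 4) := Fintype.ofFinite _
    have hcard : Fintype.card (GaloisField 2 4) = 4 ^ 2 := by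
      rw [Fintype.card_eq_nat_card, GaloisField.card 2 4 (by norm_num)]
      norm_num
    exact (not_psu_three (F := GaloisField 2 4) (q := 4) hG hcard le_rfl e).elim

/-- The main theorem from its inputs. -/
theorem main [Finite G] (hG : IsMinimalSimple G)
    (h205 : Odd (Nat.card G) → Group.IsSolvable G)
    (h1296 : Even (Nat.card G) → (∀ N : Subgroup G, N.Normal → N.index ≠ 2) →
      Cfsg.oddCore G = ⊥ →
      Cfsg.PRankLE 2 2 G ∨ Cfsg.IsComponentType G ∨ Cfsg.IsCharacteristicTwoType G)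
    (hT1 : IsCharacteristicTwoType G → ¬ PRankLE 2 2 G → ∃ H : Subgroup G, IsStronglyEmbedded H)
    (hB : ∀ H : Subgroup G, IsStronglyEmbedded H →
      (∃ (F : Type) (_ : Field F) (_ : Fintype F),
        Nonempty (G ≃* Matrix.ProjectiveSpecialLinearGroup (Fin 2) F)) ∨ Cfsg.Lie.IsoSuzuki G ∨
      (∃ (F : Type) (_ : Field F) (_ : Fintype F) (q : ℕ), Fintype.card F = q ^ 2 ∧ 4 ≤ q ∧
        Nonempty (G ≃* Cfsg.PSU 3 F q)))
    (h2 : PRankLE 2 2 G → Concl G) : Concl G := by
  have heven := even_card hG h205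
  rcases h1296 heven (index_ne_two hG) (oddCore_eq_bot hG heven) with h | h | h
  · exact h2 h
  · exact absurd h (not_isComponentType hG)
  · by_cases h3 : PRankLE 2 2 G
    · exact h2 h3
    · obtain ⟨H, hH⟩ := hT1 h h3
      exact of_bender hG (hB H hH)

/-- The order-level form used in the statement of S0488. -/
theorem Concl.order (hG : IsMinimalSimple G) (h : Concl G) :
    (∃ p : ℕ, p.Prime ∧ ∃ (F : Type) (_ : Field F) (_ : Fintype F), Fintype.card F = 2 ^ p ∧ Nonempty (G ≃* Matrix.ProjectiveSpecialLinearGroup (Fin 2) F)) ∨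
      (∃ p : ℕ, p.Prime ∧ p ≠ 2 ∧ ∃ (F : Type) (_ : Field F) (_ : Fintype F), Fintype.card F = 3 ^ p ∧ Nonempty (G ≃* Matrix.ProjectiveSpecialLinearGroup (Fin 2) F)) ∨
      (∃ p : ℕ, p.Prime ∧ (p = 5 ∨ (5 < p ∧ (p % 5 = 2 ∨ p % 5 = 3))) ∧ ∃ (F : Type) (_ : Field F) (_ : Fintype F), Fintype.card F = p ∧ Nonempty (G ≃* Matrix.ProjectiveSpecialLinearGroup (Fin 2) F)) ∨
      (∃ (F : Type) (_ : Field F) (_ : Fintype F), Fintype.card F = 3 ∧ Nonempty (G ≃* Matrix.ProjectiveSpecialLinearGroup (Fin 3) F)) ∨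
      (Cfsg.IsSuzuki G ∧ ∃ p : ℕ, p.Prime ∧ Nat.card G = (2 ^ p) ^ 2 * ((2 ^ p) ^ 2 + 1) * (2 ^ p - 1)) := by
  rcases h with h | h | h | h | ⟨F, _, _, m, hm, hp, hF, ⟨e⟩⟩
  · exact Or.inl h
  · exact Or.inr (Or.inl h)
  · exact Or.inr (Or.inr (Or.inl h))
  · exact Or.inr (Or.inr (Or.inr (Or.inl h)))
  · have h3 : Nat.card G =
        (2 ^ (2 * m + 1)) ^ 2 * ((2 ^ (2 * m + 1)) ^ 2 + 1) * (2 ^ (2 * m + 1) - 1) := by
      rw [Nat.card_congr e.toEquiv, (Cfsg.Agent.S1163.result hm hF).1]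
      ring
    exact Or.inr (Or.inr (Or.inr (Or.inr ⟨⟨hG.1, m, hm, h3⟩, 2 * m + 1, hp, h3⟩)))

end Cfsg.Agent.Classification.MinSimpleMain
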