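import Mathlib
import Cfsg.Agent.TwoFusion.GoldMain
import Cfsg.Agent.TwoFusion.GoldM1Glue
import Cfsg.Agent.TwoFusion.GoldM1Fin
import Cfsg.Agent.S1248
import Cfsg.Agent.Lib.ComponentSolvable

/-!
# Minimal simple groups with Sylow 2-subgroups of type `PSU(3,4)`

A minimal simple group whose Sylow 2-subgroup is isomorphic to one of `PSU(3,4)` has a strongly embedded
subgroup.  (Case [M1] of Goldschmidt's theorem; no other part of that theorem is used.)
-/

set_option autoImplicit false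

namespace Cfsg.Agent.Classification.MinSimpleUThree

open Subgroup
open Cfsg.Agent.TwoFusion.ClosedFam Cfsg.Agent.TwoFusion.Gold Cfsg.Agent.TwoFusion.GoldSetup

universe u

variable {G : Type u} [Group G] [Finite G]

/-- Proper subgroups of a minimal simple group lead to contexts. -/
theorem ctx (hG : Cfsg.IsMinimalSimple G) {ℬ : Set G} (hB : IsElemFam ℬ) {H : Subgroup G}
    (hH : H ≠ ⊤) : Ctx (push ℬ H) := by
  refine ⟨hB.push H, Cfsg.Agent.Lib.Cores.pPrimeCore_quotient_pPrimeCore 2, ?_⟩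
  intro K hK
  exfalso
  have h1 : Group.IsSolvable H := hG.2.2 H hH
  have h2 : Group.IsSolvable (↥H ⧸ Cfsg.oddCore ↥H) := inferInstance
  exact Cfsg.Agent.Lib.ComponentSolvable.quasisimple_not_solvable hK.2 inferInstance

omit [Finite G] in
theorem centralizer_ne_top (hG : Cfsg.IsMinimalSimple G) {w : G} (hw : w ≠ 1) :
    centralizer ({w} : Set G) ≠ ⊤ := by
  intro ht
  have hs := hG.1
  have hc : w ∈ center G := by
    rw [mem_center_iff]
    intro g
    have hg : g ∈ centralizer ({w} : Set G) := by rw [ht]; exact mem_top g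
    exact mem_centralizer_singleton_iff.1 hg
  rcases IsSimpleGroup.eq_bot_or_eq_top_of_normal (center G) inferInstance with hb | hb
  · rw [hb, mem_bot] at hc; exact hw hc
  · apply hG.2.1
    refine ⟨⟨fun a b => ?_⟩⟩
    have : b ∈ center G := by rw [hb]; exact mem_top b
    exact mem_center_iff.1 this a

/-- The strongly closed subgroup `A = Ω₁(S)` of order four. -/
theorem false_of_four (hG : Cfsg.IsMinimalSimple G)
    (hSE : ¬ ∃ H : Subgroup G, Cfsg.IsStronglyEmbedded H) (S : Sylow 2 G) (A : Subgroup G)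
    (hAS : A ≤ (S : Subgroup G)) (h4 : Nat.card A = 4) (hsq : ∀ x ∈ A, x * x = 1)
    (hinv : ∀ x ∈ (S : Subgroup G), x * x = 1 → x ∈ A)
    (hna : ∃ x ∈ (S : Subgroup G), ∃ y ∈ (S : Subgroup G), x * y ≠ y * x) : False := by
  have hfact : Fact (Nat.Prime 2) := ⟨Nat.prime_two⟩
  have hsimple := hG.1
  have hnonab : ∃ a b : G, a * b ≠ b * a := by
    obtain ⟨x, -, y, -, h⟩ := hna
    exact ⟨x, y, h⟩
  have hsc : Cfsg.IsStronglyClosed A (S : Subgroup G) := by
    refine ⟨hAS, fun a ha g hg => hinv _ hg ?_⟩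
    have h1 := hsq a ha
    calc g * a * g⁻¹ * (g * a * g⁻¹) = g * (a * a) * g⁻¹ := by group
      _ = 1 := by rw [h1]; group
  have hfam : IsElemFam {x : G | ∃ g : G, g * x * g⁻¹ ∈ A} := by
    refine { toIsClosedFam := isClosedFam_of_isStronglyClosed S A hsc, sq := ?_ }
    rintro x ⟨g, hg⟩
    have h1 := hsq _ hg
    calc x * x = g⁻¹ * (g * x * g⁻¹ * (g * x * g⁻¹)) * g := by group
      _ = 1 := by rw [h1]; group
  have hAne : A ≠ ⊥ := by
    rintro rfl
    rw [card_bot] at h4
    omega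
  have hne : ∃ x ∈ {x : G | ∃ g : G, g * x * g⁻¹ ∈ A}, x ≠ 1 := by
    obtain ⟨a, ha⟩ := Subgroup.ne_bot_iff_exists_ne_one.1 hAne
    exact ⟨a, ⟨1, by simp⟩, fun e => ha (Subtype.ext e)⟩
  obtain ⟨ℬ, ⟨hB1, hB2, hB3⟩, hmin⟩ := Set.Finite.exists_minimal
    (Set.toFinite {ℬ : Set G | IsElemFam ℬ ∧ ℬ ⊆ {x : G | ∃ g : G, g * x * g⁻¹ ∈ A} ∧
      ∃ x ∈ ℬ, x ≠ 1}) ⟨_, hfam, subset_rfl, hne⟩
  have h : Setup ℬ := by
    refine ⟨hsimple, hnonab, hB1, hB3, ?_, ?_, fun H hH => ctx hG hB1 hH, hSE⟩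
    · intro 𝒞 h1 h2 h3
      exact subset_antisymm h2 (hmin ⟨h1, h2.trans hB2, h3⟩ h2)
    · intro w _ hw1
      exact ctx hG hB1 (centralizer_ne_top hG hw1)
  have hle : fam ℬ (S : Subgroup G) ≤ A := by
    intro x hx
    have h1 := (h.mem_iff S).1 hx
    exact hinv x h1.2 (hB1.sq x h1.1)
  have hcard : Nat.card (fam ℬ (S : Subgroup G)) = 4 := by
    have h1 : Nat.card (fam ℬ (S : Subgroup G)) ∣ 4 := h4 ▸ Subgroup.card_dvd_of_le hle
    have h2 := h.card_ne_two S
    have h3 : Nat.card (fam ℬ (S : Subgroup G)) ≠ 1 := by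
      intro h5
      exact h.fam_ne_bot S (Subgroup.card_eq_one.1 h5)
    have h5 : Nat.card (fam ℬ (S : Subgroup G)) ≤ 4 := Nat.le_of_dvd (by norm_num) h1
    have h6 : 0 < Nat.card (fam ℬ (S : Subgroup G)) := Nat.card_pos
    interval_cases hc : Nat.card (fam ℬ (S : Subgroup G))
    · exact absurd rfl h3
    · exact absurd rfl h2
    · omega
    · rfl
  have heq : fam ℬ (S : Subgroup G) = A :=
    Subgroup.eq_of_le_of_card_ge hle (by rw [hcard, h4])
  have hsolv : ∀ X : Subgroup G, Odd (Nat.card X) → Group.IsSolvable X := by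
    intro X hX
    by_cases hXt : X = ⊤
    · exfalso
      rw [hXt, card_top] at hX
      have h2 : 2 ∣ Nat.card G := by
        have h5 : 4 ∣ Nat.card G := h4 ▸ Subgroup.card_subgroup_dvd_card A
        exact (by norm_num : 2 ∣ 4).trans h5
      exact (Nat.not_even_iff_odd.2 hX) (even_iff_two_dvd.2 h2)
    · exact hG.2.2 X hXt
  obtain ⟨g0, F⟩ := Cfsg.Agent.TwoFusion.GoldM1Glue.exists_frame h S hcard
    (fun x hx hxx => by rw [heq]; exact hinv x hx hxx) hna hsolv
  exact Cfsg.Agent.TwoFusion.GoldM1Fin.false_of_frame F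

/-- **Main result.** -/
theorem exists_stronglyEmbedded (hG : Cfsg.IsMinimalSimple G)
    {F : Type*} [Field F] [Fintype F] (hF : Fintype.card F = 16) (S : Sylow 2 G)
    (P : Sylow 2 (Cfsg.PSU 3 F 4))
    (hS : Nonempty ((S : Subgroup G) ≃* (P : Subgroup (Cfsg.PSU 3 F 4)))) :
    ∃ H : Subgroup G, Cfsg.IsStronglyEmbedded H := by
  by_contra hSE
  have hfact : Fact (Nat.Prime 2) := ⟨Nat.prime_two⟩
  obtain ⟨e⟩ := hS
  obtain ⟨h64, hK4, hZ1, hZ2, -, -⟩ := Cfsg.Agent.S1248.result hF P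
  have hcen : ∀ x : (S : Subgroup G), x ∈ Subgroup.center (S : Subgroup G) ↔
      e x ∈ Subgroup.center (P : Subgroup (Cfsg.PSU 3 F 4)) := by
    intro x
    rw [Subgroup.mem_center_iff, Subgroup.mem_center_iff]
    constructor
    · intro h g
      obtain ⟨y, rfl⟩ := e.surjective g
      rw [← map_mul, ← map_mul, h y]
    · intro h g
      apply e.injective
      rw [map_mul, map_mul, h (e g)]
  have hinv : ∀ x : (S : Subgroup G), orderOf x = 2 → x ∈ Subgroup.center (S : Subgroup G) := by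
    intro x hx
    rw [hcen, hZ1]
    apply Subgroup.subset_closure
    show orderOf (e x) = 2
    exact (orderOf_injective e.toMonoidHom e.injective x).trans hx
  have hsq : ∀ x ∈ Subgroup.center (S : Subgroup G), x * x = 1 := by
    intro x hx
    have h1 := (hcen x).mp hx
    have h2 : (⟨e x, h1⟩ : Subgroup.center (P : Subgroup (Cfsg.PSU 3 F 4))) * ⟨e x, h1⟩ = 1 :=
      IsKleinFour.mul_self _
    have h3 : e x * e x = 1 := congrArg Subtype.val h2
    apply e.injective
    rw [map_mul, h3, map_one]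
  have hZcard : Nat.card (Subgroup.center (S : Subgroup G)) = 4 := by
    rw [← IsKleinFour.card_four (G := Subgroup.center (P : Subgroup (Cfsg.PSU 3 F 4)))]
    exact Nat.card_congr (Subgroup.centerCongr e).toEquiv
  refine false_of_four hG hSE S ((Subgroup.center (S : Subgroup G)).map (S : Subgroup G).subtype)
    (Subgroup.map_subtype_le _) ?_ ?_ ?_ ?_
  · rw [← hZcard]
    exact (Nat.card_congr ((Subgroup.center (S : Subgroup G)).equivMapOfInjective _
      (Subgroup.subtype_injective _)).toEquiv).symm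
  · rintro _ ⟨x, hx, rfl⟩
    exact congrArg Subtype.val (hsq x hx)
  · intro x hx hxx
    by_cases h1 : x = 1
    · rw [h1]; exact one_mem _
    · refine ⟨⟨x, hx⟩, hinv _ ?_, rfl⟩
      refine orderOf_eq_prime ?_ fun h2 => h1 (congrArg Subtype.val h2)
      rw [pow_two]
      exact Subtype.ext hxx
  · by_contra hcon
    push Not at hcon
    have h1 : Subgroup.center (S : Subgroup G) = ⊤ := by
      rw [eq_top_iff]
      intro x _
      rw [Subgroup.mem_center_iff]
      intro g
      exact Subtype.ext (hcon g g.2 x x.2)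
    have h2 : Nat.card (S : Subgroup G) = 64 := (Nat.card_congr e.toEquiv).trans h64
    rw [h1, Subgroup.card_top, h2] at hZcard
    omega

end Cfsg.Agent.Classification.MinSimpleUThree
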