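import Mathlib
import Cfsg.Agent.Classification.MinSimpleMain
import Cfsg.Agent.Classification.MinSimpleUThree
import Cfsg.Agent.Classification.GWSolvable.Induct

/-!
# Minimal simple groups: the theorem from its inputs

`concl` states the theorem on minimal simple groups (S0488) for one group, with the big theorems it needs
(odd order, dichotomy, strongly embedded subgroups, groups of 2-rank two, core theorem T1) as explicit
hypotheses in exactly the form in which they are proved elsewhere.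
-/

set_option autoImplicit false

namespace Cfsg.Agent.Classification.MinSimpleFinal

open Cfsg Cfsg.Agent.Classification.MinSimpleMain
open Cfsg.Agent.Classification.GWDefs Cfsg.Agent.Classification.DihMinimal

universe u

/-- A minimal simple group is not commutative. -/
theorem not_isMulCommutative {G : Type u} [Group G] (hG : IsMinimalSimple G) :
    ¬ IsMulCommutative G := hG.2.1

/-- The groups with a strongly embedded subgroup, in the form of `StrongEmb.Strong.result`. -/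
theorem bender_form {G : Type u} [Group G]
    (h : (∃ (F : Type) (_ : Field F) (_ : Fintype F), (∃ n : ℕ, 2 ≤ n ∧ Fintype.card F = 2 ^ n) ∧
          Nonempty (G ≃* Matrix.ProjectiveSpecialLinearGroup (Fin 2) F)) ∨
        Cfsg.Lie.IsoSuzuki G ∨
        (∃ (F : Type) (_ : Field F) (_ : Fintype F) (n : ℕ), 2 ≤ n ∧
          Fintype.card F = (2 ^ n) ^ 2 ∧ Nonempty (G ≃* Cfsg.PSU 3 F (2 ^ n)))) :
    (∃ (F : Type) (_ : Field F) (_ : Fintype F),
        Nonempty (G ≃* Matrix.ProjectiveSpecialLinearGroup (Fin 2) F)) ∨ Cfsg.Lie.IsoSuzuki G ∨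
      (∃ (F : Type) (_ : Field F) (_ : Fintype F) (q : ℕ), Fintype.card F = q ^ 2 ∧ 4 ≤ q ∧
        Nonempty (G ≃* Cfsg.PSU 3 F q)) := by
  rcases h with ⟨F, i, j, -, e⟩ | h | ⟨F, i, j, n, hn, hF, e⟩
  · exact Or.inl ⟨F, i, j, e⟩
  · exact Or.inr (Or.inl h)
  · refine Or.inr (Or.inr ⟨F, i, j, 2 ^ n, hF, ?_, e⟩)
    calc 4 = 2 ^ 2 := by norm_num
      _ ≤ 2 ^ n := Nat.pow_le_pow_right (by norm_num) hn

/-- **The theorem on minimal simple groups** from its inputs. -/
theorem concl {G : Type u} [Group G] [Finite G] (hG : IsMinimalSimple G)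
    (h205 : Odd (Nat.card G) → Group.IsSolvable G)
    (h1296 : Even (Nat.card G) → (∀ N : Subgroup G, N.Normal → N.index ≠ 2) →
      Cfsg.oddCore G = ⊥ →
      Cfsg.PRankLE 2 2 G ∨ Cfsg.IsComponentType G ∨ Cfsg.IsCharacteristicTwoType G)
    (hT1 : IsCharacteristicTwoType G → ¬ PRankLE 2 2 G → ∃ H : Subgroup G, IsStronglyEmbedded H)
    (hB : (∃ a b : G, a * b ≠ b * a) → ∀ H : Subgroup G, IsStronglyEmbedded H →
      (∃ (F : Type) (_ : Field F) (_ : Fintype F), (∃ n : ℕ, 2 ≤ n ∧ Fintype.card F = 2 ^ n) ∧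
          Nonempty (G ≃* Matrix.ProjectiveSpecialLinearGroup (Fin 2) F)) ∨
        Cfsg.Lie.IsoSuzuki G ∨
        (∃ (F : Type) (_ : Field F) (_ : Fintype F) (n : ℕ), 2 ≤ n ∧
          Fintype.card F = (2 ^ n) ^ 2 ∧ Nonempty (G ≃* Cfsg.PSU 3 F (2 ^ n))))
    (h516 : ¬ IsMulCommutative G → Cfsg.PRankLE 2 2 G → ∀ (S : Sylow 2 G) [Fintype (GaloisField 2 4)],
      Fintype.card (GaloisField 2 4) = 16 → ∀ P : Sylow 2 (Cfsg.PSU 3 (GaloisField 2 4) 4),
      (∃ n : ℕ, 2 ≤ n ∧ Nonempty ((S : Subgroup G) ≃* DihedralGroup n)) ∨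
        Cfsg.IsQuasiDihedral (S : Subgroup G) ∨ Cfsg.IsWreathed (S : Subgroup G) ∨
          Nonempty ((S : Subgroup G) ≃* (P : Subgroup (Cfsg.PSU 3 (GaloisField 2 4) 4))))
    (hGW : ∀ (S : Sylow 2 G) (n : ℕ), 2 ≤ n →
      Nonempty ((S : Subgroup G) ≃* DihedralGroup n) → LocSol G → GWConcl G)
    (hR2 : ∀ S : Sylow 2 G, Cfsg.IsQuasiDihedral (S : Subgroup G) ∨
        Cfsg.IsWreathed (S : Subgroup G) →
      ∃ (F : Type) (_ : Field F) (_ : Fintype F), Fintype.card F = 3 ∧
        Nonempty (G ≃* Matrix.ProjectiveSpecialLinearGroup (Fin 3) F)) : Concl G := by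
  have hnc : ∃ a b : G, a * b ≠ b * a := not_comm hG
  have hfact : Fact (Nat.Prime 2) := ⟨Nat.prime_two⟩
  refine main hG h205 h1296 hT1 (fun H hH => bender_form (hB hnc H hH)) (fun h2 => ?_)
  by_cases hSE : ∃ H : Subgroup G, IsStronglyEmbedded H
  · obtain ⟨H, hH⟩ := hSE
    exact of_bender hG (bender_form (hB hnc H hH))
  have hfin : Fintype (GaloisField 2 4) := Fintype.ofFinite _
  have hcard : Fintype.card (GaloisField 2 4) = 16 := by
    rw [Fintype.card_eq_nat_card, GaloisField.card 2 4 (by norm_num)]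
    norm_num
  refine rank_two hG ?_ ?_ hR2
    (fun S P h => (hSE (MinSimpleUThree.exists_stronglyEmbedded hG hcard S P h)).elim)
  · obtain ⟨S⟩ : Nonempty (Sylow 2 G) := inferInstance
    obtain ⟨P⟩ : Nonempty (Sylow 2 (Cfsg.PSU 3 (GaloisField 2 4) 4)) := inferInstance
    refine ⟨S, ?_⟩
    rcases h516 hG.2.1 h2 S hcard P with h | h | h | h
    · exact Or.inl h
    · exact Or.inr (Or.inl h)
    · exact Or.inr (Or.inr (Or.inl h))
    · exact Or.inr (Or.inr (Or.inr ⟨P, h⟩))
  · rintro S ⟨n, hn, hS⟩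
    rcases hGW S n hn hS (Cfsg.Agent.Classification.GWSolvable.Induct.locSol_of_isNGroup
      (isNGroup hG)) with ⟨F, i, j, -, -, e⟩ | e
    · exact Or.inl ⟨F, i, j, e⟩
    · exact Or.inr e

end Cfsg.Agent.Classification.MinSimpleFinal
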