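import Cfsg.Agent.MinSimple.TheoremT

/-!
# Minimal simple groups of characteristic 2 type

`exists_stronglyEmbedded`: a minimal simple group of characteristic 2 type and of 2-rank at least 3
has a strongly embedded subgroup (core theorem T1).
-/

set_option autoImplicit false

namespace Cfsg.Agent.Classification.MinimalSimpleCore

open Subgroup Cfsg

universe u

variable {G : Type u} [Group G] [Finite G]

/-- **Core theorem T1** -/
theorem exists_stronglyEmbedded (hG : IsMinimalSimple G) (hc : IsCharacteristicTwoType G)
    (h3 : ¬ PRankLE 2 2 G) : ∃ H : Subgroup G, IsStronglyEmbedded H :=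
  MinSimple.TheoremT.exists_stronglyEmbedded hG hc h3

end Cfsg.Agent.Classification.MinimalSimpleCore
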