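import Cfsg.Agent.MinSimple.TheoremT

/-!
# Core theorem T2 in the form used in S0487 and S1000

A nonabelian simple group of characteristic 2 type and of 2-rank at least 3 whose 2-local subgroups
are solvable and which has no strongly embedded subgroup has the order of the Tits group.
-/

set_option autoImplicit false

namespace Cfsg.Agent.Classification.NGroupCore

open Cfsg

/-- **Theorem T2.** -/
theorem card_of_characteristicTwoType {G : Type*} [Group G] [Finite G] [IsSimpleGroup G]
    (hG : ¬ IsMulCommutative G)
    (hloc : ∀ N : Subgroup G, IsTwoLocal N → Group.IsSolvable N)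
    (hchar : IsCharacteristicTwoType G) (h3 : ¬ PRankLE 2 2 G)
    (hse : ∀ H : Subgroup G, ¬ IsStronglyEmbedded H) : Nat.card G = 17971200 :=
  MinSimple.TheoremT.card_eq (MinSimple.CoreMain.core_of_simple hG hloc hchar h3 hse)

end Cfsg.Agent.Classification.NGroupCore
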