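import Mathlib
import Cfsg.Prelude.Def_Local
import Cfsg.Prelude.Def_Involutions
import Cfsg.Agent.Lib.Cores
import Cfsg.Agent.Classification.RankOneCore
import Cfsg.Agent.S0502
import Cfsg.Agent.S0520
import Cfsg.Agent.S0214
import Cfsg.Agent.Dichotomy.WTwo
import Cfsg.Agent.Dichotomy.CoreTools
import Cfsg.Agent.S1327

/-!
Finite groups all of whose involution centralizers have trivial 2-layer, with a Sylow 2-subgroup of
2-rank at least 3 whose commuting graph of four-subgroups is connected: the join `W` of the cores of the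
involution centralizers is an odd order subgroup whose normalizer is `G` or strongly embedded.
-/

set_option autoImplicit false

namespace Cfsg.Agent.Classification.NonComponent

open Cfsg Cfsg.Agent.S0520
open scoped Pointwise

variable {G : Type*} [Group G]

/-- the join of the cores of the centralizers of the involutions of `E` -/
def W (E : Subgroup G) : Subgroup G := Dichotomy.WTwo.W (fun a => centralizerPPrimeCore 2 a) E

theorem le_W {E : Subgroup G} {a : G} (ha : a ∈ E) (ha1 : a ≠ 1) :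
    centralizerPPrimeCore 2 a ≤ W E := Dichotomy.WTwo.le_W _ E ha ha1

theorem W_def (E : Subgroup G) :
    W E = ⨆ a : {a : G // a ∈ E ∧ a ≠ 1}, centralizerPPrimeCore 2 (a : G) := rfl

theorem W_smul_le [Finite G] (g : G) (E : Subgroup G) :
    (MulAut.conj g • W E : Subgroup G) ≤ W (MulAut.conj g • E) := by
  change (W E).map (MulAut.conj g).toMonoidHom ≤ _
  rw [W_def, Subgroup.map_iSup]
  refine iSup_le ?_
  rintro ⟨a, ha, ha1⟩
  have h1 := Dichotomy.CoreTools.core_conj 2 a g
  rw [← h1]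
  refine le_W ⟨a, ha, rfl⟩ ?_
  intro h
  apply ha1
  have := congrArg (fun x => g⁻¹ * x * g) h
  simpa [mul_assoc] using this

theorem W_smul [Finite G] (g : G) (E : Subgroup G) :
    W (MulAut.conj g • E) = (MulAut.conj g • W E : Subgroup G) := by
  apply le_antisymm _ (W_smul_le g E)
  have h := W_smul_le g⁻¹ (MulAut.conj g • E)
  rw [← mul_smul, ← map_mul, inv_mul_cancel, map_one, one_smul] at h
  have h2 := conj_le_conj g h
  rwa [← mul_smul, ← map_mul, mul_inv_cancel, map_one, one_smul] at h2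

theorem mem_normalizer_of_smul_eq {H : Subgroup G} {g : G} (h : (MulAut.conj g • H : Subgroup G) = H) :
    g ∈ Subgroup.normalizer (H : Set G) := by
  rw [Subgroup.mem_normalizer_iff]
  intro x
  constructor
  · intro hx
    have : g * x * g⁻¹ ∈ (MulAut.conj g • H : Subgroup G) := ⟨x, hx, rfl⟩
    rwa [h] at this
  · intro hx
    rw [← h] at hx
    obtain ⟨y, hy, hyx⟩ := hx
    have : y = x := by
      have h2 : g * y * g⁻¹ = g * x * g⁻¹ := hyx
      simpa using h2
    rwa [← this]

theorem smul_eq_of_mem_normalizer {H : Subgroup G} {g : G}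
    (h : g ∈ Subgroup.normalizer (H : Set G)) : (MulAut.conj g • H : Subgroup G) = H := by
  rw [Subgroup.mem_normalizer_iff] at h
  ext x
  constructor
  · rintro ⟨y, hy, rfl⟩
    exact (h y).mp hy
  · intro hx
    refine ⟨g⁻¹ * x * g, ?_, ?_⟩
    · apply (h _).mpr
      have : g * (g⁻¹ * x * g) * g⁻¹ = x := by group
      rwa [this]
    · show g * (g⁻¹ * x * g) * g⁻¹ = x
      group

theorem isElementaryAbelian_of_klein {U : Subgroup G} (hU : IsKleinFour U) :
    IsElementaryAbelian 2 U :=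
  ⟨IsMulCommutative.of_setLike_mul_comm fun _ ha _ hb => S0502.comm_of_klein hU ha hb,
    fun _ ha => S0502.sq_of_klein hU ha⟩

theorem eight_le_of_adj [Finite G] {U V : Subgroup G} (h : Adj U V) (hne : U ≠ V) :
    IsElementaryAbelian 2 (U ⊔ V) ∧ 2 ^ 3 ≤ Nat.card (U ⊔ V : Subgroup G) := by
  have h2 : Fact (Nat.Prime 2) := ⟨Nat.prime_two⟩
  have he : IsElementaryAbelian 2 (U ⊔ V) := Dichotomy.WTwo.elem_sup 2 (isElementaryAbelian_of_klein h.1)
    (isElementaryAbelian_of_klein h.2.1) h.2.2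
  refine ⟨he, Dichotomy.WTwo.card_ge 2 he (k := 2) ?_⟩
  by_contra hle
  have hle' : Nat.card (U ⊔ V : Subgroup G) ≤ 4 := by simpa using hle
  apply hne
  have h3 : U = U ⊔ V := Subgroup.eq_of_le_of_card_ge le_sup_left (by rw [h.1.card_four]; exact hle')
  have h4 : V = U ⊔ V := Subgroup.eq_of_le_of_card_ge le_sup_right (by rw [h.2.1.card_four]; exact hle')
  exact h3.trans h4.symm

section main

variable [Finite G]
  (hsolv : ∀ t : G, orderOf t = 2 → Group.IsSolvable ↥(centralizerPPrimeCore 2 t))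
  (hL : ∀ t : G, orderOf t = 2 → pLayer 2 ↥(Subgroup.centralizer ({t} : Set G)) = ⊥)

include hsolv hL

omit hL in
theorem hC : ∀ a : G, (orderOf a = 2 ∧ ¬ Cfsg.PRankLE 2 2 ↥(Subgroup.centralizer ({a} : Set G))) →
    centralizerPPrimeCore 2 a ≤ Subgroup.centralizer ({a} : Set G) ∧
      ¬ 2 ∣ Nat.card ↥(centralizerPPrimeCore 2 a) ∧ Group.IsSolvable ↥(centralizerPPrimeCore 2 a) := by
  have h2 : Fact (Nat.Prime 2) := ⟨Nat.prime_two⟩
  exact fun a ha => ⟨Dichotomy.CoreTools.core_le 2 a, Dichotomy.CoreTools.core_card 2 a, hsolv a ha.1⟩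

omit hsolv in
theorem hbal : ∀ a b : G,
    (orderOf a = 2 ∧ ¬ Cfsg.PRankLE 2 2 ↥(Subgroup.centralizer ({a} : Set G))) →
    (orderOf b = 2 ∧ ¬ Cfsg.PRankLE 2 2 ↥(Subgroup.centralizer ({b} : Set G))) → a * b = b * a →
    centralizerPPrimeCore 2 a ⊓ Subgroup.centralizer {b} ≤ centralizerPPrimeCore 2 b := by
  have h2 : Fact (Nat.Prime 2) := ⟨Nat.prime_two⟩
  exact fun a b ha hb hab => Dichotomy.CoreTools.balance 2 ha.1 (hL b hb.1) hab

theorem W_eq_of_le {A E : Subgroup G} (hA : IsElementaryAbelian 2 A)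
    (hA3 : 2 ^ 3 ≤ Nat.card A) (hEA : E ≤ A) (hE2 : 2 ^ 2 ≤ Nat.card E) : W E = W A := by
  have h2 : Fact (Nat.Prime 2) := ⟨Nat.prime_two⟩
  exact Dichotomy.WTwo.W_eq_of_le 2 rfl _ (hC hsolv) (fun a g _ => Dichotomy.CoreTools.core_conj 2 a g) (hbal hL)
    hA hA3 hEA hE2

theorem not_dvd_W {A : Subgroup G} (hA : IsElementaryAbelian 2 A)
    (hA3 : 2 ^ 3 ≤ Nat.card A) : ¬ 2 ∣ Nat.card (W A) := by
  have h2 : Fact (Nat.Prime 2) := ⟨Nat.prime_two⟩
  exact (Dichotomy.WTwo.functor_complete 2 rfl _ (hC hsolv) (fun a g _ => Dichotomy.CoreTools.core_conj 2 a g)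
    (hbal hL) hA hA3).1

theorem W_eq_of_rel {U V : Subgroup G} (h : Relation.ReflTransGen Adj U V) : W U = W V := by
  induction h with
  | refl => rfl
  | @tail B C _ hbc ih =>
    rw [ih]
    by_cases hne : B = C
    · rw [hne]
    · obtain ⟨h3, h4⟩ := eight_le_of_adj hbc hne
      rw [W_eq_of_le hsolv hL h3 h4 le_sup_left (by rw [hbc.1.card_four]; norm_num),
        W_eq_of_le hsolv hL h3 h4 le_sup_right (by rw [hbc.2.1.card_four]; norm_num)]

theorem core_le_normalizer {S : Subgroup G} (hS : Cfsg.IsFourConnected S)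
    {U : Subgroup G} (hU : IsKleinFour U) (hUS : U ≤ S) :
    core S ≤ Subgroup.normalizer (W U : Set G) := by
  refine (core_le_stab hS hU hUS).trans ?_
  intro g hg
  apply mem_normalizer_of_smul_eq
  rw [← W_smul]
  exact (W_eq_of_rel hsolv hL hg).symm

omit hsolv hL in
/-- Every four-subgroup of `S` lies in an elementary abelian subgroup of order at least 8. -/
theorem exists_big {S : Subgroup G} (hS : Cfsg.IsFourConnected S) {A : Subgroup G} (hAS : A ≤ S)
    (hA : IsElementaryAbelian 2 A) (hA3 : 2 ^ 3 ≤ Nat.card A) {V : Subgroup G} (hV : IsKleinFour V)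
    (hVS : V ≤ S) : ∃ B : Subgroup G, V ≤ B ∧ IsElementaryAbelian 2 B ∧ 2 ^ 3 ≤ Nat.card B := by
  by_cases hVA : V ≤ A
  · exact ⟨A, hVA, hA, hA3⟩
  have hrA : ¬ PRankLE 2 1 A := by
    intro h
    have h1 := h ⊤ ?_ ?_
    · rw [Subgroup.card_top] at h1
      norm_num at hA3 h1
      omega
    · have := hA.1
      refine IsMulCommutative.of_setLike_mul_comm ?_
      intro a _ b _
      apply Subtype.ext
      exact setLike_mul_comm a.2 b.2
    · intro a _
      exact Subtype.ext (hA.2 a a.2)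
  obtain ⟨V', hV'A, hV'⟩ := exists_kleinFour hrA
  have hne : V ≠ V' := fun h => hVA (h ▸ hV'A)
  have hrel := rel_of_le hS hV hV' hVS (hV'A.trans hAS)
  have key : ∀ V₀ : Subgroup G, Relation.ReflTransGen Adj V₀ V' → V₀ ≠ V' → ∃ V₁, V₁ ≠ V₀ ∧ Adj V₀ V₁ := by
    intro V₀ h
    induction h using Relation.ReflTransGen.head_induction_on with
    | refl => intro h; exact absurd rfl h
    | @head B C hbc _ ih =>
      intro h
      by_cases hBC : C = B
      · rw [hBC] at ih
        exact ih h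
      · exact ⟨C, hBC, hbc⟩
  obtain ⟨V₁, hV₁, hadj⟩ := key V hrel hne
  obtain ⟨h1, h2⟩ := eight_le_of_adj hadj hV₁.symm
  exact ⟨V ⊔ V₁, le_sup_left, h1, h2⟩

omit hsolv hL in
/-- Every involution of a 2-subgroup `S` of rank at least 3 lies in a four-subgroup of `S`. -/
theorem exists_four_mem {S : Subgroup G} (hSp : IsPGroup 2 S) {A : Subgroup G} (hAS : A ≤ S)
    (hA : IsElementaryAbelian 2 A) (hA3 : 2 ^ 3 ≤ Nat.card A) {t : G} (ht : orderOf t = 2)
    (htS : t ∈ S) : ∃ V : Subgroup G, V ≤ S ∧ IsKleinFour V ∧ t ∈ V := by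
  have ht1 : t ≠ 1 := by rintro rfl; rw [orderOf_one] at ht; norm_num at ht
  have ht2 : t ^ 2 = 1 := by rw [← ht]; exact pow_orderOf_eq_one t
  obtain ⟨z, hz1, hz2, hzc⟩ := RankOneCore.exists_central_involution hSp (a := ⟨t, htS⟩)
    (fun h => ht1 (congrArg Subtype.val h))
  have hz1' : (z : G) ≠ 1 := fun h => hz1 (Subtype.ext h)
  have hz2' : (z : G) ^ 2 = 1 := congrArg Subtype.val hz2
  have hzc' : ∀ g ∈ S, (z : G) * g = g * z := fun g hg => congrArg Subtype.val (hzc ⟨g, hg⟩)
  -- an element different from `z`, involution, `t` among the two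
  obtain ⟨a, haS, ha1, ha2, haz, hat⟩ : ∃ a ∈ S, a ≠ 1 ∧ a ^ 2 = 1 ∧ a ≠ z ∧ (t = a ∨ t = z) := by
    by_cases htz : t = z
    · obtain ⟨a, ha, ha1, haz⟩ : ∃ a ∈ A, a ≠ 1 ∧ a ≠ (z : G) := by
        by_contra hcon
        push Not at hcon
        have hsub : (A : Set G) ⊆ {1, (z : G)} := by
          intro a ha
          by_cases h1 : a = 1
          · exact Or.inl h1
          · exact Or.inr (hcon a ha h1)
        have h1 := Set.ncard_le_ncard hsub (Set.toFinite _)
        have h2 : Set.ncard ({1, (z : G)} : Set G) ≤ 2 := by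
          have := Set.ncard_insert_le (1 : G) {(z : G)}
          rwa [Set.ncard_singleton] at this
        have h3 : Nat.card A = Set.ncard (A : Set G) := rfl
        norm_num at hA3
        omega
      exact ⟨a, hAS ha, ha1, hA.2 a ha, haz, Or.inr htz⟩
    · exact ⟨t, htS, ht1, ht2, htz, Or.inl rfl⟩
  obtain ⟨V, hV, hVm⟩ := S0502.exists_klein ha2 hz2' ha1 hz1' haz (hzc' a haS).symm
  refine ⟨V, ?_, hV, ?_⟩
  · intro x hx
    rcases (hVm x).mp hx with rfl | rfl | rfl | rfl
    · exact S.one_mem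
    · exact haS
    · exact z.2
    · exact S.mul_mem haS z.2
  · rcases hat with h | h
    · rw [h]; exact (hVm a).mpr (Or.inr (Or.inl rfl))
    · rw [h]; exact (hVm z).mpr (Or.inr (Or.inr (Or.inl rfl)))

/-- The four-subgroups of a conjugate `g • S` which contains a four-subgroup of `S`. -/
theorem W_eq_of_le_conj {S : Subgroup G} (hS : Cfsg.IsFourConnected S)
    {U : Subgroup G} (hU : IsKleinFour U) (hUS : U ≤ S) {g : G} {V : Subgroup G}
    (hV : IsKleinFour V) (hVg : V ≤ MulAut.conj g • S) : W V = (MulAut.conj g • W U : Subgroup G) := by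
  have h1 : MulAut.conj g⁻¹ • V ≤ S := by
    have := conj_le_conj g⁻¹ hVg
    rwa [← mul_smul, ← map_mul, inv_mul_cancel, map_one, one_smul] at this
  have h2 : IsKleinFour (MulAut.conj g⁻¹ • V : Subgroup G) :=
    isKleinFour_map (f := (MulAut.conj g⁻¹).toMonoidHom) (MulAut.conj g⁻¹).injective hV
  have h3 := W_eq_of_rel hsolv hL (rel_of_le hS hU h2 hUS h1)
  rw [h3, ← W_smul, ← mul_smul, ← map_mul, mul_inv_cancel, map_one, one_smul]

theorem centralizer_le (S : Sylow 2 G) (hS : Cfsg.IsFourConnected (S : Subgroup G))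
    {A : Subgroup G} (hAS : A ≤ S)
    (hA : IsElementaryAbelian 2 A) (hA3 : 2 ^ 3 ≤ Nat.card A)
    {U : Subgroup G} (hU : IsKleinFour U) (hUS : U ≤ S) {t : G} (ht : orderOf t = 2)
    (htS : t ∈ S) : Subgroup.centralizer ({t} : Set G) ≤ Subgroup.normalizer (W U : Set G) := by
  have h2 : Fact (Nat.Prime 2) := ⟨Nat.prime_two⟩
  set M := Subgroup.normalizer (W U : Set G) with hM
  set C := Subgroup.centralizer ({t} : Set G) with hCdef
  have ht1 : t ≠ 1 := by rintro rfl; rw [orderOf_one] at ht; norm_num at ht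
  -- `S ≤ M`
  have hSM : (S : Subgroup G) ≤ M := by
    refine le_trans ?_ (core_le_normalizer hsolv hL hS hU hUS)
    exact le_trans Subgroup.le_normalizer
      (normalizer_le_core le_rfl (not_rank_of_kleinFour hU hUS))
  obtain ⟨V, hVS, hV, htV⟩ := exists_four_mem S.2 hAS hA hA3 ht htS
  obtain ⟨B, hVB, hB, hB3⟩ := exists_big hS hAS hA hA3 hV hVS
  have hWV : W V = W U := (W_eq_of_rel hsolv hL (rel_of_le hS hU hV hUS hVS)).symm
  have hWM : W U ≤ M := Subgroup.le_normalizer
  -- the core of `C` lies in `W U`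
  have hcore : centralizerPPrimeCore 2 t ≤ M := by
    refine le_trans ?_ hWM
    rw [← hWV]
    exact le_W htV ht1
  -- a Sylow 2-subgroup of `C` above `B`
  have hBC : B ≤ C := Dichotomy.WTwo.elem_le_centralizer_singleton hB (hVB htV)
  have hBp : IsPGroup 2 (B.subgroupOf C) :=
    (Dichotomy.WTwo.isPGroup_of_elem 2 hB).comap_of_injective C.subtype C.subtype_injective
  obtain ⟨T, hT⟩ := hBp.exists_le_sylow
  obtain ⟨P', hP'⟩ := (T.2.map C.subtype).exists_le_sylow
  obtain ⟨g, hg⟩ := MulAction.exists_smul_eq G S P'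
  have hTg : (T : Subgroup C).map C.subtype ≤ MulAut.conj g • (S : Subgroup G) := by
    rw [← Sylow.coe_subgroup_smul, hg]; exact hP'
  have hBT : B ≤ (T : Subgroup C).map C.subtype := by
    have := Subgroup.map_mono (f := C.subtype) hT
    rwa [Subgroup.subgroupOf_map_subtype, inf_eq_left.mpr hBC] at this
  have hgW : (MulAut.conj g • W U : Subgroup G) = W U := by
    rw [← W_eq_of_le_conj hsolv hL hS hU hUS hV (hVB.trans (hBT.trans hTg)), hWV]
  have hgM : g ∈ M := mem_normalizer_of_smul_eq hgW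
  have hTM : (T : Subgroup C).map C.subtype ≤ M := by
    intro x hx
    obtain ⟨s, hs, rfl⟩ := hTg hx
    exact M.mul_mem (M.mul_mem hgM (hSM hs)) (M.inv_mem hgM)
  -- the 2-constrained group `C`
  have hcon : IsPConstrained 2 C := (Cfsg.Agent.S1327.result 2).mpr (hL t ht)
  have hBe : IsElementaryAbelian 2 (B.subgroupOf C) := by
    have := hB.1
    refine ⟨inferInstance, ?_⟩
    intro a ha
    exact Subtype.ext (hB.2 a ha)
  have hBcard : 8 ≤ Nat.card (B.subgroupOf C) := by
    rw [Nat.card_congr (Subgroup.subgroupOfEquivOfLe hBC).toEquiv]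
    norm_num at hB3
    exact hB3
  have hcore' : (pPrimeCore 2 C).map C.subtype ≤ M := hcore
  rcases RankOneCore.rank_or_sup hcon hBe hBcard T hT with hr | hsup
  · -- `T ∩ K` contains a four-group
    have hKn : (pPrimePCore 2 C).Normal := by
      unfold pPrimePCore
      infer_instance
    have hfr := Lib.SylowNormalInf.normalizer_inf_sup_eq_top T (pPrimePCore 2 C)
    have hQr : ¬ PRankLE 2 1 ((((T : Subgroup C) ⊓ pPrimePCore 2 C)).map C.subtype : Subgroup G) := by
      intro h
      refine hr (pRankLE_of_injective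
        (((T : Subgroup C) ⊓ pPrimePCore 2 C).equivMapOfInjective C.subtype
          C.subtype_injective).toMonoidHom (MulEquiv.injective _) h)
    obtain ⟨V', hV'Q, hV'⟩ := exists_kleinFour hQr
    have hQT : (((T : Subgroup C) ⊓ pPrimePCore 2 C)).map C.subtype ≤ (T : Subgroup C).map C.subtype :=
      Subgroup.map_mono inf_le_left
    have hWV' : W V' = W U := by
      rw [W_eq_of_le_conj hsolv hL hS hU hUS hV' (hV'Q.trans (hQT.trans hTg)), hgW]
    have hK : pPrimePCore 2 C ≤ M.comap C.subtype := by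
      have h3 := Lib.SylowNormalInf.le_sup_inf T (pPrimePCore 2 C) (pPrimeCore 2 C) ?_
      · refine h3.trans (sup_le ?_ ?_)
        · exact Subgroup.map_le_iff_le_comap.mp hcore'
        · exact Subgroup.map_le_iff_le_comap.mp (hQT.trans hTM)
      · intro x hx
        have hx' : QuotientGroup.mk' (pPrimeCore 2 C) x ∈ pCore 2 (C ⧸ pPrimeCore 2 C) := hx
        obtain ⟨k, hk⟩ := Lib.Cores.pCore_isPGroup (G := C ⧸ pPrimeCore 2 C) 2 ⟨_, hx'⟩
        refine ⟨k, ?_⟩
        have h3 : (QuotientGroup.mk' (pPrimeCore 2 C) x) ^ 2 ^ k = 1 := congrArg Subtype.val hk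
        rw [← map_pow, QuotientGroup.mk'_apply, QuotientGroup.eq_one_iff] at h3
        exact h3
    have hN : Subgroup.normalizer ((((T : Subgroup C) ⊓ pPrimePCore 2 C) : Subgroup C) : Set C) ≤
        M.comap C.subtype := by
      intro n hn
      show (n : G) ∈ M
      apply mem_normalizer_of_smul_eq
      have h4 : MulAut.conj (n : G) • V' ≤ (((T : Subgroup C) ⊓ pPrimePCore 2 C)).map C.subtype := by
        rintro _ ⟨v, hv, rfl⟩
        obtain ⟨q, hq, rfl⟩ := hV'Q hv
        exact ⟨n * q * n⁻¹, (Subgroup.mem_normalizer_iff.mp hn q).mp hq, rfl⟩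
      have h5 : IsKleinFour (MulAut.conj (n : G) • V' : Subgroup G) :=
        isKleinFour_map (f := (MulAut.conj (n : G)).toMonoidHom) (MulAut.conj (n : G)).injective hV'
      have h6 := W_eq_of_le_conj hsolv hL hS hU hUS h5 (h4.trans (hQT.trans hTg))
      rw [hgW, W_smul, hWV'] at h6
      exact h6
    have htop : (⊤ : Subgroup C) ≤ M.comap C.subtype := by
      rw [← hfr]
      exact sup_le hN hK
    intro x hx
    exact htop (Subgroup.mem_top (⟨x, hx⟩ : C))
  · have htop : (⊤ : Subgroup C) ≤ M.comap C.subtype := by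
      rw [← hsup]
      exact sup_le (Subgroup.map_le_iff_le_comap.mp hcore') (Subgroup.map_le_iff_le_comap.mp hTM)
    intro x hx
    exact htop (Subgroup.mem_top (⟨x, hx⟩ : C))

/-- `N_G(W)` is `G` or strongly embedded in `G`. -/
theorem stronglyEmbedded (S : Sylow 2 G) (hS : Cfsg.IsFourConnected (S : Subgroup G))
    {A : Subgroup G} (hAS : A ≤ S)
    (hA : IsElementaryAbelian 2 A) (hA3 : 2 ^ 3 ≤ Nat.card A)
    {U : Subgroup G} (hU : IsKleinFour U) (hUS : U ≤ S)
    (hM : Subgroup.normalizer (W U : Set G) ≠ ⊤) :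
    IsStronglyEmbedded (Subgroup.normalizer (W U : Set G)) := by
  have h2 : Fact (Nat.Prime 2) := ⟨Nat.prime_two⟩
  have hcore := core_le_normalizer hsolv hL hS hU hUS
  have hSM : (S : Subgroup G) ≤ Subgroup.normalizer (W U : Set G) := by
    refine le_trans ?_ hcore
    exact le_trans Subgroup.le_normalizer
      (normalizer_le_core le_rfl (not_rank_of_kleinFour hU hUS))
  have hSne : (S : Subgroup G) ≠ ⊥ := by
    intro h
    have h1 : U = ⊥ := le_bot_iff.mp (h ▸ hUS)
    have h3 := hU.card_four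
    rw [h1, Subgroup.card_bot] at h3
    norm_num at h3
  have hPne : ((S.subtype hSM : Sylow 2 _) : Subgroup (Subgroup.normalizer (W U : Set G))) ≠ ⊥ := by
    intro h
    apply hSne
    have h3 := congrArg (Subgroup.map (Subgroup.normalizer (W U : Set G)).subtype) h
    rw [Subgroup.map_bot, Sylow.coe_subtype, Subgroup.subgroupOf_map_subtype, inf_eq_left.mpr hSM] at h3
    exact h3
  refine (Cfsg.Agent.S0214.result _ hM (S.subtype hSM) hPne).mpr ?_
  intro X hX hXne
  set R : Subgroup G := X.map (Subgroup.normalizer (W U : Set G)).subtype with hR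
  have hRS : R ≤ S := by
    have h3 := Subgroup.map_mono (f := (Subgroup.normalizer (W U : Set G)).subtype) hX
    rwa [Sylow.coe_subtype, Subgroup.subgroupOf_map_subtype, inf_eq_left.mpr hSM] at h3
  have hRne : R ≠ ⊥ := by
    intro h
    apply hXne
    exact (Subgroup.map_eq_bot_iff_of_injective _ (Subgroup.subtype_injective _)).1 h
  by_cases hr : PRankLE 2 1 R
  · obtain ⟨r, hrR, hr1, hr2, -, huniq⟩ := RankOneCore.exists_unique_involution (S.2.to_le hRS) hr hRne
    have hor : orderOf r = 2 := orderOf_eq_prime hr2 hr1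
    refine le_trans ?_ (centralizer_le hsolv hL S hS hAS hA hA3 hU hUS hor (hRS hrR))
    intro n hn
    rw [Subgroup.mem_centralizer_singleton_iff]
    have h3 := huniq (n * r * n⁻¹) ((Subgroup.mem_normalizer_iff.mp hn r).mp hrR)
      (fun h => hr1 (by
        have := congrArg (fun x => n⁻¹ * x * n) h
        simpa [mul_assoc] using this))
      (by rw [conj_pow, hr2, mul_one, mul_inv_cancel])
    rwa [mul_inv_eq_iff_eq_mul] at h3
  · exact (normalizer_le_core hRS hr).trans hcore

theorem centralizerPPrimeCore_eq_bot (S : Sylow 2 G) (hS : Cfsg.IsFourConnected (S : Subgroup G))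
    (hrank : ¬ Cfsg.PRankLE 2 2 G) (hO : Cfsg.oddCore G = ⊥)
    (hSE : ∀ H : Subgroup G, IsStronglyEmbedded H → (oddCore ↥H).map H.subtype ≤ oddCore G)
    {t : G} (ht : orderOf t = 2) : centralizerPPrimeCore 2 t = ⊥ := by
  have h2 : Fact (Nat.Prime 2) := ⟨Nat.prime_two⟩
  have hp : (2 : ℕ).Prime := Nat.prime_two
  -- an elementary abelian subgroup of `S` of order at least 8
  obtain ⟨A, hAS, hA, hA3⟩ : ∃ A : Subgroup G, A ≤ S ∧ IsElementaryAbelian 2 A ∧
      2 ^ 3 ≤ Nat.card A := by
    have hrank' : ¬ PRankLE 2 2 (⊤ : Subgroup G) := fun h => hrank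
      (pRankLE_of_injective (Subgroup.topEquiv (G := G)).symm.toMonoidHom
        (Subgroup.topEquiv (G := G)).symm.injective h)
    obtain ⟨B, -, hB, hB3⟩ := Dichotomy.WTwo.exists_elem_of_not_rankLE 2 hrank'
    obtain ⟨P', hP'⟩ := (Dichotomy.WTwo.isPGroup_of_elem 2 hB).exists_le_sylow
    obtain ⟨g, hg⟩ := MulAction.exists_smul_eq G P' S
    have h3 := Dichotomy.WTwo.big_conj 2 hB hB3 g
    refine ⟨_, ?_, h3.1, h3.2⟩
    have := conj_le_conj g hP'
    rwa [← Sylow.coe_subgroup_smul, hg] at this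
  -- a four-subgroup of `A`
  obtain ⟨U, hUA, hU⟩ : ∃ U : Subgroup G, U ≤ A ∧ IsKleinFour U := by
    apply exists_kleinFour
    intro h
    have h1 := h ⊤ ?_ ?_
    · rw [Subgroup.card_top] at h1
      norm_num at hA3 h1
      omega
    · have := hA.1
      refine IsMulCommutative.of_setLike_mul_comm ?_
      intro a _ b _
      apply Subtype.ext
      exact setLike_mul_comm a.2 b.2
    · intro a _
      exact Subtype.ext (hA.2 a a.2)
  have hUS : U ≤ S := hUA.trans hAS
  have hWodd : (Nat.card (W U)).Coprime 2 := by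
    have h3 := not_dvd_W hsolv hL hA hA3
    rw [← W_eq_of_le hsolv hL hA hA3 hUA (by rw [hU.card_four]; norm_num)] at h3
    exact ((Nat.Prime.coprime_iff_not_dvd hp).mpr h3).symm
  have hWbot : W U = ⊥ := by
    by_cases hM : Subgroup.normalizer (W U : Set G) = ⊤
    · have hn : (W U).Normal := Subgroup.normalizer_eq_top_iff.mp hM
      have h3 : W U ≤ oddCore G := Lib.Cores.le_pPrimeCore hn hWodd
      rw [hO] at h3
      exact le_bot_iff.mp h3
    · have hse := stronglyEmbedded hsolv hL S hS hAS hA hA3 hU hUS hM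
      have h3 := hSE _ hse
      rw [hO] at h3
      have h4 : (W U).subgroupOf (Subgroup.normalizer (W U : Set G)) ≤
          oddCore (Subgroup.normalizer (W U : Set G)) := by
        refine Lib.Cores.le_pPrimeCore inferInstance ?_
        rwa [Nat.card_congr (Subgroup.subgroupOfEquivOfLe Subgroup.le_normalizer).toEquiv]
      have h5 := (Subgroup.map_mono (f := (Subgroup.normalizer (W U : Set G)).subtype) h4).trans h3
      rw [Subgroup.subgroupOf_map_subtype, inf_eq_left.mpr Subgroup.le_normalizer] at h5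
      exact le_bot_iff.mp h5
  -- involutions of `S`
  have key : ∀ s : G, orderOf s = 2 → s ∈ (S : Subgroup G) → centralizerPPrimeCore 2 s = ⊥ := by
    intro s hs hsS
    obtain ⟨V, hVS, hV, hsV⟩ := exists_four_mem S.2 hAS hA hA3 hs hsS
    have hs1 : s ≠ 1 := by rintro rfl; rw [orderOf_one] at hs; norm_num at hs
    have h3 := le_W hsV hs1
    rw [← W_eq_of_rel hsolv hL (rel_of_le hS hU hV hUS hVS), hWbot] at h3
    exact le_bot_iff.mp h3
  -- general involutions
  have hz : IsPGroup 2 (Subgroup.zpowers t) := by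
    refine IsPGroup.of_card (n := 1) ?_
    rw [Nat.card_zpowers, ht, pow_one]
  obtain ⟨P', hP'⟩ := hz.exists_le_sylow
  obtain ⟨g, hg⟩ := MulAction.exists_smul_eq G P' S
  have hgt : g * t * g⁻¹ ∈ (S : Subgroup G) := by
    have h3 : g * t * g⁻¹ ∈ ((g • P' : Sylow 2 G) : Subgroup G) :=
      ⟨t, hP' (Subgroup.mem_zpowers t), rfl⟩
    rwa [hg] at h3
  have h3 := key (g * t * g⁻¹) 
    (by rw [← ht]; exact MulEquiv.orderOf_eq (MulAut.conj g) t) hgt
  rw [Dichotomy.CoreTools.core_conj] at h3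
  exact (Subgroup.map_eq_bot_iff_of_injective _ (MulAut.conj g).injective).1 h3

end main

end Cfsg.Agent.Classification.NonComponent
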