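import Mathlib

/-!
# 2-groups whose graph of four-groups is disconnected: the basic data

`P` is (a Sylow 2-subgroup viewed as) a finite 2-group, `⟨z, w⟩` a normal four-group with `z`
central, `T = C_P(w)` of index 2, `x` an involution outside `T` such that `Y = C_T(x)` has the
only involution `z` and contains an element `f` with `f ^ 2 = z`.
-/

set_option autoImplicit false

namespace Cfsg.Agent.Classification.NonConnBase

open Subgroup

/-- the local data: `W = ⟨z, w⟩` normal four-group, `z` central, `x` an isolated involution -/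
structure Data (P : Type*) [Group P] where
  z : P
  w : P
  x : P
  z_ne : z ≠ 1
  z_sq : z * z = 1
  z_comm : ∀ g : P, g * z = z * g
  w_ne : w ≠ 1
  w_ne_z : w ≠ z
  w_sq : w * w = 1
  w_conj : ∀ g : P, g * w * g⁻¹ = w ∨ g * w * g⁻¹ = w * z
  x_sq : x * x = 1
  x_w : x * w * x⁻¹ = w * z
  hY : ∀ t : P, t * w = w * t → t * x = x * t → t * t = 1 → t = 1 ∨ t = z
  hf : ∃ f : P, f * w = w * f ∧ f * x = x * f ∧ f * f = z

variable {P : Type*} [Group P]

namespace Data

variable (D : Data P)

/-- `T = C_P(w)` -/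
def T : Subgroup P := centralizer {D.w}

theorem mem_T {g : P} : g ∈ D.T ↔ g * D.w = D.w * g := by
  unfold T
  rw [mem_centralizer_singleton_iff]

theorem z_inv : D.z⁻¹ = D.z := inv_eq_of_mul_eq_one_right D.z_sq

theorem w_inv : D.w⁻¹ = D.w := inv_eq_of_mul_eq_one_right D.w_sq

theorem x_inv : D.x⁻¹ = D.x := inv_eq_of_mul_eq_one_right D.x_sq

theorem commute_z (g : P) : Commute g D.z := D.z_comm g

/-- conjugation of `w` by an element outside `T` -/
theorem conj_w_of_not {g : P} (hg : ¬ Commute g D.w) : g * D.w * g⁻¹ = D.w * D.z := by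
  rcases D.w_conj g with h | h
  · exact absurd (show g * D.w = D.w * g from (mul_inv_eq_iff_eq_mul.1 h)) hg
  · exact h

theorem mul_w_of_not {g : P} (hg : ¬ Commute g D.w) : g * D.w = D.w * D.z * g :=
  mul_inv_eq_iff_eq_mul.1 (D.conj_w_of_not hg)

theorem wz_ne_w : D.w * D.z ≠ D.w := by
  intro h
  exact D.z_ne (mul_eq_left.1 h)

theorem not_commute_x : ¬ Commute D.x D.w := by
  intro h
  have h1 : D.x * D.w * D.x⁻¹ = D.w := by rw [h.eq, mul_inv_cancel_right]
  rw [D.x_w] at h1
  exact D.wz_ne_w h1

theorem x_mul_w : D.x * D.w = D.w * D.z * D.x := D.mul_w_of_not D.not_commute_x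

/-- the product of two elements outside `T` lies in `T` -/
theorem commute_mul_of_not {g h : P} (hg : ¬ Commute g D.w) (hh : ¬ Commute h D.w) :
    Commute (g * h) D.w := by
  have h1 := D.mul_w_of_not hg
  have h2 := D.mul_w_of_not hh
  show g * h * D.w = D.w * (g * h)
  calc g * h * D.w = g * (h * D.w) := by rw [mul_assoc]
    _ = g * D.w * (D.z * h) := by rw [h2]; simp only [mul_assoc]
    _ = D.w * D.z * g * (D.z * h) := by rw [h1]
    _ = D.w * D.z * (g * D.z) * h := by simp only [mul_assoc]
    _ = D.w * (D.z * D.z) * g * h := by rw [D.z_comm g]; simp only [mul_assoc]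
    _ = D.w * (g * h) := by rw [D.z_sq, mul_one, mul_assoc]

theorem not_commute_mul {g h : P} (hg : Commute g D.w) (hh : ¬ Commute h D.w) :
    ¬ Commute (g * h) D.w := by
  intro h1
  apply hh
  have : h = g⁻¹ * (g * h) := by group
  rw [this]
  exact hg.inv_left.mul_left h1

theorem not_commute_mul' {g h : P} (hg : ¬ Commute g D.w) (hh : Commute h D.w) :
    ¬ Commute (g * h) D.w := by
  intro h1
  apply hg
  have : g = (g * h) * h⁻¹ := by group
  rw [this]
  exact h1.mul_left hh.inv_left

/-- `T` is normal: membership in `T` is invariant under conjugation -/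
theorem commute_conj {g : P} (s : P) (hg : Commute g D.w) : Commute (s * g * s⁻¹) D.w := by
  have h0 : Commute (s * g * s⁻¹) (s * D.w * s⁻¹) := by
    show s * g * s⁻¹ * (s * D.w * s⁻¹) = s * D.w * s⁻¹ * (s * g * s⁻¹)
    have := hg.eq
    calc s * g * s⁻¹ * (s * D.w * s⁻¹) = s * (g * D.w) * s⁻¹ := by group
      _ = s * (D.w * g) * s⁻¹ := by rw [this]
      _ = s * D.w * s⁻¹ * (s * g * s⁻¹) := by group
  rcases D.w_conj s with h | h
  · rwa [h] at h0
  · rw [h] at h0
    have h1 : Commute (s * g * s⁻¹) (D.w * D.z * D.z) := h0.mul_right (D.commute_z _)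
    have h2 : D.w * D.z * D.z = D.w := by rw [mul_assoc, D.z_sq, mul_one]
    rwa [h2] at h1

theorem T_normal : D.T.Normal := by
  constructor
  intro n hn g
  rw [mem_T] at hn ⊢
  exact D.commute_conj g hn

/-- the product of two elements outside `T` lies in `T`; version with membership -/
theorem mul_mem_T {g h : P} (hg : g ∉ D.T) (hh : h ∉ D.T) : g * h ∈ D.T := by
  rw [mem_T] at hg hh ⊢
  exact D.commute_mul_of_not hg hh

/-- an element whose square lies in `Y` conditions: if `t` commutes with `w` and `x` and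
`t * t = 1`, then `t = 1` or `t = z` (restatement with `Commute`) -/
theorem eq_of_sq {t : P} (h1 : Commute t D.w) (h2 : Commute t D.x) (h3 : t * t = 1) :
    t = 1 ∨ t = D.z := D.hY t h1 h2 h3

end Data

end Cfsg.Agent.Classification.NonConnBase
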