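import Mathlib
import Cfsg.Agent.Classification.NonConnBase

/-!
# Disconnected 2-groups: the element `c = [x, e]` and the action of `Y` on `⟨x, e⟩`
-/

set_option autoImplicit false

namespace Cfsg.Agent.Classification.NonConnStep

open Subgroup Cfsg.Agent.Classification.NonConnBase

variable {P : Type*} [Group P]

/-- in a 2-group: `a ∈ ⟨d⟩` implies `a ∈ ⟨d²⟩` or `d ∈ ⟨a⟩` -/
theorem mem_zpowers_or [Finite P] (hP : IsPGroup 2 P) {a d : P} (h : a ∈ zpowers d) :
    a ∈ zpowers (d * d) ∨ d ∈ zpowers a := by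
  rw [← mem_powers_iff_mem_zpowers] at h
  obtain ⟨k, hk⟩ := h
  simp only at hk
  rcases Nat.even_or_odd' k with ⟨j, hj | hj⟩
  · left
    rw [← hk, hj, pow_mul, sq]
    exact pow_mem (mem_zpowers _) _
  · right
    rw [← hk, mem_zpowers_pow_iff]
    obtain ⟨l, hl⟩ := IsPGroup.iff_orderOf.1 hP d
    have h2 : Nat.Coprime (2 ^ l) k := by
      apply Nat.Coprime.pow_left
      rw [Nat.coprime_two_left, hj]
      exact ⟨j, rfl⟩
    rw [hl]
    first
      | exact h2
      | exact h2.symm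

/-- a 2-element all whose involutory powers equal `z` has a power with square `z` -/
theorem exists_pow_sq [Finite P] (hP : IsPGroup 2 P) {z d : P}
    (h : ∀ n : ℕ, d ^ n * d ^ n = 1 → d ^ n = 1 ∨ d ^ n = z) (hd : d * d ≠ 1) :
    ∃ k : ℕ, d ^ k * d ^ k = z := by
  obtain ⟨l, hl⟩ := IsPGroup.iff_orderOf.1 hP d
  have hl2 : 2 ≤ l := by
    by_contra hlt
    apply hd
    have h1 : orderOf d ∣ 2 := by
      rw [hl]
      calc 2 ^ l ∣ 2 ^ 1 := pow_dvd_pow 2 (by omega)
        _ = 2 := by norm_num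
    have h2 := orderOf_dvd_iff_pow_eq_one.1 h1
    rwa [sq] at h2
  obtain ⟨m, rfl⟩ : ∃ m, l = m + 2 := ⟨l - 2, by omega⟩
  have e1 : d ^ 2 ^ m * d ^ 2 ^ m = d ^ 2 ^ (m + 1) := by
    rw [← pow_add]
    congr 1
    ring
  have e2 : d ^ 2 ^ (m + 1) * d ^ 2 ^ (m + 1) = 1 := by
    rw [← pow_add, ← pow_orderOf_eq_one d, hl]
    congr 1
    ring
  refine ⟨2 ^ m, ?_⟩
  rw [e1]
  rcases h _ e2 with h1 | h1
  · exfalso
    have h3 := orderOf_dvd_of_pow_eq_one h1
    rw [hl, Nat.pow_dvd_pow_iff_le_right (by norm_num)] at h3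
    omega
  · exact h1

/-- `Y = C_T(x)` -/
def Y (D : Data P) : Subgroup P := centralizer {D.w} ⊓ centralizer {D.x}

theorem mem_Y {D : Data P} {y : P} : y ∈ Y D ↔ Commute y D.w ∧ Commute y D.x := by
  unfold Y
  rw [mem_inf, mem_centralizer_singleton_iff, mem_centralizer_singleton_iff]
  rfl

variable (D : Data P)

theorem z_mem_Y : D.z ∈ Y D := mem_Y.2 ⟨(D.commute_z _).symm, (D.commute_z _).symm⟩

theorem eq_of_mem_Y {y : P} (hy : y ∈ Y D) (h : y * y = 1) : y = 1 ∨ y = D.z :=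
  D.hY y (mem_Y.1 hy).1 (mem_Y.1 hy).2 h

/-- two elements of `T` inverted by `x` with the same square -/
theorem mem_Y_of_sq_eq {g1 g2 : P} (h1w : Commute g1 D.w) (h2w : Commute g2 D.w)
    (h1x : D.x * g1 * D.x = g1⁻¹) (h2x : D.x * g2 * D.x = g2⁻¹) (h : g1 * g1 = g2 * g2) :
    g1 * g2⁻¹ ∈ Y D ∧ g2⁻¹ * (g1 * g2⁻¹) * g2 = (g1 * g2⁻¹)⁻¹ := by
  have h3 : g1⁻¹ * g2 = g1 * g2⁻¹ := by
    have : g2 * g2 = g1 * g1 := h.symm
    calc g1⁻¹ * g2 = g1⁻¹ * (g2 * g2) * g2⁻¹ := by group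
      _ = g1⁻¹ * (g1 * g1) * g2⁻¹ := by rw [this]
      _ = g1 * g2⁻¹ := by group
  refine ⟨mem_Y.2 ⟨h1w.mul_left h2w.inv_left, ?_⟩, ?_⟩
  · have h4 : D.x * (g1 * g2⁻¹) * D.x = g1 * g2⁻¹ := by
      have h5 : D.x * g2⁻¹ * D.x = g2 := by
        have := congrArg (fun t => t⁻¹) h2x
        simp only [mul_inv_rev, D.x_inv, inv_inv] at this
        rw [mul_assoc]
        exact this
      calc D.x * (g1 * g2⁻¹) * D.x = (D.x * g1 * D.x) * (D.x * D.x)⁻¹ * (D.x * g2⁻¹ * D.x) := by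
            group
        _ = g1⁻¹ * g2 := by rw [h1x, h5, D.x_sq, inv_one, mul_one]
        _ = g1 * g2⁻¹ := h3
    show g1 * g2⁻¹ * D.x = D.x * (g1 * g2⁻¹)
    calc g1 * g2⁻¹ * D.x = D.x * (g1 * g2⁻¹) * D.x * D.x := by rw [h4]
      _ = D.x * (g1 * g2⁻¹) * (D.x * D.x) := by group
      _ = D.x * (g1 * g2⁻¹) := by rw [D.x_sq, mul_one]
  · calc g2⁻¹ * (g1 * g2⁻¹) * g2 = g2⁻¹ * g1 := by group
      _ = (g1⁻¹ * g2)⁻¹ := by group
      _ = (g1 * g2⁻¹)⁻¹ := by rw [h3]

/-- a power of `y ∈ Y`, `y ∉ ⟨z⟩`, with square `z`; if `y` commutes with `f`, it is `f^{±1}` -/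
theorem exists_pow_eq [Finite P] (hP : IsPGroup 2 P) {y f : P} (hy : y ∈ Y D) (hf : f ∈ Y D)
    (hff : f * f = D.z) (hyf : Commute y f) (h1 : y ≠ 1) (hz : y ≠ D.z) :
    ∃ k : ℕ, y ^ k = f ∨ y ^ k = f⁻¹ := by
  have hyy : y * y ≠ 1 := fun h => (eq_of_mem_Y D hy h).elim h1 hz
  obtain ⟨k, hk⟩ := exists_pow_sq hP (z := D.z)
    (fun n hn => eq_of_mem_Y D (pow_mem hy n) hn) hyy
  refine ⟨k, ?_⟩
  have hc : Commute (y ^ k) f := hyf.pow_left k
  have h2 : y ^ k * f⁻¹ ∈ Y D := mul_mem (pow_mem hy k) (inv_mem hf)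
  have h3 : (y ^ k * f⁻¹) * (y ^ k * f⁻¹) = 1 := by
    have := hc.inv_right.eq
    calc (y ^ k * f⁻¹) * (y ^ k * f⁻¹) = y ^ k * (f⁻¹ * y ^ k) * f⁻¹ := by group
      _ = y ^ k * (y ^ k * f⁻¹) * f⁻¹ := by rw [this]
      _ = (y ^ k * y ^ k) * (f * f)⁻¹ := by group
      _ = 1 := by rw [hk, hff, mul_inv_cancel]
  have hfi : f⁻¹ = D.z * f := by
    rw [← hff]
    have : f * f * (f * f) = 1 := by rw [hff]; exact D.z_sq
    calc f⁻¹ = f⁻¹ * 1 := by group
      _ = f⁻¹ * (f * f * (f * f)) := by rw [this]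
      _ = f * f * f := by group
  rcases eq_of_mem_Y D h2 h3 with h | h
  · left
    exact (mul_inv_eq_one.1 h)
  · right
    rw [hfi]
    exact mul_inv_eq_iff_eq_mul.1 h

theorem inv_eq_z_mul {f : P} (hff : f * f = D.z) : f⁻¹ = D.z * f := by
  rw [← hff]
  have : f * f * (f * f) = 1 := by rw [hff]; exact D.z_sq
  calc f⁻¹ = f⁻¹ * 1 := by group
    _ = f⁻¹ * (f * f * (f * f)) := by rw [this]
    _ = f * f * f := by group

theorem eq_one_or_z_of_inverted [Finite P] (hP : IsPGroup 2 P) {y f u : P} (hy : y ∈ Y D)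
    (hf : f ∈ Y D) (hff : f * f = D.z) (hyf : Commute y f) (huf : Commute u f)
    (hu : u⁻¹ * y * u = y⁻¹) : y = 1 ∨ y = D.z := by
  by_contra hcon
  push Not at hcon
  obtain ⟨k, hk⟩ := exists_pow_eq D hP hy hf hff hyf hcon.1 hcon.2
  have h1 : u⁻¹ * y ^ k * u = (y ^ k)⁻¹ := by
    have := conj_pow (i := k) (a := u⁻¹) (b := y)
    rw [inv_inv] at this
    rw [← this, hu, inv_pow]
  have h2 : f⁻¹ = f := by
    rcases hk with hk | hk
    · rw [hk, mul_assoc, ← huf.eq, inv_mul_cancel_left] at h1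
      exact h1.symm
    · rw [hk, inv_inv, mul_assoc, ← huf.inv_right.eq, inv_mul_cancel_left] at h1
      exact h1
  apply D.z_ne
  rw [← hff]
  calc f * f = f * f⁻¹ := by rw [h2]
    _ = 1 := mul_inv_cancel f

/-- the data attached to an involution `e ∈ T ∖ W` -/
structure EData (D : Data P) where
  e : P
  c : P
  k : ℕ
  e_sq : e * e = 1
  e_w : Commute e D.w
  c_eq : c = D.x * e * D.x * e
  c_k : c ^ k * c ^ k = D.z

namespace EData

variable {D} (E : EData D)

/-- the element of order 4 of `Y` attached to `e` -/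
def f : P := D.w * E.c ^ E.k

theorem e_inv : E.e⁻¹ = E.e := inv_eq_of_mul_eq_one_right E.e_sq

theorem xex : D.x * E.e * D.x = E.c * E.e := by
  rw [E.c_eq, mul_assoc (D.x * E.e * D.x), E.e_sq, mul_one]

theorem xcx : D.x * E.c * D.x = E.c⁻¹ := by
  rw [E.c_eq]
  simp only [mul_inv_rev, D.x_inv, E.e_inv]
  calc D.x * (D.x * E.e * D.x * E.e) * D.x = (D.x * D.x) * E.e * D.x * E.e * D.x := by group
    _ = E.e * (D.x * (E.e * D.x)) := by rw [D.x_sq]; group

theorem ece : E.e * E.c * E.e = E.c⁻¹ := by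
  rw [E.c_eq]
  simp only [mul_inv_rev, D.x_inv, E.e_inv]
  calc E.e * (D.x * E.e * D.x * E.e) * E.e = E.e * D.x * E.e * D.x * (E.e * E.e) := by group
    _ = E.e * (D.x * (E.e * D.x)) := by rw [E.e_sq]; group

theorem c_w : Commute E.c D.w := by
  rw [E.c_eq]
  have h1 : Commute (D.x * E.e * D.x) D.w := by
    have := D.commute_conj D.x E.e_w
    rwa [D.x_inv] at this
  exact h1.mul_left E.e_w

theorem c_sq_ne : E.c * E.c ≠ 1 := by
  intro h
  have h1 : E.c ^ E.k * E.c ^ E.k = 1 := by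
    rw [← (Commute.refl E.c).mul_pow, h, one_pow]
  exact D.z_ne (E.c_k.symm.trans h1)

theorem c_f : Commute E.c E.f := by
  unfold f
  exact E.c_w.mul_right ((Commute.refl E.c).pow_right _)

theorem f_w : Commute E.f D.w := by
  unfold f
  exact (Commute.refl D.w).mul_left (E.c_w.pow_left _)

theorem f_sq : E.f * E.f = D.z := by
  unfold f
  have h := (E.c_w.pow_left E.k).eq
  calc D.w * E.c ^ E.k * (D.w * E.c ^ E.k) = D.w * (E.c ^ E.k * D.w) * E.c ^ E.k := by group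
    _ = D.w * (D.w * E.c ^ E.k) * E.c ^ E.k := by rw [h]
    _ = (D.w * D.w) * (E.c ^ E.k * E.c ^ E.k) := by group
    _ = D.z := by rw [D.w_sq, one_mul, E.c_k]

theorem x_pow_x (n : ℕ) : D.x * E.c ^ n * D.x = (E.c ^ n)⁻¹ := by
  have h := conj_pow (i := n) (a := D.x) (b := E.c)
  rw [D.x_inv, E.xcx] at h
  rw [← h, inv_pow]

theorem x_zpow_x (n : ℤ) : D.x * E.c ^ n * D.x = E.c ^ (-n) := by
  have h := conj_zpow (i := n) (a := D.x) (b := E.c)
  rw [D.x_inv, E.xcx] at h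
  rw [← h, inv_zpow, zpow_neg]

theorem e_zpow_e (n : ℤ) : E.e * E.c ^ n * E.e = E.c ^ (-n) := by
  have h := conj_zpow (i := n) (a := E.e) (b := E.c)
  rw [E.e_inv, E.ece] at h
  rw [← h, inv_zpow, zpow_neg]

theorem xwx : D.x * D.w * D.x = D.w * D.z := by
  have := D.x_w
  rwa [D.x_inv] at this

theorem f_x : Commute E.f D.x := by
  have h : D.x * E.f * D.x = E.f := by
    unfold f
    calc D.x * (D.w * E.c ^ E.k) * D.x
        = (D.x * D.w * D.x) * (D.x * D.x)⁻¹ * (D.x * E.c ^ E.k * D.x) := by group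
      _ = D.w * D.z * (E.c ^ E.k)⁻¹ := by rw [xwx, D.x_sq, E.x_pow_x]; group
      _ = D.w * (E.c ^ E.k * E.c ^ E.k) * (E.c ^ E.k)⁻¹ := by rw [E.c_k]
      _ = D.w * E.c ^ E.k := by group
  show E.f * D.x = D.x * E.f
  calc E.f * D.x = D.x * E.f * D.x * D.x := by rw [h]
    _ = D.x * E.f * (D.x * D.x) := by group
    _ = D.x * E.f := by rw [D.x_sq, mul_one]

theorem f_mem : E.f ∈ Y D := mem_Y.2 ⟨E.f_w, E.f_x⟩

theorem f_inv : E.f⁻¹ = D.z * E.f := inv_eq_z_mul D E.f_sq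

theorem f_ne_inv : E.f ≠ E.f⁻¹ := by
  intro h
  apply D.z_ne
  rw [← E.f_sq]
  calc E.f * E.f = E.f * E.f⁻¹ := by rw [← h]
    _ = 1 := mul_inv_cancel _

theorem efe : E.e * E.f * E.e = E.f⁻¹ := by
  unfold f
  have h1 := E.e_zpow_e E.k
  rw [zpow_natCast, zpow_neg, zpow_natCast] at h1
  calc E.e * (D.w * E.c ^ E.k) * E.e = (E.e * D.w) * E.c ^ E.k * E.e := by group
    _ = D.w * (E.e * E.c ^ E.k * E.e) := by rw [E.e_w.eq]; group
    _ = D.w * (E.c ^ E.k)⁻¹ := by rw [h1]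
    _ = (E.c ^ E.k)⁻¹ * D.w := by rw [((E.c_w.pow_left E.k).inv_left).eq]
    _ = (D.w * E.c ^ E.k)⁻¹ := by rw [mul_inv_rev, D.w_inv]

/-- `c ^ k = w f` -/
theorem c_k_eq : E.c ^ E.k = D.w * E.f := by
  unfold f
  rw [← mul_assoc, D.w_sq, one_mul]

end EData

/-- existence of the data -/
theorem exists_eData [Finite P] (hP : IsPGroup 2 P) {e : P} (he : e * e = 1)
    (hew : Commute e D.w) (h1 : e ≠ 1) (hz : e ≠ D.z) (hw : e ≠ D.w) (hwz : e ≠ D.w * D.z) :
    ∃ E : EData D, E.e = e := by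
  set c : P := D.x * e * D.x * e with hc
  have hei : e⁻¹ = e := inv_eq_of_mul_eq_one_right he
  have hxcx : D.x * c * D.x = c⁻¹ := by
    rw [hc]
    simp only [mul_inv_rev, D.x_inv, hei]
    calc D.x * (D.x * e * D.x * e) * D.x = (D.x * D.x) * e * D.x * e * D.x := by group
      _ = e * (D.x * (e * D.x)) := by rw [D.x_sq]; group
  have hcw : Commute c D.w := by
    have := D.commute_conj D.x hew
    rw [D.x_inv] at this
    exact this.mul_left hew
  have hpow : ∀ n : ℕ, c ^ n * c ^ n = 1 → c ^ n = 1 ∨ c ^ n = D.z := by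
    intro n hn
    have h2 : D.x * c ^ n * D.x = c ^ n := by
      have h := conj_pow (i := n) (a := D.x) (b := c)
      rw [D.x_inv, hxcx] at h
      rw [← h, inv_pow]
      exact inv_eq_of_mul_eq_one_right hn
    refine D.hY _ (hcw.pow_left n) ?_ hn
    calc c ^ n * D.x = D.x * c ^ n * D.x * D.x := by rw [h2]
      _ = D.x * c ^ n * (D.x * D.x) := by group
      _ = D.x * c ^ n := by rw [D.x_sq, mul_one]
  have hcc : c * c ≠ 1 := by
    intro hcc
    rcases hpow 1 (by rwa [pow_one]) with h | h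
    · rw [pow_one] at h
      have h3 : Commute e D.x := by
        have h4 : D.x * e * D.x = e := by
          have h5 : D.x * e * D.x * e = 1 := by rw [← hc]; exact h
          have := eq_inv_of_mul_eq_one_left h5
          rwa [hei] at this
        show e * D.x = D.x * e
        calc e * D.x = D.x * e * D.x * D.x := by rw [h4]
          _ = D.x * e * (D.x * D.x) := by group
          _ = D.x * e := by rw [D.x_sq, mul_one]
      rcases D.hY e hew h3 he with h5 | h5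
      · exact h1 h5
      · exact hz h5
    · rw [pow_one] at h
      have h4 : D.x * e * D.x = D.z * e := by
        have h5 : D.x * e * D.x * e = D.z := by rw [← hc]; exact h
        calc D.x * e * D.x = D.x * e * D.x * (e * e) := by rw [he, mul_one]
          _ = D.x * e * D.x * e * e := by group
          _ = D.z * e := by rw [h5]
      have h6 : D.x * (e * D.w) * D.x = e * D.w := by
        calc D.x * (e * D.w) * D.x
            = (D.x * e * D.x) * (D.x * D.x)⁻¹ * (D.x * D.w * D.x) := by group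
          _ = D.z * e * (D.w * D.z) := by rw [h4, EData.xwx, D.x_sq]; group
          _ = e * D.z * (D.w * D.z) := by rw [← D.z_comm e]
          _ = e * (D.w * D.z * D.z) := by
              rw [mul_assoc e, ← mul_assoc D.z D.w, ← D.z_comm D.w]
          _ = e * D.w := by rw [mul_assoc D.w, D.z_sq, mul_one]
      have h7 : e * D.w * D.x = D.x * (e * D.w) := by
        calc e * D.w * D.x = D.x * (e * D.w) * D.x * D.x := by rw [h6]
          _ = D.x * (e * D.w) * (D.x * D.x) := by group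
          _ = D.x * (e * D.w) := by rw [D.x_sq, mul_one]
      have h8 : e * D.w * (e * D.w) = 1 := by
        calc e * D.w * (e * D.w) = e * (D.w * e) * D.w := by group
          _ = e * (e * D.w) * D.w := by rw [hew.eq]
          _ = (e * e) * (D.w * D.w) := by group
          _ = 1 := by rw [he, D.w_sq, mul_one]
      rcases D.hY _ (hew.mul_left (Commute.refl _)) h7 h8 with h9 | h9
      · apply hw
        calc e = e * D.w * D.w⁻¹ := by group
          _ = D.w := by rw [h9, one_mul, D.w_inv]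
      · apply hwz
        calc e = e * D.w * D.w⁻¹ := by group
          _ = D.z * D.w := by rw [h9, D.w_inv]
          _ = D.w * D.z := (D.z_comm _).symm
  obtain ⟨k, hk⟩ := exists_pow_sq hP hpow hcc
  exact ⟨⟨e, c, k, he, hew, hc, hk⟩, rfl⟩

end Cfsg.Agent.Classification.NonConnStep
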