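import Mathlib
import Cfsg.Agent.Classification.NonConnStep

/-!
# Disconnected 2-groups: the action of `N_Y(⟨f⟩)` on `⟨c⟩` and on `e`
-/

set_option autoImplicit false

namespace Cfsg.Agent.Classification.NonConnAction

open Subgroup Cfsg.Agent.Classification.NonConnBase Cfsg.Agent.Classification.NonConnStep

variable {P : Type*} [Group P] {D : Data P}

/-- normalizers grow in 2-groups -/
theorem exists_normalizing [Finite P] (hP : IsPGroup 2 P) {A B : Subgroup P} (h : A < B) :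
    ∃ g ∈ B, g ∉ A ∧ ∀ a ∈ A, g * a * g⁻¹ ∈ A := by
  have : Fact (Nat.Prime 2) := ⟨Nat.prime_two⟩
  have hB : IsPGroup 2 B := hP.to_subgroup B
  have : Group.IsNilpotent B := hB.isNilpotent
  have hN := Group.normalizerCondition_of_isNilpotent (G := B)
  have h1 : A.subgroupOf B < ⊤ :=
    lt_top_iff_ne_top.2 (fun hh => h.not_ge (subgroupOf_eq_top.1 hh))
  obtain ⟨g, hg1, hg2⟩ := SetLike.exists_of_lt (hN _ h1)
  refine ⟨g, g.2, fun hA => hg2 (mem_subgroupOf.2 hA), fun a ha => ?_⟩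
  have := (mem_normalizer_iff.1 hg1 ⟨a, h.le ha⟩).1 (mem_subgroupOf.2 ha)
  exact mem_subgroupOf.1 this

theorem conj_x_of_mem {y : P} (hy : y ∈ Y D) {g h : P} (hg : D.x * g * D.x = h) :
    D.x * (y * g * y⁻¹) * D.x = y * h * y⁻¹ := by
  have h1 := (mem_Y.1 hy).2
  rw [← hg]
  calc D.x * (y * g * y⁻¹) * D.x = (D.x * y) * g * (y⁻¹ * D.x) := by group
    _ = (y * D.x) * g * (D.x * y⁻¹) := by rw [h1.eq, h1.inv_left.eq]
    _ = y * (D.x * g * D.x) * y⁻¹ := by group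

theorem commute_conj_of {q f d : P} (hqf : q * f * q⁻¹ = f ∨ q * f * q⁻¹ = f⁻¹)
    (h : Commute d f) : Commute (q * d * q⁻¹) f := by
  have h0 : Commute (q * d * q⁻¹) (q * f * q⁻¹) := by
    show q * d * q⁻¹ * (q * f * q⁻¹) = q * f * q⁻¹ * (q * d * q⁻¹)
    have := h.eq
    calc q * d * q⁻¹ * (q * f * q⁻¹) = q * (d * f) * q⁻¹ := by group
      _ = q * (f * d) * q⁻¹ := by rw [this]
      _ = q * f * q⁻¹ * (q * d * q⁻¹) := by group
  rcases hqf with h1 | h1
  · rwa [h1] at h0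
  · rw [h1] at h0
    have := h0.inv_right
    rwa [inv_inv] at this

theorem conj_ck_of_commute (E : EData D) {q : P} (hqw : Commute q D.w)
    (hqf : q * E.f * q⁻¹ = E.f) : q * E.c ^ E.k * q⁻¹ = E.c ^ E.k := by
  rw [E.c_k_eq]
  calc q * (D.w * E.f) * q⁻¹ = (q * D.w) * q⁻¹ * (q * E.f * q⁻¹) := by group
    _ = D.w * E.f := by rw [hqw.eq, hqf]; group

theorem conj_ck_of_inverts (E : EData D) {q : P} (hqw : Commute q D.w)
    (hqf : q * E.f * q⁻¹ = E.f⁻¹) : q * E.c ^ E.k * q⁻¹ = (E.c ^ E.k)⁻¹ := by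
  rw [E.c_k_eq]
  calc q * (D.w * E.f) * q⁻¹ = (q * D.w) * q⁻¹ * (q * E.f * q⁻¹) := by group
    _ = D.w * E.f⁻¹ := by rw [hqw.eq, hqf]; group
    _ = E.f⁻¹ * D.w := E.f_w.inv_left.eq.symm
    _ = (D.w * E.f)⁻¹ := by rw [mul_inv_rev, D.w_inv]

/-- step (4), inductive form -/
theorem exists_zpow_conj_aux [Finite P] (hP : IsPGroup 2 P) (E : EData D) {q : P} (hq : q ∈ Y D)
    (hqf : q * E.f * q⁻¹ = E.f ∨ q * E.f * q⁻¹ = E.f⁻¹) :
    ∀ n : ℕ, ∀ d : P, d ^ 2 ^ n = 1 → Commute d D.w → D.x * d * D.x = d⁻¹ →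
      E.c ^ E.k ∈ zpowers d → ∃ κ : ℤ, q * d * q⁻¹ = d ^ κ := by
  intro n
  induction n with
  | zero =>
    intro d hd _ _ _
    rw [pow_zero, pow_one] at hd
    exact ⟨0, by rw [hd]; group⟩
  | succ n ih =>
    intro d hd hdw hdx hc
    rcases mem_zpowers_or hP hc with h | h
    · have hx2 : D.x * (d * d) * D.x = (d * d)⁻¹ := by
        calc D.x * (d * d) * D.x = (D.x * d * D.x) * (D.x * D.x)⁻¹ * (D.x * d * D.x) := by group
          _ = (d * d)⁻¹ := by rw [hdx, D.x_sq]; group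
      obtain ⟨κ, hκ⟩ := ih (d * d) (by rw [← sq, ← pow_mul, ← hd]; congr 1; ring)
        (hdw.mul_left hdw) hx2 h
      have h1w : Commute (q * d * q⁻¹) D.w := D.commute_conj q hdw
      have h2w : Commute (d ^ κ) D.w := hdw.zpow_left κ
      have h1x : D.x * (q * d * q⁻¹) * D.x = (q * d * q⁻¹)⁻¹ := by
        rw [conj_x_of_mem hq hdx]; group
      have h2x : D.x * d ^ κ * D.x = (d ^ κ)⁻¹ := by
        have h3 := conj_zpow (i := κ) (a := D.x) (b := d)
        rw [D.x_inv, hdx] at h3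
        rw [← h3, inv_zpow]
      have hsq : q * d * q⁻¹ * (q * d * q⁻¹) = d ^ κ * d ^ κ := by
        rw [← (Commute.refl d).mul_zpow, ← hκ]
        group
      obtain ⟨hY, hinv⟩ := mem_Y_of_sq_eq D h1w h2w h1x h2x hsq
      have hckd : Commute (E.c ^ E.k) d := by
        obtain ⟨m, hm⟩ := hc
        simp only at hm
        rw [← hm]
        exact (Commute.refl d).zpow_left m
      have hfd : Commute d E.f := by
        unfold EData.f
        exact hdw.mul_right hckd.symm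
      have hy1 : Commute (q * d * q⁻¹) E.f := commute_conj_of hqf hfd
      have hy2 : Commute (q * d * q⁻¹ * (d ^ κ)⁻¹) E.f :=
        hy1.mul_left (hfd.zpow_left κ).inv_left
      rcases eq_one_or_z_of_inverted D hP hY E.f_mem E.f_sq hy2 (hfd.zpow_left κ) hinv with h4 | h4
      · exact ⟨κ, mul_inv_eq_one.1 h4⟩
      · obtain ⟨m, hm⟩ := hc
        simp only at hm
        refine ⟨m + m + κ, ?_⟩
        rw [zpow_add, zpow_add, hm, E.c_k]
        exact mul_inv_eq_iff_eq_mul.1 h4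
    · obtain ⟨m, hm⟩ := h
      simp only at hm
      have hqw := (mem_Y.1 hq).1
      rcases hqf with hqf | hqf
      · refine ⟨1, ?_⟩
        have h3 := conj_zpow (i := m) (a := q) (b := E.c ^ E.k)
        rw [conj_ck_of_commute E hqw hqf, hm] at h3
        rw [zpow_one]
        exact h3.symm
      · refine ⟨-1, ?_⟩
        have h3 := conj_zpow (i := m) (a := q) (b := E.c ^ E.k)
        rw [conj_ck_of_inverts E hqw hqf, inv_zpow, hm] at h3
        rw [zpow_neg, zpow_one]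
        exact h3.symm

/-- step (4): `N_Y(⟨f⟩)` normalises `⟨c⟩` -/
theorem exists_zpow_conj [Finite P] (hP : IsPGroup 2 P) (E : EData D) {q : P} (hq : q ∈ Y D)
    (hqf : q * E.f * q⁻¹ = E.f ∨ q * E.f * q⁻¹ = E.f⁻¹) :
    ∃ κ : ℤ, q * E.c * q⁻¹ = E.c ^ κ := by
  obtain ⟨n, hn⟩ := hP E.c
  exact exists_zpow_conj_aux hP E hq hqf n E.c hn E.c_w E.xcx (pow_mem (mem_zpowers _) _)

theorem orderOf_ck (E : EData D) : orderOf (E.c ^ E.k) = 4 := by
  have : Fact (Nat.Prime 2) := ⟨Nat.prime_two⟩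
  have h : orderOf (E.c ^ E.k) = 2 ^ (1 + 1) := by
    apply orderOf_eq_prime_pow
    · rw [pow_one, sq, E.c_k]
      exact D.z_ne
    · show (E.c ^ E.k) ^ (2 * 2) = 1
      rw [pow_mul, sq (E.c ^ E.k), E.c_k, sq]
      exact D.z_sq
  rw [h]
  norm_num

theorem conj_ck (E : EData D) {q : P} {κ : ℤ} (hκ : q * E.c * q⁻¹ = E.c ^ κ) :
    q * E.c ^ E.k * q⁻¹ = (E.c ^ E.k) ^ κ := by
  rw [← conj_pow, hκ, ← zpow_natCast, ← zpow_natCast, ← zpow_mul, ← zpow_mul, mul_comm]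

theorem dvd_sub_one (E : EData D) {q : P} {κ : ℤ} (hqw : Commute q D.w)
    (hκ : q * E.c * q⁻¹ = E.c ^ κ) (hqf : q * E.f * q⁻¹ = E.f) : (4 : ℤ) ∣ κ - 1 := by
  have h1 := conj_ck E hκ
  rw [conj_ck_of_commute E hqw hqf] at h1
  have h2 : (E.c ^ E.k) ^ (κ - 1) = 1 := by
    rw [zpow_sub_one, ← h1, mul_inv_cancel]
  have h3 := orderOf_dvd_iff_zpow_eq_one.2 h2
  rw [orderOf_ck] at h3
  exact_mod_cast h3

theorem dvd_add_one (E : EData D) {q : P} {κ : ℤ} (hqw : Commute q D.w)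
    (hκ : q * E.c * q⁻¹ = E.c ^ κ) (hqf : q * E.f * q⁻¹ = E.f⁻¹) : (4 : ℤ) ∣ κ + 1 := by
  have h1 := conj_ck E hκ
  rw [conj_ck_of_inverts E hqw hqf] at h1
  have h2 : (E.c ^ E.k) ^ (κ + 1) = 1 := by
    rw [zpow_add_one, ← h1, inv_mul_cancel]
  have h3 := orderOf_dvd_iff_zpow_eq_one.2 h2
  rw [orderOf_ck] at h3
  exact_mod_cast h3

/-- `(c ^ i e)` is an involution with `[x, c ^ i e] = c ^ (1 - 2 i)` -/
theorem ci_sq (E : EData D) (i : ℤ) : E.c ^ i * E.e * (E.c ^ i * E.e) = 1 := by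
  have h := E.e_zpow_e i
  calc E.c ^ i * E.e * (E.c ^ i * E.e) = E.c ^ i * (E.e * E.c ^ i * E.e) := by group
    _ = 1 := by rw [h, ← zpow_add, add_neg_cancel, zpow_zero]

theorem x_ci_x (E : EData D) (i : ℤ) :
    D.x * (E.c ^ i * E.e) * D.x * (E.c ^ i * E.e) = E.c ^ (1 - 2 * i) := by
  calc D.x * (E.c ^ i * E.e) * D.x * (E.c ^ i * E.e)
      = (D.x * E.c ^ i * D.x) * (D.x * D.x)⁻¹ * (D.x * E.e * D.x) * (E.c ^ i * E.e) := by group
    _ = E.c ^ (-i) * E.c * (E.e * E.c ^ i * E.e) := by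
        rw [E.x_zpow_x, D.x_sq, E.xex]; group
    _ = E.c ^ (1 - 2 * i) := by
        rw [E.e_zpow_e, ← zpow_add_one, ← zpow_add]
        congr 1
        ring

/-- the action on `e` -/
theorem conj_e (E : EData D) {q : P} (hq : q ∈ Y D) {κ i : ℤ} (hκ : q * E.c * q⁻¹ = E.c ^ κ)
    (hi : κ = 1 - 2 * i) :
    ∃ y ∈ Y D, q * E.e * q⁻¹ = E.c ^ i * E.e * y ∧
      E.c ^ i * E.e * y * (E.c ^ i * E.e) = y⁻¹ := by
  set a : P := E.c ^ i * E.e with ha
  set b : P := q * E.e * q⁻¹ with hb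
  have haa : a * a = 1 := ci_sq E i
  have hai : a⁻¹ = a := inv_eq_of_mul_eq_one_right haa
  have hbb : b * b = 1 := by
    rw [hb]
    calc q * E.e * q⁻¹ * (q * E.e * q⁻¹) = q * (E.e * E.e) * q⁻¹ := by group
      _ = 1 := by rw [E.e_sq]; group
  have hbi : b⁻¹ = b := inv_eq_of_mul_eq_one_right hbb
  have hxa : D.x * a * D.x * a = E.c ^ κ := by rw [hi]; exact x_ci_x E i
  have hxb : D.x * b * D.x * b = E.c ^ κ := by
    have h1 : D.x * b * D.x = q * (E.c * E.e) * q⁻¹ := conj_x_of_mem hq E.xex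
    rw [h1, hb, ← hκ]
    calc q * (E.c * E.e) * q⁻¹ * (q * E.e * q⁻¹) = q * (E.c * (E.e * E.e)) * q⁻¹ := by group
      _ = q * E.c * q⁻¹ := by rw [E.e_sq]; group
  have hxab : D.x * (a * b) * D.x = a * b := by
    have h1 : D.x * a * D.x = E.c ^ κ * a := by
      rw [← hxa, mul_assoc _ a a, haa, mul_one]
    have h2 : D.x * b * D.x = E.c ^ κ * b := by
      rw [← hxb, mul_assoc _ b b, hbb, mul_one]
    have h3 : E.c ^ κ = (E.c ^ κ * a) * a := by rw [mul_assoc, haa, mul_one]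
    have h4 : D.x * a * D.x * (D.x * a * D.x) = 1 := by
      calc D.x * a * D.x * (D.x * a * D.x) = D.x * a * (D.x * D.x) * a * D.x := by group
        _ = D.x * (a * a) * D.x := by rw [D.x_sq]; group
        _ = 1 := by rw [haa, mul_one, D.x_sq]
    calc D.x * (a * b) * D.x = (D.x * a * D.x) * (D.x * D.x)⁻¹ * (D.x * b * D.x) := by group
      _ = (D.x * a * D.x) * (D.x * b * D.x) := by rw [D.x_sq]; group
      _ = (D.x * a * D.x) * (E.c ^ κ * b) := by rw [h2]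
      _ = (D.x * a * D.x) * ((D.x * a * D.x * a) * b) := by rw [hxa]
      _ = (D.x * a * D.x * (D.x * a * D.x)) * (a * b) := by simp only [mul_assoc]
      _ = a * b := by rw [h4, one_mul]
  refine ⟨a * b, mem_Y.2 ⟨?_, ?_⟩, ?_, ?_⟩
  · have h1 : Commute a D.w := (E.c_w.zpow_left i).mul_left E.e_w
    have h2 : Commute b D.w := D.commute_conj q E.e_w
    exact h1.mul_left h2
  · show a * b * D.x = D.x * (a * b)
    calc a * b * D.x = D.x * (a * b) * D.x * D.x := by rw [hxab]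
      _ = D.x * (a * b) * (D.x * D.x) := by group
      _ = D.x * (a * b) := by rw [D.x_sq, mul_one]
  · rw [← mul_assoc, haa, one_mul]
  · rw [mul_inv_rev, hai, hbi]
    calc a * (a * b) * a = (a * a) * b * a := by group
      _ = b * a := by rw [haa, one_mul]

/-- Lemma B -/
theorem exists_conj_w [Finite P] (hP : IsPGroup 2 P) (E : EData D) :
    ∃ s : P, Commute s E.f ∧ (s * E.e * s⁻¹ = D.w * E.e * E.f ∨
      s * E.e * s⁻¹ = D.w * E.e * E.f⁻¹) := by
  have hef : E.f * E.e = E.e * E.f⁻¹ := by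
    rw [← E.efe]
    calc E.f * E.e = (E.e * E.e) * E.f * E.e := by rw [E.e_sq, one_mul]
      _ = E.e * (E.e * E.f * E.e) := by group
  have hef' : E.f⁻¹ * E.e = E.e * E.f := by
    have := E.efe
    calc E.f⁻¹ * E.e = E.e * E.f * (E.e * E.e) := by rw [← this]; group
      _ = E.e * E.f := by rw [E.e_sq, mul_one]
  have hce : ∀ n : ℤ, E.c ^ n * E.e = E.e * E.c ^ (-n) := by
    intro n
    calc E.c ^ n * E.e = (E.e * E.e) * E.c ^ n * E.e := by rw [E.e_sq, one_mul]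
      _ = E.e * (E.e * E.c ^ n * E.e) := by group
      _ = E.e * E.c ^ (-n) := by rw [E.e_zpow_e]
  rcases mem_zpowers_or hP (show E.c ^ E.k ∈ zpowers E.c from pow_mem (mem_zpowers _) _) with h | h
  · obtain ⟨j, hj⟩ := h
    simp only at hj
    refine ⟨E.c ^ j, E.c_f.zpow_left j, Or.inr ?_⟩
    have h1 : E.c ^ j * E.c ^ j = E.c ^ E.k := by
      rw [← (Commute.refl E.c).mul_zpow, hj]
    calc E.c ^ j * E.e * (E.c ^ j)⁻¹ = E.e * E.c ^ (-j) * (E.c ^ j)⁻¹ := by rw [hce]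
      _ = E.e * (E.c ^ j * E.c ^ j)⁻¹ := by rw [zpow_neg]; group
      _ = E.e * (D.w * E.f)⁻¹ := by rw [h1, E.c_k_eq]
      _ = E.e * (E.f⁻¹ * D.w) := by rw [mul_inv_rev, D.w_inv]
      _ = E.e * (D.w * E.f⁻¹) := by rw [E.f_w.inv_left.eq]
      _ = (E.e * D.w) * E.f⁻¹ := by group
      _ = D.w * E.e * E.f⁻¹ := by rw [E.e_w.eq]
  · have hcc : E.c = E.c ^ E.k ∨ E.c = (E.c ^ E.k)⁻¹ := by
      obtain ⟨m, hm⟩ := h
      simp only at hm
      have h4 : ((E.c ^ E.k) ^ (4 : ℤ)) = 1 := by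
        have := pow_orderOf_eq_one (E.c ^ E.k)
        rw [orderOf_ck] at this
        exact_mod_cast this
      obtain ⟨j, hj⟩ | ⟨j, hj⟩ := Int.even_or_odd m
      · exfalso
        apply E.c_sq_ne
        rw [← hm, ← zpow_add]
        have : m + m = 4 * j := by omega
        rw [this, zpow_mul, h4, one_zpow]
      · obtain ⟨l, hl⟩ | ⟨l, hl⟩ := Int.even_or_odd j
        · left
          have : m = 4 * l + 1 := by omega
          rw [this, zpow_add, zpow_mul, h4, one_zpow, one_mul, zpow_one] at hm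
          exact hm.symm
        · right
          have : m = 4 * (l + 1) + (-1) := by omega
          rw [this, zpow_add, zpow_mul, h4, one_zpow, one_mul, zpow_neg, zpow_one] at hm
          exact hm.symm
    refine ⟨D.x, E.f_x.symm, ?_⟩
    rw [D.x_inv, E.xex]
    rcases hcc with hcc | hcc
    · right
      calc E.c * E.e = E.c ^ E.k * E.e := by rw [← hcc]
        _ = D.w * (E.f * E.e) := by rw [E.c_k_eq, mul_assoc]
        _ = D.w * E.e * E.f⁻¹ := by rw [hef, mul_assoc]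
    · left
      calc E.c * E.e = (E.c ^ E.k)⁻¹ * E.e := by rw [← hcc]
        _ = E.f⁻¹ * (D.w * E.e) := by rw [E.c_k_eq, mul_inv_rev, D.w_inv, mul_assoc]
        _ = E.f⁻¹ * (E.e * D.w) := by rw [E.e_w.eq]
        _ = (E.f⁻¹ * E.e) * D.w := by group
        _ = E.e * (E.f * D.w) := by rw [hef', mul_assoc]
        _ = E.e * D.w * E.f := by rw [E.f_w.eq, mul_assoc]
        _ = D.w * E.e * E.f := by rw [E.e_w.eq]

/-- no conjugate of `e` is `e f^{±1}` if none is `e w` or `e w z` -/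
theorem not_conj_f [Finite P] (hP : IsPGroup 2 P) (E : EData D)
    (h1 : ∀ g : P, g * E.e * g⁻¹ ≠ E.e * D.w) (h2 : ∀ g : P, g * E.e * g⁻¹ ≠ E.e * D.w * D.z)
    (s : P) : s * E.e * s⁻¹ ≠ E.e * E.f ∧ s * E.e * s⁻¹ ≠ E.e * E.f⁻¹ := by
  obtain ⟨t, htf, ht⟩ := exists_conj_w hP E
  have hz' : E.f⁻¹ * E.f⁻¹ = D.z := by rw [← mul_inv_rev, E.f_sq, D.z_inv]
  have hcf : t * E.f * t⁻¹ = E.f := by rw [htf.eq, mul_inv_cancel_right]
  have hcf' : t * E.f⁻¹ * t⁻¹ = E.f⁻¹ := by rw [htf.inv_right.eq, mul_inv_cancel_right]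
  constructor
  · intro hs
    have h3 : (t * s) * E.e * (t * s)⁻¹ = (t * E.e * t⁻¹) * E.f := by
      calc (t * s) * E.e * (t * s)⁻¹ = t * (s * E.e * s⁻¹) * t⁻¹ := by group
        _ = (t * E.e * t⁻¹) * (t * E.f * t⁻¹) := by rw [hs]; group
        _ = (t * E.e * t⁻¹) * E.f := by rw [hcf]
    rcases ht with ht | ht
    · apply h2 (t * s)
      rw [h3, ht, mul_assoc, E.f_sq, E.e_w.eq]
    · apply h1 (t * s)
      rw [h3, ht, mul_assoc, inv_mul_cancel, mul_one, E.e_w.eq]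
  · intro hs
    have h3 : (t * s) * E.e * (t * s)⁻¹ = (t * E.e * t⁻¹) * E.f⁻¹ := by
      calc (t * s) * E.e * (t * s)⁻¹ = t * (s * E.e * s⁻¹) * t⁻¹ := by group
        _ = (t * E.e * t⁻¹) * (t * E.f⁻¹ * t⁻¹) := by rw [hs]; group
        _ = (t * E.e * t⁻¹) * E.f⁻¹ := by rw [hcf']
    rcases ht with ht | ht
    · apply h1 (t * s)
      rw [h3, ht, mul_assoc, mul_inv_cancel, mul_one, E.e_w.eq]
    · apply h2 (t * s)
      rw [h3, ht, mul_assoc, hz', E.e_w.eq]

/-- Lemma A from an element `y ∈ Y` inverted by `e` -/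
theorem eq_one_or_z_of_conj [Finite P] (hP : IsPGroup 2 P) (E : EData D)
    (h1 : ∀ g : P, g * E.e * g⁻¹ ≠ E.e * D.w) (h2 : ∀ g : P, g * E.e * g⁻¹ ≠ E.e * D.w * D.z)
    {y s : P} (hy : y ∈ Y D) (hyf : Commute y E.f) (hey : E.e * y * E.e = y⁻¹)
    (hs : s * E.e * s⁻¹ = E.e * y) : y = 1 ∨ y = D.z := by
  by_contra hcon
  push Not at hcon
  obtain ⟨k, hk⟩ := exists_pow_eq D hP hy E.f_mem E.f_sq hyf hcon.1 hcon.2
  have hmem : E.f ∈ zpowers y := by
    rcases hk with hk | hk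
    · rw [← hk]
      exact pow_mem (mem_zpowers _) _
    · rw [← inv_mem_iff, ← hk]
      exact pow_mem (mem_zpowers _) _
  rcases mem_zpowers_or hP hmem with h | h
  · obtain ⟨j, hj⟩ := h
    simp only at hj
    have h3 : y ^ j * y ^ j = E.f := by rw [← (Commute.refl y).mul_zpow, hj]
    have h4 : E.e * y ^ j * E.e = (y ^ j)⁻¹ := by
      have h := conj_zpow (i := j) (a := E.e) (b := y)
      rw [E.e_inv, hey] at h
      rw [← h, inv_zpow]
    apply (not_conj_f hP E h1 h2 (y ^ j)).2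
    calc y ^ j * E.e * (y ^ j)⁻¹ = (E.e * E.e) * y ^ j * E.e * (y ^ j)⁻¹ := by
          rw [E.e_sq, one_mul]
      _ = E.e * (E.e * y ^ j * E.e) * (y ^ j)⁻¹ := by group
      _ = E.e * (y ^ j * y ^ j)⁻¹ := by rw [h4]; group
      _ = E.e * E.f⁻¹ := by rw [h3]
  · obtain ⟨m, hm⟩ := h
    simp only at hm
    have hf4 : E.f ^ (2 : ℤ) = D.z := by
      rw [zpow_two, E.f_sq]
    have hzz : D.z ^ (2 : ℤ) = 1 := by rw [zpow_two, D.z_sq]
    obtain ⟨j, hj⟩ | ⟨j, hj⟩ := Int.even_or_odd m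
    · have h5 : y = D.z ^ j := by
        rw [← hm, hj, ← two_mul, zpow_mul, hf4]
      obtain ⟨l, hl⟩ | ⟨l, hl⟩ := Int.even_or_odd j
      · apply hcon.1
        rw [h5, hl, ← two_mul, zpow_mul, hzz, one_zpow]
      · apply hcon.2
        rw [h5, hl, zpow_add, zpow_mul, hzz, one_zpow, one_mul, zpow_one]
    · have h5 : y = D.z ^ j * E.f := by
        rw [← hm, hj, zpow_add, zpow_mul, hf4, zpow_one]
      obtain ⟨l, hl⟩ | ⟨l, hl⟩ := Int.even_or_odd j
      · apply (not_conj_f hP E h1 h2 s).1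
        rw [hs, h5, hl, ← two_mul, zpow_mul, hzz, one_zpow, one_mul]
      · apply (not_conj_f hP E h1 h2 s).2
        rw [hs, h5, hl, zpow_add, zpow_mul, hzz, one_zpow, one_mul, zpow_one, E.f_inv]

/-! ## the subgroup `⟨x, e, Y⟩` -/

/-- elements of the form `c ^ a x ^ i e ^ j y` -/
def Form (E : EData D) (g : P) : Prop :=
  ∃ (a : ℤ) (u v y : P), (u = 1 ∨ u = D.x) ∧ (v = 1 ∨ v = E.e) ∧ y ∈ Y D ∧
    g = E.c ^ a * u * v * y

variable {E : EData D}

theorem form_one : Form E 1 :=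
  ⟨0, 1, 1, 1, Or.inl rfl, Or.inl rfl, one_mem _, by simp⟩

theorem form_c {g : P} (b : ℤ) (h : Form E g) : Form E (E.c ^ b * g) := by
  obtain ⟨a, u, v, y, hu, hv, hy, rfl⟩ := h
  exact ⟨b + a, u, v, y, hu, hv, hy, by rw [zpow_add]; simp only [mul_assoc]⟩

theorem x_mul_zpow (a : ℤ) : D.x * E.c ^ a = E.c ^ (-a) * D.x := by
  rw [← E.x_zpow_x a, mul_assoc (D.x * E.c ^ a), D.x_sq, mul_one]

theorem e_mul_zpow (a : ℤ) : E.e * E.c ^ a = E.c ^ (-a) * E.e := by
  rw [← E.e_zpow_e a, mul_assoc (E.e * E.c ^ a), E.e_sq, mul_one]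

theorem e_mul_x : E.e * D.x = E.c ^ (-1 : ℤ) * D.x * E.e := by
  have h := E.xex
  rw [zpow_neg, zpow_one]
  calc E.e * D.x = (D.x * D.x) * E.e * D.x := by rw [D.x_sq, one_mul]
    _ = D.x * (D.x * E.e * D.x) := by group
    _ = D.x * E.c * E.e := by rw [h, mul_assoc]
    _ = D.x * E.c * (D.x * D.x) * E.e := by rw [D.x_sq, mul_one]
    _ = (D.x * E.c * D.x) * D.x * E.e := by simp only [mul_assoc]
    _ = E.c⁻¹ * D.x * E.e := by rw [E.xcx]

theorem form_x {g : P} (h : Form E g) : Form E (D.x * g) := by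
  obtain ⟨a, u, v, y, hu, hv, hy, rfl⟩ := h
  rcases hu with rfl | rfl
  · refine ⟨-a, D.x, v, y, Or.inr rfl, hv, hy, ?_⟩
    rw [← x_mul_zpow]
    simp only [mul_assoc, one_mul]
  · refine ⟨-a, 1, v, y, Or.inl rfl, hv, hy, ?_⟩
    rw [← E.x_zpow_x]
    simp only [mul_assoc, one_mul]

theorem form_e {g : P} (h : Form E g) : Form E (E.e * g) := by
  obtain ⟨a, u, v, y, hu, hv, hy, rfl⟩ := h
  rcases hu with rfl | rfl
  · rcases hv with rfl | rfl
    · refine ⟨-a, 1, E.e, y, Or.inl rfl, Or.inr rfl, hy, ?_⟩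
      simp only [mul_one]
      rw [← mul_assoc, e_mul_zpow]
    · refine ⟨-a, 1, 1, y, Or.inl rfl, Or.inl rfl, hy, ?_⟩
      simp only [mul_one]
      rw [← E.e_zpow_e]
      simp only [mul_assoc]
  · rcases hv with rfl | rfl
    · refine ⟨-a + -1, D.x, E.e, y, Or.inr rfl, Or.inr rfl, hy, ?_⟩
      simp only [mul_one]
      calc E.e * (E.c ^ a * D.x * y) = (E.e * E.c ^ a) * D.x * y := by simp only [mul_assoc]
        _ = E.c ^ (-a) * (E.e * D.x) * y := by rw [e_mul_zpow]; simp only [mul_assoc]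
        _ = E.c ^ (-a + -1) * D.x * E.e * y := by
            rw [e_mul_x, zpow_add]; simp only [mul_assoc]
    · refine ⟨-a + -1, D.x, 1, y, Or.inr rfl, Or.inl rfl, hy, ?_⟩
      simp only [mul_one]
      calc E.e * (E.c ^ a * D.x * E.e * y) = (E.e * E.c ^ a) * D.x * E.e * y := by
            simp only [mul_assoc]
        _ = E.c ^ (-a) * (E.e * D.x) * E.e * y := by rw [e_mul_zpow]; simp only [mul_assoc]
        _ = E.c ^ (-a + -1) * D.x * (E.e * E.e) * y := by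
            rw [e_mul_x, zpow_add]; simp only [mul_assoc]
        _ = E.c ^ (-a + -1) * D.x * y := by rw [E.e_sq, mul_one]

/-- every element of `Y` normalises `⟨f⟩` -/
def NormF (E : EData D) : Prop :=
  ∀ y ∈ Y D, y * E.f * y⁻¹ = E.f ∨ y * E.f * y⁻¹ = E.f⁻¹

theorem exists_action [Finite P] (hP : IsPGroup 2 P) (hYf : NormF E) {y : P} (hy : y ∈ Y D) :
    ∃ κ i : ℤ, κ = 1 - 2 * i ∧ y * E.c * y⁻¹ = E.c ^ κ ∧ ∃ ys ∈ Y D,
      y * E.e * y⁻¹ = E.c ^ i * E.e * ys ∧ E.c ^ i * E.e * ys * (E.c ^ i * E.e) = ys⁻¹ := by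
  obtain ⟨κ, hκ⟩ := exists_zpow_conj hP E hy (hYf y hy)
  have hodd : ∃ i : ℤ, κ = 1 - 2 * i := by
    rcases hYf y hy with h | h
    · obtain ⟨m, hm⟩ := dvd_sub_one E (mem_Y.1 hy).1 hκ h
      exact ⟨-2 * m, by omega⟩
    · obtain ⟨m, hm⟩ := dvd_add_one E (mem_Y.1 hy).1 hκ h
      exact ⟨1 - 2 * m, by omega⟩
  obtain ⟨i, hi⟩ := hodd
  obtain ⟨ys, h1, h2, h3⟩ := conj_e E hy hκ hi
  exact ⟨κ, i, hi, hκ, ys, h1, h2, h3⟩

theorem y_mul_zpow {y : P} {κ : ℤ} (hκ : y * E.c * y⁻¹ = E.c ^ κ) (a : ℤ) :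
    y * E.c ^ a = E.c ^ (κ * a) * y := by
  rw [zpow_mul, ← hκ, conj_zpow, inv_mul_cancel_right]

theorem form_y [Finite P] (hP : IsPGroup 2 P) (hYf : NormF E) {y g : P} (hy : y ∈ Y D)
    (h : Form E g) : Form E (y * g) := by
  obtain ⟨κ, i, hi, hκ, ys, hys, he, -⟩ := exists_action hP hYf hy
  obtain ⟨a, u, v, y', hu, hv, hy', rfl⟩ := h
  have h1 := y_mul_zpow hκ a
  have hux : y * u = u * y := by
    rcases hu with rfl | rfl
    · simp
    · exact (mem_Y.1 hy).2.eq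
  rcases hv with rfl | rfl
  · refine ⟨κ * a, u, 1, y * y', hu, Or.inl rfl, mul_mem hy hy', ?_⟩
    simp only [mul_one]
    calc y * (E.c ^ a * u * y') = (y * E.c ^ a) * u * y' := by simp only [mul_assoc]
      _ = E.c ^ (κ * a) * (y * u) * y' := by rw [h1]; simp only [mul_assoc]
      _ = E.c ^ (κ * a) * u * (y * y') := by rw [hux]; simp only [mul_assoc]
  · have hye : y * E.e = E.c ^ i * E.e * (ys * y) := by
      rw [← mul_assoc, ← he, inv_mul_cancel_right]
    rcases hu with rfl | rfl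
    · refine ⟨κ * a + i, 1, E.e, ys * y * y', Or.inl rfl, Or.inr rfl,
        mul_mem (mul_mem hys hy) hy', ?_⟩
      simp only [mul_one]
      calc y * (E.c ^ a * E.e * y') = (y * E.c ^ a) * E.e * y' := by simp only [mul_assoc]
        _ = E.c ^ (κ * a) * (y * E.e) * y' := by rw [h1]; simp only [mul_assoc]
        _ = E.c ^ (κ * a + i) * E.e * (ys * y * y') := by
            rw [hye, zpow_add]; simp only [mul_assoc]
    · refine ⟨κ * a + -i, D.x, E.e, ys * y * y', Or.inr rfl, Or.inr rfl,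
        mul_mem (mul_mem hys hy) hy', ?_⟩
      calc y * (E.c ^ a * D.x * E.e * y') = (y * E.c ^ a) * D.x * E.e * y' := by
            simp only [mul_assoc]
        _ = E.c ^ (κ * a) * (y * D.x) * E.e * y' := by rw [h1]; simp only [mul_assoc]
        _ = E.c ^ (κ * a) * D.x * (y * E.e) * y' := by rw [hux]; simp only [mul_assoc]
        _ = E.c ^ (κ * a) * (D.x * E.c ^ i) * E.e * (ys * y * y') := by
            rw [hye]; simp only [mul_assoc]
        _ = E.c ^ (κ * a + -i) * D.x * E.e * (ys * y * y') := by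
            rw [x_mul_zpow, zpow_add]; simp only [mul_assoc]

theorem form_mul [Finite P] (hP : IsPGroup 2 P) (hYf : NormF E) {g h : P}
    (hg : Form E g) (hh : Form E h) : Form E (g * h) := by
  obtain ⟨a, u, v, y, hu, hv, hy, rfl⟩ := hg
  have h1 : Form E (y * h) := form_y hP hYf hy hh
  have h2 : Form E (v * (y * h)) := by
    rcases hv with rfl | rfl
    · rwa [one_mul]
    · exact form_e h1
  have h3 : Form E (u * (v * (y * h))) := by
    rcases hu with rfl | rfl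
    · rwa [one_mul]
    · exact form_x h2
  have h4 := form_c a h3
  simpa only [mul_assoc] using h4

theorem form_inv [Finite P] (hP : IsPGroup 2 P) (hYf : NormF E) {g : P}
    (hg : Form E g) : Form E g⁻¹ := by
  obtain ⟨a, u, v, y, hu, hv, hy, rfl⟩ := hg
  have hui : u⁻¹ = u := by
    rcases hu with rfl | rfl
    · simp
    · exact D.x_inv
  have hvi : v⁻¹ = v := by
    rcases hv with rfl | rfl
    · simp
    · exact E.e_inv
  have h1 : Form E (u * (E.c ^ (-a) * 1)) := by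
    rcases hu with rfl | rfl
    · rw [one_mul]
      exact form_c _ form_one
    · exact form_x (form_c _ form_one)
  have h2 : Form E (v * (u * (E.c ^ (-a) * 1))) := by
    rcases hv with rfl | rfl
    · rwa [one_mul]
    · exact form_e h1
  have h3 := form_y hP hYf (inv_mem hy) h2
  simp only [mul_inv_rev, hui, hvi]
  simpa only [mul_assoc, mul_one, zpow_neg] using h3

/-- the subgroup `⟨x, e, Y⟩` -/
def H [Finite P] (hP : IsPGroup 2 P) (hYf : NormF E) : Subgroup P where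
  carrier := {g | Form E g}
  mul_mem' := fun ha hb => form_mul hP hYf ha hb
  one_mem' := form_one
  inv_mem' := fun ha => form_inv hP hYf ha

theorem mem_H [Finite P] (hP : IsPGroup 2 P) (hYf : NormF E) {g : P} :
    g ∈ H hP hYf ↔ Form E g := Iff.rfl

theorem form_of_mem_Y {y : P} (hy : y ∈ Y D) : Form E y :=
  ⟨0, 1, 1, y, Or.inl rfl, Or.inl rfl, hy, by simp⟩

theorem form_x_self : Form E D.x :=
  ⟨0, D.x, 1, 1, Or.inr rfl, Or.inl rfl, one_mem _, by simp⟩

theorem form_e_self : Form E E.e :=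
  ⟨0, 1, E.e, 1, Or.inl rfl, Or.inr rfl, one_mem _, by simp⟩

/-- elements of `⟨x, e, Y⟩` outside `T` -/
theorem form_of_not {g : P} (h : Form E g) (hw : ¬ Commute g D.w) :
    ∃ (a : ℤ) (v y : P), (v = 1 ∨ v = E.e) ∧ y ∈ Y D ∧ g = E.c ^ a * D.x * v * y := by
  obtain ⟨a, u, v, y, hu, hv, hy, rfl⟩ := h
  rcases hu with rfl | rfl
  · exfalso
    apply hw
    have h1 : Commute v D.w := by
      rcases hv with rfl | rfl
      · exact Commute.one_left _
      · exact E.e_w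
    exact (((E.c_w.zpow_left a).mul_left (Commute.one_left _)).mul_left h1).mul_left (mem_Y.1 hy).1
  · exact ⟨a, v, y, hv, hy, rfl⟩

/-- all the involutions `c ^ a x` are conjugate to `x` -/
theorem exists_conj_x [Finite P] (hP : IsPGroup 2 P) (hYf : NormF E) (a : ℤ) :
    ∃ g : P, Form E g ∧ g * D.x * g⁻¹ = E.c ^ a * D.x := by
  obtain ⟨b, hb⟩ | ⟨b, hb⟩ := Int.even_or_odd a
  · refine ⟨E.c ^ b, by simpa using form_c b (form_one (E := E)), ?_⟩
    have h1 := x_mul_zpow (E := E) (-b)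
    rw [neg_neg] at h1
    calc E.c ^ b * D.x * (E.c ^ b)⁻¹ = E.c ^ b * (D.x * E.c ^ (-b)) := by
          rw [zpow_neg]; simp only [mul_assoc]
      _ = E.c ^ a * D.x := by rw [h1, hb, zpow_add]; simp only [mul_assoc]
  · refine ⟨E.c ^ (b + 1) * E.e, form_mul hP hYf (by simpa using form_c (b + 1) (form_one (E := E)))
      form_e_self, ?_⟩
    have h1 := x_mul_zpow (E := E) (-(b + 1))
    rw [neg_neg] at h1
    have h2 := e_mul_x (E := E)
    calc E.c ^ (b + 1) * E.e * D.x * (E.c ^ (b + 1) * E.e)⁻¹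
        = E.c ^ (b + 1) * (E.e * D.x) * (E.e⁻¹ * (E.c ^ (b + 1))⁻¹) := by group
      _ = E.c ^ (b + 1) * E.c ^ (-1 : ℤ) * D.x * (E.e * E.e) * (E.c ^ (b + 1))⁻¹ := by
          rw [h2, E.e_inv]; simp only [mul_assoc]
      _ = E.c ^ (b + 1) * E.c ^ (-1 : ℤ) * (D.x * E.c ^ (-(b + 1))) := by
          rw [E.e_sq, mul_one, zpow_neg E.c (b + 1)]; simp only [mul_assoc]
      _ = E.c ^ a * D.x := by
          rw [h1, hb, ← mul_assoc, ← zpow_add, ← zpow_add]
          congr 2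
          ring

/-- if all involutions of `⟨x, e, Y⟩ ∖ T` whose centraliser in `T` has only the involution `z`
are conjugate to `x`, then `P = ⟨x, e, Y⟩` -/
theorem form_all [Finite P] (hP : IsPGroup 2 P) (hYf : NormF E)
    (hconj : ∀ t : P, Form E t → t * t = 1 → ¬ Commute t D.w →
      (∀ u : P, Commute u D.w → Commute u t → u * u = 1 → u = 1 ∨ u = D.z) →
      ∃ g : P, Form E g ∧ g * D.x * g⁻¹ = t) (g : P) : Form E g := by
  suffices hH : H hP hYf = ⊤ by
    rw [← mem_H hP hYf, hH]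
    exact mem_top g
  by_contra hne
  obtain ⟨g, -, hg, hnorm⟩ := exists_normalizing hP (lt_top_iff_ne_top.2 hne)
  apply hg
  have ht : Form E (g * D.x * g⁻¹) := hnorm D.x form_x_self
  have ht2 : g * D.x * g⁻¹ * (g * D.x * g⁻¹) = 1 := by
    calc g * D.x * g⁻¹ * (g * D.x * g⁻¹) = g * (D.x * D.x) * g⁻¹ := by group
      _ = 1 := by rw [D.x_sq]; group
  have htw : ¬ Commute (g * D.x * g⁻¹) D.w := by
    intro h
    have h1 := D.commute_conj g⁻¹ h
    apply D.not_commute_x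
    have h2 : g⁻¹ * (g * D.x * g⁻¹) * g⁻¹⁻¹ = D.x := by group
    rwa [h2] at h1
  have htu : ∀ u : P, Commute u D.w → Commute u (g * D.x * g⁻¹) → u * u = 1 →
      u = 1 ∨ u = D.z := by
    intro u huw hut huu
    have h1 : Commute (g⁻¹ * u * g) D.w := by
      have := D.commute_conj g⁻¹ huw
      rwa [inv_inv] at this
    have h2 : Commute (g⁻¹ * u * g) D.x := by
      show g⁻¹ * u * g * D.x = D.x * (g⁻¹ * u * g)
      calc g⁻¹ * u * g * D.x = g⁻¹ * (u * (g * D.x * g⁻¹)) * g := by group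
        _ = g⁻¹ * ((g * D.x * g⁻¹) * u) * g := by rw [hut.eq]
        _ = D.x * (g⁻¹ * u * g) := by group
    have h3 : g⁻¹ * u * g * (g⁻¹ * u * g) = 1 := by
      calc g⁻¹ * u * g * (g⁻¹ * u * g) = g⁻¹ * (u * u) * g := by group
        _ = 1 := by rw [huu]; group
    have h5 : u = g * (g⁻¹ * u * g) * g⁻¹ := by group
    rcases D.eq_of_sq h1 h2 h3 with h4 | h4
    · left
      rw [h5, h4]; group
    · right
      rw [h5, h4, D.z_comm g, mul_inv_cancel_right]
  obtain ⟨h, hh, hht⟩ := hconj _ ht ht2 htw htu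
  have hcx : Commute (h⁻¹ * g) D.x := by
    show h⁻¹ * g * D.x = D.x * (h⁻¹ * g)
    calc h⁻¹ * g * D.x = h⁻¹ * (g * D.x * g⁻¹) * g := by group
      _ = h⁻¹ * (h * D.x * h⁻¹) * g := by rw [hht]
      _ = D.x * (h⁻¹ * g) := by group
  have hform : Form E (h⁻¹ * g) := by
    by_cases hw : Commute (h⁻¹ * g) D.w
    · exact form_of_mem_Y (mem_Y.2 ⟨hw, hcx⟩)
    · have h1 : Commute (D.x * (h⁻¹ * g)) D.w := D.commute_mul_of_not D.not_commute_x hw
      have h2 : Form E (D.x * (h⁻¹ * g)) :=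
        form_of_mem_Y (mem_Y.2 ⟨h1, (Commute.refl _).mul_left hcx⟩)
      have h3 := form_x h2
      rwa [← mul_assoc, D.x_sq, one_mul] at h3
  have := form_mul hP hYf hh hform
  rwa [mul_inv_cancel_left] at this

end Cfsg.Agent.Classification.NonConnAction
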