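import Mathlib
import Cfsg.Agent.Classification.NonConnStep

/-!
# Disconnected 2-groups: the case `Y` cyclic (case (6) of S0503)
-/

set_option autoImplicit false

namespace Cfsg.Agent.Classification.NonConnCyc

open Subgroup Cfsg.Agent.Classification.NonConnBase Cfsg.Agent.Classification.NonConnStep

variable {P : Type*} [Group P] {D : Data P} (E : EData D)

theorem c_zpow_w (n : ℤ) : Commute (E.c ^ n) D.w := E.c_w.zpow_left n

theorem e_mul_zpow (n : ℤ) : E.e * E.c ^ n = E.c ^ (-n) * E.e := by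
  have h := E.e_zpow_e n
  calc E.e * E.c ^ n = E.e * E.c ^ n * (E.e * E.e) := by rw [E.e_sq, mul_one]
    _ = E.e * E.c ^ n * E.e * E.e := by group
    _ = E.c ^ (-n) * E.e := by rw [h]

theorem x_mul_zpow (n : ℤ) : D.x * E.c ^ n = E.c ^ (-n) * D.x := by
  have h := E.x_zpow_x n
  calc D.x * E.c ^ n = D.x * E.c ^ n * (D.x * D.x) := by rw [D.x_sq, mul_one]
    _ = D.x * E.c ^ n * D.x * D.x := by group
    _ = E.c ^ (-n) * D.x := by rw [h]

/-- `e x e = c⁻¹ x` -/
theorem exe : E.e * D.x * E.e = E.c ^ (-1 : ℤ) * D.x := by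
  have h : E.c ^ (-1 : ℤ) = E.e * D.x * E.e * D.x := by
    rw [zpow_neg_one, E.c_eq]
    simp only [mul_inv_rev, D.x_inv, E.e_inv]
    group
  rw [h]
  calc E.e * D.x * E.e = E.e * D.x * E.e * (D.x * D.x) := by rw [D.x_sq, mul_one]
    _ = E.e * D.x * E.e * D.x * D.x := by group

theorem conj_zpow_x (j : ℤ) : E.c ^ j * D.x * (E.c ^ j)⁻¹ = E.c ^ (2 * j) * D.x := by
  rw [← zpow_neg, mul_assoc, x_mul_zpow, neg_neg, ← mul_assoc, ← zpow_add]
  congr 2
  ring

theorem conj_zpow_e_x (j : ℤ) :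
    (E.c ^ j * E.e) * D.x * (E.c ^ j * E.e)⁻¹ = E.c ^ (2 * j - 1) * D.x := by
  have h1 : (E.c ^ j * E.e) * D.x * (E.c ^ j * E.e)⁻¹
      = E.c ^ j * (E.e * D.x * E.e) * E.c ^ (-j) := by
    rw [mul_inv_rev, E.e_inv, ← zpow_neg]; group
  rw [h1, exe]
  calc E.c ^ j * (E.c ^ (-1 : ℤ) * D.x) * E.c ^ (-j)
      = E.c ^ j * E.c ^ (-1 : ℤ) * (D.x * E.c ^ (-j)) := by group
    _ = E.c ^ j * E.c ^ (-1 : ℤ) * (E.c ^ (- -j) * D.x) := by rw [x_mul_zpow]
    _ = E.c ^ (2 * j - 1) * D.x := by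
        rw [← mul_assoc, ← zpow_add, ← zpow_add]
        congr 2
        ring

/-- every `c ^ a x` is conjugate to `x` under `⟨c, e⟩` -/
theorem exists_conj_x (a : ℤ) : ∃ j : ℤ,
    E.c ^ j * D.x * (E.c ^ j)⁻¹ = E.c ^ a * D.x ∨
      (E.c ^ j * E.e) * D.x * (E.c ^ j * E.e)⁻¹ = E.c ^ a * D.x := by
  rcases Int.even_or_odd' a with ⟨j, hj | hj⟩
  · exact ⟨j, Or.inl (by rw [conj_zpow_x, hj])⟩
  · refine ⟨j + 1, Or.inr ?_⟩
    rw [conj_zpow_e_x, hj]
    congr 2
    ring

/-- the centraliser of `x` -/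
theorem of_commute_x {h : P} (hh : Commute h D.x) : h ∈ Y D ∨ ∃ h' ∈ Y D, h = D.x * h' := by
  by_cases hw : Commute h D.w
  · exact Or.inl (mem_Y.2 ⟨hw, hh⟩)
  · right
    refine ⟨D.x * h, mem_Y.2 ⟨D.commute_mul_of_not D.not_commute_x hw, ?_⟩, ?_⟩
    · exact (Commute.refl D.x).mul_left hh
    · rw [← mul_assoc, D.x_sq, one_mul]

/-- `R` = preimage of the centraliser of `x` in `N(⟨c⟩)/⟨c⟩` -/
def R : Subgroup P where
  carrier := {g | g ∈ normalizer (zpowers E.c : Set P) ∧ g * D.x * g⁻¹ * D.x⁻¹ ∈ zpowers E.c}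
  one_mem' := ⟨one_mem _, by
    have : (1 : P) * D.x * 1⁻¹ * D.x⁻¹ = 1 := by group
    rw [this]; exact one_mem _⟩
  mul_mem' := by
    rintro g h ⟨hg1, hg2⟩ ⟨hh1, hh2⟩
    refine ⟨mul_mem hg1 hh1, ?_⟩
    have : g * h * D.x * (g * h)⁻¹ * D.x⁻¹
        = (g * (h * D.x * h⁻¹ * D.x⁻¹) * g⁻¹) * (g * D.x * g⁻¹ * D.x⁻¹) := by group
    rw [this]
    exact mul_mem ((mem_normalizer_iff.1 hg1 _).1 hh2) hg2
  inv_mem' := by
    rintro g ⟨hg1, hg2⟩
    refine ⟨inv_mem hg1, ?_⟩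
    have : g⁻¹ * D.x * g⁻¹⁻¹ * D.x⁻¹ = g⁻¹ * (g * D.x * g⁻¹ * D.x⁻¹)⁻¹ * g := by group
    rw [this]
    have h1 := (mem_normalizer_iff.1 (inv_mem hg1) _).1 (inv_mem hg2)
    rwa [inv_inv] at h1

theorem mem_R {g : P} : g ∈ R E ↔
    g ∈ normalizer (zpowers E.c : Set P) ∧ g * D.x * g⁻¹ * D.x⁻¹ ∈ zpowers E.c := Iff.rfl

theorem mem_normalizer_of [Finite P] {g : P} (h : g * E.c * g⁻¹ ∈ zpowers E.c) :
    g ∈ normalizer (zpowers E.c : Set P) := by
  apply mem_normalizer_fintype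
  rintro n ⟨m, rfl⟩
  have h1 : g * E.c ^ m * g⁻¹ = (g * E.c * g⁻¹) ^ m := (conj_zpow).symm
  show g * E.c ^ m * g⁻¹ ∈ zpowers E.c
  rw [h1]
  exact zpow_mem h m

theorem mem_R_of_zpow (j : ℤ) : E.c ^ j ∈ R E := by
  refine ⟨le_normalizer (zpow_mem (mem_zpowers _) j), ?_⟩
  rw [conj_zpow_x, mul_inv_cancel_right]
  exact zpow_mem (mem_zpowers _) _

theorem x_mem_R [Finite P] : D.x ∈ R E := by
  refine ⟨mem_normalizer_of E ?_, ?_⟩
  · rw [D.x_inv, E.xcx]
    exact inv_mem (mem_zpowers _)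
  · have : D.x * D.x * D.x⁻¹ * D.x⁻¹ = 1 := by group
    rw [this]; exact one_mem _

theorem e_mem_R [Finite P] : E.e ∈ R E := by
  refine ⟨mem_normalizer_of E ?_, ?_⟩
  · rw [E.e_inv, E.ece]
    exact inv_mem (mem_zpowers _)
  · rw [E.e_inv, exe, mul_inv_cancel_right]
    exact zpow_mem (mem_zpowers _) _

theorem y_mem_R [Finite P] {y : P} (hy : y ∈ Y D) (hyc : y * E.c * y⁻¹ ∈ zpowers E.c) :
    y ∈ R E := by
  refine ⟨mem_normalizer_of E hyc, ?_⟩
  rw [(mem_Y.1 hy).2.eq, mul_inv_cancel_right, mul_inv_cancel]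
  exact one_mem _

theorem Y_le_R [Finite P] {y : P} (hy : y ∈ Y D) (hyc : y * E.c * y⁻¹ ∈ zpowers E.c)
    (hgen : ∀ t ∈ Y D, t ∈ zpowers y) : Y D ≤ R E := by
  intro t ht
  obtain ⟨m, rfl⟩ := hgen t ht
  exact zpow_mem (y_mem_R E hy hyc) m

theorem mem_R_of_commute_x [Finite P] (hYR : Y D ≤ R E) {h : P} (hh : Commute h D.x) :
    h ∈ R E := by
  rcases of_commute_x hh with h1 | ⟨h', h1, rfl⟩
  · exact hYR h1
  · exact mul_mem (x_mem_R E) (hYR h1)

/-- if `g x g⁻¹ ∈ ⟨c⟩ x` then `g` is a product of an element of `⟨c, e⟩` and of `C(x)` -/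
theorem exists_decomp {g : P} (hg : g * D.x * g⁻¹ * D.x⁻¹ ∈ zpowers E.c) :
    ∃ j : ℤ, ∃ h : P, Commute h D.x ∧ (g = E.c ^ j * h ∨ g = E.c ^ j * E.e * h) := by
  obtain ⟨a, ha⟩ := hg
  simp only at ha
  have ha' : g * D.x * g⁻¹ = E.c ^ a * D.x := by rw [ha]; group
  have key : ∀ s : P, s * D.x * s⁻¹ = E.c ^ a * D.x → Commute (s⁻¹ * g) D.x := by
    intro s hs
    have h1 : s * D.x * s⁻¹ = g * D.x * g⁻¹ := hs.trans ha'.symm
    show s⁻¹ * g * D.x = D.x * (s⁻¹ * g)
    calc s⁻¹ * g * D.x = s⁻¹ * (g * D.x * g⁻¹) * g := by group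
      _ = s⁻¹ * (s * D.x * s⁻¹) * g := by rw [h1]
      _ = D.x * (s⁻¹ * g) := by group
  obtain ⟨j, hj | hj⟩ := exists_conj_x E a
  · exact ⟨j, _, key _ hj, Or.inl (by group)⟩
  · exact ⟨j, _, key _ hj, Or.inr (by group)⟩

/-- elements of `⟨c⟩ ∩ Y` square to one -/
theorem sq_eq_one_of_mem {t : P} (h1 : t ∈ zpowers E.c) (h2 : Commute t D.x) : t * t = 1 := by
  obtain ⟨m, rfl⟩ := h1
  simp only at h2 ⊢
  have h3 := x_mul_zpow E m
  rw [← h2.eq] at h3
  have h4 : E.c ^ m = E.c ^ (-m) := mul_right_cancel h3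
  rw [zpow_neg] at h4
  calc E.c ^ m * E.c ^ m = E.c ^ m * (E.c ^ m)⁻¹ := by rw [← h4]
    _ = 1 := mul_inv_cancel _

theorem z_mem : D.z ∈ zpowers E.c := by
  rw [← E.c_k, ← pow_add]
  exact pow_mem (mem_zpowers _) _

theorem z_eq_zpow : D.z = E.c ^ (2 * (E.k : ℤ)) := by
  rw [← E.c_k, ← pow_add, ← two_mul, ← zpow_natCast]
  push_cast
  rfl

/-- odd powers of `c` generate `⟨c⟩` -/
theorem c_mem_zpowers_odd [Finite P] (hP : IsPGroup 2 P) (j : ℤ) :
    E.c ∈ zpowers (E.c ^ (2 * j - 1)) := by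
  rcases mem_zpowers_or hP (a := E.c ^ (2 * j - 1)) (d := E.c)
    (zpow_mem (mem_zpowers _) _) with h | h
  · exfalso
    obtain ⟨m, hm⟩ := h
    simp only at hm
    have h1 : E.c ^ (2 * m - 2 * j + 1) = 1 := by
      have h2 : E.c ^ (2 * m) = E.c ^ (2 * j - 1) := by
        rw [← hm, zpow_mul, show (2 : ℤ) = 1 + 1 from rfl, zpow_add, zpow_one]
      have h3 : (2 * m - 2 * j + 1 : ℤ) = 2 * m - (2 * j - 1) := by ring
      rw [h3, zpow_sub, h2, mul_inv_cancel]
    have h2 := orderOf_dvd_iff_zpow_eq_one.2 h1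
    obtain ⟨l, hl⟩ := IsPGroup.iff_orderOf.1 hP E.c
    have hl1 : l ≠ 0 := by
      rintro rfl
      rw [pow_zero, orderOf_eq_one_iff] at hl
      apply E.c_sq_ne
      rw [hl, one_mul]
    obtain ⟨l', rfl⟩ := Nat.exists_eq_succ_of_ne_zero hl1
    rw [hl, pow_succ] at h2
    have h3 : (2 : ℤ) ∣ 2 * m - 2 * j + 1 := by
      refine dvd_trans ?_ h2
      push_cast
      exact dvd_mul_left _ _
    omega
  · exact h

theorem zpow_odd_ne_one [Finite P] (hP : IsPGroup 2 P) (j : ℤ) : E.c ^ (2 * j - 1) ≠ 1 := by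
  intro h
  have h1 := c_mem_zpowers_odd E hP j
  rw [h, zpowers_one_eq_bot, mem_bot] at h1
  apply E.c_sq_ne
  rw [h1, one_mul]

/-- involutions of `R` outside `T` lie in `⟨c⟩ x` -/
theorem mem_of_involution [Finite P] (hP : IsPGroup 2 P) {y : P} (hy : y ∈ Y D)
    (hyc : y * E.c * y⁻¹ ∈ zpowers E.c) (hgen : ∀ t ∈ Y D, t ∈ zpowers y)
    {g : P} (hg : g ∈ R E) (hgg : g * g = 1) (hgw : ¬ Commute g D.w) :
    g * D.x⁻¹ ∈ zpowers E.c := by
  have hYR := Y_le_R E hy hyc hgen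
  have hcomm : ∀ s ∈ Y D, ∀ t ∈ Y D, Commute s t := by
    intro s hs t ht
    obtain ⟨m, rfl⟩ := hgen s hs
    obtain ⟨n, rfl⟩ := hgen t ht
    exact ((Commute.refl y).zpow_left m).zpow_right n
  -- elements of `Y` commute with `c ^ k = w f`
  have hYk : ∀ s ∈ Y D, Commute s (E.c ^ E.k) := by
    intro s hs
    rw [E.c_k_eq]
    exact (mem_Y.1 hs).1.mul_right (hcomm s hs _ E.f_mem)
  obtain ⟨j, h, hh, hgj⟩ := exists_decomp E hg.2
  rcases hgj with rfl | rfl
  · -- `g = c ^ j x y'`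
    have hhw : ¬ Commute h D.w := fun h1 => hgw ((c_zpow_w E j).mul_left h1)
    rcases of_commute_x hh with h1 | ⟨y', hy', rfl⟩
    · exact absurd (mem_Y.1 h1).1 hhw
    have hy'x : Commute y' D.x := (mem_Y.1 hy').2
    have hn : D.x * (y' * E.c ^ j * y'⁻¹) * D.x ∈ zpowers E.c := by
      have h2 : y' * E.c ^ j * y'⁻¹ ∈ zpowers E.c :=
        (mem_normalizer_iff.1 (hYR hy').1 _).1 (zpow_mem (mem_zpowers _) j)
      have h3 := (mem_normalizer_iff.1 (x_mem_R E).1 _).1 h2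
      rwa [D.x_inv] at h3
    have hsq : y' * y' ∈ zpowers E.c := by
      have h2 : E.c ^ j * (D.x * y') * (E.c ^ j * (D.x * y'))
          = E.c ^ j * (D.x * (y' * E.c ^ j * y'⁻¹) * D.x) * (y' * y') := by
        have h4 := hy'x.eq
        calc E.c ^ j * (D.x * y') * (E.c ^ j * (D.x * y'))
            = E.c ^ j * (D.x * (y' * E.c ^ j * y'⁻¹)) * (y' * D.x) * y' := by group
          _ = E.c ^ j * (D.x * (y' * E.c ^ j * y'⁻¹)) * (D.x * y') * y' := by rw [h4]
          _ = E.c ^ j * (D.x * (y' * E.c ^ j * y'⁻¹) * D.x) * (y' * y') := by group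
      rw [h2] at hgg
      have h3 := eq_inv_of_mul_eq_one_right hgg
      rw [h3]
      exact inv_mem (mul_mem (zpow_mem (mem_zpowers _) j) hn)
    have hsq1 : y' * y' * (y' * y') = 1 :=
      sq_eq_one_of_mem E hsq (hy'x.mul_left hy'x)
    rcases eq_of_mem_Y D (mul_mem hy' hy') hsq1 with h2 | h2
    · have h3 : y' ∈ zpowers E.c := by
        rcases eq_of_mem_Y D hy' h2 with h4 | h4
        · rw [h4]; exact one_mem _
        · rw [h4]; exact z_mem E
      have h4 : E.c ^ j * (D.x * y') * D.x⁻¹ = E.c ^ j * y' := by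
        rw [← hy'x.eq]; group
      rw [h4]
      exact mul_mem (zpow_mem (mem_zpowers _) j) h3
    · exfalso
      -- `y' = f^{±1}` commutes with `c`
      have h3 : y' = E.f ∨ y' = E.f⁻¹ := by
        have hyf := hcomm _ hy' _ E.f_mem
        have h4 : (y' * E.f⁻¹) * (y' * E.f⁻¹) = 1 := by
          have := hyf.inv_right.eq
          calc (y' * E.f⁻¹) * (y' * E.f⁻¹) = y' * (E.f⁻¹ * y') * E.f⁻¹ := by group
            _ = y' * (y' * E.f⁻¹) * E.f⁻¹ := by rw [this]
            _ = (y' * y') * (E.f * E.f)⁻¹ := by group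
            _ = 1 := by rw [h2, E.f_sq, mul_inv_cancel]
        rcases eq_of_mem_Y D (mul_mem hy' (inv_mem E.f_mem)) h4 with h5 | h5
        · exact Or.inl (mul_inv_eq_one.1 h5)
        · right
          rw [E.f_inv]
          exact mul_inv_eq_iff_eq_mul.1 h5
      have h4 : Commute (E.c ^ j) y' := by
        rcases h3 with h3 | h3
        · rw [h3]; exact E.c_f.zpow_left j
        · rw [h3]; exact (E.c_f.zpow_left j).inv_right
      apply D.z_ne
      rw [← hgg, ← h2]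
      have h5 := x_mul_zpow E j
      calc y' * y' = (E.c ^ j * E.c ^ (-j)) * (D.x * D.x) * (y' * y') := by
            rw [D.x_sq, ← zpow_add, add_neg_cancel, zpow_zero, one_mul, one_mul]
        _ = E.c ^ j * (E.c ^ (-j) * D.x) * D.x * (y' * y') := by group
        _ = E.c ^ j * (D.x * E.c ^ j) * D.x * (y' * y') := by rw [h5]
        _ = E.c ^ j * D.x * E.c ^ j * (D.x * y') * y' := by group
        _ = E.c ^ j * D.x * E.c ^ j * (y' * D.x) * y' := by rw [hy'x.eq]
        _ = E.c ^ j * D.x * (E.c ^ j * y') * (D.x * y') := by group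
        _ = E.c ^ j * D.x * (y' * E.c ^ j) * (D.x * y') := by rw [h4.eq]
        _ = E.c ^ j * (D.x * y') * (E.c ^ j * (D.x * y')) := by group
  · -- `g = c ^ j e x y'`: impossible
    exfalso
    have hew : Commute (E.c ^ j * E.e) D.w := (c_zpow_w E j).mul_left E.e_w
    have hhw : ¬ Commute h D.w := fun h1 => hgw (hew.mul_left h1)
    rcases of_commute_x hh with h1 | ⟨y', hy', rfl⟩
    · exact absurd (mem_Y.1 h1).1 hhw
    set g : P := E.c ^ j * E.e * (D.x * y') with hgdef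
    have hginv : g⁻¹ = g := inv_eq_of_mul_eq_one_right hgg
    have h2 : g * D.x * g⁻¹ = E.c ^ (2 * j - 1) * D.x := by
      rw [← conj_zpow_e_x E j, hgdef]
      have h4 := hh.eq
      calc E.c ^ j * E.e * (D.x * y') * D.x * (E.c ^ j * E.e * (D.x * y'))⁻¹
          = E.c ^ j * E.e * (D.x * y' * D.x) * (E.c ^ j * E.e * (D.x * y'))⁻¹ := by group
        _ = E.c ^ j * E.e * (D.x * (D.x * y')) * (E.c ^ j * E.e * (D.x * y'))⁻¹ := by rw [h4]
        _ = E.c ^ j * E.e * D.x * (E.c ^ j * E.e)⁻¹ := by group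
    -- `g` inverts `c ^ (2 j - 1)`
    have h3 : g * E.c ^ (2 * j - 1) * g⁻¹ = (E.c ^ (2 * j - 1))⁻¹ := by
      have h4 : E.c ^ (2 * j - 1) = g * D.x * g * D.x := by
        rw [hginv] at h2
        rw [h2, mul_assoc, D.x_sq, mul_one]
      rw [h4, hginv]
      simp only [mul_inv_rev, hginv, D.x_inv]
      calc g * (g * D.x * g * D.x) * g = (g * g) * (D.x * (g * (D.x * g))) := by group
        _ = D.x * (g * (D.x * g)) := by rw [hgg, one_mul]
    have h4 : ∀ t ∈ zpowers E.c, g * t * g⁻¹ = t⁻¹ := by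
      intro t ht
      have h5 : t ∈ zpowers (E.c ^ (2 * j - 1)) := by
        obtain ⟨m, rfl⟩ := ht
        exact zpow_mem (c_mem_zpowers_odd E hP j) m
      obtain ⟨m, rfl⟩ := h5
      have h6 := conj_zpow (i := m) (a := g) (b := E.c ^ (2 * j - 1))
      rw [h3] at h6
      show g * (E.c ^ (2 * j - 1)) ^ m * g⁻¹ = ((E.c ^ (2 * j - 1)) ^ m)⁻¹
      rw [← h6, inv_zpow]
    -- `g` centralises `c ^ k`
    have h5 : Commute g (E.c ^ E.k) := by
      have h6 : Commute (E.c ^ j) (E.c ^ E.k) :=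
        ((Commute.refl E.c).zpow_left j).pow_right _
      have h7 : Commute (E.e * D.x) (E.c ^ E.k) := by
        show E.e * D.x * E.c ^ E.k = E.c ^ E.k * (E.e * D.x)
        have h8 := x_mul_zpow E E.k
        have h9 := e_mul_zpow E (-E.k)
        rw [neg_neg] at h9
        rw [zpow_natCast] at h8 h9
        calc E.e * D.x * E.c ^ E.k = E.e * (D.x * E.c ^ E.k) := by group
          _ = E.e * E.c ^ (-(E.k : ℤ)) * D.x := by rw [h8]; group
          _ = E.c ^ E.k * (E.e * D.x) := by rw [h9]; group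
      have h8 : g = E.c ^ j * (E.e * D.x) * y' := by rw [hgdef]; group
      rw [h8]
      exact (h6.mul_left h7).mul_left (hYk _ hy')
    have h6 := h4 (E.c ^ E.k) (pow_mem (mem_zpowers _) _)
    rw [h5.eq, mul_inv_cancel_right] at h6
    apply D.z_ne
    rw [← E.c_k]
    calc E.c ^ E.k * E.c ^ E.k = E.c ^ E.k * (E.c ^ E.k)⁻¹ := by rw [← h6]
      _ = 1 := mul_inv_cancel _

/-- `P = R` -/
theorem R_eq_top [Finite P] (hP : IsPGroup 2 P) {y : P} (hy : y ∈ Y D)
    (hyc : y * E.c * y⁻¹ ∈ zpowers E.c) (hgen : ∀ t ∈ Y D, t ∈ zpowers y) : R E = ⊤ := by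
  have hYR := Y_le_R E hy hyc hgen
  have : Group.IsNilpotent P := hP.isNilpotent
  have hnc := Group.normalizerCondition_of_isNilpotent (G := P)
  rw [normalizerCondition_iff_only_full_group_self_normalizing] at hnc
  apply hnc
  apply le_antisymm _ le_normalizer
  intro g hg
  have h1 : g * D.x * g⁻¹ ∈ R E := (mem_normalizer_iff.1 hg _).1 (x_mem_R E)
  have h2 : g * D.x * g⁻¹ * (g * D.x * g⁻¹) = 1 := by
    calc g * D.x * g⁻¹ * (g * D.x * g⁻¹) = g * (D.x * D.x) * g⁻¹ := by group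
      _ = 1 := by rw [D.x_sq]; group
  have h3 : ¬ Commute (g * D.x * g⁻¹) D.w := by
    intro h
    have h4 := D.commute_conj g⁻¹ h
    have h5 : g⁻¹ * (g * D.x * g⁻¹) * g⁻¹⁻¹ = D.x := by group
    rw [h5] at h4
    exact D.not_commute_x h4
  have h4 := mem_of_involution E hP hy hyc hgen h1 h2 h3
  obtain ⟨j, h, hh, hgj⟩ := exists_decomp E h4
  have hhR := mem_R_of_commute_x E hYR hh
  rcases hgj with rfl | rfl
  · exact mul_mem (mem_R_of_zpow E j) hhR
  · exact mul_mem (mul_mem (mem_R_of_zpow E j) (e_mem_R E)) hhR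

/-- all `c ^ m (e w)` are conjugate to `e w` -/
theorem exists_conj_ew (m : ℤ) : ∃ g : P, g * (E.c ^ m * (E.e * D.w)) * g⁻¹ = E.e * D.w := by
  have key : ∀ j : ℤ, E.c ^ (-j) * (E.c ^ (2 * j) * (E.e * D.w)) * (E.c ^ (-j))⁻¹
      = E.e * D.w := by
    intro j
    have h1 := (c_zpow_w E j).eq
    have h2 := e_mul_zpow E j
    calc E.c ^ (-j) * (E.c ^ (2 * j) * (E.e * D.w)) * (E.c ^ (-j))⁻¹
        = E.c ^ j * E.e * (D.w * E.c ^ j) := by group
      _ = E.c ^ j * E.e * (E.c ^ j * D.w) := by rw [h1]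
      _ = E.c ^ j * (E.e * E.c ^ j) * D.w := by group
      _ = E.c ^ j * (E.c ^ (-j) * E.e) * D.w := by rw [h2]
      _ = E.e * D.w := by group
  rcases Int.even_or_odd' m with ⟨j, hj | hj⟩
  · exact ⟨E.c ^ (-j), by rw [hj]; exact key j⟩
  · have h1 : D.x * (E.c ^ m * (E.e * D.w)) * D.x⁻¹
        = E.c ^ (2 * ((E.k : ℤ) - j)) * (E.e * D.w) := by
      have h2 := x_mul_zpow E m
      have h3 := E.xex
      have h4 := EData.xwx (D := D)
      have h5 := z_eq_zpow E
      calc D.x * (E.c ^ m * (E.e * D.w)) * D.x⁻¹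
          = (D.x * E.c ^ m) * (E.e * D.w) * D.x := by rw [D.x_inv]; group
        _ = E.c ^ (-m) * D.x * (E.e * D.w) * D.x := by rw [h2]
        _ = E.c ^ (-m) * (D.x * E.e * D.x) * (D.x * D.x)⁻¹ * (D.x * D.w * D.x) := by group
        _ = E.c ^ (-m) * (E.c * E.e) * (D.w * D.z) := by rw [h3, h4, D.x_sq]; group
        _ = E.c ^ (-m) * E.c * (E.e * D.w * D.z) := by group
        _ = E.c ^ (-m) * E.c * (D.z * (E.e * D.w)) := by rw [D.z_comm]
        _ = E.c ^ (-m) * E.c * (E.c ^ (2 * (E.k : ℤ)) * (E.e * D.w)) := by rw [← h5]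
        _ = E.c ^ (-m + 1 + 2 * (E.k : ℤ)) * (E.e * D.w) := by
            rw [zpow_add, zpow_add, zpow_one, mul_assoc (E.c ^ (-m) * E.c)]
        _ = E.c ^ (2 * ((E.k : ℤ) - j)) * (E.e * D.w) := by
            congr 2
            rw [hj]; ring
    refine ⟨E.c ^ (-((E.k : ℤ) - j)) * D.x, ?_⟩
    calc E.c ^ (-((E.k : ℤ) - j)) * D.x * (E.c ^ m * (E.e * D.w))
          * (E.c ^ (-((E.k : ℤ) - j)) * D.x)⁻¹
        = E.c ^ (-((E.k : ℤ) - j)) * (D.x * (E.c ^ m * (E.e * D.w)) * D.x⁻¹)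
          * (E.c ^ (-((E.k : ℤ) - j)))⁻¹ := by group
      _ = E.e * D.w := by rw [h1]; exact key _

/-- all `c ^ m e` are conjugate to `e` -/
theorem exists_conj_e (m : ℤ) : ∃ g : P, g * E.e * g⁻¹ = E.c ^ m * E.e := by
  have key : ∀ j : ℤ, E.c ^ j * E.e * (E.c ^ j)⁻¹ = E.c ^ (2 * j) * E.e := by
    intro j
    have h2 := e_mul_zpow E (-j)
    rw [← zpow_neg, mul_assoc, h2, neg_neg, ← mul_assoc, ← zpow_add]
    congr 2
    ring
  rcases Int.even_or_odd' m with ⟨j, hj | hj⟩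
  · exact ⟨E.c ^ j, by rw [hj]; exact key j⟩
  · refine ⟨E.c ^ j * D.x, ?_⟩
    have h3 := E.xex
    have h2 := e_mul_zpow E (-j)
    rw [neg_neg] at h2
    calc E.c ^ j * D.x * E.e * (E.c ^ j * D.x)⁻¹
        = E.c ^ j * (D.x * E.e * D.x) * E.c ^ (-j) := by
          rw [mul_inv_rev, D.x_inv, ← zpow_neg]; group
      _ = E.c ^ j * E.c * (E.e * E.c ^ (-j)) := by rw [h3]; group
      _ = E.c ^ j * E.c * (E.c ^ j * E.e) := by rw [h2]
      _ = E.c ^ m * E.e := by
          rw [hj]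
          group

/-- **Case (6)**: `Y = ⟨y⟩` cyclic. -/
theorem exists_normal_cyclic [Finite P] (hP : IsPGroup 2 P)
    (hK1 : ∀ g : P, g * E.e * g⁻¹ ≠ E.e * D.w) (hwe : E.e ≠ D.w) (hwze : E.e ≠ D.w * D.z)
    {y : P} (hy : y ∈ Y D) (hyc : y * E.c * y⁻¹ ∈ zpowers E.c)
    (hgen : ∀ t ∈ Y D, t ∈ zpowers y)
    (hye : ∃ n ∈ zpowers E.c, ∃ ys ∈ Y D, y * E.e * y⁻¹ = n * E.e * ys) :
    ∃ K : Subgroup P, ∃ _ : K.Normal, IsCyclic (P ⧸ K) ∧ D.w ∉ K ∧
      ∀ v ∈ K, v * v = 1 → v = 1 ∨ v = D.z ∨ ∃ g : P, g * E.e * g⁻¹ = v := by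
  classical
  have hR := R_eq_top E hP hy hyc hgen
  have hRall : ∀ g : P, g ∈ R E := fun g => by rw [hR]; exact mem_top g
  have hcomm : ∀ s ∈ Y D, ∀ t ∈ Y D, Commute s t := by
    intro s hs t ht
    obtain ⟨m, rfl⟩ := hgen s hs
    obtain ⟨n, rfl⟩ := hgen t ht
    exact ((Commute.refl y).zpow_left m).zpow_right n
  have hN : (zpowers E.c).Normal := by
    rw [← normalizer_eq_top_iff, eq_top_iff]
    intro g _
    exact (hRall g).1
  -- the image of `y ^ k e y ^ (-k)` modulo `⟨c⟩`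
  obtain ⟨n₀, hn₀, ys, hys, hyeq⟩ := hye
  let π : P →* P ⧸ zpowers E.c := QuotientGroup.mk' (zpowers E.c)
  have hπ : ∀ g : P, π g = 1 ↔ g ∈ zpowers E.c := fun g =>
    QuotientGroup.eq_one_iff g
  have hπ2 : ∀ g h : P, π g = π h ↔ g * h⁻¹ ∈ zpowers E.c := by
    intro g h
    rw [← hπ, map_mul, map_inv, mul_inv_eq_one]
  have hpow : ∀ k : ℕ, π (y ^ k * E.e * (y ^ k)⁻¹) = π (E.e * ys ^ k) := by
    intro k
    induction k with
    | zero => simp
    | succ k ih =>
      have h1 : y ^ (k + 1) * E.e * (y ^ (k + 1))⁻¹ = y * (y ^ k * E.e * (y ^ k)⁻¹) * y⁻¹ := by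
        rw [pow_succ']; group
      rw [h1, map_mul, map_mul, ih, ← map_mul, ← map_mul]
      have h2 : y * (E.e * ys ^ k) * y⁻¹ = n₀ * (E.e * ys ^ (k + 1)) := by
        have h3 := ((hcomm _ hy _ hys).pow_right k).eq
        calc y * (E.e * ys ^ k) * y⁻¹ = (y * E.e * y⁻¹) * (y * ys ^ k) * y⁻¹ := by group
          _ = n₀ * E.e * ys * (ys ^ k * y) * y⁻¹ := by rw [hyeq, h3]
          _ = n₀ * (E.e * ys ^ (k + 1)) := by rw [pow_succ']; group
      rw [h2, map_mul, (hπ n₀).2 hn₀, one_mul]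
  have hys1 : ys = 1 ∨ ys = D.z := by
    by_contra hcon
    push Not at hcon
    obtain ⟨k, hk⟩ := exists_pow_eq D hP hys E.f_mem E.f_sq (hcomm _ hys _ E.f_mem)
      hcon.1 hcon.2
    have h1 := hpow k
    -- `w f ^ (±1) ∈ ⟨c⟩`
    have h2 : D.w * ys ^ k ∈ zpowers E.c := by
      rcases hk with hk | hk
      · rw [hk, ← E.c_k_eq]
        exact pow_mem (mem_zpowers _) _
      · rw [hk, E.f_inv, ← mul_assoc, D.z_comm, mul_assoc, ← E.c_k_eq]
        exact mul_mem (z_mem E) (pow_mem (mem_zpowers _) _)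
    have h3 : π (E.e * ys ^ k) = π (E.e * D.w) := by
      rw [hπ2]
      have h4 : E.e * ys ^ k * (E.e * D.w)⁻¹
          = (E.e * D.w) * (D.w * ys ^ k) * (E.e * D.w)⁻¹ := by
        have : D.w * D.w = 1 := D.w_sq
        calc E.e * ys ^ k * (E.e * D.w)⁻¹ = E.e * (D.w * D.w) * ys ^ k * (E.e * D.w)⁻¹ := by
              rw [this, mul_one]
          _ = (E.e * D.w) * (D.w * ys ^ k) * (E.e * D.w)⁻¹ := by group
      rw [h4]
      exact hN.conj_mem _ h2 _
    rw [h3, hπ2] at h1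
    obtain ⟨m, hm⟩ := h1
    simp only at hm
    obtain ⟨g, hg⟩ := exists_conj_ew E m
    apply hK1 (g * y ^ k)
    have h4 : y ^ k * E.e * (y ^ k)⁻¹ = E.c ^ m * (E.e * D.w) := by
      rw [hm]; group
    calc g * y ^ k * E.e * (g * y ^ k)⁻¹ = g * (y ^ k * E.e * (y ^ k)⁻¹) * g⁻¹ := by group
      _ = E.e * D.w := by rw [h4, hg]
  have hysN : ys ∈ zpowers E.c := by
    rcases hys1 with h | h
    · rw [h]; exact one_mem _
    · rw [h]; exact z_mem E
  -- generation
  have htop : ∀ H : Subgroup P, E.c ∈ H → E.e ∈ H → D.x ∈ H → y ∈ H → ∀ g : P, g ∈ H := by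
    intro H hc he hx hyH g
    obtain ⟨j, h, hh, hgj⟩ := exists_decomp E (hRall g).2
    have hhH : h ∈ H := by
      rcases of_commute_x hh with h1 | ⟨h', h1, rfl⟩
      · obtain ⟨m, rfl⟩ := hgen _ h1
        exact zpow_mem hyH m
      · obtain ⟨m, rfl⟩ := hgen _ h1
        exact mul_mem hx (zpow_mem hyH m)
    rcases hgj with rfl | rfl
    · exact mul_mem (zpow_mem hc j) hhH
    · exact mul_mem (mul_mem (zpow_mem hc j) he) hhH
  have hπc : π E.c = 1 := (hπ _).2 (mem_zpowers _)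
  -- commutativity of the quotient
  have hxc : ∀ g : P, Commute (π g) (π D.x) := by
    intro g
    have h1 := (hRall g).2
    rw [← hπ, map_mul, map_mul, map_mul, map_inv, map_inv] at h1
    show π g * π D.x = π D.x * π g
    calc π g * π D.x = π g * π D.x * (π g)⁻¹ * (π D.x)⁻¹ * (π D.x * π g) := by group
      _ = π D.x * π g := by rw [h1, one_mul]
  have hye' : Commute (π y) (π E.e) := by
    have h1 := congrArg π hyeq
    rw [map_mul, map_mul, map_mul, map_mul, map_inv, (hπ n₀).2 hn₀, (hπ ys).2 hysN, one_mul,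
      mul_one] at h1
    exact mul_inv_eq_iff_eq_mul.1 h1
  have hec : ∀ g : P, Commute (π g) (π E.e) := by
    intro g
    have h1 : g ∈ (centralizer {π E.e}).comap π := by
      apply htop
      · rw [mem_comap, mem_centralizer_singleton_iff, hπc, one_mul, mul_one]
      · rw [mem_comap, mem_centralizer_singleton_iff]
      · rw [mem_comap, mem_centralizer_singleton_iff]
        exact (hxc E.e).symm.eq
      · rw [mem_comap, mem_centralizer_singleton_iff]
        exact hye'.eq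
    rw [mem_comap, mem_centralizer_singleton_iff] at h1
    exact h1
  have hyc' : ∀ g : P, Commute (π g) (π y) := by
    intro g
    have h1 : g ∈ (centralizer {π y}).comap π := by
      apply htop
      · rw [mem_comap, mem_centralizer_singleton_iff, hπc, one_mul, mul_one]
      · rw [mem_comap, mem_centralizer_singleton_iff]
        exact hye'.symm.eq
      · rw [mem_comap, mem_centralizer_singleton_iff]
        exact (hxc y).symm.eq
      · rw [mem_comap, mem_centralizer_singleton_iff]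
    rw [mem_comap, mem_centralizer_singleton_iff] at h1
    exact h1
  have hall : ∀ g h : P, Commute (π g) (π h) := by
    intro g h
    have h1 : h ∈ (centralizer {π g}).comap π := by
      apply htop
      · rw [mem_comap, mem_centralizer_singleton_iff, hπc, one_mul, mul_one]
      · rw [mem_comap, mem_centralizer_singleton_iff]
        exact (hec g).symm.eq
      · rw [mem_comap, mem_centralizer_singleton_iff]
        exact (hxc g).symm.eq
      · rw [mem_comap, mem_centralizer_singleton_iff]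
        exact (hyc' g).symm.eq
    rw [mem_comap, mem_centralizer_singleton_iff] at h1
    exact (show Commute (π h) (π g) from h1).symm
  -- the subgroup `K`
  let K : Subgroup P :=
    { carrier := {g | ∃ a b : ℤ, π g = π E.e ^ a * π (D.x * E.f) ^ b}
      one_mem' := ⟨0, 0, by simp⟩
      mul_mem' := by
        rintro g h ⟨a, b, h1⟩ ⟨a', b', h2⟩
        refine ⟨a + a', b + b', ?_⟩
        rw [map_mul, h1, h2, zpow_add, zpow_add]
        have h3 := (((hall (D.x * E.f) E.e).zpow_left b).zpow_right a').eq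
        calc π E.e ^ a * π (D.x * E.f) ^ b * (π E.e ^ a' * π (D.x * E.f) ^ b')
            = π E.e ^ a * (π (D.x * E.f) ^ b * π E.e ^ a') * π (D.x * E.f) ^ b' := by group
          _ = π E.e ^ a * (π E.e ^ a' * π (D.x * E.f) ^ b) * π (D.x * E.f) ^ b' := by rw [h3]
          _ = π E.e ^ a * π E.e ^ a' * (π (D.x * E.f) ^ b * π (D.x * E.f) ^ b') := by group
      inv_mem' := by
        rintro g ⟨a, b, h1⟩
        refine ⟨-a, -b, ?_⟩
        have h3 := (((hall E.e (D.x * E.f)).zpow_left (-a)).zpow_right (-b)).eq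
        rw [map_inv, h1, h3]
        group }
  have hKmem : ∀ g : P, g ∈ K ↔ ∃ a b : ℤ, π g = π E.e ^ a * π (D.x * E.f) ^ b :=
    fun g => Iff.rfl
  have hKn : K.Normal := by
    constructor
    rintro k ⟨a, b, hk⟩ g
    refine ⟨a, b, ?_⟩
    rw [map_mul, map_mul, map_inv, (hall g k).eq, mul_inv_cancel_right, hk]
  have hxf : Commute D.x E.f := E.f_x.symm
  have hxfsq : π (D.x * E.f) * π (D.x * E.f) = 1 := by
    rw [← map_mul, hπ]
    have h1 : D.x * E.f * (D.x * E.f) = D.z := by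
      calc D.x * E.f * (D.x * E.f) = D.x * (E.f * D.x) * E.f := by group
        _ = D.x * (D.x * E.f) * E.f := by rw [hxf.eq]
        _ = (D.x * D.x) * (E.f * E.f) := by group
        _ = D.z := by rw [D.x_sq, E.f_sq, one_mul]
    rw [h1]
    exact z_mem E
  have hesq : π E.e * π E.e = 1 := by rw [← map_mul, E.e_sq, map_one]
  have hpar : ∀ t : P ⧸ zpowers E.c, t * t = 1 → ∀ a : ℤ, t ^ a = 1 ∨ t ^ a = t := by
    intro t ht a
    rcases Int.even_or_odd' a with ⟨j, hj | hj⟩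
    · left; rw [hj, zpow_mul, zpow_two, ht, one_zpow]
    · right; rw [hj, zpow_add, zpow_mul, zpow_two, ht, one_zpow, one_mul, zpow_one]
  -- involutions of `K`
  have hinv : ∀ v ∈ K, v * v = 1 → v = 1 ∨ v = D.z ∨ ∃ g : P, g * E.e * g⁻¹ = v := by
    rintro v ⟨a, b, hv⟩ hvv
    have hvi : v⁻¹ = v := inv_eq_of_mul_eq_one_right hvv
    have hxne : ¬ Commute (D.x * E.f) D.w := D.not_commute_mul' D.not_commute_x E.f_w
    rcases hpar _ hesq a with ha | ha <;> rcases hpar _ hxfsq b with hb | hb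
    · -- `v ∈ ⟨c⟩`
      rw [ha, hb, one_mul] at hv
      have hvN : v ∈ zpowers E.c := (hπ v).1 hv
      have hvw : Commute v D.w := by
        obtain ⟨m, rfl⟩ := hvN
        exact c_zpow_w E m
      have hvx : Commute v D.x := by
        obtain ⟨m, rfl⟩ := hvN
        simp only at hvi ⊢
        have h1 := x_mul_zpow E m
        rw [zpow_neg, hvi] at h1
        exact h1.symm
      rcases D.hY v hvw hvx hvv with h | h
      · exact Or.inl h
      · exact Or.inr (Or.inl h)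
    · -- `v ∈ ⟨c⟩ x f`
      exfalso
      rw [ha, hb, one_mul] at hv
      have h1 : v * (D.x * E.f)⁻¹ ∈ zpowers E.c := (hπ2 _ _).1 hv
      obtain ⟨m, hm⟩ := h1
      simp only at hm
      have hveq : v = E.c ^ m * (D.x * E.f) := by rw [hm]; group
      have hvw : ¬ Commute v D.w := by
        rw [hveq]
        exact D.not_commute_mul (c_zpow_w E m) hxne
      have h2 := mem_of_involution E hP hy hyc hgen (hRall v) hvv hvw
      have h3 : E.f ∈ zpowers E.c := by
        have h4 : v * D.x⁻¹ = E.c ^ m * E.f := by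
          rw [hveq, hxf.eq]; group
        rw [h4] at h2
        exact (mul_mem_cancel_left (zpow_mem (mem_zpowers _) m)).1 h2
      have h4 := sq_eq_one_of_mem E h3 E.f_x
      rw [E.f_sq] at h4
      exact D.z_ne h4
    · -- `v ∈ ⟨c⟩ e`
      rw [ha, hb, mul_one] at hv
      have h1 : v * E.e⁻¹ ∈ zpowers E.c := (hπ2 _ _).1 hv
      obtain ⟨m, hm⟩ := h1
      simp only at hm
      obtain ⟨g, hg⟩ := exists_conj_e E m
      refine Or.inr (Or.inr ⟨g, ?_⟩)
      rw [hg, hm]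
      group
    · -- `v ∈ ⟨c⟩ e x f`
      exfalso
      rw [ha, hb, ← map_mul] at hv
      have h1 : v * (E.e * (D.x * E.f))⁻¹ ∈ zpowers E.c := (hπ2 _ _).1 hv
      obtain ⟨m, hm⟩ := h1
      simp only at hm
      have hveq : v = E.c ^ m * (E.e * (D.x * E.f)) := by rw [hm]; group
      have hvw : ¬ Commute v D.w := by
        rw [hveq]
        exact D.not_commute_mul (c_zpow_w E m) (D.not_commute_mul E.e_w hxne)
      have h2 := mem_of_involution E hP hy hyc hgen (hRall v) hvv hvw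
      have h3 : E.e * E.f ∈ zpowers E.c := by
        have h4 : v * D.x⁻¹ = E.c ^ m * (E.e * E.f) := by
          rw [hveq, hxf.eq]; group
        rw [h4] at h2
        exact (mul_mem_cancel_left (zpow_mem (mem_zpowers _) m)).1 h2
      obtain ⟨l, hl⟩ := h3
      simp only at hl
      have h4 := E.x_zpow_x l
      rw [hl] at h4
      have h5 : D.x * (E.e * E.f) * D.x = E.c * (E.e * E.f) := by
        calc D.x * (E.e * E.f) * D.x = D.x * E.e * (E.f * D.x) := by group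
          _ = D.x * E.e * (D.x * E.f) := by rw [hxf.eq]
          _ = (D.x * E.e * D.x) * E.f := by group
          _ = E.c * (E.e * E.f) := by rw [E.xex]; group
      rw [h5, ← hl] at h4
      have h6 : E.c ^ (2 * (l + 1) - 1) = 1 := by
        have h7 : (2 * (l + 1) - 1 : ℤ) = 1 + l + l := by ring
        rw [h7, zpow_add, zpow_add, zpow_one, h4, ← zpow_add, neg_add_cancel, zpow_zero]
      exact zpow_odd_ne_one E hP _ h6
  refine ⟨K, hKn, ?_, ?_, hinv⟩
  · -- cyclic quotient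
    have hcK : E.c ∈ K := ⟨0, 0, by rw [hπc]; simp⟩
    have heK : E.e ∈ K := ⟨1, 0, by simp⟩
    have hxfK : D.x * E.f ∈ K := ⟨0, 1, by simp⟩
    refine ⟨⟨QuotientGroup.mk' K y, fun q => ?_⟩⟩
    obtain ⟨g, rfl⟩ := QuotientGroup.mk'_surjective K q
    have h1 : g ∈ (zpowers (QuotientGroup.mk' K y)).comap (QuotientGroup.mk' K) := by
      have hK0 : ∀ t ∈ K, t ∈ (zpowers (QuotientGroup.mk' K y)).comap (QuotientGroup.mk' K) := by
        intro t ht
        rw [mem_comap]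
        have : QuotientGroup.mk' K t = 1 := (QuotientGroup.eq_one_iff t).2 ht
        rw [this]
        exact one_mem _
      have hyK : y ∈ (zpowers (QuotientGroup.mk' K y)).comap (QuotientGroup.mk' K) :=
        mem_zpowers _
      apply htop _ (hK0 _ hcK) (hK0 _ heK) _ hyK
      have h2 : D.x = D.x * E.f * E.f⁻¹ := by group
      rw [h2]
      obtain ⟨m, hm⟩ := hgen _ E.f_mem
      simp only at hm
      refine mul_mem (hK0 _ hxfK) (inv_mem ?_)
      rw [← hm]
      exact zpow_mem hyK m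
    exact h1
  · intro hw
    rcases hinv _ hw D.w_sq with h | h | ⟨g, hg⟩
    · exact D.w_ne h
    · exact D.w_ne_z h
    · have h1 : E.e = g⁻¹ * D.w * g⁻¹⁻¹ := by rw [← hg]; group
      rcases D.w_conj g⁻¹ with h2 | h2
      · exact hwe (h1.trans h2)
      · exact hwze (h1.trans h2)

end Cfsg.Agent.Classification.NonConnCyc
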