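import Mathlib
import Cfsg.Agent.Classification.NonConnCyc
import Cfsg.Agent.Classification.NonConnAction

/-!
# Disconnected 2-groups: the case `Y` cyclic (case (6) of S0503), final form
-/

set_option autoImplicit false

namespace Cfsg.Agent.Classification.NonConnCycMain

open Subgroup Cfsg.Agent.Classification.NonConnBase Cfsg.Agent.Classification.NonConnStep

/-- **Case (C)**: `Y` cyclic. -/
theorem exists_normal_cyclic {P : Type*} [Group P] [Finite P] (hP : IsPGroup 2 P) {D : Data P}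
    (E : EData D) (hcyc : IsCyclic ↥(Y D))
    (hK1 : ∀ g : P, g * E.e * g⁻¹ ≠ E.e * D.w) (hwe : E.e ≠ D.w) (hwze : E.e ≠ D.w * D.z) :
    ∃ K : Subgroup P, ∃ _ : K.Normal, IsCyclic (P ⧸ K) ∧ D.w ∉ K ∧
      ∀ v ∈ K, v * v = 1 → v = 1 ∨ v = D.z ∨ ∃ g : P, g * E.e * g⁻¹ = v := by
  obtain ⟨⟨y, hy⟩, hgen⟩ := hcyc.exists_generator
  have hgen' : ∀ t ∈ Y D, t ∈ zpowers y := by
    intro t ht
    obtain ⟨m, hm⟩ := hgen ⟨t, ht⟩
    exact ⟨m, congrArg Subtype.val hm⟩
  have hcomm : ∀ s ∈ Y D, ∀ t ∈ Y D, Commute s t := by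
    intro s hs t ht
    obtain ⟨m, rfl⟩ := hgen' s hs
    obtain ⟨n, rfl⟩ := hgen' t ht
    exact ((Commute.refl y).zpow_left m).zpow_right n
  have hYf : NonConnAction.NormF E := by
    intro s hs
    left
    rw [(hcomm s hs _ E.f_mem).eq, mul_inv_cancel_right]
  obtain ⟨κ, i, -, hκ, ys, hys, hye, -⟩ := NonConnAction.exists_action hP hYf hy
  exact NonConnCyc.exists_normal_cyclic E hP hK1 hwe hwze hy
    (by rw [hκ]; exact zpow_mem (mem_zpowers _) κ) hgen'
    ⟨E.c ^ i, zpow_mem (mem_zpowers _) i, ys, hys, hye⟩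

end Cfsg.Agent.Classification.NonConnCycMain
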