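import Mathlib
import Cfsg.Agent.Classification.NonConnAction

/-!
# Disconnected 2-groups: the case where `f` is not central in `Y`
-/

set_option autoImplicit false

namespace Cfsg.Agent.Classification.NonConnQuat

open Subgroup Cfsg.Agent.Classification.NonConnBase Cfsg.Agent.Classification.NonConnStep
  Cfsg.Agent.Classification.NonConnAction

variable {P : Type*} [Group P] {D : Data P}

/-- an element of `T` inverting `f` -/
theorem ne_of_inverts (E : EData D) {t : P} (h : t * E.f * t⁻¹ = E.f⁻¹) : t ≠ 1 ∧ t ≠ D.z := by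
  constructor
  · rintro rfl
    apply E.f_ne_inv
    rw [← h]; group
  · rintro rfl
    apply E.f_ne_inv
    rw [← h, ← D.z_comm, mul_inv_cancel_right]

theorem e_inverts (E : EData D) : E.e * E.f * E.e⁻¹ = E.f⁻¹ := by
  rw [E.e_inv, E.efe]

theorem ce_inverts (E : EData D) (i : ℤ) :
    E.c ^ i * E.e * E.f * (E.c ^ i * E.e)⁻¹ = E.f⁻¹ := by
  have h1 := e_inverts E
  have h2 : Commute (E.c ^ i) E.f⁻¹ := (E.c_f.zpow_left i).inv_right
  calc E.c ^ i * E.e * E.f * (E.c ^ i * E.e)⁻¹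
      = E.c ^ i * (E.e * E.f * E.e⁻¹) * (E.c ^ i)⁻¹ := by group
    _ = E.f⁻¹ := by rw [h1, h2.eq, mul_inv_cancel_right]

theorem conj_inv {q f g : P} (h : q * f * q⁻¹ = g) : q * f⁻¹ * q⁻¹ = g⁻¹ := by
  rw [← h]; group

/-- the element `y*` commutes with `f` -/
theorem ys_commute (E : EData D) {q ys : P} {i : ℤ}
    (hqf : q * E.f * q⁻¹ = E.f ∨ q * E.f * q⁻¹ = E.f⁻¹)
    (h : q * E.e * q⁻¹ = E.c ^ i * E.e * ys) : Commute ys E.f := by
  have h1 : q * E.e * q⁻¹ * E.f * (q * E.e * q⁻¹)⁻¹ = E.f⁻¹ := by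
    have hef := e_inverts E
    have hef' : E.e * E.f⁻¹ * E.e⁻¹ = E.f := by
      have := conj_inv hef
      rwa [inv_inv] at this
    rcases hqf with hqf | hqf
    · have h2 : q⁻¹ * E.f * q = E.f := by
        calc q⁻¹ * E.f * q = q⁻¹ * (q * E.f * q⁻¹) * q := by rw [hqf]
          _ = E.f := by group
      calc q * E.e * q⁻¹ * E.f * (q * E.e * q⁻¹)⁻¹
          = q * (E.e * (q⁻¹ * E.f * q) * E.e⁻¹) * q⁻¹ := by group
        _ = E.f⁻¹ := by rw [h2, hef, conj_inv hqf]
    · have h2 : q⁻¹ * E.f * q = E.f⁻¹ := by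
        have h3 : E.f = q * E.f⁻¹ * q⁻¹ := by
          rw [conj_inv hqf, inv_inv]
        calc q⁻¹ * E.f * q = q⁻¹ * (q * E.f⁻¹ * q⁻¹) * q := by rw [← h3]
          _ = E.f⁻¹ := by group
      calc q * E.e * q⁻¹ * E.f * (q * E.e * q⁻¹)⁻¹
          = q * (E.e * (q⁻¹ * E.f * q) * E.e⁻¹) * q⁻¹ := by group
        _ = E.f⁻¹ := by rw [h2, hef', hqf]
  have h2 := ce_inverts E i
  rw [h] at h1
  have h3 : E.c ^ i * E.e * (ys * E.f * ys⁻¹) * (E.c ^ i * E.e)⁻¹ =
      E.c ^ i * E.e * E.f * (E.c ^ i * E.e)⁻¹ := by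
    rw [h2, ← h1]; group
  have h4 : ys * E.f * ys⁻¹ = E.f := mul_left_cancel (mul_right_cancel h3)
  exact mul_inv_eq_iff_eq_mul.1 h4

/-- existence of an element of `Y` inverting `f` -/
theorem exists_inverting [Finite P] (hP : IsPGroup 2 P) (E : EData D)
    (hnc : ∃ u ∈ Y D, ¬ Commute u E.f) : ∃ q ∈ Y D, q * E.f * q⁻¹ = E.f⁻¹ := by
  obtain ⟨u, hu, huf⟩ := hnc
  have hlt : Y D ⊓ centralizer {E.f} < Y D := by
    refine lt_of_le_of_ne inf_le_left fun h => huf ?_
    have h1 : u ∈ Y D ⊓ centralizer {E.f} := by rw [h]; exact hu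
    exact mem_centralizer_singleton_iff.1 h1.2
  obtain ⟨g, hgY, hgA, hnorm⟩ := exists_normalizing hP hlt
  have hf : E.f ∈ Y D ⊓ centralizer {E.f} :=
    ⟨E.f_mem, mem_centralizer_singleton_iff.2 rfl⟩
  have h1 := hnorm _ hf
  have h2 : Commute (g * E.f * g⁻¹) E.f := mem_centralizer_singleton_iff.1 h1.2
  have h3 : g * E.f * g⁻¹ * E.f⁻¹ * (g * E.f * g⁻¹ * E.f⁻¹) = 1 := by
    have h4 := h2.inv_right.eq
    calc g * E.f * g⁻¹ * E.f⁻¹ * (g * E.f * g⁻¹ * E.f⁻¹)
        = g * E.f * g⁻¹ * (E.f⁻¹ * (g * E.f * g⁻¹)) * E.f⁻¹ := by group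
      _ = g * E.f * g⁻¹ * (g * E.f * g⁻¹ * E.f⁻¹) * E.f⁻¹ := by rw [h4]
      _ = g * (E.f * E.f) * g⁻¹ * (E.f * E.f)⁻¹ := by group
      _ = 1 := by rw [E.f_sq, D.z_comm g]; group
  rcases eq_of_mem_Y D (mul_mem h1.1 (inv_mem E.f_mem)) h3 with h4 | h4
  · exfalso
    apply hgA
    refine ⟨hgY, mem_centralizer_singleton_iff.2 ?_⟩
    have h5 := mul_inv_eq_one.1 h4
    exact mul_inv_eq_iff_eq_mul.1 h5
  · refine ⟨g, hgY, ?_⟩
    rw [E.f_inv]
    exact mul_inv_eq_iff_eq_mul.1 h4

theorem sq_eq_z [Finite P] (hP : IsPGroup 2 P) (E : EData D) {q : P} (hq : q ∈ Y D)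
    (hqf : q * E.f * q⁻¹ = E.f⁻¹) : q * q = D.z := by
  by_contra hne
  have h1 : q * q ≠ 1 := by
    intro h
    rcases eq_of_mem_Y D hq h with h2 | h2
    · exact (ne_of_inverts E hqf).1 h2
    · exact (ne_of_inverts E hqf).2 h2
  have hcomm : Commute (q * q) E.f := by
    have h2 := conj_inv hqf
    have : q * q * E.f * (q * q)⁻¹ = E.f := by
      calc q * q * E.f * (q * q)⁻¹ = q * (q * E.f * q⁻¹) * q⁻¹ := by group
        _ = E.f := by rw [hqf, h2, inv_inv]
    exact mul_inv_eq_iff_eq_mul.1 this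
  obtain ⟨k, hk⟩ := exists_pow_eq D hP (mul_mem hq hq) E.f_mem E.f_sq hcomm h1 hne
  have h3 : Commute q ((q * q) ^ k) :=
    ((Commute.refl q).mul_right (Commute.refl q)).pow_right k
  have h4 : Commute q E.f := by
    rcases hk with hk | hk
    · rwa [hk] at h3
    · rw [hk] at h3
      have := h3.inv_right
      rwa [inv_inv] at this
  apply E.f_ne_inv
  rw [← hqf, h4.eq, mul_inv_cancel_right]

/-- an odd power of a nontrivial 2-element is nontrivial; more precisely -/
theorem zpow_eq_one_of_odd [Finite P] (hP : IsPGroup 2 P) {c : P} {n i : ℤ}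
    (h : c ^ (n * i) = 1) (hi : Odd i) : c ^ n = 1 := by
  have : Fact (Nat.Prime 2) := ⟨Nat.prime_two⟩
  obtain ⟨l, hl⟩ := IsPGroup.iff_orderOf.1 hP c
  rw [← orderOf_dvd_iff_zpow_eq_one] at h ⊢
  rw [hl] at h ⊢
  push_cast at h ⊢
  refine IsCoprime.dvd_of_dvd_mul_right ?_ h
  apply IsCoprime.pow_left
  exact Int.isCoprime_two_left.2 hi

/-- the action of an element of `Y` inverting `f` -/
theorem key [Finite P] (hP : IsPGroup 2 P) (E : EData D)
    (h1 : ∀ g : P, g * E.e * g⁻¹ ≠ E.e * D.w) (h2 : ∀ g : P, g * E.e * g⁻¹ ≠ E.e * D.w * D.z)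
    {q : P} (hq : q ∈ Y D) (hqf : q * E.f * q⁻¹ = E.f⁻¹) :
    q * E.c * q⁻¹ = E.c⁻¹ ∧ ∃ ε : P, (ε = 1 ∨ ε = D.z) ∧ q * E.e * q⁻¹ = E.c * E.e * ε := by
  have hqq := sq_eq_z hP E hq hqf
  have hqx := (mem_Y.1 hq).2
  have hc : q * E.c * q⁻¹ = E.c⁻¹ := by
    obtain ⟨κ, hκ⟩ := exists_zpow_conj hP E hq (Or.inr hqf)
    obtain ⟨m, hm⟩ := dvd_add_one E (mem_Y.1 hq).1 hκ hqf
    obtain ⟨ys, hys, he, -⟩ := conj_e E hq (i := 1 - 2 * m) hκ (by omega)
    set i : ℤ := 1 - 2 * m with hi
    have hysf : Commute ys E.f := ys_commute E (Or.inr hqf) he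
    have hci : q * E.c ^ i * q⁻¹ = E.c ^ (κ * i) := by
      rw [zpow_mul, ← hκ, conj_zpow]
    have h3 : E.c ^ (κ * i) * (E.c ^ i * E.e * ys) * (q * ys * q⁻¹) = E.e := by
      rw [← hci, ← he]
      calc q * E.c ^ i * q⁻¹ * (q * E.e * q⁻¹) * (q * ys * q⁻¹)
          = q * (E.c ^ i * E.e * ys) * q⁻¹ := by group
        _ = q * (q * E.e * q⁻¹) * q⁻¹ := by rw [he]
        _ = (q * q) * E.e * (q * q)⁻¹ := by group
        _ = E.e := by rw [hqq, ← D.z_comm, mul_inv_cancel_right]
    have h4 : ys * (q * ys * q⁻¹) = E.c ^ ((κ + 1) * i) := by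
      have h5 : E.c ^ ((κ + 1) * i) * (E.e * (ys * (q * ys * q⁻¹))) = E.e := by
        have : (κ + 1) * i = κ * i + i := by ring
        rw [this, zpow_add]
        calc E.c ^ (κ * i) * E.c ^ i * (E.e * (ys * (q * ys * q⁻¹)))
            = E.c ^ (κ * i) * (E.c ^ i * E.e * ys) * (q * ys * q⁻¹) := by group
          _ = E.e := h3
      have h6 := E.e_zpow_e (-((κ + 1) * i))
      rw [neg_neg] at h6
      rw [← h6]
      calc ys * (q * ys * q⁻¹) = (E.e * E.e) * (ys * (q * ys * q⁻¹)) := by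
            rw [E.e_sq, one_mul]
        _ = E.e * E.c ^ (-((κ + 1) * i)) *
            (E.c ^ ((κ + 1) * i) * (E.e * (ys * (q * ys * q⁻¹)))) := by
            rw [zpow_neg]; group
        _ = E.e * E.c ^ (-((κ + 1) * i)) * E.e := by rw [h5]
    have hvY : ys * (q * ys * q⁻¹) ∈ Y D :=
      mul_mem hys (mul_mem (mul_mem hq hys) (inv_mem hq))
    have hv2 : ys * (q * ys * q⁻¹) * (ys * (q * ys * q⁻¹)) = 1 := by
      have hvx := (mem_Y.1 hvY).2
      have h7 := E.x_zpow_x ((κ + 1) * i)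
      rw [← h4, ← hvx.eq, mul_assoc, D.x_sq, mul_one, zpow_neg, ← h4] at h7
      nth_rewrite 1 [h7]
      exact inv_mul_cancel _
    rcases eq_of_mem_Y D hvY hv2 with h8 | h8
    · rw [h8] at h4
      have h9 := zpow_eq_one_of_odd hP h4.symm (by rw [hi]; exact ⟨-m, by ring⟩)
      rw [hκ]
      rw [zpow_add_one] at h9
      exact eq_inv_of_mul_eq_one_left h9
    · exfalso
      have h9 : ys * q * (ys * q) = 1 := by
        calc ys * q * (ys * q) = ys * (q * ys * q⁻¹) * (q * q) := by group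
          _ = 1 := by rw [h8, hqq, D.z_sq]
      have h10 : Commute q E.f := by
        rcases eq_of_mem_Y D (mul_mem hys hq) h9 with h11 | h11
        · have : q = ys⁻¹ := eq_inv_of_mul_eq_one_right h11
          rw [this]
          exact hysf.inv_left
        · have : q = ys⁻¹ * D.z := by rw [← h11]; group
          rw [this]
          exact hysf.inv_left.mul_left (D.commute_z _).symm
      apply E.f_ne_inv
      rw [← hqf, h10.eq, mul_inv_cancel_right]
  refine ⟨hc, ?_⟩
  have hc' : q * E.c * q⁻¹ = E.c ^ (-1 : ℤ) := by rw [hc, zpow_neg, zpow_one]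
  obtain ⟨ys, hys, he, hinv⟩ := conj_e E hq (i := 1) hc' (by norm_num)
  have hysf : Commute ys E.f := ys_commute E (Or.inr hqf) he
  rw [zpow_one] at he hinv
  have hysx := (mem_Y.1 hys).2
  have hxe := E.xex
  have hxyx : D.x * ys * D.x = ys := by
    rw [← hysx.eq, mul_assoc, D.x_sq, mul_one]
  have hey : E.e * ys * E.e = ys⁻¹ := by
    have h3 : D.x * (E.e * ys * E.e) * D.x = ys⁻¹ := by
      rw [← hinv, ← hxe]
      calc D.x * (E.e * ys * E.e) * D.x = D.x * E.e * ys * E.e * D.x := by group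
        _ = D.x * E.e * (D.x * ys * D.x) * E.e * D.x := by rw [hxyx]
        _ = D.x * E.e * D.x * ys * (D.x * E.e * D.x) := by group
    calc E.e * ys * E.e = (D.x * D.x) * (E.e * ys * E.e) * (D.x * D.x) := by
          rw [D.x_sq]; group
      _ = D.x * (D.x * (E.e * ys * E.e) * D.x) * D.x := by group
      _ = D.x * ys⁻¹ * D.x := by rw [h3]
      _ = ys⁻¹ := by rw [← hysx.inv_left.eq, mul_assoc, D.x_sq, mul_one]
  have hconj : D.x * q * E.e * (D.x * q)⁻¹ = E.e * ys := by
    calc D.x * q * E.e * (D.x * q)⁻¹ = D.x * (q * E.e * q⁻¹) * D.x⁻¹ := by group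
      _ = D.x * (D.x * E.e * D.x * ys) * D.x := by rw [he, ← hxe, D.x_inv]
      _ = (D.x * D.x) * E.e * (D.x * ys * D.x) := by group
      _ = E.e * ys := by rw [D.x_sq, one_mul, hxyx]
  exact ⟨ys, eq_one_or_z_of_conj hP E h1 h2 hys hysf hey hconj, he⟩

theorem conj_xq (E : EData D) {q ε : P} (hε : ε = 1 ∨ ε = D.z)
    (h : q * E.e * q⁻¹ = E.c * E.e * ε) : D.x * q * E.e * (D.x * q)⁻¹ = E.e * ε := by
  have hεx : D.x * ε * D.x = ε := by
    rcases hε with rfl | rfl
    · rw [mul_one, D.x_sq]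
    · rw [D.z_comm, mul_assoc, D.x_sq, mul_one]
  calc D.x * q * E.e * (D.x * q)⁻¹ = D.x * (q * E.e * q⁻¹) * D.x⁻¹ := by group
    _ = D.x * (D.x * E.e * D.x * ε) * D.x := by rw [h, ← E.xex, D.x_inv]
    _ = (D.x * D.x) * E.e * (D.x * ε * D.x) := by group
    _ = E.e * ε := by rw [D.x_sq, one_mul, hεx]

theorem exists_conj_x' (E : EData D) (a : ℤ) : ∃ g : P, g * D.x * g⁻¹ = E.c ^ a * D.x := by
  obtain ⟨b, hb⟩ | ⟨b, hb⟩ := Int.even_or_odd a
  · refine ⟨E.c ^ b, ?_⟩
    have h1 := x_mul_zpow (E := E) (-b)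
    rw [neg_neg] at h1
    calc E.c ^ b * D.x * (E.c ^ b)⁻¹ = E.c ^ b * (D.x * E.c ^ (-b)) := by
          rw [zpow_neg]; simp only [mul_assoc]
      _ = E.c ^ a * D.x := by rw [h1, hb, zpow_add]; simp only [mul_assoc]
  · refine ⟨E.c ^ (b + 1) * E.e, ?_⟩
    have h1 := x_mul_zpow (E := E) (-(b + 1))
    rw [neg_neg] at h1
    have h2 := e_mul_x (E := E)
    calc E.c ^ (b + 1) * E.e * D.x * (E.c ^ (b + 1) * E.e)⁻¹
        = E.c ^ (b + 1) * (E.e * D.x) * (E.e⁻¹ * (E.c ^ (b + 1))⁻¹) := by group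
      _ = E.c ^ (b + 1) * E.c ^ (-1 : ℤ) * D.x * (E.e * E.e) * (E.c ^ (b + 1))⁻¹ := by
          rw [h2, E.e_inv]; simp only [mul_assoc]
      _ = E.c ^ (b + 1) * E.c ^ (-1 : ℤ) * (D.x * E.c ^ (-(b + 1))) := by
          rw [E.e_sq, mul_one, zpow_neg E.c (b + 1)]; simp only [mul_assoc]
      _ = E.c ^ a * D.x := by
          rw [h1, hb, ← mul_assoc, ← zpow_add, ← zpow_add]
          congr 2
          ring

theorem eq_one_or_z_of_conj_x {s u : P} (huw : Commute u D.w)
    (hut : Commute u (s * D.x * s⁻¹)) (huu : u * u = 1) : u = 1 ∨ u = D.z := by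
  have h1 : Commute (s⁻¹ * u * s) D.w := by
    have := D.commute_conj s⁻¹ huw
    rwa [inv_inv] at this
  have h2 : Commute (s⁻¹ * u * s) D.x := by
    show s⁻¹ * u * s * D.x = D.x * (s⁻¹ * u * s)
    calc s⁻¹ * u * s * D.x = s⁻¹ * (u * (s * D.x * s⁻¹)) * s := by group
      _ = s⁻¹ * ((s * D.x * s⁻¹) * u) * s := by rw [hut.eq]
      _ = D.x * (s⁻¹ * u * s) := by group
  have h3 : s⁻¹ * u * s * (s⁻¹ * u * s) = 1 := by
    calc s⁻¹ * u * s * (s⁻¹ * u * s) = s⁻¹ * (u * u) * s := by group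
      _ = 1 := by rw [huu]; group
  have h5 : u = s * (s⁻¹ * u * s) * s⁻¹ := by group
  rcases D.eq_of_sq h1 h2 h3 with h4 | h4
  · left
    rw [h5, h4]; group
  · right
    rw [h5, h4, D.z_comm s, mul_inv_cancel_right]

/-- if `t ∉ T` maps the involution `u ∈ T` inverting `f` to `u` or `u z`, then `C_T(t)` has
involutions different from `z` -/
theorem false_of_conj_z (E : EData D) {t u : P}
    (ht : ∀ v : P, Commute v D.w → Commute v t → v * v = 1 → v = 1 ∨ v = D.z)
    (htw : ¬ Commute t D.w) (huw : Commute u D.w) (huu : u * u = 1)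
    (huf : u * E.f * u⁻¹ = E.f⁻¹) (h : t * u * t⁻¹ = u ∨ t * u * t⁻¹ = u * D.z) : False := by
  rcases h with h | h
  · have h1 : Commute u t := (mul_inv_eq_iff_eq_mul.1 h).symm
    rcases ht u huw h1 huu with h2 | h2
    · exact (ne_of_inverts E huf).1 h2
    · exact (ne_of_inverts E huf).2 h2
  · have h3 : t * (u * D.w) * t⁻¹ = u * D.w := by
      calc t * (u * D.w) * t⁻¹ = (t * u * t⁻¹) * (t * D.w * t⁻¹) := by group
        _ = u * D.z * (D.w * D.z) := by rw [h, D.conj_w_of_not htw]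
        _ = u * (D.w * (D.z * D.z)) := by
            rw [mul_assoc u, ← mul_assoc D.z, ← D.z_comm, mul_assoc D.w]
        _ = u * D.w := by rw [D.z_sq, mul_one]
    have h1 : Commute (u * D.w) t := (mul_inv_eq_iff_eq_mul.1 h3).symm
    have h4 : u * D.w * (u * D.w) = 1 := by
      calc u * D.w * (u * D.w) = u * (D.w * u) * D.w := by group
        _ = (u * u) * (D.w * D.w) := by rw [← huw.eq]; group
        _ = 1 := by rw [huu, D.w_sq, mul_one]
    have h5 : u * D.w * E.f * (u * D.w)⁻¹ = E.f⁻¹ := by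
      calc u * D.w * E.f * (u * D.w)⁻¹ = u * (D.w * E.f) * D.w⁻¹ * u⁻¹ := by group
        _ = u * E.f * u⁻¹ := by rw [← E.f_w.eq]; group
        _ = E.f⁻¹ := huf
    rcases ht _ (huw.mul_left (Commute.refl _)) h1 h4 with h2 | h2
    · exact (ne_of_inverts E h5).1 h2
    · exact (ne_of_inverts E h5).2 h2

/-- the elements of `Y` normalise `⟨f⟩` -/
theorem normF [Finite P] (hP : IsPGroup 2 P) (E : EData D)
    (h1 : ∀ g : P, g * E.e * g⁻¹ ≠ E.e * D.w) (h2 : ∀ g : P, g * E.e * g⁻¹ ≠ E.e * D.w * D.z) :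
    NormF E := by
  let A : Subgroup P :=
    { carrier := {u | u ∈ Y D ∧ (u * E.f * u⁻¹ = E.f ∨ u * E.f * u⁻¹ = E.f⁻¹)}
      one_mem' := ⟨one_mem _, Or.inl (by group)⟩
      mul_mem' := by
        rintro a b ⟨ha, ha'⟩ ⟨hb, hb'⟩
        refine ⟨mul_mem ha hb, ?_⟩
        have h3 : a * b * E.f * (a * b)⁻¹ = a * (b * E.f * b⁻¹) * a⁻¹ := by group
        rw [h3]
        rcases hb' with hb' | hb' <;> rcases ha' with ha' | ha'
        · left; rw [hb', ha']
        · right; rw [hb', ha']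
        · right; rw [hb', conj_inv ha']
        · left; rw [hb', conj_inv ha', inv_inv]
      inv_mem' := by
        rintro a ⟨ha, ha'⟩
        refine ⟨inv_mem ha, ?_⟩
        rcases ha' with ha' | ha'
        · left
          calc a⁻¹ * E.f * a⁻¹⁻¹ = a⁻¹ * (a * E.f * a⁻¹) * a := by rw [ha', inv_inv]
            _ = E.f := by group
        · right
          calc a⁻¹ * E.f * a⁻¹⁻¹ = a⁻¹ * (a * E.f * a⁻¹)⁻¹ * a := by rw [ha', inv_inv, inv_inv]
            _ = E.f⁻¹ := by group }
  have hAY : A ≤ Y D := fun u hu => hu.1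
  suffices hA : A = Y D by
    intro y hy
    rw [← hA] at hy
    exact hy.2
  by_contra hne
  obtain ⟨g, hgY, hgA, hnorm⟩ := exists_normalizing hP (lt_of_le_of_ne hAY hne)
  have hfA : E.f ∈ A := ⟨E.f_mem, Or.inl (by group)⟩
  obtain ⟨hqY, hq⟩ := hnorm _ hfA
  have hqq : g * E.f * g⁻¹ * (g * E.f * g⁻¹) = D.z := by
    calc g * E.f * g⁻¹ * (g * E.f * g⁻¹) = g * (E.f * E.f) * g⁻¹ := by group
      _ = D.z := by rw [E.f_sq, D.z_comm, mul_inv_cancel_right]
  rcases hq with hq | hq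
  · have h3 : Commute (g * E.f * g⁻¹) E.f := mul_inv_eq_iff_eq_mul.1 hq
    apply hgA
    have h4 : g * E.f * g⁻¹ * E.f⁻¹ * (g * E.f * g⁻¹ * E.f⁻¹) = 1 := by
      have h5 := h3.inv_right.eq
      calc g * E.f * g⁻¹ * E.f⁻¹ * (g * E.f * g⁻¹ * E.f⁻¹)
          = g * E.f * g⁻¹ * (E.f⁻¹ * (g * E.f * g⁻¹)) * E.f⁻¹ := by group
        _ = g * E.f * g⁻¹ * (g * E.f * g⁻¹ * E.f⁻¹) * E.f⁻¹ := by rw [h5]
        _ = (g * E.f * g⁻¹ * (g * E.f * g⁻¹)) * (E.f * E.f)⁻¹ := by group
        _ = 1 := by rw [hqq, E.f_sq, mul_inv_cancel]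
    refine ⟨hgY, ?_⟩
    rcases eq_of_mem_Y D (mul_mem hqY (inv_mem E.f_mem)) h4 with h5 | h5
    · left
      exact mul_inv_eq_one.1 h5
    · right
      rw [E.f_inv]
      exact mul_inv_eq_iff_eq_mul.1 h5
  · set q : P := g * E.f * g⁻¹ with hqdef
    obtain ⟨-, ε, hε, he⟩ := key hP E h1 h2 hqY hq
    have h3 := conj_xq E hε he
    obtain ⟨r, hr⟩ := exists_conj_x' E (-(E.k : ℤ))
    have hgw := (mem_Y.1 hgY).1
    have hgx := (mem_Y.1 hgY).2
    have h4 : (g * r) * D.x * (g * r)⁻¹ = D.x * D.w * q := by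
      calc (g * r) * D.x * (g * r)⁻¹ = g * (r * D.x * r⁻¹) * g⁻¹ := by group
        _ = g * (D.x * (E.c ^ (E.k : ℤ))) * g⁻¹ := by rw [hr, ← x_mul_zpow]
        _ = g * (D.x * (D.w * E.f)) * g⁻¹ := by rw [zpow_natCast, E.c_k_eq]
        _ = (g * D.x) * (D.w * E.f) * g⁻¹ := by group
        _ = D.x * (g * D.w) * E.f * g⁻¹ := by rw [hgx.eq]; group
        _ = D.x * D.w * q := by rw [hgw.eq, hqdef]; group
    have hqw := (mem_Y.1 hqY).1
    refine false_of_conj_z E (t := D.x * D.w * q) (u := E.e) ?_ ?_ E.e_w E.e_sq (e_inverts E) ?_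
    · intro v hv1 hv2 hv3
      rw [← h4] at hv2
      exact eq_one_or_z_of_conj_x hv1 hv2 hv3
    · rw [mul_assoc]
      exact D.not_commute_mul' D.not_commute_x ((Commute.refl _).mul_left hqw)
    · have h5 : D.x * D.w * q * E.e * (D.x * D.w * q)⁻¹ = E.e * ε := by
        calc D.x * D.w * q * E.e * (D.x * D.w * q)⁻¹
            = D.x * (D.w * q) * E.e * (D.w * q)⁻¹ * D.x⁻¹ := by group
          _ = D.x * (q * D.w) * E.e * (q * D.w)⁻¹ * D.x⁻¹ := by rw [hqw.eq]
          _ = D.x * q * (D.w * E.e) * D.w⁻¹ * q⁻¹ * D.x⁻¹ := by group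
          _ = D.x * q * (E.e * D.w) * D.w⁻¹ * q⁻¹ * D.x⁻¹ := by rw [E.e_w.eq]
          _ = D.x * q * E.e * (D.x * q)⁻¹ := by group
          _ = E.e * ε := h3
      rcases hε with rfl | rfl
      · left
        rw [h5, mul_one]
      · right
        exact h5

/-- `C_Y(f) = ⟨f⟩` -/
theorem mem_zpowers_f [Finite P] (hP : IsPGroup 2 P) (E : EData D)
    (h1 : ∀ g : P, g * E.e * g⁻¹ ≠ E.e * D.w) (h2 : ∀ g : P, g * E.e * g⁻¹ ≠ E.e * D.w * D.z)
    {q : P} (hq : q ∈ Y D) (hqf : q * E.f * q⁻¹ = E.f⁻¹) {u : P} (hu : u ∈ Y D)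
    (huf : Commute u E.f) : u ∈ zpowers E.f := by
  have hcommon : ∀ v ∈ Y D, Commute v E.f → v * E.e * v⁻¹ = E.e ∨ v * E.e * v⁻¹ = E.e * D.z := by
    intro v hv hvf
    have h3 : q * v * E.f * (q * v)⁻¹ = E.f⁻¹ := by
      calc q * v * E.f * (q * v)⁻¹ = q * (v * E.f) * v⁻¹ * q⁻¹ := by group
        _ = q * E.f * q⁻¹ := by rw [hvf.eq]; group
        _ = E.f⁻¹ := hqf
    obtain ⟨-, ε, hε, he⟩ := key hP E h1 h2 hq hqf
    obtain ⟨-, δ, hδ, hd⟩ := key hP E h1 h2 (mul_mem hq hv) h3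
    have h4 := conj_xq E hε he
    have h5 := conj_xq E hδ hd
    have h6 : (D.x * q) * (v * E.e * v⁻¹) * (D.x * q)⁻¹ = E.e * δ := by
      rw [← h5]; group
    have hz : ∀ g : P, g * D.z * g⁻¹ = D.z := fun g => by
      rw [D.z_comm, mul_inv_cancel_right]
    rcases hε with rfl | rfl <;> rcases hδ with rfl | rfl
    · left
      rw [mul_one] at h4 h6
      exact mul_left_cancel (mul_right_cancel (h6.trans h4.symm))
    · right
      rw [mul_one] at h4
      have h7 : (D.x * q) * (E.e * D.z) * (D.x * q)⁻¹ = E.e * D.z := by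
        calc (D.x * q) * (E.e * D.z) * (D.x * q)⁻¹
            = ((D.x * q) * E.e * (D.x * q)⁻¹) * ((D.x * q) * D.z * (D.x * q)⁻¹) := by group
          _ = E.e * D.z := by rw [h4, hz]
      exact mul_left_cancel (mul_right_cancel (h6.trans h7.symm))
    · right
      rw [mul_one] at h6
      have h7 : (D.x * q) * (E.e * D.z) * (D.x * q)⁻¹ = E.e := by
        calc (D.x * q) * (E.e * D.z) * (D.x * q)⁻¹
            = ((D.x * q) * E.e * (D.x * q)⁻¹) * ((D.x * q) * D.z * (D.x * q)⁻¹) := by group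
          _ = E.e := by rw [h4, hz, mul_assoc, D.z_sq, mul_one]
      exact mul_left_cancel (mul_right_cancel (h6.trans h7.symm))
    · left
      exact mul_left_cancel (mul_right_cancel (h6.trans h4.symm))
  have hzmem : D.z ∈ zpowers E.f := by
    rw [← E.f_sq]
    exact mul_mem (mem_zpowers _) (mem_zpowers _)
  by_cases hu1 : u = 1
  · rw [hu1]; exact one_mem _
  by_cases huz : u = D.z
  · rw [huz]; exact hzmem
  obtain ⟨k, hk⟩ := exists_pow_eq D hP hu E.f_mem E.f_sq huf hu1 huz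
  have hmem : E.f ∈ zpowers u := by
    rcases hk with hk | hk
    · rw [← hk]
      exact pow_mem (mem_zpowers _) _
    · rw [← inv_mem_iff, ← hk]
      exact pow_mem (mem_zpowers _) _
  rcases mem_zpowers_or hP hmem with h | h
  · exfalso
    obtain ⟨j, hj⟩ := h
    simp only at hj
    have h3 : u ^ j * u ^ j = E.f := by rw [← (Commute.refl u).mul_zpow, hj]
    have h4 : E.f * E.e * E.f⁻¹ = E.e := by
      have hz : ∀ g : P, g * D.z * g⁻¹ = D.z := fun g => by
        rw [D.z_comm, mul_inv_cancel_right]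
      have h5 : E.f * E.e * E.f⁻¹ = u ^ j * (u ^ j * E.e * (u ^ j)⁻¹) * (u ^ j)⁻¹ := by
        rw [← h3]; group
      rw [h5]
      rcases hcommon _ (zpow_mem hu j) (huf.zpow_left j) with h6 | h6
      · rw [h6, h6]
      · rw [h6]
        calc u ^ j * (E.e * D.z) * (u ^ j)⁻¹
            = (u ^ j * E.e * (u ^ j)⁻¹) * (u ^ j * D.z * (u ^ j)⁻¹) := by group
          _ = E.e := by rw [h6, hz, mul_assoc, D.z_sq, mul_one]
    have h6 : Commute E.f E.e := mul_inv_eq_iff_eq_mul.1 h4
    apply E.f_ne_inv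
    rw [← E.efe, ← h6.eq, mul_assoc, E.e_sq, mul_one]
  · exact h

/-- the classification of the isolated involutions outside `T` -/
theorem conj_of_form [Finite P] (hP : IsPGroup 2 P) (E : EData D)
    (h1 : ∀ g : P, g * E.e * g⁻¹ ≠ E.e * D.w) (h2 : ∀ g : P, g * E.e * g⁻¹ ≠ E.e * D.w * D.z)
    {q : P} (hq : q ∈ Y D) (hqf : q * E.f * q⁻¹ = E.f⁻¹) (t : P) (ht : Form E t)
    (htt : t * t = 1) (htw : ¬ Commute t D.w)
    (htr : ∀ u : P, Commute u D.w → Commute u t → u * u = 1 → u = 1 ∨ u = D.z) :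
    ∃ g : P, Form E g ∧ g * D.x * g⁻¹ = t := by
  have hN : NormF E := normF hP E h1 h2
  have hz : ∀ g : P, g * D.z * g⁻¹ = D.z := fun g => by
    rw [D.z_comm, mul_inv_cancel_right]
  obtain ⟨a, v, y, hv, hy, rfl⟩ := form_of_not ht htw
  have hyx := (mem_Y.1 hy).2
  rcases hN y hy with hyf | hyf
  · -- `y ∈ ⟨f⟩`
    have hyF := mem_zpowers_f hP E h1 h2 hq hqf hy (mul_inv_eq_iff_eq_mul.1 hyf)
    obtain ⟨j, hj⟩ := hyF
    simp only at hj
    have hyc : Commute y E.c := by
      rw [← hj]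
      exact (E.c_f.symm).zpow_left j
    have hey : E.e * y * E.e = y⁻¹ := by
      have h := conj_zpow (i := j) (a := E.e) (b := E.f)
      rw [E.e_inv, E.efe, hj] at h
      rw [← h, inv_zpow, hj]
    have hyca := (hyc.zpow_right a).eq
    rcases hv with rfl | rfl
    · rw [mul_one] at htt htr htw ht ⊢
      have h3 : y * y = 1 := by
        rw [← htt]
        calc y * y = 1 * (y * y) := by group
          _ = E.c ^ a * (D.x * E.c ^ a * D.x) * (y * y) := by
              rw [E.x_zpow_x, zpow_neg, mul_inv_cancel]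
          _ = E.c ^ a * D.x * E.c ^ a * (D.x * y) * y := by group
          _ = E.c ^ a * D.x * (E.c ^ a * y) * D.x * y := by rw [← hyx.eq]; group
          _ = E.c ^ a * D.x * y * (E.c ^ a * D.x * y) := by rw [← hyca]; group
      rcases eq_of_mem_Y D hy h3 with h4 | h4
      · rw [h4, mul_one]
        exact exists_conj_x hP hN a
      · rw [h4, mul_assoc, ← D.commute_z D.x |>.eq.symm, ← mul_assoc, ← E.c_k, ← pow_add,
          ← zpow_natCast, ← zpow_add]
        exact exists_conj_x hP hN _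
    · exfalso
      have h3 : E.c ^ a * D.x * E.e * y * (E.c ^ a * D.x * E.e * y) = E.c ^ (2 * a + 1) := by
        have h4 : y * E.e = E.e * y⁻¹ := by
          rw [← hey]
          calc y * E.e = (E.e * E.e) * y * E.e := by rw [E.e_sq, one_mul]
            _ = E.e * (E.e * y * E.e) := by group
        calc E.c ^ a * D.x * E.e * y * (E.c ^ a * D.x * E.e * y)
            = E.c ^ a * D.x * E.e * (y * E.c ^ a) * D.x * E.e * y := by group
          _ = E.c ^ a * D.x * E.e * E.c ^ a * (y * D.x) * E.e * y := by rw [hyca]; group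
          _ = E.c ^ a * D.x * E.e * E.c ^ a * D.x * (y * E.e) * y := by rw [hyx.eq]; group
          _ = E.c ^ a * D.x * (E.e * E.c ^ a) * D.x * E.e := by rw [h4]; group
          _ = E.c ^ a * (D.x * E.c ^ (-a)) * E.e * D.x * E.e := by rw [e_mul_zpow]; group
          _ = E.c ^ a * E.c ^ a * (D.x * E.e * D.x * E.e) := by
              rw [x_mul_zpow, neg_neg]; group
          _ = E.c ^ a * E.c ^ a * E.c := by rw [← E.c_eq]
          _ = E.c ^ (2 * a + 1) := by rw [← zpow_add, ← zpow_add_one]; congr 1; ring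
      rw [h3] at htt
      have h4 : E.c ^ (1 * (2 * a + 1) : ℤ) = 1 := by rw [one_mul]; exact htt
      have h5 := zpow_eq_one_of_odd hP h4 ⟨a, rfl⟩
      rw [zpow_one] at h5
      apply E.c_sq_ne
      rw [h5, one_mul]
  · -- `y` inverts `f`
    exfalso
    obtain ⟨hyc, ε, hε, hye⟩ := key hP E h1 h2 hy hyf
    have hyy := sq_eq_z hP E hy hyf
    have hyca : ∀ n : ℤ, y * E.c ^ n = E.c ^ (-n) * y := by
      intro n
      have h := conj_zpow (i := n) (a := y) (b := E.c)
      rw [hyc, inv_zpow] at h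
      rw [zpow_neg, h, inv_mul_cancel_right]
    rcases hv with rfl | rfl
    · rw [mul_one] at htt htr htw ht
      have h3 : E.c ^ a * E.c ^ a = D.z := by
        have h4 : E.c ^ a * D.x * y * (E.c ^ a * D.x * y) = E.c ^ a * E.c ^ a * D.z := by
          calc E.c ^ a * D.x * y * (E.c ^ a * D.x * y)
              = E.c ^ a * D.x * (y * E.c ^ a) * D.x * y := by group
            _ = E.c ^ a * (D.x * E.c ^ (-a)) * (y * D.x) * y := by rw [hyca]; group
            _ = E.c ^ a * E.c ^ a * (D.x * D.x) * (y * y) := by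
                rw [x_mul_zpow, neg_neg, hyx.eq]; group
            _ = E.c ^ a * E.c ^ a * D.z := by rw [D.x_sq, hyy, mul_one]
        rw [h4] at htt
        have := eq_inv_of_mul_eq_one_left htt
        rwa [D.z_inv] at this
      have h5 := conj_xq E hε hye
      have h6 : E.c ^ a * D.x * y * E.e * (E.c ^ a * D.x * y)⁻¹ = E.e * (D.z * ε) := by
        calc E.c ^ a * D.x * y * E.e * (E.c ^ a * D.x * y)⁻¹
            = E.c ^ a * (D.x * y * E.e * (D.x * y)⁻¹) * (E.c ^ a)⁻¹ := by group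
          _ = (E.c ^ a * E.e * (E.c ^ a)⁻¹) * (E.c ^ a * ε * (E.c ^ a)⁻¹) := by
              rw [h5]; group
          _ = (E.c ^ a * (E.e * E.c ^ (-a))) * ε := by
              have h7 : E.c ^ a * ε * (E.c ^ a)⁻¹ = ε := by
                rcases hε with rfl | rfl
                · group
                · exact hz _
              rw [h7, zpow_neg]; group
          _ = (E.c ^ a * E.c ^ a) * E.e * ε := by rw [e_mul_zpow, neg_neg]; group
          _ = E.e * (D.z * ε) := by rw [h3, ← D.z_comm E.e, mul_assoc]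
      refine false_of_conj_z E htr htw E.e_w E.e_sq (e_inverts E) ?_
      rcases hε with rfl | rfl
      · right
        rw [h6, mul_one]
      · left
        rw [h6, D.z_sq, mul_one]
    · have h6 : E.c ^ a * D.x * E.e * y * (E.c ^ (a + 1) * E.e) * (E.c ^ a * D.x * E.e * y)⁻¹ =
          E.c ^ (a + 1) * E.e * ε := by
        have hεc : ∀ g : P, g * ε = ε * g := by
          intro g
          rcases hε with rfl | rfl
          · simp
          · exact D.z_comm g
        have h7 : y * (E.c ^ (a + 1) * E.e) = E.c ^ (-a) * E.e * (y * ε) := by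
          calc y * (E.c ^ (a + 1) * E.e) = (y * E.c ^ (a + 1)) * E.e := by group
            _ = E.c ^ (-(a + 1)) * (y * E.e * y⁻¹) * y := by rw [hyca]; group
            _ = E.c ^ (-(a + 1)) * (E.c * E.e * ε) * y := by rw [hye]
            _ = E.c ^ (-(a + 1)) * E.c ^ (1 : ℤ) * E.e * (ε * y) := by rw [zpow_one]; group
            _ = E.c ^ (-a) * E.e * (y * ε) := by
                rw [← zpow_add, hεc y]
                congr 3
                ring
        calc E.c ^ a * D.x * E.e * y * (E.c ^ (a + 1) * E.e) * (E.c ^ a * D.x * E.e * y)⁻¹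
            = E.c ^ a * D.x * E.e * (y * (E.c ^ (a + 1) * E.e)) *
              (E.c ^ a * D.x * E.e * y)⁻¹ := by group
          _ = E.c ^ a * D.x * E.e * (E.c ^ (-a) * E.e * (ε * y)) *
              (E.c ^ a * D.x * E.e * y)⁻¹ := by rw [h7, hεc y]
          _ = E.c ^ a * D.x * (E.e * E.c ^ (-a) * E.e) * ε * (E.c ^ a * D.x * E.e)⁻¹ := by
              group
          _ = E.c ^ a * (D.x * E.c ^ a) * ε * (E.c ^ a * D.x * E.e)⁻¹ := by
              rw [E.e_zpow_e, neg_neg]; simp only [mul_assoc]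
          _ = D.x * ε * (E.c ^ a * D.x * E.e)⁻¹ := by
              rw [x_mul_zpow]; group
          _ = ε * D.x * (E.e * D.x * E.c ^ (-a)) := by
              rw [hεc]; simp only [mul_inv_rev, E.e_inv, D.x_inv, zpow_neg, mul_assoc]
          _ = ε * (D.x * E.e * D.x) * E.c ^ (-a) := by group
          _ = ε * (E.c * (E.e * E.c ^ (-a))) := by rw [E.xex]; group
          _ = ε * (E.c ^ (1 : ℤ) * E.c ^ a * E.e) := by
              rw [e_mul_zpow, neg_neg, zpow_one]; group
          _ = E.c ^ (a + 1) * E.e * ε := by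
              rw [← zpow_add, ← hεc, add_comm]
      refine false_of_conj_z E htr htw ((E.c_w.zpow_left (a + 1)).mul_left E.e_w)
        (ci_sq E (a + 1)) (ce_inverts E (a + 1)) ?_
      rw [h6]
      rcases hε with rfl | rfl
      · left
        rw [mul_one]
      · right
        rfl

/-- **Output (Q)** -/
theorem quaternion_case [Finite P] (hP : IsPGroup 2 P) (E : EData D)
    (h1 : ∀ g : P, g * E.e * g⁻¹ ≠ E.e * D.w) (h2 : ∀ g : P, g * E.e * g⁻¹ ≠ E.e * D.w * D.z)
    (hnc : ∃ u ∈ Y D, ¬ Commute u E.f) :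
    D.z ∈ zpowers E.c ∧ (∀ a b : P, a * b * a⁻¹ * b⁻¹ ∈ zpowers E.c) ∧
      ∃ s : P, ¬ Commute s D.w ∧ Commute s E.e := by
  obtain ⟨q, hq, hqf⟩ := exists_inverting hP E hnc
  have hN : NormF E := normF hP E h1 h2
  have hall : ∀ g : P, Form E g := form_all hP hN (conj_of_form hP E h1 h2 hq hqf)
  have hzc : D.z ∈ zpowers E.c := by
    rw [← E.c_k]
    exact mul_mem (pow_mem (mem_zpowers _) _) (pow_mem (mem_zpowers _) _)
  -- conjugation of `c`
  have hYc : ∀ y ∈ Y D, y * E.c * y⁻¹ ∈ zpowers E.c := by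
    intro y hy
    obtain ⟨κ, hκ⟩ := exists_zpow_conj hP E hy (hN y hy)
    rw [hκ]
    exact zpow_mem (mem_zpowers _) _
  have hcn : ∀ g : P, g * E.c * g⁻¹ ∈ zpowers E.c := by
    intro g
    obtain ⟨a, u, v, y, hu, hv, hy, rfl⟩ := hall g
    obtain ⟨n, hn⟩ := hYc y hy
    simp only at hn
    have h3 : ∀ m : ℤ, v * E.c ^ m * v⁻¹ = E.c ^ m ∨ v * E.c ^ m * v⁻¹ = E.c ^ (-m) := by
      intro m
      rcases hv with rfl | rfl
      · left; group
      · right; rw [E.e_inv, E.e_zpow_e]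
    have h4 : ∀ m : ℤ, u * E.c ^ m * u⁻¹ = E.c ^ m ∨ u * E.c ^ m * u⁻¹ = E.c ^ (-m) := by
      intro m
      rcases hu with rfl | rfl
      · left; group
      · right; rw [D.x_inv, E.x_zpow_x]
    have h5 : E.c ^ a * u * v * y * E.c * (E.c ^ a * u * v * y)⁻¹ =
        E.c ^ a * (u * (v * (y * E.c * y⁻¹) * v⁻¹) * u⁻¹) * (E.c ^ a)⁻¹ := by group
    rw [h5, ← hn]
    have h6 : ∃ m : ℤ, u * (v * E.c ^ n * v⁻¹) * u⁻¹ = E.c ^ m := by
      rcases h3 n with h | h
      · rw [h]
        rcases h4 n with h' | h'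
        · exact ⟨_, h'⟩
        · exact ⟨_, h'⟩
      · rw [h]
        rcases h4 (-n) with h' | h'
        · exact ⟨_, h'⟩
        · exact ⟨_, h'⟩
    obtain ⟨m, hm⟩ := h6
    rw [hm]
    exact mul_mem (mul_mem (zpow_mem (mem_zpowers _) _) (zpow_mem (mem_zpowers _) _))
      (inv_mem (zpow_mem (mem_zpowers _) _))
  have hnormal : (zpowers E.c).Normal := by
    constructor
    intro n hn g
    obtain ⟨m, rfl⟩ := hn
    simp only
    have h := conj_zpow (i := m) (a := g) (b := E.c)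
    rw [← h]
    exact zpow_mem (hcn g) m
  refine ⟨hzc, ?_, ?_⟩
  · -- the quotient is abelian
    let π : P →* P ⧸ zpowers E.c := QuotientGroup.mk' (zpowers E.c)
    have hπ1 : ∀ g : P, g ∈ zpowers E.c → π g = 1 := by
      intro g hg
      exact (QuotientGroup.eq_one_iff g).2 hg
    have hπc : π E.c = 1 := hπ1 _ (mem_zpowers _)
    have hπz : π D.z = 1 := hπ1 _ hzc
    have hxe : Commute (π D.x) (π E.e) := by
      have h3 := congrArg π E.xex
      simp only [map_mul, hπc, one_mul] at h3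
      have h4 : π D.x * π D.x = 1 := by rw [← map_mul, D.x_sq, map_one]
      show π D.x * π E.e = π E.e * π D.x
      calc π D.x * π E.e = π D.x * π E.e * (π D.x * π D.x) := by rw [h4, mul_one]
        _ = (π D.x * π E.e * π D.x) * π D.x := by simp only [mul_assoc]
        _ = π E.e * π D.x := by rw [h3]
    have hxy : ∀ y ∈ Y D, Commute (π D.x) (π y) := by
      intro y hy
      exact ((mem_Y.1 hy).2.symm).map π
    have hfe : Commute (π E.f) (π E.e) := by
      have h3 := congrArg π E.efe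
      rw [E.f_inv] at h3
      simp only [map_mul, hπz, one_mul] at h3
      have h4 : π E.e * π E.e = 1 := by rw [← map_mul, E.e_sq, map_one]
      show π E.f * π E.e = π E.e * π E.f
      calc π E.f * π E.e = (π E.e * π E.e) * π E.f * π E.e := by rw [h4, one_mul]
        _ = π E.e * (π E.e * π E.f * π E.e) := by simp only [mul_assoc]
        _ = π E.e * π E.f := by rw [h3]
    have hfY : ∀ y ∈ Y D, Commute (π y) (π E.f) := by
      intro y hy
      have h3 : π y * π E.f * (π y)⁻¹ = π E.f := by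
        rcases hN y hy with h | h
        · have := congrArg π h
          simpa only [map_mul, map_inv] using this
        · have := congrArg π h
          rw [E.f_inv] at this
          simpa only [map_mul, map_inv, hπz, one_mul] using this
      exact mul_inv_eq_iff_eq_mul.1 h3
    have hZ : ∀ y ∈ Y D, Commute y E.f → π y ∈ zpowers (π E.f) := by
      intro y hy hyf
      obtain ⟨j, hj⟩ := mem_zpowers_f hP E h1 h2 hq hqf hy hyf
      simp only at hj
      rw [← hj, map_zpow]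
      exact zpow_mem (mem_zpowers _) _
    have hey : ∀ y ∈ Y D, Commute (π y) (π E.e) := by
      intro y hy
      rcases hN y hy with h | h
      · obtain ⟨j, hj⟩ := hZ y hy (mul_inv_eq_iff_eq_mul.1 h)
        simp only at hj
        rw [← hj]
        exact hfe.zpow_left j
      · obtain ⟨-, ε, hε, he⟩ := key hP E h1 h2 hy h
        have h3 := congrArg π he
        have hπε : π ε = 1 := by
          rcases hε with rfl | rfl
          · exact map_one _
          · exact hπz
        simp only [map_mul, map_inv, hπc, hπε, one_mul, mul_one] at h3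
        exact mul_inv_eq_iff_eq_mul.1 h3
    have hYY : ∀ y ∈ Y D, ∀ y' ∈ Y D, Commute (π y) (π y') := by
      intro y hy y' hy'
      rcases hN y hy with h | h
      · obtain ⟨j, hj⟩ := hZ y hy (mul_inv_eq_iff_eq_mul.1 h)
        simp only at hj
        rw [← hj]
        exact (hfY y' hy').symm.zpow_left j
      · rcases hN y' hy' with h' | h'
        · obtain ⟨j, hj⟩ := hZ y' hy' (mul_inv_eq_iff_eq_mul.1 h')
          simp only at hj
          rw [← hj]
          exact (hfY y hy).zpow_right j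
        · have h3 : Commute (y⁻¹ * y') E.f := by
            have h4 : y⁻¹ * y' * E.f * (y⁻¹ * y')⁻¹ = E.f := by
              calc y⁻¹ * y' * E.f * (y⁻¹ * y')⁻¹ = y⁻¹ * (y' * E.f * y'⁻¹) * y := by group
                _ = y⁻¹ * (y * E.f * y⁻¹) * y := by rw [h', h]
                _ = E.f := by group
            exact mul_inv_eq_iff_eq_mul.1 h4
          obtain ⟨j, hj⟩ := hZ (y⁻¹ * y') (mul_mem (inv_mem hy) hy') h3
          simp only at hj
          have h5 : π y' = π y * π E.f ^ j := by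
            rw [hj, ← map_mul, mul_inv_cancel_left]
          rw [h5]
          exact (Commute.refl _).mul_right ((hfY y hy).zpow_right j)
    have hmain : ∀ a b : P, Commute (π a) (π b) := by
      intro a b
      obtain ⟨m, u, v, y, hu, hv, hy, rfl⟩ := hall a
      obtain ⟨n, u', v', y', hu', hv', hy', rfl⟩ := hall b
      have e1 : π (E.c ^ m * u * v * y) = π u * π v * π y := by
        simp only [map_mul, map_zpow, hπc, one_zpow, one_mul]
      have e2 : π (E.c ^ n * u' * v' * y') = π u' * π v' * π y' := by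
        simp only [map_mul, map_zpow, hπc, one_zpow, one_mul]
      rw [e1, e2]
      have huu' : Commute (π u) (π u') := by
        rcases hu with rfl | rfl <;> rcases hu' with rfl | rfl <;> simp
      have hvv' : Commute (π v) (π v') := by
        rcases hv with rfl | rfl <;> rcases hv' with rfl | rfl <;> simp
      have huv' : Commute (π u) (π v') := by
        rcases hu with rfl | rfl
        · simp
        · rcases hv' with rfl | rfl
          · simp
          · exact hxe
      have hvu' : Commute (π v) (π u') := by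
        rcases hu' with rfl | rfl
        · simp
        · rcases hv with rfl | rfl
          · simp
          · exact hxe.symm
      have huy' : Commute (π u) (π y') := by
        rcases hu with rfl | rfl
        · simp
        · exact hxy y' hy'
      have hyu' : Commute (π y) (π u') := by
        rcases hu' with rfl | rfl
        · simp
        · exact (hxy y hy).symm
      have hvy' : Commute (π v) (π y') := by
        rcases hv with rfl | rfl
        · simp
        · exact (hey y' hy').symm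
      have hyv' : Commute (π y) (π v') := by
        rcases hv' with rfl | rfl
        · simp
        · exact hey y hy
      have hyy' := hYY y hy y' hy'
      exact ((huu'.mul_right huv').mul_right huy' |>.mul_left
        ((hvu'.mul_right hvv').mul_right hvy')).mul_left ((hyu'.mul_right hyv').mul_right hyy')
    intro a b
    rw [← QuotientGroup.eq_one_iff (N := zpowers E.c)]
    have h3 := (hmain a b).eq
    show π (a * b * a⁻¹ * b⁻¹) = 1
    simp only [map_mul, map_inv]
    rw [h3]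
    group
  · obtain ⟨-, ε, hε, he⟩ := key hP E h1 h2 hq hqf
    have h3 := conj_xq E hε he
    have hqw := (mem_Y.1 hq).1
    have hxq : ¬ Commute (D.x * q) D.w := D.not_commute_mul' D.not_commute_x hqw
    rcases hε with rfl | rfl
    · refine ⟨D.x * q, hxq, ?_⟩
      rw [mul_one] at h3
      exact mul_inv_eq_iff_eq_mul.1 h3
    · refine ⟨D.x * q * E.c ^ E.k, D.not_commute_mul' hxq (E.c_w.pow_left _), ?_⟩
      have h4 : E.c ^ E.k * E.e * (E.c ^ E.k)⁻¹ = D.z * E.e := by
        have h5 := e_mul_zpow (E := E) (-(E.k : ℤ))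
        rw [neg_neg, zpow_neg, zpow_natCast] at h5
        calc E.c ^ E.k * E.e * (E.c ^ E.k)⁻¹ = E.c ^ E.k * (E.e * (E.c ^ E.k)⁻¹) := by group
          _ = (E.c ^ E.k * E.c ^ E.k) * E.e := by rw [h5, mul_assoc]
          _ = D.z * E.e := by rw [E.c_k]
      have h6 : D.x * q * E.c ^ E.k * E.e * (D.x * q * E.c ^ E.k)⁻¹ = E.e := by
        calc D.x * q * E.c ^ E.k * E.e * (D.x * q * E.c ^ E.k)⁻¹
            = D.x * q * (E.c ^ E.k * E.e * (E.c ^ E.k)⁻¹) * (D.x * q)⁻¹ := by group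
          _ = D.x * q * D.z * E.e * (D.x * q)⁻¹ := by rw [h4]; group
          _ = D.z * (D.x * q * E.e * (D.x * q)⁻¹) := by rw [D.z_comm (D.x * q)]; group
          _ = D.z * (E.e * D.z) := by rw [h3]
          _ = E.e := by rw [← D.z_comm, mul_assoc, D.z_sq, mul_one]
      exact mul_inv_eq_iff_eq_mul.1 h6

end Cfsg.Agent.Classification.NonConnQuat
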