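import Mathlib
import Cfsg.Agent.SmallSimple.TransferInvol

/-!
Transfer of an involution through a homomorphism of a Sylow 2-subgroup to a commutative group
with only one involution (piece N3 of S0503).
-/

set_option autoImplicit false

namespace Cfsg.Agent.Classification.NonConnTransfer

/-- A finite cyclic group has at most one element of order 2. -/
theorem eq_of_isCyclic {C : Type*} [CommGroup C] [Finite C] [IsCyclic C] (a b : C)
    (ha : a ^ 2 = 1) (ha1 : a ≠ 1) (hb : b ^ 2 = 1) (hb1 : b ≠ 1) : a = b := by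
  classical
  have := Fintype.ofFinite C
  have hcard : (Finset.univ.filter (fun c : C => c ^ 2 = 1)).card ≤ 2 :=
    IsCyclic.card_pow_eq_one_le (by norm_num)
  by_contra hab
  have hsub : ({1, a, b} : Finset C) ⊆ Finset.univ.filter (fun c : C => c ^ 2 = 1) := by
    intro c hc
    simp only [Finset.mem_insert, Finset.mem_singleton] at hc
    simp only [Finset.mem_filter, Finset.mem_univ, true_and]
    rcases hc with rfl | rfl | rfl
    · exact one_pow 2
    · exact ha
    · exact hb
  have h3 : ({1, a, b} : Finset C).card = 3 := by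
    rw [Finset.card_eq_three]
    exact ⟨1, a, b, Ne.symm ha1, Ne.symm hb1, hab, rfl⟩
  have := Finset.card_le_card hsub
  omega

/-- General form: `H` of odd index, `C` commutative with at most one involution, `u` an involution
of `G` none of whose conjugates in `H` is in the kernel of `φ : H →* C`. Then the transfer of `φ`
does not vanish on `u`. -/
theorem exists_transfer_ne_one {G : Type*} [Group G] (H : Subgroup G) [H.FiniteIndex]
    (hodd : Odd H.index) {C : Type*} [CommGroup C]
    (hC : ∀ a b : C, a ^ 2 = 1 → a ≠ 1 → b ^ 2 = 1 → b ≠ 1 → a = b)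
    (φ : H →* C) (u : G) (hu : u * u = 1)
    (hφ : ∀ g : G, ∀ hg : g⁻¹ * u * g ∈ H, φ ⟨g⁻¹ * u * g, hg⟩ ≠ 1) :
    MonoidHom.transfer φ u ≠ 1 := by
  have hu2 : u ^ 2 = 1 := by rw [sq, hu]
  have hne : ∀ x : H, IsConj u (x : G) → φ x ≠ 1 := by
    intro x hx
    obtain ⟨c, hc⟩ := isConj_iff.1 hx
    have h1 : (c⁻¹)⁻¹ * u * c⁻¹ = (x : G) := by rw [inv_inv]; exact hc
    have h2 := hφ c⁻¹ (h1 ▸ x.2)
    have h3 : (⟨(c⁻¹)⁻¹ * u * c⁻¹, h1 ▸ x.2⟩ : H) = x := Subtype.ext h1
    rwa [h3] at h2
  have hsq : ∀ x : H, IsConj u (x : G) → φ x ^ 2 = 1 := by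
    intro x hx
    rw [← map_pow]
    have : x ^ 2 = 1 := by
      obtain ⟨g, hg⟩ := isConj_iff.1 hx
      apply Subtype.ext
      rw [Subgroup.coe_pow, ← hg, conj_pow, hu2]
      simp
    rw [this, map_one]
  by_cases hex : ∃ x : H, IsConj u (x : G)
  · obtain ⟨x₀, hx₀⟩ := hex
    rw [SmallSimple.TransferInvol.transfer_eq_of_odd_index H φ u hu2 hodd (φ x₀) (hsq x₀ hx₀)
      (fun x hx => hC _ _ (hsq x hx) (hne x hx) (hsq x₀ hx₀) (hne x₀ hx₀))]
    exact hne x₀ hx₀
  · push Not at hex
    have h3 := SmallSimple.TransferInvol.transfer_eq_of_odd_index H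
      (1 : H →* Multiplicative (ZMod 2)) u hu2 hodd
      (Multiplicative.ofAdd (1 : ZMod 2)) (by decide) (fun x hx => absurd hx (hex x))
    have h4 := SmallSimple.TransferInvol.transfer_eq_of_odd_index H
      (1 : H →* Multiplicative (ZMod 2)) u hu2 hodd
      1 (by decide) (fun x hx => absurd hx (hex x))
    exact absurd (h3.symm.trans h4) (by decide)

/-- A nontrivial homomorphism of a finite group to a cyclic 2-group gives a normal subgroup of
index 2. -/
theorem exists_normal_index_two_of_hom {G : Type*} [Group G] {C : Type*} [CommGroup C]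
    [Finite C] [IsCyclic C] (hC2 : IsPGroup 2 C) (ψ : G →* C) (u : G) (hu : ψ u ≠ 1) :
    ∃ N : Subgroup G, N.Normal ∧ N.index = 2 := by
  classical
  set R : Subgroup C := ψ.range with hR
  have hRne : Nat.card R ≠ 1 := by
    intro h
    have hbot : R = ⊥ := Subgroup.card_eq_one.1 h
    have : ψ u ∈ R := ⟨u, rfl⟩
    rw [hbot, Subgroup.mem_bot] at this
    exact hu this
  obtain ⟨n, hn⟩ := (IsPGroup.iff_card (p := 2)).1 (hC2.to_subgroup R)
  have hn0 : n ≠ 0 := by
    rintro rfl
    exact hRne (by rw [hn, pow_zero])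
  have hRcyc : IsCyclic R := inferInstance
  -- the squaring map of `R` has a kernel of order two
  obtain ⟨r, hr⟩ := hRcyc.exists_generator
  obtain ⟨g₀, hg₀⟩ : ∃ g₀ : G, ψ g₀ = (r : C) := r.2
  -- `K` is the subgroup of squares of `R`
  set K : Subgroup R := (powMonoidHom 2 : R →* R).range with hK
  have hKidx : K.index = 2 := by
    have h1 : K.index = Nat.card (powMonoidHom 2 : R →* R).ker := by
      have e1 : Nat.card K * Nat.card (powMonoidHom 2 : R →* R).ker = Nat.card R := by
        have := Subgroup.card_mul_index (powMonoidHom 2 : R →* R).ker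
        rw [Subgroup.index_ker] at this
        rw [mul_comm]
        exact this
      have e2 : Nat.card K * K.index = Nat.card R := Subgroup.card_mul_index K
      have hpos : 0 < Nat.card K := Nat.card_pos
      exact Nat.eq_of_mul_eq_mul_left hpos (e2.trans e1.symm)
    rw [h1]
    have hcardker : Nat.card (powMonoidHom 2 : R →* R).ker = Nat.gcd (Nat.card R) 2 := by
      exact IsCyclic.card_powMonoidHom_ker R 2
    rw [hcardker, hn, Nat.gcd_comm]
    obtain ⟨m, rfl⟩ := Nat.exists_eq_succ_of_ne_zero hn0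
    rw [pow_succ', Nat.gcd_mul_right_right]
  refine ⟨K.comap ψ.rangeRestrict, ?_, ?_⟩
  · exact inferInstance
  · rw [Subgroup.index_comap_of_surjective _ ψ.rangeRestrict_surjective, hKidx]

/-- **N3**: if `S` is a Sylow 2-subgroup of `G`, `φ : S →* C`, `C` a cyclic 2-group, and
no conjugate of the involution `u` in `S` is in the kernel of `φ`, then `G` has a normal
subgroup of index 2. -/
theorem exists_normal_index_two {G : Type*} [Group G] [Finite G] (S : Sylow 2 G)
    {C : Type*} [CommGroup C] [Finite C] [IsCyclic C] (hC2 : IsPGroup 2 C)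
    (φ : (S : Subgroup G) →* C) (u : G) (hu : u * u = 1)
    (hφ : ∀ g : G, ∀ hg : g⁻¹ * u * g ∈ (S : Subgroup G), φ ⟨g⁻¹ * u * g, hg⟩ ≠ 1) :
    ∃ N : Subgroup G, N.Normal ∧ N.index = 2 := by
  have hodd : Odd (S : Subgroup G).index := by
    rw [← Nat.not_even_iff_odd, even_iff_two_dvd]
    exact S.not_dvd_index
  exact exists_normal_index_two_of_hom hC2 (MonoidHom.transfer φ) u
    (exists_transfer_ne_one (S : Subgroup G) hodd (fun a b => eq_of_isCyclic a b) φ u hu hφ)

/-- Simple groups: contradiction. -/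
theorem false_of_simple {G : Type*} [Group G] [Finite G] [IsSimpleGroup G]
    (hG : ¬ ∀ a b : G, a * b = b * a) (S : Sylow 2 G)
    {C : Type*} [CommGroup C] [Finite C] [IsCyclic C]
    (φ : (S : Subgroup G) →* C) (u : G) (hu : u * u = 1)
    (hφ : ∀ g : G, ∀ hg : g⁻¹ * u * g ∈ (S : Subgroup G), φ ⟨g⁻¹ * u * g, hg⟩ ≠ 1) : False := by
  have hodd : Odd (S : Subgroup G).index := by
    rw [← Nat.not_even_iff_odd, even_iff_two_dvd]
    exact S.not_dvd_index
  exact exists_transfer_ne_one (S : Subgroup G) hodd (fun a b => eq_of_isCyclic a b) φ u hu hφ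
    (SmallSimple.Parity.commHom_eq_one hG _ u)

end Cfsg.Agent.Classification.NonConnTransfer
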