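import Mathlib
import Cfsg.Agent.S0215
import Cfsg.Agent.J2Sylow.Basics
import Cfsg.Agent.Classification.NonConnTransfer
import Cfsg.Agent.Classification.NonConnCycMain

/-!
# Disconnected 2-groups in simple groups: `z` is conjugate to `w`, given the quaternion case
-/

set_option autoImplicit false

namespace Cfsg.Agent.Classification.NonConnSimple

open Subgroup Cfsg.Agent.Classification.NonConnBase Cfsg.Agent.Classification.NonConnStep

section two_group

variable {P : Type*} [Group P] {D : Data P}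

/-- Step (1): `a z` is conjugate to `a` for every involution `a ≠ z`. -/
theorem exists_conj_mul_z [Finite P] (hP : IsPGroup 2 P) (D : Data P) {a : P}
    (haa : a * a = 1) (h1 : a ≠ 1) (hz : a ≠ D.z) : ∃ s : P, s * a * s⁻¹ = a * D.z := by
  by_cases haw : Commute a D.w
  · by_cases hw : a = D.w
    · exact ⟨D.x, by rw [hw]; exact D.x_w⟩
    by_cases hwz : a = D.w * D.z
    · refine ⟨D.x, ?_⟩
      have h2 := D.x_w
      have h3 : D.x * D.z * D.x⁻¹ = D.z := by rw [D.z_comm, mul_inv_cancel_right]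
      rw [hwz]
      calc D.x * (D.w * D.z) * D.x⁻¹ = (D.x * D.w * D.x⁻¹) * (D.x * D.z * D.x⁻¹) := by group
        _ = D.w * D.z * D.z := by rw [h2, h3]
    · obtain ⟨E, hE⟩ := exists_eData D hP haa haw h1 hz hw hwz
      refine ⟨E.c ^ E.k, ?_⟩
      rw [← hE]
      have h2 := NonConnCyc.e_mul_zpow E (-(E.k : ℤ))
      rw [neg_neg, zpow_neg, zpow_natCast] at h2
      calc E.c ^ E.k * E.e * (E.c ^ E.k)⁻¹ = E.c ^ E.k * (E.e * (E.c ^ E.k)⁻¹) := by group
        _ = E.c ^ E.k * E.c ^ E.k * E.e := by rw [h2]; group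
        _ = E.e * D.z := by rw [E.c_k, D.z_comm]
  · refine ⟨D.w, ?_⟩
    have h2 := D.mul_w_of_not haw
    rw [D.w_inv]
    calc D.w * a * D.w = D.w * (a * D.w) := by group
      _ = (D.w * D.w) * D.z * a := by rw [h2]; group
      _ = a * D.z := by rw [D.w_sq, one_mul, D.z_comm]

theorem sq_commute (D : Data P) (s : P) : Commute (s * s) D.w := by
  by_cases h : Commute s D.w
  · exact h.mul_left h
  · exact D.commute_mul_of_not h h

/-- for an involution `t` outside `T`, there is an element commuting with `t` with square `z` -/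
theorem exists_sq_commute [Finite P] (hP : IsPGroup 2 P) (D : Data P) {t : P}
    (htt : t * t = 1) (htw : ¬ Commute t D.w) : ∃ f : P, f * f = D.z ∧ Commute f t := by
  have hti : t⁻¹ = t := inv_eq_of_mul_eq_one_right htt
  set u : P := D.x * t with hu
  have huw : Commute u D.w := D.commute_mul_of_not D.not_commute_x htw
  have hxu : D.x * u * D.x = u⁻¹ := by
    rw [hu, mul_inv_rev, hti, D.x_inv]
    calc D.x * (D.x * t) * D.x = (D.x * D.x) * (t * D.x) := by group
      _ = t * D.x := by rw [D.x_sq, one_mul]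
  have htu : t * u * t = u⁻¹ := by
    rw [hu, mul_inv_rev, hti, D.x_inv]
    calc t * (D.x * t) * t = t * D.x * (t * t) := by group
      _ = t * D.x := by rw [htt, mul_one]
  have hxun : ∀ n : ℕ, D.x * u ^ n * D.x = (u ^ n)⁻¹ := by
    intro n
    have h := conj_pow (i := n) (a := D.x) (b := u)
    rw [D.x_inv, hxu] at h
    rw [← h, inv_pow]
  have htun : ∀ n : ℕ, t * u ^ n * t = (u ^ n)⁻¹ := by
    intro n
    have h := conj_pow (i := n) (a := t) (b := u)
    rw [hti, htu] at h
    rw [← h, inv_pow]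
  have hpow : ∀ n : ℕ, u ^ n * u ^ n = 1 → u ^ n = 1 ∨ u ^ n = D.z := by
    intro n hn
    refine D.hY _ (huw.pow_left n) ?_ hn
    have h2 : D.x * u ^ n * D.x = u ^ n := by
      rw [hxun]; exact inv_eq_of_mul_eq_one_right hn
    calc u ^ n * D.x = D.x * u ^ n * D.x * D.x := by rw [h2]
      _ = D.x * u ^ n * (D.x * D.x) := by group
      _ = D.x * u ^ n := by rw [D.x_sq, mul_one]
  by_cases huu : u * u = 1
  · obtain ⟨f, hfw, hfx, hff⟩ := D.hf
    refine ⟨f, hff, ?_⟩
    have h3 : u = 1 ∨ u = D.z := by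
      have := hpow 1 (by rwa [pow_one])
      rwa [pow_one] at this
    have h4 : t = D.x * u := by
      rw [hu, ← mul_assoc, D.x_sq, one_mul]
    rw [h4]
    refine Commute.mul_right hfx ?_
    rcases h3 with h3 | h3
    · rw [h3]; exact Commute.one_right _
    · rw [h3]; exact D.commute_z _
  · obtain ⟨k, hk⟩ := exists_pow_sq hP hpow huu
    have hki : (u ^ k)⁻¹ = D.z * u ^ k := inv_eq_z_mul D hk
    refine ⟨D.w * u ^ k, ?_, ?_⟩
    · have h := (huw.pow_left k).eq
      calc D.w * u ^ k * (D.w * u ^ k) = D.w * (u ^ k * D.w) * u ^ k := by group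
        _ = D.w * (D.w * u ^ k) * u ^ k := by rw [h]
        _ = (D.w * D.w) * (u ^ k * u ^ k) := by group
        _ = D.z := by rw [D.w_sq, one_mul, hk]
    · have h1 := D.mul_w_of_not htw
      have h2 := htun k
      have h3 : t * (D.w * u ^ k) * t = D.w * u ^ k := by
        calc t * (D.w * u ^ k) * t = (t * D.w) * u ^ k * t := by group
          _ = D.w * D.z * (t * u ^ k * t) := by rw [h1]; group
          _ = D.w * (D.z * D.z) * u ^ k := by rw [h2, hki]; group
          _ = D.w * u ^ k := by rw [D.z_sq, mul_one]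
      show D.w * u ^ k * t = t * (D.w * u ^ k)
      calc D.w * u ^ k * t = t * (D.w * u ^ k) * t * t := by rw [h3]
        _ = t * (D.w * u ^ k) * (t * t) := by group
        _ = t * (D.w * u ^ k) := by rw [htt, mul_one]

end two_group

section simple

variable {G : Type*} [Group G] [Finite G] (S : Sylow 2 G) (D : Data ↥(S : Subgroup G))

theorem odd_index : Odd (S : Subgroup G).index := by
  rw [← Nat.not_even_iff_odd, even_iff_two_dvd]
  exact S.not_dvd_index

theorem odd_relIndex :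
    Odd (((S : Subgroup G) ⊓ centralizer {((D.z : ↥(S : Subgroup G)) : G)}).relIndex
      (centralizer {((D.z : ↥(S : Subgroup G)) : G)})) := by
  have hle : (S : Subgroup G) ≤ centralizer {((D.z : ↥(S : Subgroup G)) : G)} := by
    intro s hs
    rw [mem_centralizer_singleton_iff]
    exact congrArg Subtype.val (D.z_comm ⟨s, hs⟩)
  rw [inf_eq_left.2 hle]
  have h1 := relIndex_mul_index hle
  have h2 := odd_index S
  rw [← h1] at h2
  exact (Nat.odd_mul.1 h2).1

/-- extremal conjugation of a conjugate of `z` to `z` -/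
theorem exists_conj_z {e : ↥(S : Subgroup G)} (he : IsConj (e : G) (D.z : G)) :
    ∃ g : G, g * (e : G) * g⁻¹ = D.z ∧
      ∀ s : ↥(S : Subgroup G), Commute s e → g * (s : G) * g⁻¹ ∈ (S : Subgroup G) := by
  obtain ⟨g₀, hg₀⟩ := isConj_iff.1 he
  obtain ⟨g, hg, hgs⟩ := J2Sylow.exists_conj_extremal (S : Subgroup G) S.isPGroup' hg₀
    (odd_relIndex S D)
  exact ⟨g, hg, fun s hs => hgs s s.2 (congrArg Subtype.val hs.eq)⟩

/-- `z` is not isolated -/
theorem exists_conj_ne [IsSimpleGroup G] (hG : ¬ ∀ a b : G, a * b = b * a) :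
    ∃ t : ↥(S : Subgroup G), IsConj (t : G) (D.z : G) ∧ t ≠ D.z := by
  by_contra hcon
  push Not at hcon
  have hz2 : orderOf ((D.z : ↥(S : Subgroup G)) : G) = 2 := by
    apply orderOf_eq_prime
    · rw [sq]; exact congrArg Subtype.val D.z_sq
    · intro h
      exact D.z_ne (Subtype.ext h)
  obtain ⟨N, hN, hodd, hc⟩ := S0215.result S ((D.z : ↥(S : Subgroup G)) : G) hz2 D.z.2
    (fun g hg => congrArg Subtype.val (hcon ⟨_, hg⟩ (isConj_iff.2 ⟨g⁻¹, by
      show g⁻¹ * (g * (D.z : G) * g⁻¹) * g⁻¹⁻¹ = (D.z : G)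
      group⟩)))
  have hNbot : N = ⊥ := by
    rcases hN.eq_bot_or_eq_top with h1 | h1
    · exact h1
    · exfalso
      rw [h1, Subgroup.card_top] at hodd
      have h2 : 2 ∣ Nat.card G := hz2 ▸ orderOf_dvd_natCard _
      rw [Nat.odd_iff] at hodd
      omega
  have hz : ((D.z : ↥(S : Subgroup G)) : G) ∈ Subgroup.center G := by
    rw [Subgroup.mem_center_iff]
    intro g
    have h1 := hc g
    rw [hNbot, Subgroup.mem_bot] at h1
    have h3 : (D.z : G) * g = ((D.z : G) * g * (D.z : G)⁻¹ * g⁻¹) * (g * (D.z : G)) := by group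
    rw [h3, h1, one_mul]
  rcases (inferInstance : (Subgroup.center G).Normal).eq_bot_or_eq_top with h1 | h1
  · rw [h1, Subgroup.mem_bot] at hz
    exact D.z_ne (Subtype.ext hz)
  · apply hG
    intro a b
    have h2 : b ∈ Subgroup.center G := h1 ▸ Subgroup.mem_top b
    exact Subgroup.mem_center_iff.1 h2 a

omit [Finite G] in
theorem isConj_of_conj {a b s : ↥(S : Subgroup G)} (h : s * a * s⁻¹ = b) :
    IsConj (a : G) (b : G) :=
  isConj_iff.2 ⟨s, congrArg Subtype.val h⟩

/-- Step (3): some conjugate of `z` in `T` is different from `z`. -/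
theorem exists_conj_mem [IsSimpleGroup G] (hG : ¬ ∀ a b : G, a * b = b * a) :
    ∃ e : ↥(S : Subgroup G), IsConj (e : G) (D.z : G) ∧ e ≠ D.z ∧ Commute e D.w := by
  obtain ⟨t, ht, htz⟩ := exists_conj_ne S D hG
  by_cases htw : Commute t D.w
  · exact ⟨t, ht, htz, htw⟩
  · obtain ⟨g₀, hg₀⟩ := isConj_iff.1 ht
    have htt : t * t = 1 := by
      apply Subtype.ext
      show (t : G) * t = 1
      have h1 : (t : G) = g₀⁻¹ * (D.z : G) * g₀ := by rw [← hg₀]; group
      have h2 : (D.z : G) * (D.z : G) = 1 := congrArg Subtype.val D.z_sq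
      rw [h1]
      calc g₀⁻¹ * (D.z : G) * g₀ * (g₀⁻¹ * (D.z : G) * g₀)
          = g₀⁻¹ * ((D.z : G) * (D.z : G)) * g₀ := by group
        _ = 1 := by rw [h2]; group
    obtain ⟨f, hff, hft⟩ := exists_sq_commute S.isPGroup' D htt htw
    obtain ⟨g, hg, hgs⟩ := exists_conj_z S D ht
    have hf := hgs f hft
    have hsq : g * (D.z : G) * g⁻¹ = (g * (f : G) * g⁻¹) * (g * (f : G) * g⁻¹) := by
      have h1 : (f : G) * f = D.z := congrArg Subtype.val hff
      rw [← h1]; group
    let f' : ↥(S : Subgroup G) := ⟨_, hf⟩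
    refine ⟨f' * f', ?_, ?_, sq_commute D f'⟩
    · refine isConj_iff.2 ⟨g⁻¹, ?_⟩
      show g⁻¹ * ((g * (f : G) * g⁻¹) * (g * (f : G) * g⁻¹)) * g⁻¹⁻¹ = D.z
      rw [← hsq]
      group
    · intro h
      apply htz
      apply Subtype.ext
      have h1 : (g * (f : G) * g⁻¹) * (g * (f : G) * g⁻¹) = (D.z : G) := congrArg Subtype.val h
      rw [← hsq] at h1
      have h2 : g * (D.z : G) * g⁻¹ = g * (t : G) * g⁻¹ := h1.trans hg.symm
      have h3 := mul_left_cancel (mul_right_cancel h2)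
      exact h3.symm

/-- Step (2) -/
theorem isConj_mul_w {e : ↥(S : Subgroup G)} (he : IsConj (e : G) (D.z : G))
    (hew : Commute e D.w) (hne : e ≠ D.w) :
    IsConj ((e : G) * (D.w : G)) (D.w : G) := by
  obtain ⟨g, hg, hgs⟩ := exists_conj_z S D he
  have ha := hgs D.w hew.symm
  let a : ↥(S : Subgroup G) := ⟨_, ha⟩
  have haG : (a : G) = g * (D.w : G) * g⁻¹ := rfl
  have hww : (D.w : G) * (D.w : G) = 1 := congrArg Subtype.val D.w_sq
  have haa : a * a = 1 := by
    apply Subtype.ext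
    show g * (D.w : G) * g⁻¹ * (g * (D.w : G) * g⁻¹) = 1
    calc g * (D.w : G) * g⁻¹ * (g * (D.w : G) * g⁻¹) = g * ((D.w : G) * (D.w : G)) * g⁻¹ := by
          group
      _ = 1 := by rw [hww]; group
  have ha1 : a ≠ 1 := by
    intro h
    apply D.w_ne
    apply Subtype.ext
    have h1 : g * (D.w : G) * g⁻¹ = 1 := congrArg Subtype.val h
    show (D.w : G) = 1
    calc (D.w : G) = g⁻¹ * (g * (D.w : G) * g⁻¹) * g := by group
      _ = 1 := by rw [h1]; group
  have haz : a ≠ D.z := by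
    intro h
    apply hne
    apply Subtype.ext
    have h1 : g * (D.w : G) * g⁻¹ = (D.z : G) := congrArg Subtype.val h
    have h2 : g * (e : G) * g⁻¹ = g * (D.w : G) * g⁻¹ := hg.trans h1.symm
    exact mul_left_cancel (mul_right_cancel h2)
  obtain ⟨s, hs⟩ := exists_conj_mul_z S.isPGroup' D haa ha1 haz
  have h1 : IsConj ((e : G) * (D.w : G)) ((a * D.z : ↥(S : Subgroup G)) : G) := by
    refine isConj_iff.2 ⟨g, ?_⟩
    have h2 : ((a * D.z : ↥(S : Subgroup G)) : G) = (D.z : G) * (a : G) :=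
      congrArg Subtype.val (D.z_comm a)
    rw [h2, ← hg, haG]
    group
  have h2 : IsConj (a : G) ((a * D.z : ↥(S : Subgroup G)) : G) := isConj_of_conj S hs
  have h3 : IsConj (a : G) (D.w : G) := isConj_iff.2 ⟨g⁻¹, by rw [haG]; group⟩
  exact (h1.trans h2.symm).trans h3

/-- **N6, case (nf) excluded**: in a simple group, `z` is conjugate to `w`. -/
theorem isConj_z_w [IsSimpleGroup G] (hG : ¬ ∀ a b : G, a * b = b * a)
    (hQuat : ∀ E : EData D, ¬ IsCyclic ↥(Y D) → E.e ≠ 1 → E.e ≠ D.z → E.e ≠ D.w →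
      E.e ≠ D.w * D.z → (∀ g, g * E.e * g⁻¹ ≠ E.e * D.w) →
      (∀ g, g * E.e * g⁻¹ ≠ E.e * D.w * D.z) →
      ∃ c : ↥(S : Subgroup G), D.z ∈ zpowers c ∧ (∀ a b, a * b * a⁻¹ * b⁻¹ ∈ zpowers c) ∧
        ∃ s, ¬ Commute s D.w ∧ Commute s E.e) :
    IsConj (D.z : G) (D.w : G) := by
  by_contra hnf
  obtain ⟨e, hez, hne, hew⟩ := exists_conj_mem S D hG
  have hzz : (D.z : G) * (D.z : G) = 1 := congrArg Subtype.val D.z_sq
  obtain ⟨g₀, hg₀⟩ := isConj_iff.1 hez
  have he1 : e ≠ 1 := by
    intro h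
    apply D.z_ne
    apply Subtype.ext
    rw [← hg₀, h]
    simp
  have hee : e * e = 1 := by
    apply Subtype.ext
    show (e : G) * e = 1
    have h1 : (e : G) = g₀⁻¹ * (D.z : G) * g₀ := by rw [← hg₀]; group
    rw [h1]
    calc g₀⁻¹ * (D.z : G) * g₀ * (g₀⁻¹ * (D.z : G) * g₀)
        = g₀⁻¹ * ((D.z : G) * (D.z : G)) * g₀ := by group
      _ = 1 := by rw [hzz]; group
  have hwe : e ≠ D.w := by
    intro h
    exact hnf (h ▸ hez).symm
  have hwwz : IsConj (D.w : G) ((D.w * D.z : ↥(S : Subgroup G)) : G) :=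
    isConj_of_conj S D.x_w
  have hwze : e ≠ D.w * D.z := by
    intro h
    exact hnf (hwwz.trans (h ▸ hez)).symm
  have hew1 := isConj_mul_w S D hez hew hwe
  have hK1 : ∀ g : ↥(S : Subgroup G), g * e * g⁻¹ ≠ e * D.w := by
    intro g hg
    exact hnf ((hez.symm.trans (isConj_of_conj S hg)).trans hew1)
  have hK2 : ∀ g : ↥(S : Subgroup G), g * e * g⁻¹ ≠ e * D.w * D.z := by
    intro g hg
    have h1 : e * D.w * (e * D.w) = 1 := by
      calc e * D.w * (e * D.w) = e * (D.w * e) * D.w := by group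
        _ = e * (e * D.w) * D.w := by rw [hew.eq]
        _ = (e * e) * (D.w * D.w) := by group
        _ = 1 := by rw [hee, D.w_sq, mul_one]
    have h2 : e * D.w ≠ 1 := by
      intro h
      apply hwe
      calc e = e * D.w * D.w⁻¹ := by group
        _ = D.w := by rw [h, one_mul, D.w_inv]
    have h3 : e * D.w ≠ D.z := by
      intro h
      apply hwze
      calc e = e * D.w * D.w⁻¹ := by group
        _ = D.z * D.w := by rw [h, D.w_inv]
        _ = D.w * D.z := (D.z_comm _).symm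
    obtain ⟨s, hs⟩ := exists_conj_mul_z S.isPGroup' D h1 h2 h3
    exact hnf (((hez.symm.trans (isConj_of_conj S hg)).trans (isConj_of_conj S hs).symm).trans
      hew1)
  obtain ⟨E, hE⟩ := exists_eData D S.isPGroup' hee hew he1 hne hwe hwze
  by_cases hcyc : IsCyclic ↥(Y D)
  · obtain ⟨K, hKn, hKc, hwK, hK⟩ := NonConnCycMain.exists_normal_cyclic S.isPGroup' E hcyc
      (by rw [hE]; exact hK1) (by rw [hE]; exact hwe) (by rw [hE]; exact hwze)
    let _ : CommGroup (↥(S : Subgroup G) ⧸ K) := IsCyclic.commGroup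
    refine NonConnTransfer.false_of_simple hG S (QuotientGroup.mk' K) (D.w : G)
      (congrArg Subtype.val D.w_sq) ?_
    intro g hg h1
    have h2 : (⟨g⁻¹ * (D.w : G) * g, hg⟩ : ↥(S : Subgroup G)) ∈ K :=
      (QuotientGroup.eq_one_iff _).1 h1
    have hww : (D.w : G) * (D.w : G) = 1 := congrArg Subtype.val D.w_sq
    have h3 : IsConj (D.w : G) (g⁻¹ * (D.w : G) * g) := isConj_iff.2 ⟨g⁻¹, by rw [inv_inv]⟩
    rcases hK _ h2 (by
      apply Subtype.ext
      show g⁻¹ * (D.w : G) * g * (g⁻¹ * (D.w : G) * g) = 1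
      calc g⁻¹ * (D.w : G) * g * (g⁻¹ * (D.w : G) * g)
          = g⁻¹ * ((D.w : G) * (D.w : G)) * g := by group
        _ = 1 := by rw [hww]; group) with h4 | h4 | ⟨s, h4⟩
    · apply D.w_ne
      apply Subtype.ext
      have h5 : g⁻¹ * (D.w : G) * g = 1 := congrArg Subtype.val h4
      show (D.w : G) = 1
      calc (D.w : G) = g * (g⁻¹ * (D.w : G) * g) * g⁻¹ := by group
        _ = 1 := by rw [h5]; group
    · have h5 : g⁻¹ * (D.w : G) * g = D.z := congrArg Subtype.val h4
      rw [h5] at h3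
      exact hnf h3.symm
    · have h5 : IsConj (E.e : G) (g⁻¹ * (D.w : G) * g) := isConj_of_conj S h4
      rw [hE] at h5
      exact hnf ((hez.symm.trans h5).trans h3.symm)
  · obtain ⟨c, hzc, hcomm, s, hsw, hse⟩ := hQuat E hcyc (by rw [hE]; exact he1)
      (by rw [hE]; exact hne) (by rw [hE]; exact hwe) (by rw [hE]; exact hwze)
      (by rw [hE]; exact hK1) (by rw [hE]; exact hK2)
    rw [hE] at hse
    obtain ⟨g, hg, hgs⟩ := exists_conj_z S D hez
    have ha := hgs D.w hew.symm
    have hb := hgs s hse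
    let a : ↥(S : Subgroup G) := ⟨_, ha⟩
    let b : ↥(S : Subgroup G) := ⟨_, hb⟩
    have h1 : s * D.w * s⁻¹ * D.w⁻¹ = D.z := by
      rw [D.conj_w_of_not hsw, (D.commute_z D.w).eq, mul_inv_cancel_right]
    have h2 : ((b * a * b⁻¹ * a⁻¹ : ↥(S : Subgroup G)) : G) = g * (D.z : G) * g⁻¹ := by
      have h3 : (s : G) * (D.w : G) * (s : G)⁻¹ * (D.w : G)⁻¹ = D.z := congrArg Subtype.val h1
      rw [← h3]
      show g * (s : G) * g⁻¹ * (g * (D.w : G) * g⁻¹) * (g * (s : G) * g⁻¹)⁻¹
        * (g * (D.w : G) * g⁻¹)⁻¹ = _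
      group
    -- the unique involution of `⟨c⟩`
    have h3 : b * a * b⁻¹ * a⁻¹ = D.z := by
      set v : ↥(S : Subgroup G) := b * a * b⁻¹ * a⁻¹ with hv
      have hvc : v ∈ zpowers c := hcomm b a
      have hvv : v * v = 1 := by
        apply Subtype.ext
        show (v : G) * (v : G) = 1
        rw [h2]
        calc g * (D.z : G) * g⁻¹ * (g * (D.z : G) * g⁻¹)
            = g * ((D.z : G) * (D.z : G)) * g⁻¹ := by group
          _ = 1 := by rw [hzz]; group
      have hv1 : v ≠ 1 := by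
        intro h
        apply D.z_ne
        apply Subtype.ext
        show (D.z : G) = 1
        have h4 : (v : G) = 1 := congrArg Subtype.val h
        rw [h2] at h4
        calc (D.z : G) = g⁻¹ * (g * (D.z : G) * g⁻¹) * g := by group
          _ = 1 := by rw [h4]; group
      let _ : CommGroup ↥(zpowers c) := IsCyclic.commGroup
      have h5 := NonConnTransfer.eq_of_isCyclic (C := ↥(zpowers c)) ⟨v, hvc⟩ ⟨D.z, hzc⟩
        (Subtype.ext (by show v ^ 2 = 1; rw [sq, hvv]))
        (fun h => hv1 (congrArg Subtype.val h))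
        (Subtype.ext (by show D.z ^ 2 = 1; rw [sq, D.z_sq]))
        (fun h => D.z_ne (congrArg Subtype.val h))
      exact congrArg Subtype.val h5
    have h4 : g * (D.z : G) * g⁻¹ = D.z := by rw [← h2, h3]
    have h5 : g * (e : G) * g⁻¹ = g * (D.z : G) * g⁻¹ := hg.trans h4.symm
    exact hne (Subtype.ext (mul_left_cancel (mul_right_cancel h5)))

end simple

end Cfsg.Agent.Classification.NonConnSimple
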