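import Mathlib
import Cfsg.Agent.Solvable.UniqueOrderP
import Cfsg.Agent.Classification.NonConnSimple
import Cfsg.Agent.Classification.NonConnQuat

/-!
# Disconnected 2-groups in simple groups: `z` is conjugate to `w` (N6a of S0503)
-/

set_option autoImplicit false

namespace Cfsg.Agent.Classification.NonConnFalse

open Subgroup Cfsg.Agent.Classification.NonConnBase Cfsg.Agent.Classification.NonConnStep

/-- an element of order 4 of a generalized quaternion group of order at least 8 is not central -/
theorem quaternion_not_central {m : ℕ} (hm : m ≠ 0) (f : QuaternionGroup (2 ^ m))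
    (hf : f * f ≠ 1) : ∃ u : QuaternionGroup (2 ^ m), u * f ≠ f * u := by
  rcases f with i | i
  · refine ⟨QuaternionGroup.xa 0, fun h => hf ?_⟩
    rw [QuaternionGroup.xa_mul_a, QuaternionGroup.a_mul_xa] at h
    have h1 : (0 : ZMod (2 * 2 ^ m)) + i = 0 - i := by
      simpa using h
    rw [QuaternionGroup.a_mul_a]
    have h2 : i + i = 0 := by
      have h3 : i = -i := by simpa using h1
      nth_rewrite 1 [h3]
      exact neg_add_cancel i
    rw [h2]
    rfl
  · refine ⟨QuaternionGroup.a 1, fun h => ?_⟩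
    rw [QuaternionGroup.xa_mul_a, QuaternionGroup.a_mul_xa] at h
    have h1 : i - 1 = i + 1 := by
      simpa using h
    have h2 : (2 : ZMod (2 * 2 ^ m)) = 0 := by
      have h3 : (2 : ZMod (2 * 2 ^ m)) = (i + 1) - (i - 1) := by ring
      rw [h3, ← h1, sub_self]
    have h3 : ((2 : ℕ) : ZMod (2 * 2 ^ m)) = 0 := by exact_mod_cast h2
    rw [ZMod.natCast_eq_zero_iff] at h3
    have h4 : 2 ≤ 2 ^ m := by
      calc 2 = 2 ^ 1 := by norm_num
        _ ≤ 2 ^ m := Nat.pow_le_pow_right (by norm_num) (Nat.one_le_iff_ne_zero.2 hm)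
    have h5 := Nat.le_of_dvd (by norm_num) h3
    omega

/-- if a square root of `z` in `Y` is central in `Y`, then `Y` is cyclic -/
theorem isCyclic_Y {P : Type*} [Group P] [Finite P] (hP : IsPGroup 2 P) (D : Data P) {f : P}
    (hf : f ∈ Y D) (hff : f * f = D.z) (hc : ∀ u ∈ Y D, Commute u f) : IsCyclic ↥(Y D) := by
  have hU : Cfsg.Agent.Solvable.UniqueOrderP.UniqueP 2 ↥(Y D) := by
    intro a b ha haa hbb
    have ha1 : (a : P) ≠ 1 := fun h => ha (Subtype.ext h)
    have haa' : (a : P) * a = 1 := by
      have := congrArg Subtype.val haa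
      rw [sq] at this
      exact this
    have hbb' : (b : P) * b = 1 := by
      have := congrArg Subtype.val hbb
      rw [sq] at this
      exact this
    have haz : (a : P) = D.z := (eq_of_mem_Y D a.2 haa').resolve_left ha1
    rcases eq_of_mem_Y D b.2 hbb' with hb | hb
    · have : b = 1 := Subtype.ext hb
      rw [this]
      exact one_mem _
    · have : b = a := Subtype.ext (hb.trans haz.symm)
      rw [this]
      exact mem_zpowers _
  rcases Cfsg.Agent.Solvable.UniqueOrderP.cyclic_or_quaternion (hP.to_subgroup (Y D)) hU with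
    h | ⟨-, m, hm, ⟨e⟩⟩
  · exact h
  · exfalso
    obtain ⟨u, hu⟩ := quaternion_not_central hm (e ⟨f, hf⟩) (by
      intro h
      rw [← map_mul, ← map_one e] at h
      have h1 := congrArg Subtype.val (e.injective h)
      have h2 : f * f = 1 := h1
      exact D.z_ne (hff.symm.trans h2))
    apply hu
    obtain ⟨v, rfl⟩ := e.surjective u
    rw [← map_mul, ← map_mul]
    exact congrArg e (Subtype.ext (hc v v.2).eq)

/-- **N6a**: in a simple group with the data `D` on a Sylow 2-subgroup, `z` and `w` are
conjugate. -/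
theorem isConj_z_w {G : Type*} [Group G] [Finite G] [IsSimpleGroup G]
    (hG : ¬ ∀ a b : G, a * b = b * a) (S : Sylow 2 G) (D : Data ↥(S : Subgroup G)) :
    IsConj ((D.z : ↥(S : Subgroup G)) : G) (D.w : G) := by
  apply NonConnSimple.isConj_z_w S D hG
  intro E hcyc _ _ _ _ h1 h2
  have hnc : ∃ u ∈ Y D, ¬ Commute u E.f := by
    by_contra hcon
    push Not at hcon
    exact hcyc (isCyclic_Y S.isPGroup' D E.f_mem E.f_sq hcon)
  obtain ⟨h3, h4, h5⟩ := NonConnQuat.quaternion_case S.isPGroup' E h1 h2 hnc
  exact ⟨E.c, h3, h4, h5⟩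

/-- **N6a**, negative form -/
theorem false_of_nf {G : Type*} [Group G] [Finite G] (hs : IsSimpleGroup G)
    (hG : ¬ ∀ a b : G, a * b = b * a) (S : Sylow 2 G) (D : Data ↥(S : Subgroup G))
    (h : ¬ IsConj ((D.z : ↥(S : Subgroup G)) : G) (D.w : G)) : False :=
  h (isConj_z_w hG S D)

end Cfsg.Agent.Classification.NonConnFalse
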