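import Mathlib
import Cfsg.Agent.J2Sylow.Basics
import Cfsg.Agent.Classification.NonConnBase

/-!
# Disconnected 2-groups, the fused case: the element `r`

`S` Sylow 2-subgroup of `G`, `⟨z, w⟩` a normal four-group of `S`, `z` central, `x ∈ S` an
involution with `w ^ x = w z`, `T = C_S(w)` with `Ω₁(Z(T)) = ⟨z, w⟩`.  If `z` and `w` are
conjugate in `G`, there is a 3-element `r` normalising `T`, inverted by `x`, not centralising `z`.
-/

set_option autoImplicit false

namespace Cfsg.Agent.Classification.NonConnRho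

open Subgroup

variable {G : Type*} [Group G]

theorem card_of_relIndex {A B : Subgroup G} (h : A ≤ B) :
    Nat.card A * A.relIndex B = Nat.card B := by
  have h1 := (A.subgroupOf B).card_mul_index
  rwa [Nat.card_congr (subgroupOfEquivOfLe h).toEquiv] at h1

/-- the data in `G` -/
structure Hyp (S T : Subgroup G) (z w x : G) : Prop where
  isP : IsPGroup 2 S
  odd : Odd S.index
  hT : ∀ t, t ∈ T ↔ t ∈ S ∧ t * w = w * t
  hz : z ∈ S
  hw : w ∈ S
  hx : x ∈ S
  z_ne : z ≠ 1
  z_sq : z * z = 1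
  z_comm : ∀ g ∈ S, g * z = z * g
  w_ne : w ≠ 1
  w_ne_z : w ≠ z
  w_sq : w * w = 1
  w_conj : ∀ g ∈ S, g * w * g⁻¹ = w ∨ g * w * g⁻¹ = w * z
  x_sq : x * x = 1
  x_w : x * w * x⁻¹ = w * z
  omega : ∀ t ∈ T, (∀ s ∈ T, t * s = s * t) → t * t = 1 → t = 1 ∨ t = z ∨ t = w ∨ t = w * z

namespace Hyp

variable {S T : Subgroup G} {z w x : G} (h : Hyp S T z w x)

include h

theorem T_le : T ≤ S := fun t ht => ((h.hT t).1 ht).1

theorem zw : z * w = w * z := (h.z_comm w h.hw).symm

theorem z_mem : z ∈ T := (h.hT z).2 ⟨h.hz, h.zw⟩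

theorem w_mem : w ∈ T := (h.hT w).2 ⟨h.hw, rfl⟩

theorem x_inv : x⁻¹ = x := inv_eq_of_mul_eq_one_left h.x_sq

theorem wz_ne_w : w * z ≠ w := fun h1 => h.z_ne (mul_eq_left.1 h1)

theorem wz_ne_z : w * z ≠ z := fun h1 => h.w_ne (mul_eq_right.1 h1)

theorem not_comm : x * w ≠ w * x := by
  intro h1
  have h2 := h.x_w
  rw [h1, mul_inv_cancel_right] at h2
  exact h.wz_ne_w h2.symm

theorem x_wz : x * (w * z) * x⁻¹ = w := by
  have h1 : x * z * x⁻¹ = z := by rw [h.z_comm x h.hx]; group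
  calc x * (w * z) * x⁻¹ = (x * w * x⁻¹) * (x * z * x⁻¹) := by group
    _ = w * (z * z) := by rw [h1, h.x_w, mul_assoc]
    _ = w := by rw [h.z_sq, mul_one]

/-- elements normalising `T` permute `z, w, wz` -/
theorem conj_cases {n : G} (hn : n ∈ normalizer (T : Set G)) {u : G} (hu : u ∈ T)
    (huc : ∀ s ∈ T, u * s = s * u) (hu2 : u * u = 1) (hu1 : u ≠ 1) :
    n * u * n⁻¹ = z ∨ n * u * n⁻¹ = w ∨ n * u * n⁻¹ = w * z := by
  rw [mem_normalizer_iff] at hn
  have h1 : n * u * n⁻¹ ∈ T := (hn u).1 hu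
  have h2 : ∀ s ∈ T, (n * u * n⁻¹) * s = s * (n * u * n⁻¹) := by
    intro s hs
    have h3 : n⁻¹ * s * n ∈ T := (hn _).2 (by simpa [mul_assoc] using hs)
    have h4 := huc _ h3
    calc (n * u * n⁻¹) * s = n * (u * (n⁻¹ * s * n)) * n⁻¹ := by group
      _ = n * ((n⁻¹ * s * n) * u) * n⁻¹ := by rw [h4]
      _ = s * (n * u * n⁻¹) := by group
  have h3 : (n * u * n⁻¹) * (n * u * n⁻¹) = 1 := by
    calc (n * u * n⁻¹) * (n * u * n⁻¹) = n * (u * u) * n⁻¹ := by group
      _ = 1 := by rw [hu2]; group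
  rcases h.omega _ h1 h2 h3 with h4 | h4
  · exfalso
    apply hu1
    have : u = n⁻¹ * (n * u * n⁻¹) * n := by group
    rw [this, h4]; group
  · exact h4

theorem conj_z {n : G} (hn : n ∈ normalizer (T : Set G)) :
    n * z * n⁻¹ = z ∨ n * z * n⁻¹ = w ∨ n * z * n⁻¹ = w * z :=
  h.conj_cases hn h.z_mem (fun s hs => (h.z_comm s (h.T_le hs)).symm) h.z_sq h.z_ne

theorem conj_w {n : G} (hn : n ∈ normalizer (T : Set G)) :
    n * w * n⁻¹ = z ∨ n * w * n⁻¹ = w ∨ n * w * n⁻¹ = w * z :=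
  h.conj_cases hn h.w_mem (fun s hs => ((h.hT s).1 hs).2.symm) h.w_sq h.w_ne

theorem relIndex_two : T.relIndex S = 2 := by
  rw [relIndex, index_eq_two_iff]
  refine ⟨⟨x, h.hx⟩, ?_⟩
  rintro ⟨b, hb⟩
  simp only [mem_subgroupOf, coe_mul]
  have hxw : x * w = w * z * x := mul_inv_eq_iff_eq_mul.1 h.x_w
  have hwx : w * x = x * w * z := by
    have : z * x = x * z := (h.z_comm x h.hx).symm
    calc w * x = w * (z * z) * x := by rw [h.z_sq, mul_one]
      _ = w * z * (z * x) := by simp only [mul_assoc]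
      _ = (w * z * x) * z := by rw [this]; simp only [mul_assoc]
      _ = x * w * z := by rw [hxw]
  rcases h.w_conj b hb with h1 | h1
  · right
    have h2 : b * w = w * b := mul_inv_eq_iff_eq_mul.1 h1
    refine ⟨(h.hT b).2 ⟨hb, h2⟩, fun h3 => ?_⟩
    have h4 := ((h.hT _).1 h3).2
    apply h.not_comm
    have h5 : b * (x * w) = b * (w * x) := by
      rw [← mul_assoc, h4, ← mul_assoc, ← h2, mul_assoc]
    exact mul_left_cancel h5
  · left
    have h2 : b * w = w * z * b := mul_inv_eq_iff_eq_mul.1 h1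
    refine ⟨(h.hT _).2 ⟨S.mul_mem hb h.hx, ?_⟩, fun h3 => ?_⟩
    · have e1 : z * (b * z) = b := by
        rw [h.z_comm b hb, ← mul_assoc, h.z_sq, one_mul]
      calc b * x * w = b * (w * z * x) := by rw [mul_assoc, hxw]
        _ = (b * w) * z * x := by simp only [mul_assoc]
        _ = w * (z * (b * z)) * x := by rw [h2]; simp only [mul_assoc]
        _ = w * (b * x) := by rw [e1, mul_assoc]
    · have h4 := ((h.hT _).1 h3).2
      rw [h2] at h4
      exact h.wz_ne_w (mul_right_cancel h4)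

omit h in
theorem le_normalizer_of_relIndex {A : Subgroup G} (hA : A ≤ S) (h2 : A.relIndex S = 2) :
    S ≤ normalizer (A : Set G) := by
  intro s hs
  have hn : (A.subgroupOf S).Normal := normal_of_index_eq_two h2
  rw [mem_normalizer_iff]
  intro a
  have hs1 : ∀ a ∈ A, ∀ s ∈ S, s * a * s⁻¹ ∈ A := by
    intro a ha s hs
    have := hn.conj_mem ⟨a, hA ha⟩ (mem_subgroupOf.2 ha) ⟨s, hs⟩
    exact mem_subgroupOf.1 this
  constructor
  · intro ha; exact hs1 a ha s hs
  · intro ha
    have := hs1 _ ha s⁻¹ (S.inv_mem hs)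
    simpa [mul_assoc] using this

/-- the conjugating element -/
theorem exists_k [Finite G] (hc : ∃ g : G, g * z * g⁻¹ = w) :
    ∃ k : G, k * w * k⁻¹ = z ∧ ∀ s ∈ T, k * s * k⁻¹ ∈ S := by
  obtain ⟨g, hg⟩ := hc
  have hle : S ≤ centralizer {z} := fun s hs => mem_centralizer_singleton_iff.2 (h.z_comm s hs)
  have hodd : Odd ((S ⊓ centralizer {z}).relIndex (centralizer {z})) := by
    rw [inf_eq_left.2 hle]
    have h1 : S.relIndex (centralizer {z}) * (centralizer {z}).index = S.index :=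
      relIndex_mul_index hle
    have h2 := h.odd
    rw [← h1] at h2
    exact (Nat.odd_mul.1 h2).1
  obtain ⟨k, hk, hks⟩ := Cfsg.Agent.J2Sylow.exists_conj_extremal S h.isP (x := w) (y := z)
    (g := g⁻¹) (by rw [← hg]; group) hodd
  exact ⟨k, hk, fun s hs => hks s ((h.hT s).1 hs).1 ((h.hT s).1 hs).2⟩

theorem card_eq : Nat.card S = 2 * Nat.card T := by
  have h1 := card_of_relIndex h.T_le
  rw [h.relIndex_two, mul_comm] at h1
  exact h1.symm

/-- the element `r` -/
theorem exists_r [Finite G] (hc : ∃ g : G, g * z * g⁻¹ = w) :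
    ∃ r : G, r ∈ normalizer (T : Set G) ∧ (∃ k, r ^ 3 ^ k = 1) ∧ x * r * x⁻¹ = r⁻¹ ∧
      r * z * r⁻¹ ≠ z := by
  obtain ⟨k, hk, hks⟩ := h.exists_k hc
  have hSN : S ≤ normalizer (T : Set G) := le_normalizer_of_relIndex h.T_le h.relIndex_two
  -- the conjugate `k T k⁻¹`
  set f : G →* G := (MulAut.conj k).toMonoidHom with hf
  have hfinj : Function.Injective f := (MulAut.conj k).injective
  have hT'le : T.map f ≤ S := by
    rintro _ ⟨t, ht, rfl⟩
    exact hks t ht
  have hcardT' : Nat.card (T.map f) = Nat.card T :=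
    (Nat.card_congr (T.equivMapOfInjective f hfinj).toEquiv).symm
  have hrel : (T.map f).relIndex S = 2 := by
    have h1 := card_of_relIndex hT'le
    rw [hcardT', h.card_eq, mul_comm 2] at h1
    exact Nat.eq_of_mul_eq_mul_left Nat.card_pos h1
  have hSN' : S ≤ normalizer ((T.map f : Subgroup G) : Set G) :=
    le_normalizer_of_relIndex hT'le hrel
  have hN1 : ∀ s ∈ S, k⁻¹ * s * k ∈ normalizer (T : Set G) := by
    intro s hs
    have h1 := hSN' hs
    rw [mem_normalizer_iff] at h1 ⊢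
    have key : ∀ u : G, u ∈ T ↔ k * u * k⁻¹ ∈ T.map f := by
      intro u
      constructor
      · intro hu; exact ⟨u, hu, rfl⟩
      · rintro ⟨v, hv, hvu⟩
        have : v = u := hfinj hvu
        rwa [← this]
    intro t
    rw [key t, h1 (k * t * k⁻¹), key (k⁻¹ * s * k * t * (k⁻¹ * s * k)⁻¹)]
    have : s * (k * t * k⁻¹) * s⁻¹ = k * (k⁻¹ * s * k * t * (k⁻¹ * s * k)⁻¹) * k⁻¹ := by group
    rw [this]
  -- an element `a` of `k⁻¹ S k` moving `z`
  have hex : ∃ s ∈ S, (k⁻¹ * s * k) * z * (k⁻¹ * s * k)⁻¹ ≠ z := by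
    by_contra hcon
    push Not at hcon
    -- conjugate `x` into `k⁻¹ S k`
    set D : Subgroup G := S.map (MulAut.conj k⁻¹).toMonoidHom with hD
    have hDmem : ∀ y, y ∈ D ↔ k * y * k⁻¹ ∈ S := by
      intro y
      constructor
      · rintro ⟨s, hs, rfl⟩
        simpa [mul_assoc] using hs
      · intro hy
        refine ⟨k * y * k⁻¹, hy, ?_⟩
        simp [mul_assoc]
    have hDN : D ≤ normalizer (T : Set G) := by
      intro y hy
      have h1 := hN1 _ ((hDmem y).1 hy)
      have : k⁻¹ * (k * y * k⁻¹) * k = y := by group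
      rwa [this] at h1
    have hDodd : Odd (D.relIndex (normalizer (T : Set G))) := by
      have h1 : D.relIndex (normalizer (T : Set G)) * (normalizer (T : Set G)).index = D.index :=
        relIndex_mul_index hDN
      have h2 : D.index = S.index := by
        rw [hD]
        exact Subgroup.index_map_of_bijective (MulAut.conj k⁻¹).bijective S
      have h3 := h.odd
      rw [← h2, ← h1] at h3
      exact (Nat.odd_mul.1 h3).1
    obtain ⟨c, hc, hcx⟩ := Cfsg.Agent.J2Sylow.exists_conj_le S (normalizer (T : Set G)) D h.isP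
      hSN hDodd
    have h1 := (hDmem _).1 (hcx x h.hx)
    -- `c x c⁻¹` commutes with `z` and `w`
    set y := c * x * c⁻¹ with hy
    have h2 : y * z * y⁻¹ = z := by
      have := hcon _ h1
      have e : k⁻¹ * (k * y * k⁻¹) * k = y := by group
      rwa [e] at this
    have h3 : y * w * y⁻¹ = w := by
      have e : w = k⁻¹ * z * k := by rw [← hk]; group
      have e2 := h.z_comm _ h1
      rw [e]
      calc y * (k⁻¹ * z * k) * y⁻¹ = k⁻¹ * ((k * y * k⁻¹) * z) * (k * y * k⁻¹)⁻¹ * k := by group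
        _ = k⁻¹ * (z * (k * y * k⁻¹)) * (k * y * k⁻¹)⁻¹ * k := by rw [e2]
        _ = k⁻¹ * z * k := by group
    have h4 : y * (w * z) * y⁻¹ = w * z := by
      calc y * (w * z) * y⁻¹ = (y * w * y⁻¹) * (y * z * y⁻¹) := by group
        _ = w * z := by rw [h2, h3]
    have h5 : y * (c * w * c⁻¹) * y⁻¹ = c * w * c⁻¹ := by
      rcases h.conj_w hc with h6 | h6 | h6 <;> rw [h6] <;> assumption
    have h6 : x * w * x⁻¹ = w := by
      calc x * w * x⁻¹ = c⁻¹ * (y * (c * w * c⁻¹) * y⁻¹) * c := by rw [hy]; group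
        _ = c⁻¹ * (c * w * c⁻¹) * c := by rw [h5]
        _ = w := by group
    rw [h.x_w] at h6
    exact h.wz_ne_w h6
  obtain ⟨s, hs, hsz⟩ := hex
  set a := k⁻¹ * s * k with ha
  have haN : a ∈ normalizer (T : Set G) := hN1 s hs
  have haw : a * w * a⁻¹ = w := by
    have e : w = k⁻¹ * z * k := by rw [← hk]; group
    have e2 := h.z_comm _ hs
    rw [e, ha]
    calc k⁻¹ * s * k * (k⁻¹ * z * k) * (k⁻¹ * s * k)⁻¹ = k⁻¹ * (s * z) * s⁻¹ * k := by group
      _ = k⁻¹ * (z * s) * s⁻¹ * k := by rw [e2]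
      _ = k⁻¹ * z * k := by group
  have inj : ∀ {g u v : G}, g * u * g⁻¹ = g * v * g⁻¹ → u = v := by
    intro g u v h1
    exact mul_left_cancel (mul_right_cancel h1)
  have haz : a * z * a⁻¹ = w * z := by
    rcases h.conj_z haN with h1 | h1 | h1
    · exact absurd h1 hsz
    · rw [← haw] at h1
      exact absurd (inj h1).symm h.w_ne_z
    · exact h1
  set n := x * a with hn
  have hnN : n ∈ normalizer (T : Set G) := mul_mem (hSN h.hx) haN
  have hnz : n * z * n⁻¹ = w := by
    calc n * z * n⁻¹ = x * (a * z * a⁻¹) * x⁻¹ := by rw [hn]; group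
      _ = w := by rw [haz, h.x_wz]
  set x' := n * x * n⁻¹ with hx'
  have hx'N : x' ∈ normalizer (T : Set G) := mul_mem (mul_mem hnN (hSN h.hx)) (inv_mem hnN)
  have hx'sq : x' * x' = 1 := by
    calc x' * x' = n * (x * x) * n⁻¹ := by rw [hx']; group
      _ = 1 := by rw [h.x_sq]; group
  have hx'w : x' * w * x'⁻¹ = w := by
    have e2 := h.z_comm x h.hx
    calc x' * w * x'⁻¹ = n * (x * (n⁻¹ * w * n)) * x⁻¹ * n⁻¹ := by rw [hx']; group
      _ = n * (x * z) * x⁻¹ * n⁻¹ := by
          have : n⁻¹ * w * n = z := by rw [← hnz]; group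
          rw [this]
      _ = n * z * n⁻¹ := by rw [e2]; group
      _ = w := hnz
  have hx'z : x' * z * x'⁻¹ = w * z := by
    rcases h.conj_z hx'N with h1 | h1 | h1
    · exfalso
      -- then `x` commutes with `n⁻¹ z n`
      have h2 : x * (n⁻¹ * z * n) * x⁻¹ = n⁻¹ * z * n := by
        calc x * (n⁻¹ * z * n) * x⁻¹ = n⁻¹ * (x' * z * x'⁻¹) * n := by rw [hx']; group
          _ = n⁻¹ * z * n := by rw [h1]
      have h3 := h.conj_z (inv_mem hnN)
      rw [inv_inv] at h3
      rcases h3 with h3 | h3 | h3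
      · have h4 : n * z * n⁻¹ = z := by
          calc n * z * n⁻¹ = n * (n⁻¹ * z * n) * n⁻¹ := by rw [h3]
            _ = z := by group
        rw [hnz] at h4
        exact h.w_ne_z h4
      · rw [h3, h.x_w] at h2
        exact h.wz_ne_w h2
      · rw [h3, h.x_wz] at h2
        exact h.wz_ne_w h2.symm
    · rw [← hx'w] at h1
      exact absurd (inj h1).symm h.w_ne_z
    · exact h1
  set d := x * x' with hd
  have hdN : d ∈ normalizer (T : Set G) := mul_mem (hSN h.hx) hx'N
  have hdinv : x * d * x⁻¹ = d⁻¹ := by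
    rw [hd, mul_inv_rev, h.x_inv]
    have : x'⁻¹ = x' := inv_eq_of_mul_eq_one_left hx'sq
    rw [this]
    calc x * (x * x') * x = (x * x) * x' * x := by group
      _ = x' * x := by rw [h.x_sq, one_mul]
  have hdz : d * z * d⁻¹ = w := by
    calc d * z * d⁻¹ = x * (x' * z * x'⁻¹) * x⁻¹ := by rw [hd]; group
      _ = w := by rw [hx'z, h.x_wz]
  have hdw : d * w * d⁻¹ = w * z := by
    calc d * w * d⁻¹ = x * (x' * w * x'⁻¹) * x⁻¹ := by rw [hd]; group
      _ = w * z := by rw [hx'w, h.x_w]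
  have hdwz : d * (w * z) * d⁻¹ = z := by
    calc d * (w * z) * d⁻¹ = (d * w * d⁻¹) * (d * z * d⁻¹) := by group
      _ = w * z * w := by rw [hdw, hdz]
      _ = (w * w) * z := by rw [mul_assoc, h.zw, ← mul_assoc]
      _ = z := by rw [h.w_sq, one_mul]
  have hd3 : d ^ 3 * z * (d ^ 3)⁻¹ = z := by
    have e : d ^ 3 = d * d * d := by rw [pow_succ, pow_two]
    calc d ^ 3 * z * (d ^ 3)⁻¹ = d * (d * (d * z * d⁻¹) * d⁻¹) * d⁻¹ := by
          rw [e]; simp only [mul_inv_rev, mul_assoc]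
      _ = z := by rw [hdz, hdw, hdwz]
  -- the 3-part
  have hpos : 0 < orderOf d := orderOf_pos d
  obtain ⟨e, m, hm, hem⟩ := Nat.exists_eq_pow_mul_and_not_dvd hpos.ne' 3 (by norm_num)
  refine ⟨d ^ m, pow_mem hdN m, ⟨e, ?_⟩, ?_, ?_⟩
  · rw [← pow_mul, mul_comm, ← hem, pow_orderOf_eq_one]
  · rw [← conj_pow, hdinv, inv_pow]
  · intro h1
    -- `d` would centralise `z`
    have hcop : Nat.Coprime m 3 := (Nat.Coprime.symm ((Nat.Prime.coprime_iff_not_dvd
      Nat.prime_three).2 hm))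
    have hC : ∀ g : G, g * z * g⁻¹ = z ↔ g ∈ centralizer {z} := by
      intro g
      rw [mem_centralizer_singleton_iff, mul_inv_eq_iff_eq_mul]
    rw [hC] at hd3 h1
    have h2 : d ∈ centralizer ({z} : Set G) := by
      have hb := Nat.gcd_eq_gcd_ab m 3
      rw [hcop] at hb
      have : d = (d ^ m) ^ (Nat.gcdA m 3) * (d ^ 3) ^ (Nat.gcdB m 3) := by
        rw [← zpow_natCast, ← zpow_natCast, ← zpow_mul, ← zpow_mul, ← zpow_add]
        have hb' : (m : ℤ) * Nat.gcdA m 3 + ((3 : ℕ) : ℤ) * Nat.gcdB m 3 = 1 := by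
          rw [← hb]; simp
        rw [hb', zpow_one]
      rw [this]
      exact mul_mem (zpow_mem h1 _) (zpow_mem hd3 _)
    rw [← hC, hdz] at h2
    exact h.w_ne_z h2

end Hyp

open Cfsg.Agent.Classification.NonConnBase

/-- `Ω₁(Z(T)) = ⟨z, w⟩` -/
theorem omega_of_data {P : Type*} [Group P] (D : Data P) {t : P} (ht : t * D.w = D.w * t)
    (htc : ∀ s : P, s * D.w = D.w * s → t * s = s * t) (ht2 : t * t = 1) :
    t = 1 ∨ t = D.z ∨ t = D.w ∨ t = D.w * D.z := by
  set t' := D.x * t * D.x⁻¹ with ht'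
  have h1 : t' * D.w = D.w * t' := D.commute_conj D.x ht
  have h2 : t * t' = t' * t := htc t' h1
  have h3 : t' * t' = 1 := by
    calc t' * t' = D.x * (t * t) * D.x⁻¹ := by rw [ht']; group
      _ = 1 := by rw [ht2]; group
  have hx2 : D.x⁻¹ = D.x := D.x_inv
  have h4 : D.x * t' * D.x⁻¹ = t := by
    calc D.x * t' * D.x⁻¹ = (D.x * D.x) * t * (D.x⁻¹ * D.x⁻¹) := by rw [ht']; group
      _ = t := by rw [hx2, D.x_sq]; group
  have h5 : (t * t') * D.x = D.x * (t * t') := by
    have : D.x * (t * t') * D.x⁻¹ = t * t' := by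
      calc D.x * (t * t') * D.x⁻¹ = (D.x * t * D.x⁻¹) * (D.x * t' * D.x⁻¹) := by group
        _ = t' * t := by rw [← ht', h4]
        _ = t * t' := h2.symm
    exact (mul_inv_eq_iff_eq_mul.1 this).symm
  have h6 : (t * t') * (t * t') = 1 := by
    calc (t * t') * (t * t') = t * (t' * t) * t' := by group
      _ = (t * t) * (t' * t') := by rw [← h2]; group
      _ = 1 := by rw [ht2, h3, one_mul]
  have h7 : (t * t') * D.w = D.w * (t * t') := by
    rw [mul_assoc, h1, ← mul_assoc, ht, mul_assoc]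
  have htinv : t⁻¹ = t := inv_eq_of_mul_eq_one_left ht2
  rcases D.hY _ h7 h5 h6 with h8 | h8
  · -- `t` commutes with `x`
    have h9 : t' = t := by
      rw [← htinv]; exact (inv_eq_of_mul_eq_one_right h8).symm
    have h10 : t * D.x = D.x * t := (mul_inv_eq_iff_eq_mul.1 h9).symm
    rcases D.hY t ht h10 ht2 with h11 | h11
    · exact Or.inl h11
    · exact Or.inr (Or.inl h11)
  · -- `t w` commutes with `x`
    have h9 : t' = t * D.z := by
      calc t' = (t * t) * t' := by rw [ht2, one_mul]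
        _ = t * (t * t') := by group
        _ = t * D.z := by rw [h8]
    have h10 : D.x * (t * D.w) * D.x⁻¹ = t * D.w := by
      calc D.x * (t * D.w) * D.x⁻¹ = t' * (D.x * D.w * D.x⁻¹) := by rw [ht']; group
        _ = t * D.z * (D.w * D.z) := by rw [h9, D.x_w]
        _ = t * (D.z * D.w) * D.z := by group
        _ = t * D.w * (D.z * D.z) := by
            have := D.z_comm D.w
            rw [← this]; group
        _ = t * D.w := by rw [D.z_sq, mul_one]
    have h11 : t * D.w * D.x = D.x * (t * D.w) := (mul_inv_eq_iff_eq_mul.1 h10).symm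
    have h12 : t * D.w * D.w = D.w * (t * D.w) := by rw [ht, mul_assoc, ht]
    have h13 : t * D.w * (t * D.w) = 1 := by
      calc t * D.w * (t * D.w) = t * (D.w * t) * D.w := by group
        _ = (t * t) * (D.w * D.w) := by rw [← ht]; group
        _ = 1 := by rw [ht2, D.w_sq, one_mul]
    have hwt : ∀ u, t * D.w = u → t = u * D.w := by
      intro u hu
      rw [← hu, mul_assoc, D.w_sq, mul_one]
    rcases D.hY _ h12 h11 h13 with h14 | h14
    · right; right; left
      rw [hwt _ h14, one_mul]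
    · right; right; right
      rw [hwt _ h14]
      exact (D.z_comm D.w).symm

/-- the data of `NonConnBase` on a Sylow 2-subgroup give `Hyp` -/
theorem hyp_of_data [Finite G] (S : Sylow 2 G) (D : Data ↥(S : Subgroup G)) :
    Hyp (S : Subgroup G) (D.T.map (S : Subgroup G).subtype) (D.z : G) (D.w : G) (D.x : G) where
  isP := S.isPGroup'
  odd := by
    rw [Nat.odd_iff, ← Nat.not_even_iff, even_iff_two_dvd]
    exact S.not_dvd_index
  hT := by
    intro t
    constructor
    · rintro ⟨u, hu, rfl⟩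
      exact ⟨u.2, congrArg Subtype.val (D.mem_T.1 hu)⟩
    · rintro ⟨h1, h2⟩
      exact ⟨⟨t, h1⟩, D.mem_T.2 (Subtype.ext h2), rfl⟩
  hz := D.z.2
  hw := D.w.2
  hx := D.x.2
  z_ne := fun h => D.z_ne (Subtype.ext h)
  z_sq := congrArg Subtype.val D.z_sq
  z_comm := fun g hg => congrArg Subtype.val (D.z_comm ⟨g, hg⟩)
  w_ne := fun h => D.w_ne (Subtype.ext h)
  w_ne_z := fun h => D.w_ne_z (Subtype.ext h)
  w_sq := congrArg Subtype.val D.w_sq
  w_conj := by
    intro g hg
    rcases D.w_conj ⟨g, hg⟩ with h | h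
    · exact Or.inl (congrArg Subtype.val h)
    · exact Or.inr (congrArg Subtype.val h)
  x_sq := congrArg Subtype.val D.x_sq
  x_w := congrArg Subtype.val D.x_w
  omega := by
    rintro _ ⟨t, ht, rfl⟩ htc ht2
    have h1 := omega_of_data D (D.mem_T.1 ht) (fun s hs => Subtype.ext
      (htc s ⟨s, D.mem_T.2 hs, rfl⟩)) (Subtype.ext ht2)
    rcases h1 with h | h | h | h
    · exact Or.inl (congrArg Subtype.val h)
    · exact Or.inr (Or.inl (congrArg Subtype.val h))
    · exact Or.inr (Or.inr (Or.inl (congrArg Subtype.val h)))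
    · exact Or.inr (Or.inr (Or.inr (congrArg Subtype.val h)))

end Cfsg.Agent.Classification.NonConnRho
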