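import Mathlib
import Cfsg.Agent.Classification.NonConnFused
import Cfsg.Agent.Classification.NonConnRho

/-!
# Disconnected 2-groups, the fused case: the Sylow 2-subgroup has order 128
-/

set_option autoImplicit false

namespace Cfsg.Agent.Classification.NonConnFusedMain

open Cfsg.Agent.Classification.NonConnBase Cfsg.Agent.Classification.NonConnFused

variable {G : Type*} [Group G]

/-- The configuration of `NonConnFused` from the data of a disconnected Sylow 2-subgroup with
`z` and `w` conjugate in `G`. -/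
theorem exists_hyp [Finite G] (S : Sylow 2 G) (D : Data ↥(S : Subgroup G))
    (hc : ∃ g : G, g * (D.z : G) * g⁻¹ = D.w) :
    ∃ r : G, Hyp (D.T.map (S : Subgroup G).subtype) (D.x : G) r (D.z : G) (D.w : G) := by
  have hN := NonConnRho.hyp_of_data S D
  obtain ⟨r, hr1, hr2, hr3, hr4⟩ := hN.exists_r hc
  have hmem : ∀ t : G, t ∈ D.T.map (S : Subgroup G).subtype ↔
      ∃ s : ↥(S : Subgroup G), s * D.w = D.w * s ∧ (s : G) = t := by
    intro t
    constructor
    · rintro ⟨s, hs, rfl⟩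
      exact ⟨s, D.mem_T.1 hs, rfl⟩
    · rintro ⟨s, hs, rfl⟩
      exact ⟨s, D.mem_T.2 hs, rfl⟩
  refine ⟨r, ⟨?_, ?_, ?_, ?_, hr2, hr3, hN.z_mem, hN.w_mem, hN.z_sq, hN.w_sq, hN.z_ne, ?_, ?_, ?_,
    hN.x_w, ?_, hr4⟩⟩
  · exact (S.isPGroup'.to_subgroup D.T).map _
  · exact hN.x_sq
  · intro t ht
    obtain ⟨s, hs, rfl⟩ := (hmem t).1 ht
    exact (hmem _).2 ⟨D.x * s * D.x⁻¹, D.commute_conj D.x hs, rfl⟩
  · intro t ht
    exact (Subgroup.mem_normalizer_iff.1 hr1 t).1 ht
  · intro t ht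
    exact hN.z_comm t (hN.T_le ht)
  · intro t ht
    exact ((hN.hT t).1 ht).2
  · have h1 := hN.z_comm _ hN.hx
    rw [h1, mul_inv_cancel_right]
  · intro t ht h1 h2
    obtain ⟨s, hs, rfl⟩ := (hmem t).1 ht
    rcases D.hY s hs (Subtype.ext h1) (Subtype.ext h2) with e | e
    · exact Or.inl (congrArg Subtype.val e)
    · exact Or.inr (congrArg Subtype.val e)

/-- **Case (f)**: the Sylow 2-subgroup has order 128 and its subgroup `T` of index 2 is the product
of two elementary abelian subgroups of order 16 swapped by `x`. -/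
theorem main [Finite G] (S : Sylow 2 G) (D : Data ↥(S : Subgroup G))
    (hc : ∃ g : G, g * (D.z : G) * g⁻¹ = D.w)
    (he : ∃ e : ↥(S : Subgroup G), e * e = 1 ∧ e * D.w = D.w * e ∧
      ¬ (e = 1 ∨ e = D.z ∨ e = D.w ∨ e = D.w * D.z)) :
    Nat.card S = 128 ∧ ∃ (r : G) (E : Subgroup G),
      Hyp (D.T.map (S : Subgroup G).subtype) (D.x : G) r (D.z : G) (D.w : G) ∧
      Out (D.T.map (S : Subgroup G).subtype) (D.x : G) r (D.z : G) (D.w : G) E := by
  obtain ⟨r, hr⟩ := exists_hyp S D hc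
  obtain ⟨e, he2, hew, hne⟩ := he
  have hN := NonConnRho.hyp_of_data S D
  have heT : (e : G) ∈ D.T.map (S : Subgroup G).subtype := ⟨e, D.mem_T.2 hew, rfl⟩
  obtain ⟨E, -, hE⟩ := hr.main heT (congrArg Subtype.val he2) (fun h => hne (by
    rcases h with h | h | h | h
    · exact Or.inl (Subtype.ext h)
    · exact Or.inr (Or.inl (Subtype.ext h))
    · exact Or.inr (Or.inr (Or.inl (Subtype.ext h)))
    · exact Or.inr (Or.inr (Or.inr (Subtype.ext h)))))
  refine ⟨?_, r, E, hr, hE⟩
  have h1 : Nat.card (S : Subgroup G) = _ := hN.card_eq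
  have h2 := hE.cardT
  change Nat.card (S : Subgroup G) = 128
  rw [h1, h2]

end Cfsg.Agent.Classification.NonConnFusedMain
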