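import Mathlib
import Cfsg.Agent.J2Sylow.FrameHom
import Cfsg.Agent.Classification.NonConnFusedMain
import Cfsg.Agent.J2Sylow.Setup

/-!
# Disconnected 2-groups, the fused case: identification with the model group of order 128
-/

set_option autoImplicit false

namespace Cfsg.Agent.Classification.NonConnModelMain

open Cfsg.Agent.Classification.NonConnBase Cfsg.Agent.Classification.NonConnFused

variable {G : Type*} [Group G]

/-- the frame from the output of `NonConnFused` -/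
theorem frame {S T E : Subgroup G} {x r z w : G} (hH : Hyp T x r z w) (hO : Out T x r z w E)
    (hTS : T ≤ S) (hxS : x ∈ S) (hcard : Nat.card S = 128) :
    Cfsg.Agent.J2Sylow.FrameHom.Frame S T E x z w where
  ET := hO.le
  TS := hTS
  xS := hxS
  xT := by
    intro hx
    have h1 := hH.wc x hx
    have h2 := hH.xw
    rw [h1, mul_inv_cancel_right] at h2
    exact hH.z1 (left_eq_mul.1 h2)
  x2 := hH.x2
  z2 := hH.z2
  w2 := hH.w2
  z1 := hH.z1
  zE := hO.z_mem
  wE := hO.w_mem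
  zc := hH.zc
  wc := hH.wc
  xz := hH.xz
  xw := hH.xw
  xTn := hH.xT
  hY := hH.hY
  cardE := hO.card
  cardS := hcard
  sq := hO.sq
  inf := hO.inf
  normal := hO.normal

/-- **N5.** In case (f) the Sylow 2-subgroup is the model group. -/
theorem main [Finite G] (S : Sylow 2 G) (D : Data ↥(S : Subgroup G))
    (hc : ∃ g : G, g * (D.z : G) * g⁻¹ = D.w)
    (he : ∃ e : ↥(S : Subgroup G), e * e = 1 ∧ e * D.w = D.w * e ∧
      ¬ (e = 1 ∨ e = D.z ∨ e = D.w ∨ e = D.w * D.z)) :
    ∃ h : Cfsg.Agent.J2Sylow.Setup G, h.S = (S : Subgroup G) ∧ h.z = D.z := by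
  obtain ⟨hcard, r, E, hH, hO⟩ := NonConnFusedMain.main S D hc he
  have hTS : D.T.map (S : Subgroup G).subtype ≤ (S : Subgroup G) := Subgroup.map_subtype_le _
  obtain ⟨φ, hinj, hr, hz⟩ := (frame hH hO hTS D.x.2 hcard).exists_hom
  refine ⟨⟨φ, hinj, ?_⟩, hr, hz⟩
  rw [hr, Nat.odd_iff, ← Nat.not_even_iff, even_iff_two_dvd]
  exact S.not_dvd_index

/-- the isomorphism -/
theorem nonempty_equiv [Finite G] (S : Sylow 2 G) (D : Data ↥(S : Subgroup G))
    (hc : ∃ g : G, g * (D.z : G) * g⁻¹ = D.w)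
    (he : ∃ e : ↥(S : Subgroup G), e * e = 1 ∧ e * D.w = D.w * e ∧
      ¬ (e = 1 ∨ e = D.z ∨ e = D.w ∨ e = D.w * D.z)) :
    Nonempty (Cfsg.Agent.J2Sylow.Model.T ≃* ↥(S : Subgroup G)) := by
  obtain ⟨h, hS, -⟩ := main S D hc he
  have e : Cfsg.Agent.J2Sylow.Model.T ≃* h.φ.range := MonoidHom.ofInjective h.inj
  have hS' : h.φ.range = (S : Subgroup G) := hS
  rw [hS'] at e
  exact ⟨e⟩

end Cfsg.Agent.Classification.NonConnModelMain
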