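import Mathlib
import Cfsg.Agent.S1619
import Cfsg.Agent.S1625
import Cfsg.Prelude.Def_Sporadic
import Cfsg.Prelude.Def_Spor_J2
import Cfsg.Prelude.Def_Spor_J3

/-!
# The orders of the groups `J₂` and `J₃`
-/

set_option autoImplicit false

namespace Cfsg.Agent.Classification.NonConnOrders

/-- a simple group isomorphic to `J₂` or `J₃` has the right order -/
theorem isJ2_or_isJ3 {G : Type*} [Group G] [IsSimpleGroup G]
    (h : Cfsg.Spor.IsoJ2 G ∨ Cfsg.Spor.IsoJ3 G) : Cfsg.IsJ2 G ∨ Cfsg.IsJ3 G := by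
  rcases h with ⟨⟨e⟩⟩ | ⟨F, hF, hFf, ω, hc, hω, ⟨e⟩⟩
  · left
    exact ⟨inferInstance, by rw [Nat.card_congr e.toEquiv]; exact S1619.result.2.2.2⟩
  · right
    exact ⟨inferInstance, by
      rw [Nat.card_congr e.toEquiv]; exact (S1625.result F hc ω hω).2.2.1⟩

end Cfsg.Agent.Classification.NonConnOrders
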