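import Mathlib
import Cfsg.Prelude.Def_CaseTheorems
import Cfsg.Agent.S0502
import Cfsg.Agent.Involutions.RankThree
import Cfsg.Agent.Classification.NonConnBase
import Cfsg.Agent.Classification.NonConnStep

/-!
# Disconnected 2-groups of 2-rank at least 3: existence of the data
-/

set_option autoImplicit false

namespace Cfsg.Agent.Classification.NonConnSetup

open Subgroup Cfsg.Agent.Classification.NonConnBase

variable {P : Type*} [Group P]

theorem ncard_pair_le {α : Type*} (a b : α) : Set.ncard ({a, b} : Set α) ≤ 2 := by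
  have h := Set.ncard_insert_le a ({b} : Set α)
  rw [Set.ncard_singleton] at h
  exact h

/-- the adjacency relation -/
def Rel (A B : Subgroup P) : Prop := IsKleinFour A ∧ IsKleinFour B ∧ ∀ a ∈ A, ∀ b ∈ B, a * b = b * a

theorem rel_symm {A B : Subgroup P} (h : Rel A B) : Rel B A :=
  ⟨h.2.1, h.1, fun b hb a ha => (h.2.2 a ha b hb).symm⟩

theorem reflTransGen_symm {A B : Subgroup P} (h : Relation.ReflTransGen Rel A B) :
    Relation.ReflTransGen Rel B A := by
  induction h with
  | refl => exact Relation.ReflTransGen.refl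
  | tail _ h ih => exact Relation.ReflTransGen.head (rel_symm h) ih

/-- `z` central involution, `w` a further involution with two conjugates `w, wz` -/
structure Pre (z w : P) : Prop where
  z_ne : z ≠ 1
  z_sq : z * z = 1
  z_comm : ∀ g : P, g * z = z * g
  w_ne : w ≠ 1
  w_ne_z : w ≠ z
  w_sq : w * w = 1
  w_conj : ∀ g : P, g * w * g⁻¹ = w ∨ g * w * g⁻¹ = w * z

namespace Pre

variable {z w : P} (h : Pre z w)

include h

theorem mul_w_of_not {g : P} (hg : g * w ≠ w * g) : g * w = w * z * g := by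
  rcases h.w_conj g with h1 | h1
  · exact absurd (mul_inv_eq_iff_eq_mul.1 h1) hg
  · exact mul_inv_eq_iff_eq_mul.1 h1

theorem mul_comm_of_not {g k : P} (hg : g * w ≠ w * g) (hk : k * w ≠ w * k) :
    (g * k) * w = w * (g * k) := by
  have h1 := h.mul_w_of_not hg
  have h2 := h.mul_w_of_not hk
  calc g * k * w = g * (k * w) := by rw [mul_assoc]
    _ = g * w * (z * k) := by rw [h2]; simp only [mul_assoc]
    _ = w * z * g * (z * k) := by rw [h1]
    _ = w * z * (g * z) * k := by simp only [mul_assoc]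
    _ = w * (z * z) * g * k := by rw [h.z_comm g]; simp only [mul_assoc]
    _ = w * (g * k) := by rw [h.z_sq, mul_one, mul_assoc]

/-- the four-group `W` -/
theorem exists_W : ∃ W : Subgroup P, IsKleinFour W ∧ ∀ v, v ∈ W ↔ (v = 1 ∨ v = z ∨ v = w ∨
    v = z * w) :=
  S0502.exists_klein (by rw [pow_two, h.z_sq]) (by rw [pow_two, h.w_sq]) h.z_ne h.w_ne
    h.w_ne_z.symm (h.z_comm w).symm

/-- if no involution outside `T` is bad, `P` is four-connected -/
theorem connected (hgood : ∀ x : P, x * x = 1 → x * w ≠ w * x →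
    ∃ t, t * w = w * t ∧ t * x = x * t ∧ t * t = 1 ∧ t ≠ 1 ∧ t ≠ z) : Cfsg.IsFourConnected P := by
  obtain ⟨W, hW, hWm⟩ := h.exists_W
  -- elements commuting with `w` commute with `W`
  have hcW : ∀ t, t * w = w * t → ∀ v ∈ W, t * v = v * t := by
    intro t ht v hv
    rcases (hWm v).1 hv with rfl | rfl | rfl | rfl
    · simp
    · exact h.z_comm t
    · exact ht
    · rw [← mul_assoc, h.z_comm t, mul_assoc, ht, mul_assoc]
  -- the four-group `⟨t, z⟩` for an involution `t` of `T` other than `z`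
  have hX : ∀ t, t * w = w * t → t * t = 1 → t ≠ 1 → t ≠ z → ∃ X : Subgroup P, IsKleinFour X ∧
      Rel X W ∧ ∀ v ∈ X, v = 1 ∨ v = t ∨ v = z ∨ v = t * z := by
    intro t htw ht2 ht1 htz
    obtain ⟨X, hX, hXm⟩ := S0502.exists_klein (a := t) (b := z) (by rw [pow_two, ht2])
      (by rw [pow_two, h.z_sq]) ht1 h.z_ne htz (h.z_comm t)
    refine ⟨X, hX, ⟨hX, hW, ?_⟩, fun v hv => (hXm v).1 hv⟩
    intro a ha b hb
    have hzb : z * b = b * z := (h.z_comm b).symm
    rcases (hXm a).1 ha with rfl | rfl | rfl | rfl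
    · simp
    · exact hcW a htw b hb
    · exact hzb
    · rw [mul_assoc, hzb, ← mul_assoc, hcW t htw b hb, mul_assoc]
  have key : ∀ A : Subgroup P, IsKleinFour A → Relation.ReflTransGen Rel A W := by
    intro A hA
    by_cases hAT : ∀ a ∈ A, a * w = w * a
    · exact Relation.ReflTransGen.single ⟨hA, hW, fun a ha b hb => hcW a (hAT a ha) b hb⟩
    push Not at hAT
    obtain ⟨a, haA, haw⟩ := hAT
    have ha2 : a * a = 1 := by rw [← pow_two]; exact S0502.sq_of_klein hA haA
    have hcomm : ∀ u ∈ A, ∀ v ∈ A, u * v = v * u := fun u hu v hv => S0502.comm_of_klein hA hu hv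
    -- an element of `A ∩ T`
    have hex : ∃ c ∈ A, c ≠ 1 ∧ c * w = w * c := by
      have h3 : ∃ c ∈ A, c ≠ 1 ∧ c ≠ a := by
        by_contra hcon
        push Not at hcon
        have h4 : Nat.card A ≤ 2 := by
          have hsub : (A : Set P) ⊆ {1, a} := by
            intro c hc
            by_cases h5 : c = 1
            · left; exact h5
            · right; exact hcon c hc h5
          calc Nat.card A = Set.ncard (A : Set P) := rfl
            _ ≤ Set.ncard ({1, a} : Set P) := Set.ncard_le_ncard hsub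
            _ ≤ 2 := ncard_pair_le _ _
        rw [hA.card_four] at h4
        omega
      obtain ⟨c, hc, hc1, hca⟩ := h3
      by_cases hcw : c * w = w * c
      · exact ⟨c, hc, hc1, hcw⟩
      · refine ⟨a * c, A.mul_mem haA hc, ?_, h.mul_comm_of_not haw hcw⟩
        intro h4
        apply hca
        calc c = a * a * c := by rw [ha2, one_mul]
          _ = a * (a * c) := by rw [mul_assoc]
          _ = a := by rw [h4, mul_one]
    -- it suffices to find an involution `t ≠ z` of `T` commuting with `A`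
    have hsuff : ∀ t, t * w = w * t → t * t = 1 → t ≠ 1 → t ≠ z → (∀ u ∈ A, u * t = t * u) →
        Relation.ReflTransGen Rel A W := by
      intro t htw ht2 ht1 htz htA
      obtain ⟨X, hXk, hXW, hXm⟩ := hX t htw ht2 ht1 htz
      refine Relation.ReflTransGen.tail (Relation.ReflTransGen.single ⟨hA, hXk, ?_⟩) hXW
      intro u hu v hv
      rcases hXm v hv with rfl | rfl | rfl | rfl
      · simp
      · exact htA u hu
      · exact h.z_comm u
      · rw [← mul_assoc, htA u hu, mul_assoc, h.z_comm u, mul_assoc]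
    obtain ⟨c, hcA, hc1, hcw⟩ := hex
    by_cases hcz : c = z
    · subst hcz
      obtain ⟨t, htw, hta, ht2, ht1, htz⟩ := hgood a ha2 haw
      refine hsuff t htw ht2 ht1 htz ?_
      -- `A = {1, a, c, a c}`
      intro u hu
      have h4 : u = 1 ∨ u = a ∨ u = c ∨ u = a * c := by
        by_contra hcon
        push Not at hcon
        have hac : a ≠ c := by rintro rfl; exact haw hcw
        have ha1 : a ≠ 1 := by rintro rfl; exact haw (by simp)
        have hac1 : a * c ≠ 1 := by
          intro h5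
          apply hac
          calc a = a * (c * c) := by rw [h.z_sq, mul_one]
            _ = (a * c) * c := by rw [mul_assoc]
            _ = c := by rw [h5, one_mul]
        have hsub : ({1, a, c, a * c, u} : Set P) ⊆ (A : Set P) := by
          intro y hy
          simp only [Set.mem_insert_iff, Set.mem_singleton_iff] at hy
          rcases hy with rfl | rfl | rfl | rfl | rfl
          · exact A.one_mem
          · exact haA
          · exact hcA
          · exact A.mul_mem haA hcA
          · exact hu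
        have hfin : Finite A := Nat.finite_of_card_ne_zero (by rw [hA.card_four]; norm_num)
        have hfin' : (A : Set P).Finite := Set.toFinite _
        have h5 := Set.ncard_le_ncard hsub hfin'
        have h6 : Set.ncard (A : Set P) = 4 := hA.card_four
        have h7 : Set.ncard ({1, a, c, a * c, u} : Set P) = 5 := by
          rw [Set.ncard_insert_of_notMem, Set.ncard_insert_of_notMem, Set.ncard_insert_of_notMem,
            Set.ncard_pair]
          · exact fun h8 => hcon.2.2.2 h8.symm
          · simp only [Set.mem_insert_iff, Set.mem_singleton_iff, not_or]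
            refine ⟨fun h8 => ha1 ?_, fun h8 => hcon.2.2.1 h8.symm⟩
            exact (right_eq_mul.1 h8)
          · simp only [Set.mem_insert_iff, Set.mem_singleton_iff, not_or]
            exact ⟨hac, fun h8 => hc1 (left_eq_mul.1 h8), fun h8 => hcon.2.1 h8.symm⟩
          · simp only [Set.mem_insert_iff, Set.mem_singleton_iff, not_or]
            exact ⟨ha1.symm, hc1.symm, hac1.symm, fun h8 => hcon.1 h8.symm⟩
        omega
      rcases h4 with rfl | rfl | rfl | rfl
      · simp
      · exact hta.symm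
      · exact (h.z_comm t).symm
      · rw [mul_assoc, ← h.z_comm t, ← mul_assoc, ← hta, mul_assoc]
    · refine hsuff c hcw ?_ hc1 hcz (fun u hu => hcomm u hu c hcA)
      rw [← pow_two]; exact S0502.sq_of_klein hA hcA
  intro U V hU hV
  exact (key U hU).trans (reflTransGen_symm (key V hV))

/-- an involution of `T` outside `W` -/
theorem exists_e [Finite P] (E : Subgroup P) (hE : Nat.card E = 8) (hE2 : ∀ e ∈ E, e ^ 2 = 1) :
    ∃ e : P, e * e = 1 ∧ e * w = w * e ∧ e ≠ 1 ∧ e ≠ z ∧ e ≠ w ∧ e ≠ w * z := by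
  by_contra hcon
  push Not at hcon
  have hcard : ∀ a b c d : P, (∀ e ∈ E, e = a ∨ e = b ∨ e = c ∨ e = d) → False := by
    intro a b c d hh
    have hsub : (E : Set P) ⊆ {a, b, c, d} := by
      intro e he
      simp only [Set.mem_insert_iff, Set.mem_singleton_iff]
      exact hh e he
    have h1 : Set.ncard (E : Set P) ≤ 4 := by
      refine (Set.ncard_le_ncard hsub).trans ?_
      refine (Set.ncard_insert_le _ _).trans ?_
      have h2 := Set.ncard_insert_le b ({c, d} : Set P)
      have h3 := ncard_pair_le c d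
      omega
    have h2 : Set.ncard (E : Set P) = 8 := hE
    omega
  have hall : ∀ e ∈ E, e * w = w * e → e = 1 ∨ e = z ∨ e = w ∨ e = w * z := by
    intro e he hew
    by_contra hc
    push Not at hc
    exact hc.2.2.2 (hcon e (by rw [← pow_two]; exact hE2 e he) hew hc.1 hc.2.1 hc.2.2.1)
  by_cases hT : ∀ e ∈ E, e * w = w * e
  · exact hcard 1 z w (w * z) (fun e he => hall e he (hT e he))
  push Not at hT
  obtain ⟨a, haE, haw⟩ := hT
  have hEc : ∀ u ∈ E, ∀ v ∈ E, u * v = v * u := fun u hu v hv =>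
    S0502.comm_of_sq (hE2 u hu) (hE2 v hv) (hE2 _ (E.mul_mem hu hv))
  have hw' : w ∉ E := fun hw => haw (hEc a haE w hw)
  have hwz' : w * z ∉ E := by
    intro hw
    apply haw
    have h1 := hEc a haE _ hw
    have h2 : a * w * z = w * a * z := by
      rw [mul_assoc, h1, mul_assoc, ← h.z_comm a, mul_assoc]
    exact mul_right_cancel h2
  have hall2 : ∀ e ∈ E, e * w = w * e → e = 1 ∨ e = z := by
    intro e he hew
    rcases hall e he hew with h1 | h1 | h1 | h1
    · exact Or.inl h1
    · exact Or.inr h1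
    · exact absurd (h1 ▸ he) hw'
    · exact absurd (h1 ▸ he) hwz'
  apply hcard 1 z a (a * z)
  intro e he
  by_cases hew : e * w = w * e
  · rcases hall2 e he hew with h1 | h1
    · exact Or.inl h1
    · exact Or.inr (Or.inl h1)
  · have ha2 : a * a = 1 := by rw [← pow_two]; exact hE2 a haE
    have h1 : e = a * (a * e) := by rw [← mul_assoc, ha2, one_mul]
    rcases hall2 (a * e) (E.mul_mem haE he) (h.mul_comm_of_not haw hew) with h2 | h2
    · right; right; left
      rw [h1, h2, mul_one]
    · right; right; right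
      rw [h1, h2]

/-- the element `f` -/
theorem exists_f [Finite P] (hP : IsPGroup 2 P) {x e : P} (hx2 : x * x = 1)
    (hxw : x * w * x⁻¹ = w * z)
    (hY : ∀ t : P, t * w = w * t → t * x = x * t → t * t = 1 → t = 1 ∨ t = z)
    (he2 : e * e = 1) (hew : e * w = w * e) (he1 : e ≠ 1) (hez : e ≠ z) (heww : e ≠ w)
    (hewz : e ≠ w * z) : ∃ f : P, f * w = w * f ∧ f * x = x * f ∧ f * f = z := by
  have hxi : x⁻¹ = x := inv_eq_of_mul_eq_one_left hx2
  have hei : e⁻¹ = e := inv_eq_of_mul_eq_one_left he2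
  have hzi : z⁻¹ = z := inv_eq_of_mul_eq_one_left h.z_sq
  -- conjugation by `x` preserves `T`
  have hTx : ∀ t, t * w = w * t → (x * t * x⁻¹) * w = w * (x * t * x⁻¹) := by
    intro t ht
    have h1 : x * t * x⁻¹ * (w * z) = w * z * (x * t * x⁻¹) := by
      rw [← hxw]
      calc x * t * x⁻¹ * (x * w * x⁻¹) = x * (t * w) * x⁻¹ := by group
        _ = x * (w * t) * x⁻¹ := by rw [ht]
        _ = x * w * x⁻¹ * (x * t * x⁻¹) := by group
    have h2 : x * t * x⁻¹ * w * z = w * (x * t * x⁻¹) * z := by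
      rw [mul_assoc _ w z, h1, mul_assoc w z, ← h.z_comm, mul_assoc w]
    exact mul_right_cancel h2
  set c := x * e * x⁻¹ * e⁻¹ with hc
  have hcw : c * w = w * c := by
    have h1 := hTx e hew
    have h2 : e⁻¹ * w = w * e⁻¹ := by rw [hei, hew]
    rw [hc, mul_assoc, h2, ← mul_assoc, h1, mul_assoc]
  have hcx : x * c * x⁻¹ = c⁻¹ := by
    rw [hc]
    simp only [mul_inv_rev, hxi, hei]
    calc x * (x * e * x * e) * x = (x * x) * e * x * e * x := by group
      _ = e * (x * (e * x)) := by rw [hx2]; group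
  have hcnw : ∀ n : ℕ, c ^ n * w = w * c ^ n := fun n => (Commute.pow_left (show Commute c w from hcw) n).eq
  have hcnx : ∀ n : ℕ, x * c ^ n * x⁻¹ = (c ^ n)⁻¹ := by
    intro n
    rw [← conj_pow, hcx, inv_pow]
  have hpow : ∀ n : ℕ, c ^ n * c ^ n = 1 → c ^ n = 1 ∨ c ^ n = z := by
    intro n hn
    have h1 : (c ^ n)⁻¹ = c ^ n := inv_eq_of_mul_eq_one_left hn
    have h2 := hcnx n
    rw [h1] at h2
    exact hY _ (hcnw n) (mul_inv_eq_iff_eq_mul.1 h2).symm hn
  by_cases hcc : c * c = 1
  · exfalso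
    have h1 := hpow 1 (by rw [pow_one]; exact hcc)
    rw [pow_one] at h1
    rcases h1 with h1 | h1
    · -- `x` commutes with `e`
      have h2 : x * e * x⁻¹ = e := mul_inv_eq_one.1 h1
      rcases hY e hew (mul_inv_eq_iff_eq_mul.1 h2).symm he2 with h3 | h3
      · exact he1 h3
      · exact hez h3
    · have h2 : x * e * x⁻¹ = z * e := mul_inv_eq_iff_eq_mul.1 h1
      have h3 : x * (e * w) * x⁻¹ = e * w := by
        calc x * (e * w) * x⁻¹ = (x * e * x⁻¹) * (x * w * x⁻¹) := by group
          _ = z * e * (w * z) := by rw [h2, hxw]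
          _ = z * (e * w * z) := by group
          _ = (z * z) * (e * w) := by rw [h.z_comm]; group
          _ = e * w := by rw [h.z_sq, one_mul]
      have h4 : e * w * w = w * (e * w) := by rw [hew, mul_assoc, hew]
      have h5 : (e * w) * (e * w) = 1 := by
        calc e * w * (e * w) = e * (w * e) * w := by group
          _ = (e * e) * (w * w) := by rw [← hew]; group
          _ = 1 := by rw [he2, h.w_sq, one_mul]
      have h6 : ∀ u, e * w = u → e = u * w := by
        intro u hu
        rw [← hu, mul_assoc, h.w_sq, mul_one]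
      rcases hY (e * w) h4 (mul_inv_eq_iff_eq_mul.1 h3).symm h5 with h7 | h7
      · apply heww; rw [h6 _ h7, one_mul]
      · apply hewz; rw [h6 _ h7, h.z_comm]
  · obtain ⟨k, hk⟩ := Cfsg.Agent.Classification.NonConnStep.exists_pow_sq hP hpow hcc
    refine ⟨w * c ^ k, ?_, ?_, ?_⟩
    · rw [mul_assoc, hcnw, ← mul_assoc]
    · have h1 : x * (w * c ^ k) * x⁻¹ = w * c ^ k := by
        calc x * (w * c ^ k) * x⁻¹ = (x * w * x⁻¹) * (x * c ^ k * x⁻¹) := by group
          _ = w * (z * (c ^ k)⁻¹) := by rw [hxw, hcnx, mul_assoc]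
          _ = w * c ^ k := by rw [← hk]; group
      exact (mul_inv_eq_iff_eq_mul.1 h1).symm
    · calc w * c ^ k * (w * c ^ k) = w * (c ^ k * w) * c ^ k := by group
        _ = (w * w) * (c ^ k * c ^ k) := by rw [hcnw]; group
        _ = z := by rw [h.w_sq, hk, one_mul]

end Pre

/-- **Existence of the data.** -/
theorem exists_data [Finite P] (hP : IsPGroup 2 P)
    (h3 : ∃ E : Subgroup P, Nat.card E = 8 ∧ ∀ e ∈ E, e ^ 2 = 1) (hd : ¬ Cfsg.IsFourConnected P) :
    ∃ D : Data P, ∃ e : P, e * e = 1 ∧ Commute e D.w ∧ e ≠ 1 ∧ e ≠ D.z ∧ e ≠ D.w ∧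
      e ≠ D.w * D.z := by
  obtain ⟨E, hE, hE2⟩ := h3
  obtain ⟨U, hUn, hU, hU2⟩ := Cfsg.Agent.Involutions.NormalFour.exists_normal_four hP E hE hE2
  obtain ⟨z, w, hzU, hwU, hzc, hz1, hw1, hwz, hall, hconj⟩ :=
    Cfsg.Agent.Involutions.RankThree.four_desc hP U hU hU2
  have hzc' : ∀ g : P, g * z = z * g := fun g => (mem_center_iff.1 hzc g)
  have hpre : Pre z w :=
    { z_ne := hz1
      z_sq := by rw [← pow_two]; exact hU2 z hzU
      z_comm := hzc'
      w_ne := hw1
      w_ne_z := hwz
      w_sq := by rw [← pow_two]; exact hU2 w hwU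
      w_conj := by
        intro g
        rcases hconj g with h1 | h1
        · exact Or.inl h1
        · right; rw [h1, hzc'] }
  obtain ⟨e, he2, hew, he1, hez, heww, hewz⟩ := hpre.exists_e E hE hE2
  have hx : ∃ x : P, x * x = 1 ∧ x * w ≠ w * x ∧
      ∀ t : P, t * w = w * t → t * x = x * t → t * t = 1 → t = 1 ∨ t = z := by
    by_contra hcon
    push Not at hcon
    exact hd (hpre.connected fun x hx2 hxw => by
      obtain ⟨t, h1, h2, h3, h4, h5⟩ := hcon x hx2 hxw
      exact ⟨t, h1, h2, h3, h4, h5⟩)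
  obtain ⟨x, hx2, hxw, hY⟩ := hx
  have hxw' : x * w * x⁻¹ = w * z := mul_inv_eq_iff_eq_mul.2 (hpre.mul_w_of_not hxw)
  let D : Data P :=
    { z := z
      w := w
      x := x
      z_ne := hz1
      z_sq := hpre.z_sq
      z_comm := hzc'
      w_ne := hw1
      w_ne_z := hwz
      w_sq := hpre.w_sq
      w_conj := hpre.w_conj
      x_sq := hx2
      x_w := hxw'
      hY := hY
      hf := hpre.exists_f hP hx2 hxw' hY he2 hew he1 hez heww hewz }
  exact ⟨D, e, he2, hew, he1, hez, heww, hewz⟩

/-- no normal elementary abelian subgroup of order at least 8 -/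
theorem card_le_four [Finite P] (hP : IsPGroup 2 P) (hd : ¬ Cfsg.IsFourConnected P)
    (E : Subgroup P) (hEn : E.Normal) (hE2 : ∀ e ∈ E, e ^ 2 = 1) : Nat.card E ≤ 4 := by
  by_contra hcon
  apply hd
  have hEp : IsPGroup 2 E := hP.to_subgroup E
  obtain ⟨k, hk⟩ := IsPGroup.iff_card.1 hEp
  have h8 : 8 ≤ Nat.card E := by
    rw [hk] at hcon ⊢
    have h3 : 3 ≤ k := by
      by_contra h4
      interval_cases k <;> omega
    calc 8 = 2 ^ 3 := by norm_num
      _ ≤ 2 ^ k := Nat.pow_le_pow_right (by norm_num) h3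
  exact S0502.result hP E ⟨⟨fun a b => Subtype.ext (S0502.comm_of_sq (hE2 a a.2) (hE2 b b.2)
    (hE2 _ (E.mul_mem a.2 b.2)))⟩⟩ hE2 h8

/-- 2-rank at least 3 passes to a Sylow 2-subgroup -/
theorem exists_eight {G : Type*} [Group G] [Finite G] (h3 : ¬ Cfsg.PRankLE 2 2 G) (S : Sylow 2 G) :
    ∃ E : Subgroup ↥(S : Subgroup G), Nat.card E = 8 ∧ ∀ e ∈ E, e ^ 2 = 1 := by
  unfold Cfsg.PRankLE at h3
  push Not at h3
  obtain ⟨A, hAc, hA2, hA4⟩ := h3
  have hAp : IsPGroup 2 A := by
    intro a
    exact ⟨1, by rw [pow_one]; exact Subtype.ext (hA2 a a.2)⟩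
  obtain ⟨k, hk⟩ := IsPGroup.iff_card.1 hAp
  have hk3 : 3 ≤ k := by
    by_contra h4
    rw [hk] at hA4
    interval_cases k <;> omega
  have hdvd : 2 ^ 3 ∣ Nat.card A := by rw [hk]; exact pow_dvd_pow 2 hk3
  obtain ⟨B, hB⟩ := Sylow.exists_subgroup_card_pow_prime 2 hdvd
  -- conjugate `A` into `S`
  obtain ⟨Q, hQ⟩ := hAp.exists_le_sylow
  obtain ⟨g, hg⟩ := MulAction.exists_smul_eq G Q S
  have hconj : ∀ a ∈ A, g * a * g⁻¹ ∈ (S : Subgroup G) := by
    intro a ha
    rw [← hg]
    rw [Sylow.coe_subgroup_smul]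
    exact ⟨a, hQ ha, rfl⟩
  let f : B →* ↥(S : Subgroup G) :=
    { toFun := fun b => ⟨g * ((b : A) : G) * g⁻¹, hconj _ (b : A).2⟩
      map_one' := Subtype.ext (by simp)
      map_mul' := fun a b => Subtype.ext (by simp) }
  have hf : Function.Injective f := by
    intro a b hab
    have h1 : g * ((a : A) : G) * g⁻¹ = g * ((b : A) : G) * g⁻¹ := congrArg Subtype.val hab
    exact Subtype.ext (Subtype.ext (mul_left_cancel (mul_right_cancel h1)))
  refine ⟨f.range, ?_, ?_⟩
  · rw [Nat.card_congr (MonoidHom.ofInjective hf).toEquiv.symm, hB]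
    norm_num
  · rintro _ ⟨b, rfl⟩
    rw [← map_pow]
    have : b ^ 2 = 1 := Subtype.ext (Subtype.ext (hA2 _ (b : A).2))
    rw [this, map_one]

/-- **N1.** The data on a disconnected Sylow 2-subgroup of a group of 2-rank at least 3. -/
theorem main {G : Type*} [Group G] [Finite G] (h3 : ¬ Cfsg.PRankLE 2 2 G) (S : Sylow 2 G)
    (hS : ¬ Cfsg.IsFourConnected (S : Subgroup G)) :
    ∃ D : Data ↥(S : Subgroup G), ∃ e : ↥(S : Subgroup G), e * e = 1 ∧ Commute e D.w ∧ e ≠ 1 ∧
      e ≠ D.z ∧ e ≠ D.w ∧ e ≠ D.w * D.z :=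
  exists_data S.isPGroup' (exists_eight h3 S) hS

end Cfsg.Agent.Classification.NonConnSetup
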