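import Mathlib
import Cfsg.Agent.Classification.NonConnSetup
import Cfsg.Agent.Classification.NonConnFalse
import Cfsg.Agent.Classification.NonConnModelMain
import Cfsg.Agent.Classification.NonConnOrders

/-!
# Simple groups of 2-rank at least 3 whose Sylow 2-subgroups are not four-connected

Such a group has a Sylow 2-subgroup isomorphic to a Sylow 2-subgroup of `J₂`.
-/

set_option autoImplicit false

namespace Cfsg.Agent.Classification.NonConnEnd

open Cfsg.Agent.Classification.NonConnBase

/-- The Sylow 2-subgroup of a simple group of 2-rank at least 3 which is not four-connected is of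
type `J₂`. -/
theorem exists_setup {G : Type*} [Group G] [Finite G] [IsSimpleGroup G]
    (h3 : ¬ Cfsg.PRankLE 2 2 G) (S : Sylow 2 G) (hS : ¬ Cfsg.IsFourConnected (S : Subgroup G)) :
    ∃ h : Cfsg.Agent.J2Sylow.Setup G, h.S = (S : Subgroup G) := by
  obtain ⟨D, e, he, hew, he1, hez, hew1, hewz⟩ := NonConnSetup.main h3 S hS
  have hG : ¬ ∀ a b : G, a * b = b * a := by
    intro hab
    apply D.not_commute_x
    exact Subtype.ext (hab _ _)
  obtain ⟨g, hg⟩ := isConj_iff.1 (NonConnFalse.isConj_z_w hG S D)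
  obtain ⟨h, hS', -⟩ := NonConnModelMain.main S D ⟨g, hg⟩
    ⟨e, he, hew.eq, by
      rintro (h | h | h | h)
      · exact he1 h
      · exact hez h
      · exact hew1 h
      · exact hewz h⟩
  exact ⟨h, hS'⟩

/-- Statement S0503, given the characterisation of `J₂` and `J₃` by a Sylow 2-subgroup -/
theorem result_of {G : Type*} [Group G] [Finite G] [IsSimpleGroup G]
    (hJ : Cfsg.Agent.J2Sylow.Setup G → Cfsg.Spor.IsoJ2 G ∨ Cfsg.Spor.IsoJ3 G)
    (h3 : ¬ Cfsg.PRankLE 2 2 G) (S : Sylow 2 G) (hS : ¬ Cfsg.IsFourConnected (S : Subgroup G)) :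
    Cfsg.IsJ2 G ∨ Cfsg.IsJ3 G := by
  obtain ⟨h, -⟩ := exists_setup h3 S hS
  exact NonConnOrders.isJ2_or_isJ3 (hJ h)

end Cfsg.Agent.Classification.NonConnEnd
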