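import Cfsg.Agent.Classification.NonConnFused
import Cfsg.Agent.J2Sylow.Model

/-!
# The Sylow 2-subgroup in the fused non-connected case is `J2Sylow.Model.T`

From the output `NonConnFused.Out` of the fused case we construct an isomorphism of the explicit
group `Cfsg.Agent.J2Sylow.Model.T` of order 128 with `S = T ⟨x⟩`.
-/

set_option autoImplicit false

namespace Cfsg.Agent.Classification.NonConnModel

open Cfsg.Agent.J2Sylow.Model
open Cfsg.Agent.J2Sylow.Model.F4 (fr)

/-- relations in the generators `p, q` of `E` modulo `⟨z, w⟩`, and `x` -/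
structure Rel {G : Type*} [Group G] (x z w p q : G) : Prop where
  x2 : x * x = 1
  z2 : z * z = 1
  w2 : w * w = 1
  p2 : p * p = 1
  q2 : q * q = 1
  zw : z * w = w * z
  zp : z * p = p * z
  zq : z * q = q * z
  wp : w * p = p * w
  wq : w * q = q * w
  pq : p * q = q * p
  xz : x * z = z * x
  xw : x * w = w * z * x
  pP : p * (x * p * x) = x * p * x * p * z
  qQ : q * (x * q * x) = x * q * x * q * z
  qP : q * (x * p * x) = x * p * x * q * w
  pQ : p * (x * q * x) = x * q * x * p * (w * z)

namespace Rel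

variable {G : Type*} [Group G] {x z w p q : G}

/-- the map `F4 → E` -/
def f1 (p q : G) : F4 → G
  | .o => 1
  | .e => p
  | .w => q
  | .u => p * q

/-- the map `F4 → ⟨z, w⟩` -/
def fz (z w : G) : F4 → G
  | .o => 1
  | .e => z
  | .w => w
  | .u => w * z

/-- the map `F4 → E^x` -/
def f2 (x p q : G) (b : F4) : G := x * f1 p q (fr b) * x

theorem f1_comm (h : Rel x z w p q) (a b : F4) : f1 p q a * f1 p q b = f1 p q b * f1 p q a := by
  have h1 : Commute p q := h.pq
  cases a <;> cases b <;> simp only [f1, mul_one, one_mul]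
  · exact h1
  · exact ((Commute.refl p).mul_right h1)
  · exact h1.symm
  · exact (h1.symm.mul_right (Commute.refl q))
  · exact ((Commute.refl p).mul_right h1).symm
  · exact (h1.symm.mul_right (Commute.refl q)).symm

theorem f1_add (h : Rel x z w p q) (a b : F4) : f1 p q (a + b) = f1 p q a * f1 p q b := by
  have h1 := h.pq
  have hp := h.p2
  have hq := h.q2
  have e1 : p * (p * q) = q := by rw [← mul_assoc, hp, one_mul]
  have e2 : q * (p * q) = p := by rw [← mul_assoc, ← h1, mul_assoc, hq, mul_one]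
  have e3 : p * q * p = q := by rw [h1, mul_assoc, hp, mul_one]
  have e4 : p * q * q = p := by rw [mul_assoc, hq, mul_one]
  have e5 : p * q * (p * q) = 1 := by rw [← mul_assoc, e3, hq]
  cases a <;> cases b
  · show (1 : G) = 1 * 1; rw [one_mul]
  · show p = 1 * p; rw [one_mul]
  · show q = 1 * q; rw [one_mul]
  · show p * q = 1 * (p * q); rw [one_mul]
  · show p = p * 1; rw [mul_one]
  · show 1 = p * p; rw [hp]
  · show p * q = p * q; rfl
  · show q = p * (p * q); rw [e1]
  · show q = q * 1; rw [mul_one]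
  · show p * q = q * p; rw [h1]
  · show 1 = q * q; rw [hq]
  · show p = q * (p * q); rw [e2]
  · show p * q = p * q * 1; rw [mul_one]
  · show q = p * q * p; rw [e3]
  · show p = p * q * q; rw [e4]
  · show 1 = p * q * (p * q); rw [e5]

theorem fz_add (h : Rel x z w p q) (a b : F4) : fz z w (a + b) = fz z w a * fz z w b := by
  have h1 := h.zw
  have hz := h.z2
  have hw := h.w2
  have e1 : z * (w * z) = w := by rw [← mul_assoc, h1, mul_assoc, hz, mul_one]
  have e2 : w * (w * z) = z := by rw [← mul_assoc, hw, one_mul]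
  have e3 : w * z * z = w := by rw [mul_assoc, hz, mul_one]
  have e4 : w * z * w = z := by rw [← h1, mul_assoc, hw, mul_one]
  have e5 : w * z * (w * z) = 1 := by rw [← mul_assoc, e4, hz]
  cases a <;> cases b
  · show (1 : G) = 1 * 1; rw [one_mul]
  · show z = 1 * z; rw [one_mul]
  · show w = 1 * w; rw [one_mul]
  · show w * z = 1 * (w * z); rw [one_mul]
  · show z = z * 1; rw [mul_one]
  · show 1 = z * z; rw [hz]
  · show w * z = z * w; rw [h1]
  · show w = z * (w * z); rw [e1]
  · show w = w * 1; rw [mul_one]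
  · show w * z = w * z; rfl
  · show 1 = w * w; rw [hw]
  · show z = w * (w * z); rw [e2]
  · show w * z = w * z * 1; rw [mul_one]
  · show w = w * z * z; rw [e3]
  · show z = w * z * w; rw [e4]
  · show 1 = w * z * (w * z); rw [e5]

theorem fz_f1 (h : Rel x z w p q) (c a : F4) : Commute (fz z w c) (f1 p q a) := by
  have h1 : Commute z p := h.zp
  have h2 : Commute z q := h.zq
  have h3 : Commute w p := h.wp
  have h4 : Commute w q := h.wq
  have k1 : ∀ a : F4, Commute z (f1 p q a) := by
    intro a
    cases a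
    · exact Commute.one_right _
    · exact h1
    · exact h2
    · exact h1.mul_right h2
  have k2 : ∀ a : F4, Commute w (f1 p q a) := by
    intro a
    cases a
    · exact Commute.one_right _
    · exact h3
    · exact h4
    · exact h3.mul_right h4
  cases c
  · exact Commute.one_left _
  · exact k1 a
  · exact k2 a
  · exact (k2 a).mul_left (k1 a)

theorem x_fz (h : Rel x z w p q) (c : F4) : x * fz z w c = fz z w (fr c) * x := by
  cases c
  · show x * 1 = 1 * x; rw [mul_one, one_mul]
  · exact h.xz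
  · exact h.xw
  · show x * (w * z) = w * x
    rw [← mul_assoc, h.xw, mul_assoc, h.xz, ← mul_assoc, mul_assoc w z z, h.z2, mul_one]

theorem fz_f2 (h : Rel x z w p q) (c b : F4) : Commute (fz z w c) (f2 x p q b) := by
  have h1 : fz z w c * x = x * fz z w (fr c) := by
    have := h.x_fz (fr c)
    rw [F4.fr_fr] at this
    exact this.symm
  show fz z w c * (x * f1 p q (fr b) * x) = x * f1 p q (fr b) * x * fz z w c
  calc fz z w c * (x * f1 p q (fr b) * x) = (fz z w c * x) * f1 p q (fr b) * x := by
        simp only [mul_assoc]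
    _ = x * (fz z w (fr c) * f1 p q (fr b)) * x := by rw [h1]; simp only [mul_assoc]
    _ = x * f1 p q (fr b) * (fz z w (fr c) * x) := by
        rw [(h.fz_f1 (fr c) (fr b)).eq]; simp only [mul_assoc]
    _ = x * f1 p q (fr b) * x * fz z w c := by rw [← h.x_fz c]; simp only [mul_assoc]

theorem f2_add (h : Rel x z w p q) (a b : F4) : f2 x p q (a + b) = f2 x p q a * f2 x p q b := by
  unfold f2
  rw [F4.fr_add, h.f1_add]
  calc x * (f1 p q (fr a) * f1 p q (fr b)) * x
      = x * f1 p q (fr a) * (1 : G) * (f1 p q (fr b)) * x := by simp only [mul_assoc, one_mul]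
    _ = x * f1 p q (fr a) * x * (x * f1 p q (fr b) * x) := by
        rw [← h.x2]; simp only [mul_assoc]

/-- the commutator relation for a pair -/
def Q (x z w p q : G) (a b : F4) : Prop :=
  f1 p q a * f2 x p q b = f2 x p q b * f1 p q a * fz z w (a * b)

theorem Q_add_left (h : Rel x z w p q) {a a' b : F4} (h1 : Q x z w p q a b)
    (h2 : Q x z w p q a' b) : Q x z w p q (a + a') b := by
  unfold Q at *
  rw [add_mul, h.fz_add, h.f1_add]
  calc f1 p q a * f1 p q a' * f2 x p q b = f1 p q a * (f1 p q a' * f2 x p q b) := by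
        rw [mul_assoc]
    _ = (f1 p q a * f2 x p q b) * f1 p q a' * fz z w (a' * b) := by
        rw [h2]; simp only [mul_assoc]
    _ = f2 x p q b * f1 p q a * (fz z w (a * b) * f1 p q a') * fz z w (a' * b) := by
        rw [h1]; simp only [mul_assoc]
    _ = f2 x p q b * (f1 p q a * f1 p q a') * (fz z w (a * b) * fz z w (a' * b)) := by
        rw [(h.fz_f1 _ _).eq]; simp only [mul_assoc]

theorem Q_add_right (h : Rel x z w p q) {a b b' : F4} (h1 : Q x z w p q a b)
    (h2 : Q x z w p q a b') : Q x z w p q a (b + b') := by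
  unfold Q at *
  rw [mul_add, h.fz_add, h.f2_add]
  calc f1 p q a * (f2 x p q b * f2 x p q b') = (f1 p q a * f2 x p q b) * f2 x p q b' := by
        rw [mul_assoc]
    _ = f2 x p q b * f1 p q a * (fz z w (a * b) * f2 x p q b') := by
        rw [h1]; simp only [mul_assoc]
    _ = f2 x p q b * (f1 p q a * f2 x p q b') * fz z w (a * b) := by
        rw [(h.fz_f2 _ _).eq]; simp only [mul_assoc]
    _ = f2 x p q b * f2 x p q b' * f1 p q a * (fz z w (a * b') * fz z w (a * b)) := by
        rw [h2]; simp only [mul_assoc]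
    _ = f2 x p q b * f2 x p q b' * f1 p q a * (fz z w (a * b) * fz z w (a * b')) := by
        rw [← h.fz_add, ← h.fz_add, add_comm]

theorem Q_all (h : Rel x z w p q) (a b : F4) : Q x z w p q a b := by
  have h0 : ∀ b, Q x z w p q .o b := by
    intro b
    show 1 * f2 x p q b = f2 x p q b * 1 * fz z w (.o * b)
    have : (F4.o * b : F4) = .o := by revert b; decide
    rw [this]
    show 1 * f2 x p q b = f2 x p q b * 1 * 1
    rw [one_mul, mul_one, mul_one]
  have h0' : ∀ a, Q x z w p q a .o := by
    intro a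
    show f1 p q a * (x * 1 * x) = (x * 1 * x) * f1 p q a * fz z w (a * .o)
    have : (a * F4.o : F4) = .o := by revert a; decide
    rw [this, mul_one, h.x2]
    show f1 p q a * 1 = 1 * f1 p q a * 1
    rw [one_mul]
  have hee : Q x z w p q .e .e := h.pP
  have heu : Q x z w p q .e .u := h.pQ
  have hwe : Q x z w p q .w .e := h.qP
  have hwu : Q x z w p q .w .u := h.qQ
  have hue : Q x z w p q .u .e := h.Q_add_left hee hwe
  have huu : Q x z w p q .u .u := h.Q_add_left heu hwu
  have hew : Q x z w p q .e .w := h.Q_add_right hee heu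
  have hww : Q x z w p q .w .w := h.Q_add_right hwe hwu
  have huw : Q x z w p q .u .w := h.Q_add_right hue huu
  cases a <;> cases b <;> first | exact h0 _ | exact h0' _ | assumption

theorem x_f1 (h : Rel x z w p q) (a : F4) : x * f1 p q a = f2 x p q (fr a) * x := by
  unfold f2
  rw [F4.fr_fr, mul_assoc (x * f1 p q a) x x, h.x2, mul_one]

theorem x_f2 (h : Rel x z w p q) (b : F4) : x * f2 x p q b = f1 p q (fr b) * x := by
  unfold f2
  rw [← mul_assoc, ← mul_assoc, h.x2, one_mul]

/-- the element of `S` with given coordinates -/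
def F (x z w p q : G) (t : J2Sylow.Model.T) : G :=
  f2 x p q t.b * f1 p q t.a * fz z w t.c * (if t.s then x else 1)

theorem F_mul (h : Rel x z w p q) (s t : J2Sylow.Model.T) :
    F x z w p q (s * t) = F x z w p q s * F x z w p q t := by
  obtain ⟨a, b, c, s⟩ := s
  obtain ⟨a', b', c', s'⟩ := t
  have hQ := fun a b => h.Q_all a b
  unfold Q at hQ
  cases s
  · rw [T.mul_false]
    unfold F
    simp only
    generalize (if s' = true then x else 1) = y
    rw [h.f2_add, h.f1_add, h.fz_add, h.fz_add]
    simp only [Bool.false_eq_true, if_false, mul_one]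
    symm
    calc f2 x p q b * f1 p q a * fz z w c * (f2 x p q b' * f1 p q a' * fz z w c' * y)
        = f2 x p q b * f1 p q a * (fz z w c * f2 x p q b') * f1 p q a' * fz z w c' * y := by
          simp only [mul_assoc]
      _ = f2 x p q b * (f1 p q a * f2 x p q b') * (fz z w c * f1 p q a') * fz z w c' * y := by
          rw [(h.fz_f2 _ _).eq]; simp only [mul_assoc]
      _ = f2 x p q b * f2 x p q b' * f1 p q a * (fz z w (a * b') * f1 p q a') * fz z w c
            * fz z w c' * y := by
          rw [hQ, (h.fz_f1 _ _).eq]; simp only [mul_assoc]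
      _ = f2 x p q b * f2 x p q b' * (f1 p q a * f1 p q a') * (fz z w (a * b') * (fz z w c
            * fz z w c')) * y := by
          rw [(h.fz_f1 _ _).eq]; simp only [mul_assoc]
      _ = f2 x p q b * f2 x p q b' * (f1 p q a * f1 p q a') * (fz z w c
            * fz z w c' * fz z w (a * b')) * y := by
          rw [← h.fz_add c c', ← h.fz_add, ← h.fz_add, add_comm (a * b')]
  · rw [T.mul_true]
    have hy : x * (if s' = true then x else 1) = (if (!s') = true then x else 1) := by
      cases s'
      · simp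
      · simp [h.x2]
    unfold F
    simp only
    rw [h.f2_add, h.f1_add, h.fz_add, h.fz_add, h.fz_add, F4.fr_mul, ← hy]
    simp only [if_true]
    generalize (if s' = true then x else 1) = y
    symm
    calc f2 x p q b * f1 p q a * fz z w c * x * (f2 x p q b' * f1 p q a' * fz z w c' * y)
        = f2 x p q b * f1 p q a * fz z w c * (x * f2 x p q b') * f1 p q a' * fz z w c' * y := by
          simp only [mul_assoc]
      _ = f2 x p q b * f1 p q a * (fz z w c * f1 p q (fr b')) * (x * f1 p q a') * fz z w c' * y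
          := by
          rw [h.x_f2]; simp only [mul_assoc]
      _ = f2 x p q b * (f1 p q a * f1 p q (fr b')) * (fz z w c * f2 x p q (fr a')) *
            (x * fz z w c') * y := by
          rw [h.x_f1, (h.fz_f1 _ _).eq]; simp only [mul_assoc]
      _ = f2 x p q b * (f1 p q (a + fr b') * f2 x p q (fr a')) * fz z w c *
            fz z w (fr c') * (x * y) := by
          rw [h.x_fz, (h.fz_f2 _ _).eq, ← h.f1_add]; simp only [mul_assoc]
      _ = f2 x p q b * f2 x p q (fr a') * f1 p q (a + fr b') * (fz z w ((a + fr b') * fr a') *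
            (fz z w c * fz z w (fr c'))) * (x * y) := by
          rw [hQ]; simp only [mul_assoc]
      _ = f2 x p q b * f2 x p q (fr a') * (f1 p q a * f1 p q (fr b')) * (fz z w c *
            fz z w (fr c') * (fz z w (fr a' * fr b') * fz z w (a * fr a'))) * (x * y) := by
          rw [h.f1_add, ← h.fz_add c, ← h.fz_add, ← h.fz_add (fr a' * fr b'), ← h.fz_add]
          have : (a + fr b') * fr a' + (c + fr c') = c + fr c' + (fr a' * fr b' + a * fr a') := by
            ring
          rw [this]

/-- the homomorphism from the model -/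
def hom (h : Rel x z w p q) : J2Sylow.Model.T →* G := MonoidHom.mk' (F x z w p q) h.F_mul

theorem hom_apply (h : Rel x z w p q) (t : J2Sylow.Model.T) : h.hom t = F x z w p q t := rfl

end Rel


section Construct

open NonConnFused

variable {G : Type*} [Group G] {T E : Subgroup G} {x r z w : G}

/-- the commutator of `a` and `x b x⁻¹` -/
def kap (x a b : G) : G := a * (x * b * x⁻¹) * a⁻¹ * (x * b * x⁻¹)⁻¹

/-- membership in `⟨z, w⟩` -/
def W4 (z w a : G) : Prop := a = 1 ∨ a = z ∨ a = w ∨ a = w * z

theorem x_conj_back (h : Hyp T x r z w) (t : G) : x⁻¹ * t * x = x * t * x⁻¹ := by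
  rw [h.x_inv]

theorem kap_mem (h : Hyp T x r z w) (o : Out T x r z w E) {a b : G} (ha : a ∈ E) (hb : b ∈ E) :
    W4 z w (kap x a b) := by
  have haT : a ∈ T := o.le ha
  have hbT : x * b * x⁻¹ ∈ T := h.xT b (o.le hb)
  have h1 : kap x a b ∈ E := by
    have e : kap x a b = a * ((x * b * x⁻¹) * a⁻¹ * (x * b * x⁻¹)⁻¹) := by
      unfold kap; simp only [mul_assoc]
    rw [e]
    exact E.mul_mem ha (o.normal _ hbT _ (E.inv_mem ha))
  have h2 : x * kap x a b * x⁻¹ ∈ E := by
    have haX : x * a * x⁻¹ ∈ T := h.xT a haT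
    have hxx := h.x2
    have hxi := h.x_inv
    have e : x * kap x a b * x⁻¹ = (x * a * x⁻¹) * b * (x * a * x⁻¹)⁻¹ * b⁻¹ := by
      unfold kap
      rw [hxi]
      have e1 : (x * b * x)⁻¹ = x * b⁻¹ * x := by
        rw [mul_inv_rev, mul_inv_rev, hxi, mul_assoc]
      have e2 : (x * a * x)⁻¹ = x * a⁻¹ * x := by
        rw [mul_inv_rev, mul_inv_rev, hxi, mul_assoc]
      rw [e1, e2]
      calc x * (a * (x * b * x) * a⁻¹ * (x * b⁻¹ * x)) * x
          = x * a * x * b * (x * a⁻¹ * x) * b⁻¹ * (x * x) := by simp only [mul_assoc]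
        _ = x * a * x * b * (x * a⁻¹ * x) * b⁻¹ := by rw [hxx, mul_one]
    rw [e]
    exact E.mul_mem (o.normal _ haX _ hb) (E.inv_mem hb)
  exact o.inf _ h1 h2

theorem W4_mem (o : Out T x r z w E) {a : G} (ha : W4 z w a) : a ∈ E := by
  rcases ha with h | h | h | h
  · rw [h]; exact E.one_mem
  · rw [h]; exact o.z_mem
  · rw [h]; exact o.w_mem
  · rw [h]; exact E.mul_mem o.w_mem o.z_mem

theorem E_comm (o : Out T x r z w E) {a b : G} (ha : a ∈ E) (hb : b ∈ E) : a * b = b * a := by
  have h1 := o.sq _ (E.mul_mem ha hb)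
  have h2 := o.sq _ ha
  have h3 := o.sq _ hb
  have h4 : a * b = (a * b)⁻¹ := eq_inv_of_mul_eq_one_left h1
  rw [h4, mul_inv_rev, inv_eq_of_mul_eq_one_right h2, inv_eq_of_mul_eq_one_right h3]

/-- central elements of `T` commute with everything in `T` -/
theorem W4_central (h : Hyp T x r z w) {a t : G} (ha : W4 z w a) (ht : t ∈ T) :
    t * a = a * t := by
  have h1 := h.zc t ht
  have h2 := h.wc t ht
  rcases ha with e | e | e | e
  · rw [e, mul_one, one_mul]
  · rw [e, h1]
  · rw [e, h2]
  · rw [e, ← mul_assoc, h2, mul_assoc, h1, mul_assoc]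

theorem zw_comm (h : Hyp T x r z w) : z * w = w * z := h.wc z h.zT

theorem W4_sq (h : Hyp T x r z w) {a : G} (ha : W4 z w a) : a * a = 1 := by
  have h1 := h.z2
  have h2 := h.w2
  have h3 := zw_comm h
  rcases ha with e | e | e | e
  · rw [e, mul_one]
  · rw [e, h1]
  · rw [e, h2]
  · rw [e]
    calc w * z * (w * z) = w * (z * w) * z := by simp only [mul_assoc]
      _ = w * w * (z * z) := by rw [h3]; simp only [mul_assoc]
      _ = 1 := by rw [h1, h2, one_mul]

/-- the defining property of `kap` -/
theorem kap_spec {a b : G} : a * (x * b * x⁻¹) = kap x a b * (x * b * x⁻¹) * a := by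
  unfold kap; group

theorem kap_swap (h : Hyp T x r z w) (o : Out T x r z w E) {a b : G} (ha : a ∈ E) (hb : b ∈ E) :
    kap x b a = x * kap x a b * x⁻¹ := by
  have e : x * kap x a b * x⁻¹ = (kap x b a)⁻¹ := by
    have e1 : x * kap x a b * x⁻¹ = (x * a * x⁻¹) * (x * (x * b * x⁻¹) * x⁻¹) *
        (x * a * x⁻¹)⁻¹ * (x * (x * b * x⁻¹) * x⁻¹)⁻¹ := by
      unfold kap; group
    rw [e1, h.conj_conj b]
    unfold kap; group
  rw [e]
  exact (inv_eq_of_mul_eq_one_right (W4_sq h (kap_mem h o hb ha))).symm

theorem kap_mul_left (h : Hyp T x r z w) (o : Out T x r z w E) {a a' b : G} (ha : a ∈ E)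
    (ha' : a' ∈ E) (hb : b ∈ E) : kap x (a * a') b = kap x a b * kap x a' b := by
  have h1 : a * kap x a' b = kap x a' b * a := W4_central h (kap_mem h o ha' hb) (o.le ha)
  have h2 : kap x (a * a') b = a * kap x a' b * a⁻¹ * kap x a b := by
    unfold kap; group
  rw [h2, h1, mul_inv_cancel_right]
  exact (W4_central h (kap_mem h o ha hb) (o.le (W4_mem o (kap_mem h o ha' hb))))

theorem kap_mul_right (h : Hyp T x r z w) (o : Out T x r z w E) {a b b' : G} (ha : a ∈ E)
    (hb : b ∈ E) (hb' : b' ∈ E) : kap x a (b * b') = kap x a b * kap x a b' := by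
  have h1 : (x * b * x⁻¹) * kap x a b' = kap x a b' * (x * b * x⁻¹) :=
    W4_central h (kap_mem h o ha hb') (h.xT _ (o.le hb))
  have h2 : kap x a (b * b') = kap x a b * ((x * b * x⁻¹) * kap x a b' * (x * b * x⁻¹)⁻¹) := by
    unfold kap; group
  rw [h2, h1, mul_inv_cancel_right]

theorem wz_ne_w (h : Hyp T x r z w) : w * z ≠ w := fun e => h.z1 (mul_eq_left.1 e)

/-- an element of `⟨z, w⟩` fixed by `x` is `1` or `z` -/
theorem fixed_W4 (h : Hyp T x r z w) {a : G} (ha : W4 z w a) (hx : x * a * x⁻¹ = a) :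
    a = 1 ∨ a = z := by
  rcases ha with e | e | e | e
  · exact Or.inl e
  · exact Or.inr e
  · exfalso
    rw [e, h.xw] at hx
    exact wz_ne_w h hx
  · exfalso
    have : x * (w * z) * x⁻¹ = w := by
      calc x * (w * z) * x⁻¹ = (x * w * x⁻¹) * (x * z * x⁻¹) := by group
        _ = w * z * z := by rw [h.xw, h.xz]
        _ = w := by rw [mul_assoc, h.z2, mul_one]
    rw [e, this] at hx
    exact wz_ne_w h hx.symm

theorem kap_self (h : Hyp T x r z w) (o : Out T x r z w E) {a : G} (ha : a ∈ E)
    (hn : ¬ W4 z w a) : kap x a a = z := by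
  rcases fixed_W4 h (kap_mem h o ha ha) (kap_swap h o ha ha).symm with e | e
  · exfalso
    have hspec : a * (x * a * x⁻¹) = kap x a a * (x * a * x⁻¹) * a := kap_spec
    rw [e, one_mul] at hspec
    have haX : x * a * x⁻¹ ∈ T := h.xT a (o.le ha)
    have ht : a * (x * a * x⁻¹) ∈ T := T.mul_mem (o.le ha) haX
    have hxi := h.x_inv
    have hcx : a * (x * a * x⁻¹) * x = x * (a * (x * a * x⁻¹)) := by
      have hxx := h.x2
      have e3 : x * (x * a * x⁻¹ * a) = a * (x * a) := by
        rw [hxi]
        calc x * (x * a * x * a) = (x * x) * (a * (x * a)) := by simp only [mul_assoc]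
          _ = a * (x * a) := by rw [hxx, one_mul]
      rw [hspec, e3, ← hspec]
      group
    have ha2 := o.sq a ha
    have haX2 : (x * a * x⁻¹) * (x * a * x⁻¹) = 1 := by
      calc (x * a * x⁻¹) * (x * a * x⁻¹) = x * (a * a) * x⁻¹ := by group
        _ = 1 := by rw [ha2, mul_one, mul_inv_cancel]
    have hsq : a * (x * a * x⁻¹) * (a * (x * a * x⁻¹)) = 1 := by
      calc a * (x * a * x⁻¹) * (a * (x * a * x⁻¹))
          = a * ((x * a * x⁻¹) * a) * (x * a * x⁻¹) := by simp only [mul_assoc]
        _ = (a * a) * ((x * a * x⁻¹) * (x * a * x⁻¹)) := by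
            rw [← hspec]; simp only [mul_assoc]
        _ = 1 := by rw [ha2, haX2, one_mul]
    have hmem : x * a * x⁻¹ ∈ E := by
      have e2 : x * a * x⁻¹ = a⁻¹ * (a * (x * a * x⁻¹)) := by group
      rcases h.hY _ ht hcx hsq with e1 | e1
      · rw [e2, e1, mul_one]; exact E.inv_mem ha
      · rw [e2, e1]; exact E.mul_mem (E.inv_mem ha) o.z_mem
    exact hn (o.inf a ha hmem)
  · exact e

theorem W4_iff_mem (h : Hyp T x r z w) {a : G} : W4 z w a ↔ a ∈ h.W := h.mem_W.symm

theorem W4_mul (h : Hyp T x r z w) {a b : G} (ha : W4 z w a) (hb : W4 z w b) : W4 z w (a * b) := by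
  rw [W4_iff_mem h] at *
  exact h.W.mul_mem ha hb

theorem W4_inv (h : Hyp T x r z w) {a : G} (ha : W4 z w a) : W4 z w a⁻¹ := by
  rw [W4_iff_mem h] at *
  exact h.W.inv_mem ha

/-- two elements of `E` independent modulo `⟨z, w⟩` -/
theorem exists_pair (_h : Hyp T x r z w) (o : Out T x r z w E) :
    ∃ p q : G, p ∈ E ∧ q ∈ E ∧ ¬ W4 z w p ∧ ¬ W4 z w q ∧ ¬ W4 z w (p * q) := by
  classical
  have hfin : Finite E := Nat.finite_of_card_ne_zero (by rw [o.card]; norm_num)
  have hEfin : (E : Set G).Finite := Set.toFinite _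
  have hcardE : (E : Set G).ncard = 16 := o.card
  have h1 : ∃ p ∈ E, ¬ W4 z w p := by
    by_contra hcon
    push Not at hcon
    have hsub : (E : Set G) ⊆ (({1, z, w, w * z} : Finset G) : Set G) := by
      intro a ha
      rcases hcon a ha with e | e | e | e <;> simp [e]
    have h2 := Set.ncard_le_ncard hsub (Finset.finite_toSet _)
    rw [hcardE, Set.ncard_coe_finset] at h2
    have h3 := Finset.card_le_four (a := (1 : G)) (b := z) (c := w) (d := w * z)
    omega
  obtain ⟨p, hp, hpn⟩ := h1
  have h2 : ∃ q ∈ E, ¬ W4 z w q ∧ ¬ W4 z w (p * q) := by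
    by_contra hcon
    push Not at hcon
    have hsub : (E : Set G) ⊆ (({1, z, w, w * z} ∪ {p⁻¹ * 1, p⁻¹ * z, p⁻¹ * w, p⁻¹ * (w * z)} :
        Finset G) : Set G) := by
      intro a ha
      by_cases hW : W4 z w a
      · rcases hW with e | e | e | e <;> simp [e]
      · rcases hcon a ha hW with e | e | e | e
        · have : a = p⁻¹ * 1 := by rw [← e]; group
          simp [this]
        · have : a = p⁻¹ * z := by rw [← e]; group
          simp [this]
        · have : a = p⁻¹ * w := by rw [← e]; group
          simp [this]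
        · have : a = p⁻¹ * (w * z) := by rw [← e]; group
          simp [this]
    have h2 := Set.ncard_le_ncard hsub (Finset.finite_toSet _)
    rw [hcardE, Set.ncard_coe_finset] at h2
    have h3 := Finset.card_le_four (a := (1 : G)) (b := z) (c := w) (d := w * z)
    have h4 := Finset.card_le_four (a := p⁻¹ * (1 : G)) (b := p⁻¹ * z) (c := p⁻¹ * w)
      (d := p⁻¹ * (w * z))
    have h5 := Finset.card_union_le ({1, z, w, w * z} : Finset G)
      {p⁻¹ * 1, p⁻¹ * z, p⁻¹ * w, p⁻¹ * (w * z)}
    omega
  obtain ⟨q, hq, hqn, hpq⟩ := h2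
  exact ⟨p, q, hp, hq, hpn, hqn, hpq⟩

/-- the good basis -/
theorem exists_rel (h : Hyp T x r z w) (o : Out T x r z w E) :
    ∃ p q : G, p ∈ E ∧ q ∈ E ∧ ¬ W4 z w p ∧ ¬ W4 z w q ∧ ¬ W4 z w (p * q) ∧
      kap x q p = w ∧ kap x p q = w * z := by
  obtain ⟨p, q, hp, hq, hpn, hqn, hpqn⟩ := exists_pair h o
  have hprod : kap x p q * kap x q p = z := by
    have h1 := kap_self h o (E.mul_mem hp hq) hpqn
    rw [kap_mul_left h o hp hq (E.mul_mem hp hq), kap_mul_right h o hp hp hq,
      kap_mul_right h o hq hp hq, kap_self h o hp hpn, kap_self h o hq hqn] at h1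
    have hA := W4_mem o (kap_mem h o hp hq)
    have hB := W4_mem o (kap_mem h o hq hp)
    have hz := o.z_mem
    have hzz := h.z2
    calc kap x p q * kap x q p = (z * z) * (kap x p q * kap x q p) := by rw [hzz, one_mul]
      _ = z * kap x p q * (kap x q p * z) := by
          rw [E_comm o hB hz]
          calc z * z * (kap x p q * kap x q p) = z * (z * kap x p q) * kap x q p := by
                simp only [mul_assoc]
            _ = z * (kap x p q * z) * kap x q p := by rw [E_comm o hz hA]
            _ = z * kap x p q * (z * kap x q p) := by simp only [mul_assoc]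
      _ = z := h1
  have hswap : kap x q p = x * kap x p q * x⁻¹ := kap_swap h o hp hq
  have hxwz : x * (w * z) * x⁻¹ = w := by
    calc x * (w * z) * x⁻¹ = (x * w * x⁻¹) * (x * z * x⁻¹) := by group
      _ = w * z * z := by rw [h.xw, h.xz]
      _ = w := by rw [mul_assoc, h.z2, mul_one]
  rcases kap_mem h o hp hq with e | e | e | e
  · exfalso
    rw [e] at hswap
    rw [mul_one, mul_inv_cancel] at hswap
    rw [e, hswap, mul_one] at hprod
    exact h.z1 hprod.symm
  · exfalso
    rw [e, h.xz] at hswap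
    rw [e, hswap, h.z2] at hprod
    exact h.z1 hprod.symm
  · refine ⟨q, p, hq, hp, hqn, hpn, ?_, e, ?_⟩
    · rw [E_comm o hq hp]; exact hpqn
    · rw [hswap, e, h.xw]
  · refine ⟨p, q, hp, hq, hpn, hqn, hpqn, ?_, e⟩
    rw [hswap, e, hxwz]

/-- **main theorem**: in the fused case the Sylow subgroup is the model -/
theorem nonempty_mulEquiv (h : Hyp T x r z w) (o : Out T x r z w E) (S : Subgroup G)
    (hTS : T ≤ S) (hxS : x ∈ S) (hS : Nat.card S = 128) :
    Nonempty (J2Sylow.Model.T ≃* S) := by
  obtain ⟨p, q, hp, hq, hpn, hqn, hpqn, k1, k2⟩ := exists_rel h o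
  have hxi := h.x_inv
  have kspec : ∀ a b : G, a ∈ E → b ∈ E → a * (x * b * x) = x * b * x * a * kap x a b := by
    intro a b ha hb
    have h1 : a * (x * b * x⁻¹) = kap x a b * (x * b * x⁻¹) * a := kap_spec
    have hm : x * b * x⁻¹ * a ∈ T := T.mul_mem (h.xT _ (o.le hb)) (o.le ha)
    have h2 : (x * b * x⁻¹ * a) * kap x a b = kap x a b * (x * b * x⁻¹ * a) :=
      W4_central h (kap_mem h o ha hb) hm
    rw [hxi] at h1 h2
    rw [h1, h2, mul_assoc (kap x a b)]
  have rel : Rel x z w p q :=
    { x2 := h.x2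
      z2 := h.z2
      w2 := h.w2
      p2 := o.sq p hp
      q2 := o.sq q hq
      zw := zw_comm h
      zp := E_comm o o.z_mem hp
      zq := E_comm o o.z_mem hq
      wp := E_comm o o.w_mem hp
      wq := E_comm o o.w_mem hq
      pq := E_comm o hp hq
      xz := mul_inv_eq_iff_eq_mul.1 h.xz
      xw := mul_inv_eq_iff_eq_mul.1 h.xw
      pP := by rw [kspec p p hp hp, kap_self h o hp hpn]
      qQ := by rw [kspec q q hq hq, kap_self h o hq hqn]
      qP := by rw [kspec q p hq hp, k1]
      pQ := by rw [kspec p q hp hq, k2] }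
  have hf1 : ∀ a : F4, Rel.f1 p q a ∈ E := by
    intro a
    cases a
    · exact E.one_mem
    · exact hp
    · exact hq
    · exact E.mul_mem hp hq
  have hfz : ∀ a : F4, Rel.fz z w a ∈ E := by
    intro a
    cases a
    · exact E.one_mem
    · exact o.z_mem
    · exact o.w_mem
    · exact E.mul_mem o.w_mem o.z_mem
  have hf1n : ∀ a : F4, W4 z w (Rel.f1 p q a) → a = .o := by
    intro a ha
    cases a
    · rfl
    · exact absurd ha hpn
    · exact absurd ha hqn
    · exact absurd ha hpqn
  have hfzW : ∀ a : F4, W4 z w (Rel.fz z w a) := by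
    intro a
    cases a
    · exact Or.inl rfl
    · exact Or.inr (Or.inl rfl)
    · exact Or.inr (Or.inr (Or.inl rfl))
    · exact Or.inr (Or.inr (Or.inr rfl))
  have hxT : x ∉ T := by
    intro hx
    have h1 := h.wc x hx
    have h2 : x * w * x⁻¹ = w := mul_inv_eq_iff_eq_mul.2 h1
    rw [h.xw] at h2
    exact wz_ne_w h h2
  have hzw : z ≠ w := by
    intro e
    have h1 := h.xw
    rw [← e, h.xz, h.z2] at h1
    exact h.z1 h1
  have hw1 : w ≠ 1 := by
    intro e
    have h1 := h.xw
    rw [e, mul_one, mul_inv_cancel, one_mul] at h1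
    exact h.z1 h1.symm
  have hfzn : ∀ a : F4, Rel.fz z w a = 1 → a = .o := by
    intro a ha
    cases a
    · rfl
    · exact absurd ha h.z1
    · exact absurd ha hw1
    · exfalso
      have h1 : w * z = 1 := ha
      have h2 : z = w := by
        have h3 := eq_inv_of_mul_eq_one_right h1
        rw [inv_eq_of_mul_eq_one_right h.w2] at h3
        exact h3
      exact hzw h2
  have hf2T : ∀ b : F4, Rel.f2 x p q b ∈ T := by
    intro b
    have h1 := h.xT _ (o.le (hf1 (fr b)))
    rw [hxi] at h1
    exact h1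
  have hinj : Function.Injective rel.hom := by
    rw [injective_iff_map_eq_one]
    rintro ⟨a, b, c, s⟩ ht
    rw [Rel.hom_apply] at ht
    unfold Rel.F at ht
    simp only at ht
    have hT1 : Rel.f2 x p q b * Rel.f1 p q a * Rel.fz z w c ∈ T :=
      T.mul_mem (T.mul_mem (hf2T b) (o.le (hf1 a))) (o.le (hfz c))
    cases s
    · simp only [Bool.false_eq_true, if_false, mul_one] at ht
      have h1 : Rel.f2 x p q b = (Rel.f1 p q a * Rel.fz z w c)⁻¹ := by
        rw [mul_assoc] at ht
        exact eq_inv_of_mul_eq_one_left ht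
      have h2 : x * Rel.f1 p q (fr b) * x⁻¹ ∈ E := by
        rw [hxi]
        have : x * Rel.f1 p q (fr b) * x = Rel.f2 x p q b := rfl
        rw [this, h1]
        exact E.inv_mem (E.mul_mem (hf1 a) (hfz c))
      have h3 : fr b = .o := hf1n _ (o.inf _ (hf1 (fr b)) h2)
      have h4 : b = .o := by
        rw [← F4.fr_fr b, h3]; rfl
      subst h4
      have h5 : Rel.f2 x p q F4.o = 1 := by
        show x * 1 * x = 1
        rw [mul_one, h.x2]
      rw [h5, one_mul] at ht
      have h6 : W4 z w (Rel.f1 p q a) := by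
        rw [eq_inv_of_mul_eq_one_left ht]
        exact W4_inv h (hfzW c)
      have h7 := hf1n a h6
      subst h7
      have h8 : Rel.fz z w c = 1 := by
        have : Rel.f1 p q F4.o = 1 := rfl
        rwa [this, one_mul] at ht
      rw [hfzn c h8]
      rfl
    · exfalso
      simp only [if_true] at ht
      apply hxT
      have h1 : x = (Rel.f2 x p q b * Rel.f1 p q a * Rel.fz z w c)⁻¹ :=
        eq_inv_of_mul_eq_one_right ht
      rw [h1]
      exact T.inv_mem hT1
  have hmem : ∀ t, rel.hom t ∈ S := by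
    rintro ⟨a, b, c, s⟩
    rw [Rel.hom_apply]
    unfold Rel.F
    simp only
    have hT1 : Rel.f2 x p q b * Rel.f1 p q a * Rel.fz z w c ∈ T :=
      T.mul_mem (T.mul_mem (hf2T b) (o.le (hf1 a))) (o.le (hfz c))
    refine S.mul_mem (hTS hT1) ?_
    cases s
    · simp only [Bool.false_eq_true, if_false]; exact S.one_mem
    · simp only [if_true]; exact hxS
  let g : J2Sylow.Model.T →* S := rel.hom.codRestrict S hmem
  have hginj : Function.Injective g := by
    intro a b hab
    apply hinj
    exact congrArg Subtype.val hab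
  have hfinS : Finite S := Nat.finite_of_card_ne_zero (by rw [hS]; norm_num)
  have hbij : Function.Bijective g := by
    refine (Nat.bijective_iff_injective_and_card g).2 ⟨hginj, ?_⟩
    rw [hS, J2Sylow.Model.T.card_T]
  exact ⟨MulEquiv.ofBijective g hbij⟩

end Construct

end Cfsg.Agent.Classification.NonConnModel
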