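import Mathlib
import Cfsg.Agent.Lib.NormalAbelian
import Cfsg.Agent.PLocal.OffenderStep

/-!
# Normal subgroups of order `p ^ 2` in a `p`-group, Sylow subgroups of centralisers
-/

set_option autoImplicit false

namespace Cfsg.Agent.Classification.NormalPair

open Subgroup

variable {X : Type*} [Group X]

/-- The elements of order dividing `p` of an abelian subgroup. -/
def omega (p : ℕ) (B : Subgroup X) (hB : ∀ x ∈ B, ∀ y ∈ B, x * y = y * x) : Subgroup X where
  carrier := {b | b ∈ B ∧ b ^ p = 1}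
  one_mem' := ⟨B.one_mem, one_pow p⟩
  mul_mem' := by
    rintro a b ⟨ha, ha'⟩ ⟨hb, hb'⟩
    have h : Commute a b := hB a ha b hb
    exact ⟨B.mul_mem ha hb, by rw [h.mul_pow, ha', hb', one_mul]⟩
  inv_mem' := by
    rintro a ⟨ha, ha'⟩
    exact ⟨B.inv_mem ha, by rw [inv_pow, ha', inv_one]⟩

theorem mem_omega {p : ℕ} {B : Subgroup X} {hB : ∀ x ∈ B, ∀ y ∈ B, x * y = y * x} {x : X} :
    x ∈ omega p B hB ↔ x ∈ B ∧ x ^ p = 1 := Iff.rfl

theorem mem_normalizer_of_forall {P W : Subgroup X} (h : ∀ g ∈ P, ∀ w ∈ W, g * w * g⁻¹ ∈ W) :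
    P ≤ normalizer (W : Set X) := by
  intro g hg
  rw [mem_normalizer_iff]
  intro w
  refine ⟨h g hg w, fun hw => ?_⟩
  have h1 := h g⁻¹ (P.inv_mem hg) _ hw
  have h2 : g⁻¹ * (g * w * g⁻¹) * g⁻¹⁻¹ = w := by group
  rwa [h2] at h1

/-- A subgroup `W` of exponent `p` and order at least `p ^ 2`, normalised by the `p`-group `P ≥ W`, contains a
subgroup `V` of order at least `p ^ 2`, normalised by `P`, whose centraliser has index at most `p` in `P`. -/
theorem exists_pair [Finite X] {p : ℕ} [hp : Fact p.Prime] {P W : Subgroup X} (hP : IsPGroup p P)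
    (hWP : W ≤ P) (hPW : P ≤ normalizer (W : Set X)) (hW : ∀ w ∈ W, w ^ p = 1)
    (hWc : p ^ 2 ≤ Nat.card W) :
    ∃ V : Subgroup X, V ≤ W ∧ p ^ 2 ≤ Nat.card V ∧ P ≤ normalizer (V : Set X) ∧
      (centralizer (V : Set X)).relIndex P ≤ p := by
  have hW1 : W ≠ ⊥ := by
    rintro rfl
    rw [Subgroup.card_bot] at hWc
    have : 1 < p ^ 2 := Nat.one_lt_pow (by norm_num) hp.out.one_lt
    omega
  have hPn : ∀ g ∈ P, ∀ w ∈ W, g * w * g⁻¹ ∈ W := fun g hg w hw => (mem_normalizer_iff.1 (hPW hg) w).1 hw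
  -- a central element `z`
  obtain ⟨z, hz, hz1⟩ : ∃ z, z ∈ W ⊓ centralizer (P : Set X) ∧ z ≠ 1 := by
    have h := Cfsg.Agent.PLocal.OffenderStep.inf_centralizer_ne_bot W P (hP.to_le hWP) hP hPW hW1
    obtain ⟨y, hy⟩ := Subgroup.ne_bot_iff_exists_ne_one.mp h
    exact ⟨y.1, y.2, fun e => hy (Subtype.ext e)⟩
  have hzP : ∀ g ∈ P, g * z = z * g := fun g hg => mem_centralizer_iff.1 hz.2 g hg
  have hzo : orderOf z = p := by
    rcases (Nat.dvd_prime hp.out).1 (orderOf_dvd_of_pow_eq_one (hW z hz.1)) with h | h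
    · exact absurd (orderOf_eq_one_iff.1 h) hz1
    · exact h
  set Z : Subgroup X := zpowers z with hZ
  have hZcard : Nat.card Z = p := by rw [hZ, Nat.card_zpowers, hzo]
  have hZW : Z ≤ W := zpowers_le.2 hz.1
  have hZc : ∀ g ∈ P, ∀ y ∈ Z, g * y = y * g := by
    intro g hg y hy
    obtain ⟨i, rfl⟩ := mem_zpowers_iff.1 hy
    have h1 : Commute g z := hzP g hg
    exact (h1.zpow_right i).eq
  -- an element `v` of `W` outside `Z`, central modulo `Z`
  obtain ⟨v, hvW, hvZ, hv⟩ : ∃ v ∈ W, v ∉ Z ∧ ∀ g ∈ P, v * g * v⁻¹ * g⁻¹ ∈ Z := by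
    have : Group.IsNilpotent P := hP.isNilpotent
    have hZn : (Z.subgroupOf P).Normal := by
      rw [normal_subgroupOf_iff_le_normalizer (hZW.trans hWP)]
      refine mem_normalizer_of_forall fun g hg w hw => ?_
      rw [hZc g hg w hw, mul_inv_cancel_right]
      exact hw
    have hWn : (W.subgroupOf P).Normal := by
      rw [normal_subgroupOf_iff_le_normalizer hWP]
      exact hPW
    obtain ⟨x, hxW, hxZ, hx⟩ := Cfsg.Agent.Lib.NormalAbelian.exists_mem_not_mem_central_mod hZn hWn (by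
      intro h
      have h1 : W ≤ Z := by
        have h2 := Subgroup.map_mono (f := P.subtype) h
        rwa [map_subgroupOf_eq_of_le hWP, map_subgroupOf_eq_of_le (hZW.trans hWP)] at h2
      have h2 : Nat.card W ≤ p := hZcard ▸ Subgroup.card_le_of_le h1
      have h3 : p < p ^ 2 := by
        rw [pow_two]
        exact (Nat.lt_mul_iff_one_lt_left hp.out.pos).2 hp.out.one_lt
      omega)
    exact ⟨x, hxW, hxZ, fun g hg => hx ⟨g, hg⟩⟩
  have hvP : v ∈ P := hWP hvW
  set V : Subgroup X := Z ⊔ zpowers v with hV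
  have hZV : Z ≤ V := le_sup_left
  have hvV : v ∈ V := (le_sup_right : zpowers v ≤ V) (mem_zpowers v)
  have hVW : V ≤ W := sup_le hZW (zpowers_le.2 hvW)
  refine ⟨V, hVW, ?_, ?_, ?_⟩
  · -- order
    obtain ⟨n, hn⟩ := (hP.to_le (hVW.trans hWP)).exists_card_eq
    have hlt : p < Nat.card V := by
      rw [← hZcard]
      have h1 : Z < V := lt_of_le_of_ne hZV fun h => hvZ (by rw [h]; exact hvV)
      have : (Z : Set X) ⊂ (V : Set X) := SetLike.coe_ssubset_coe.2 h1
      exact Set.ncard_lt_ncard this (Set.toFinite _)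
    rw [hn] at hlt ⊢
    have h2 : 1 < n := by
      by_contra h
      push Not at h
      have h3 : p ^ n ≤ p ^ 1 := Nat.pow_le_pow_right hp.out.pos h
      rw [pow_one] at h3
      omega
    exact Nat.pow_le_pow_right hp.out.pos h2
  · -- normality
    intro g hg
    have h1 : ∀ g ∈ P, V.map (MulAut.conj g).toMonoidHom ≤ V := by
      intro g hg
      rw [hV, Subgroup.map_sup, sup_le_iff]
      constructor
      · rintro _ ⟨y, hy, rfl⟩
        rw [SetLike.mem_coe] at hy
        show g * y * g⁻¹ ∈ V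
        rw [hZc g hg y hy, mul_inv_cancel_right]
        exact hZV hy
      · rw [MonoidHom.map_zpowers, zpowers_le]
        show g * v * g⁻¹ ∈ V
        have h2 : g * v * g⁻¹ = (v * g * v⁻¹ * g⁻¹)⁻¹ * v := by group
        rw [h2]
        exact V.mul_mem (V.inv_mem (hZV (hv g hg))) hvV
    have h2 := mem_normalizer_of_forall (P := P) (W := V) (fun g hg w hw => h1 g hg ⟨w, hw, rfl⟩)
    exact h2 hg
  · -- index of the centraliser
    let f : P →* Z :=
      { toFun := fun g => ⟨v * g * v⁻¹ * (g : X)⁻¹, hv g g.2⟩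
        map_one' := by
          apply Subtype.ext
          show v * 1 * v⁻¹ * (1 : X)⁻¹ = 1
          simp
        map_mul' := by
          intro g h
          apply Subtype.ext
          show v * (g * h) * v⁻¹ * ((g : X) * h)⁻¹ = (v * g * v⁻¹ * (g : X)⁻¹) * (v * h * v⁻¹ * (h : X)⁻¹)
          have h1 : (v * h * v⁻¹ * (h : X)⁻¹) ∈ Z := hv h h.2
          have h2 := hZc g g.2 _ h1
          have h3 : v * (g * h) * v⁻¹ * ((g : X) * h)⁻¹ =
              (v * g * v⁻¹) * (v * h * v⁻¹ * (h : X)⁻¹) * (g : X)⁻¹ := by group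
          have h4 : (v * g * v⁻¹ * (g : X)⁻¹) * (v * h * v⁻¹ * (h : X)⁻¹) =
              (v * g * v⁻¹ * (g : X)⁻¹) * ((v * h * v⁻¹ * (h : X)⁻¹) * g) * (g : X)⁻¹ := by group
          rw [h3, h4, ← h2]
          group }
    have hker : f.ker ≤ (centralizer (V : Set X)).subgroupOf P := by
      intro g hg
      rw [MonoidHom.mem_ker] at hg
      have h1 : v * g * v⁻¹ * (g : X)⁻¹ = 1 := congrArg Subtype.val hg
      have h2 : v * g = g * v := by
        rw [mul_inv_eq_one, mul_inv_eq_iff_eq_mul] at h1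
        exact h1
      rw [mem_subgroupOf]
      have h3 : V ≤ centralizer ({(g : X)} : Set X) := by
        rw [hV, sup_le_iff]
        constructor
        · intro y hy
          rw [mem_centralizer_singleton_iff]
          exact (hZc g g.2 y hy).symm
        · rw [zpowers_le, mem_centralizer_singleton_iff]
          exact h2
      rw [mem_centralizer_iff]
      exact fun y hy => mem_centralizer_singleton_iff.1 (h3 hy)
    have h1 : f.ker.index ≤ p := by
      rw [Subgroup.index_ker, ← hZcard]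
      exact Subgroup.card_le_card_group f.range
    refine le_trans ?_ h1
    exact Nat.le_of_dvd (Nat.pos_of_ne_zero Subgroup.index_ne_zero_of_finite) (Subgroup.index_dvd_of_le hker)

/-- Every `p`-subgroup of `N(A)` is conjugate in `N(A)` into the Sylow `p`-subgroup `P ≤ N(A)`. -/
theorem exists_conj_le [Finite X] {p : ℕ} [hp : Fact p.Prime] (P : Sylow p X) {A : Subgroup X}
    (hPA : (P : Subgroup X) ≤ normalizer (A : Set X)) {Q : Subgroup X} (hQ : IsPGroup p Q)
    (hQA : Q ≤ normalizer (A : Set X)) :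
    ∃ g ∈ normalizer (A : Set X), ∀ x ∈ Q, g * x * g⁻¹ ∈ (P : Subgroup X) := by
  let P' : Sylow p (normalizer (A : Set X)) := P.subtype hPA
  have hQ' : IsPGroup p (Q.subgroupOf (normalizer (A : Set X))) := hQ.comap_subtype
  obtain ⟨S, hS⟩ := hQ'.exists_le_sylow
  obtain ⟨g, hg⟩ := MulAction.exists_smul_eq (normalizer (A : Set X)) S P'
  refine ⟨g, g.2, fun x hx => ?_⟩
  have h1 : (⟨x, hQA hx⟩ : normalizer (A : Set X)) ∈ (S : Subgroup (normalizer (A : Set X))) := hS hx
  have h2 : g * ⟨x, hQA hx⟩ * g⁻¹ ∈ ((g • S : Sylow p _) : Subgroup (normalizer (A : Set X))) := by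
    rw [Sylow.coe_subgroup_smul]
    exact ⟨_, h1, rfl⟩
  rw [hg] at h2
  exact h2

theorem conj_mem_centralizer {A : Subgroup X} {g : X} (hg : g ∈ normalizer (A : Set X)) {x : X}
    (hx : x ∈ centralizer (A : Set X)) : g * x * g⁻¹ ∈ centralizer (A : Set X) := by
  rw [mem_centralizer_iff] at hx ⊢
  intro a ha
  have h1 : g⁻¹ * a * g ∈ A := by
    have := (mem_normalizer_iff.1 (inv_mem hg) a).1 ha
    simpa using this
  have h2 := hx _ h1
  have h3 : a * (g * x * g⁻¹) = g * ((g⁻¹ * a * g) * x) * g⁻¹ := by group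
  rw [h3, h2]; group

/-- If `P ≤ N(B)` is Sylow and `C_P(B) = B`, all `p`-elements of `C(B)` lie in `B`. -/
theorem mem_of_mem_centralizer [Finite X] {p : ℕ} [hp : Fact p.Prime] (P : Sylow p X) {B : Subgroup X}
    (hPB : (P : Subgroup X) ≤ normalizer (B : Set X))
    (hBc : (P : Subgroup X) ⊓ centralizer (B : Set X) = B) {x : X}
    (hx : x ∈ centralizer (B : Set X)) (hxp : IsPGroup p (zpowers x)) : x ∈ B := by
  obtain ⟨g, hg, h⟩ := exists_conj_le P hPB hxp (zpowers_le.2 (centralizer_le_normalizer _ hx))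
  have h1 : g * x * g⁻¹ ∈ (P : Subgroup X) ⊓ centralizer (B : Set X) :=
    ⟨h x (mem_zpowers x), conj_mem_centralizer hg hx⟩
  rw [hBc] at h1
  exact (mem_normalizer_iff.1 hg x).2 h1

/-- If `P ≤ N(V)` is Sylow, then `P ∩ C(V)` is a Sylow subgroup of `C(V)`. -/
theorem exists_sylow_centralizer [Finite X] {p : ℕ} [hp : Fact p.Prime] (P : Sylow p X) {V : Subgroup X}
    (hPV : (P : Subgroup X) ≤ normalizer (V : Set X)) :
    ∃ S : Sylow p (centralizer (V : Set X)),
      (S : Subgroup (centralizer (V : Set X))).map (centralizer (V : Set X)).subtype =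
        (P : Subgroup X) ⊓ centralizer (V : Set X) := by
  set C : Subgroup X := centralizer (V : Set X) with hC
  have hPp : IsPGroup p (((P : Subgroup X) ⊓ C).subgroupOf C) :=
    (P.isPGroup'.to_le inf_le_left).comap_subtype
  obtain ⟨S, hS⟩ := hPp.exists_le_sylow
  refine ⟨S, ?_⟩
  have h1 : (P : Subgroup X) ⊓ C ≤ (S : Subgroup C).map C.subtype := by
    have := Subgroup.map_mono (f := C.subtype) hS
    rwa [map_subgroupOf_eq_of_le inf_le_right] at this
  have hSC : (S : Subgroup C).map C.subtype ≤ C := map_subtype_le _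
  obtain ⟨g, hg, h⟩ := exists_conj_le P hPV (S.isPGroup'.map C.subtype)
    (hSC.trans (centralizer_le_normalizer _))
  have h2 : ((S : Subgroup C).map C.subtype).map (MulAut.conj g).toMonoidHom ≤ (P : Subgroup X) ⊓ C := by
    rintro _ ⟨x, hx, rfl⟩
    exact ⟨h x hx, conj_mem_centralizer hg (hSC hx)⟩
  symm
  apply Subgroup.eq_of_le_of_card_ge h1
  have h3 := Subgroup.card_le_of_le h2
  rwa [card_map_of_injective (MulAut.conj g).injective] at h3

end Cfsg.Agent.Classification.NormalPair
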