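import Mathlib
import Cfsg.Agent.Classification.CoprimeTriple

/-!
# Coprime triples in `PSL₂(q)`, `q ≥ 4`
-/

set_option autoImplicit false
set_option linter.dupNamespace false

namespace Cfsg.Agent.Classification.PSLTwoTriple

open Cfsg Polynomial
open Cfsg.Agent.Classification.CoprimeTriple (HasTriple)

section Poly

variable {F : Type*} [Field F] [Fintype F]

/-- The polynomial `X² - τ X + 1`. -/
noncomputable def quad (τ : F) : F[X] := X ^ 2 - C τ * X + 1

omit [Fintype F] in
theorem natDegree_quad (τ : F) : (quad τ).natDegree = 2 := by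
  unfold quad
  compute_degree!

omit [Fintype F] in
theorem irreducible_quad {τ : F} (h : ∀ x : F, x ^ 2 - τ * x + 1 ≠ 0) : Irreducible (quad τ) := by
  apply Polynomial.irreducible_of_degree_le_three_of_not_isRoot
  · rw [natDegree_quad]; simp
  · intro x hx
    apply h x
    have : eval x (quad τ) = 0 := hx
    simpa [quad] using this

/-- `X^q - X` is the product of the linear factors. -/
theorem prod_eq : ∏ a : F, (X - C a) = (X ^ Fintype.card F - X : F[X]) := by
  have h1 : (X ^ Fintype.card F - X : F[X]).Monic :=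
    monic_X_pow_sub (by rw [degree_X]; exact_mod_cast Fintype.one_lt_card)
  have h2 := Polynomial.prod_multiset_X_sub_C_of_monic_of_roots_card_eq h1 (by
    rw [FiniteField.roots_X_pow_card_sub_X,
      FiniteField.X_pow_card_sub_X_natDegree_eq F Fintype.one_lt_card]
    rfl)
  rw [FiniteField.roots_X_pow_card_sub_X] at h2
  exact h2

/-- An irreducible quadratic polynomial over a finite field does not divide `X^q - X`. -/
theorem not_dvd {f : F[X]} (hf : Irreducible f) (hd : f.natDegree = 2) :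
    ¬ f ∣ (X ^ Fintype.card F - X : F[X]) := by
  intro h
  rw [← prod_eq] at h
  obtain ⟨a, -, ha⟩ := (Prime.dvd_finsetProd_iff hf.prime _).mp h
  have := Polynomial.natDegree_le_of_dvd ha (X_sub_C_ne_zero a)
  rw [hd, natDegree_X_sub_C] at this
  omega

theorem quad_dvd {τ : F} (h : ∀ x : F, x ^ 2 - τ * x + 1 ≠ 0) :
    quad τ ∣ (X ^ (Fintype.card F + 1) - 1 : F[X]) := by
  have hirr := irreducible_quad h
  have : Fact (Irreducible (quad τ)) := ⟨hirr⟩
  set θ : AdjoinRoot (quad τ) := AdjoinRoot.root (quad τ) with hθ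
  have h1 : θ ^ 2 - algebraMap F _ τ * θ + 1 = 0 := by
    have := AdjoinRoot.mk_self (f := quad τ)
    have h2 : AdjoinRoot.mk (quad τ) (X ^ 2 - C τ * X + 1) = θ ^ 2 - algebraMap F _ τ * θ + 1 := by
      simp [hθ, AdjoinRoot.algebraMap_eq]
    rw [← h2]
    exact this
  have h2 : (θ ^ Fintype.card F) ^ 2 - algebraMap F _ τ * (θ ^ Fintype.card F) + 1 = 0 := by
    have h3 := congrArg (FiniteField.frobeniusAlgHom F (AdjoinRoot (quad τ))) h1
    rw [map_add, map_sub, map_mul, map_pow, map_zero, map_one, AlgHom.commutes] at h3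
    exact h3
  have h3 : θ ^ Fintype.card F ≠ θ := by
    intro h4
    apply not_dvd hirr (natDegree_quad τ)
    rw [← AdjoinRoot.mk_eq_zero]
    simp [← hθ, h4]
  have h4 : (θ ^ Fintype.card F - θ) * (θ ^ Fintype.card F + θ - algebraMap F _ τ) = 0 := by
    linear_combination h2 - h1
  have h5 : θ ^ Fintype.card F + θ - algebraMap F _ τ = 0 := by
    rcases mul_eq_zero.mp h4 with h6 | h6
    · exact absurd (sub_eq_zero.mp h6) h3
    · exact h6
  rw [← AdjoinRoot.mk_eq_zero]
  have h6 : θ ^ (Fintype.card F + 1) - 1 = 0 := by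
    rw [pow_succ]
    linear_combination θ * h5 - h1
  simpa [hθ] using h6

end Poly

section PSL

variable {F : Type*} [Field F] [Fintype F]

open Matrix

/-- the unipotent element -/
def sElt (β : F) : SpecialLinearGroup (Fin 2) F :=
  ⟨!![1 + β, -1; β ^ 2, 1 - β], by rw [Matrix.det_fin_two_of]; ring⟩

/-- the diagonal element -/
def aElt (l : Fˣ) : SpecialLinearGroup (Fin 2) F :=
  ⟨!![(l : F), 0; 0, ((l⁻¹ : Fˣ) : F)], by rw [Matrix.det_fin_two_of]; simp⟩

omit [Fintype F] in
theorem sElt_pow (β : F) (n : ℕ) : (sElt β ^ n).1 =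
    !![1 + n * β, -n; n * β ^ 2, 1 - n * β] := by
  induction n with
  | zero => ext i j; fin_cases i <;> fin_cases j <;> simp
  | succ n ih =>
    have h1 : (sElt β ^ (n + 1)).1 = (sElt β ^ n).1 * (sElt β).1 := by rw [pow_succ]; rfl
    rw [h1, ih]
    ext i j
    fin_cases i <;> fin_cases j <;> simp [sElt, Matrix.mul_apply, Fin.sum_univ_two] <;> ring

omit [Fintype F] in
theorem aElt_pow (l : Fˣ) (n : ℕ) : (aElt l ^ n).1 =
    !![((l ^ n : Fˣ) : F), 0; 0, (((l ^ n)⁻¹ : Fˣ) : F)] := by
  induction n with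
  | zero => ext i j; fin_cases i <;> fin_cases j <;> simp
  | succ n ih =>
    have h1 : (aElt l ^ (n + 1)).1 = (aElt l ^ n).1 * (aElt l).1 := by rw [pow_succ]; rfl
    rw [h1, ih]
    ext i j
    fin_cases i <;> fin_cases j <;> simp [aElt, Matrix.mul_apply, Fin.sum_univ_two, pow_succ, mul_comm]

omit [Fintype F] in
theorem mem_center_of_eq {A : SpecialLinearGroup (Fin 2) F} {r : F} (hr : r ^ 2 = 1)
    (h : (A : Matrix (Fin 2) (Fin 2) F) = r • (1 : Matrix (Fin 2) (Fin 2) F)) :
    A ∈ Subgroup.center (SpecialLinearGroup (Fin 2) F) := by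
  rw [Matrix.SpecialLinearGroup.mem_center_iff]
  refine ⟨r, by simpa using hr, ?_⟩
  rw [h]
  ext i j
  simp [Matrix.scalar_apply, Matrix.diagonal_apply, Matrix.one_apply]

omit [Fintype F] in
theorem center_eq {A : SpecialLinearGroup (Fin 2) F}
    (hA : A ∈ Subgroup.center (SpecialLinearGroup (Fin 2) F)) :
    ∃ r : F, r ^ 2 = 1 ∧ A.1 0 0 = r ∧ A.1 1 1 = r ∧ A.1 0 1 = 0 ∧ A.1 1 0 = 0 := by
  rw [Matrix.SpecialLinearGroup.mem_center_iff] at hA
  obtain ⟨r, hr, h⟩ := hA
  refine ⟨r, by simpa using hr, ?_, ?_, ?_, ?_⟩ <;>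
  · have h' : A.1 = scalar (Fin 2) r := h.symm
    rw [h']
    simp [Matrix.scalar_apply, Matrix.diagonal_apply]

/-- An element of `SL₂` with trace `τ`, `X² - τ X + 1` irreducible, has `(q+1)`-st power one. -/
theorem aeval_quad {τ : F} (A : SpecialLinearGroup (Fin 2) F) (hA : A.1 0 0 + A.1 1 1 = τ) :
    aeval A.1 (quad τ) = 0 := by
  have hdet := A.2
  rw [Matrix.det_fin_two] at hdet
  have h1 : aeval A.1 (quad τ) = A.1 * A.1 - τ • A.1 + 1 := by
    simp [quad, pow_two, Algebra.smul_def]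
  rw [h1]
  ext i j
  subst hA
  fin_cases i <;> fin_cases j <;> simp [Matrix.mul_apply, Fin.sum_univ_two]
  · linear_combination (-1 : F) * hdet
  · ring
  · ring
  · linear_combination (-1 : F) * hdet

/-- Coprime triples in a quotient. -/
theorem hasTriple_quotient {G : Type*} [Group G] (N : Subgroup G) [N.Normal] (s a : G)
    (hs : s ∉ N) (ha : a ∉ N) (hx : s * a ∉ N) (m n k : ℕ) (hs' : s ^ m ∈ N) (ha' : a ^ n ∈ N)
    (hx' : (s * a) ^ k ∈ N) (hmn : m.Coprime n) (hnk : n.Coprime k) (hmk : m.Coprime k) :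
    HasTriple (G ⧸ N) := by
  have h1 : orderOf (QuotientGroup.mk' N s) ∣ m := by
    rw [orderOf_dvd_iff_pow_eq_one, ← map_pow]
    exact (QuotientGroup.eq_one_iff _).mpr hs'
  have h2 : orderOf (QuotientGroup.mk' N a) ∣ n := by
    rw [orderOf_dvd_iff_pow_eq_one, ← map_pow]
    exact (QuotientGroup.eq_one_iff _).mpr ha'
  have h3 : orderOf (QuotientGroup.mk' N (s * a))⁻¹ ∣ k := by
    rw [orderOf_inv, orderOf_dvd_iff_pow_eq_one, ← map_pow]
    exact (QuotientGroup.eq_one_iff _).mpr hx'
  refine ⟨QuotientGroup.mk' N s, QuotientGroup.mk' N a, (QuotientGroup.mk' N (s * a))⁻¹, ?_, ?_,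
    ?_, ?_, ?_, ?_, ?_⟩
  · intro h; exact hs ((QuotientGroup.eq_one_iff _).mp h)
  · intro h; exact ha ((QuotientGroup.eq_one_iff _).mp h)
  · intro h; exact hx ((QuotientGroup.eq_one_iff _).mp (inv_eq_one.mp h))
  · exact Nat.Coprime.coprime_dvd_left h1 (Nat.Coprime.coprime_dvd_right h2 hmn)
  · exact Nat.Coprime.coprime_dvd_left h2 (Nat.Coprime.coprime_dvd_right h3 hnk)
  · exact Nat.Coprime.coprime_dvd_left h1 (Nat.Coprime.coprime_dvd_right h3 hmk)
  · rw [map_mul, mul_inv_cancel]

theorem pow_card_add_one {τ : F} (h : ∀ x : F, x ^ 2 - τ * x + 1 ≠ 0)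
    (A : SpecialLinearGroup (Fin 2) F) (hA : A.1 0 0 + A.1 1 1 = τ) :
    A ^ (Fintype.card F + 1) = 1 := by
  obtain ⟨g, hg⟩ := quad_dvd h
  have h1 := congrArg (aeval A.1) hg
  rw [map_mul, aeval_quad A hA, zero_mul, map_sub, map_pow, aeval_X, map_one, sub_eq_zero] at h1
  apply Subtype.ext
  have h2 : (A ^ (Fintype.card F + 1)).1 = A.1 ^ (Fintype.card F + 1) :=
    Matrix.SpecialLinearGroup.coe_pow A _
  rw [h2, h1]
  rfl

theorem pow_half {τ : F} (h : ∀ x : F, x ^ 2 - τ * x + 1 ≠ 0)
    (A : SpecialLinearGroup (Fin 2) F) (hA : A.1 0 0 + A.1 1 1 = τ) (k : ℕ)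
    (hk : Fintype.card F + 1 = 2 * k) :
    A ^ k ∈ Subgroup.center (SpecialLinearGroup (Fin 2) F) := by
  have h0 := quad_dvd h
  have h1 : (X ^ (Fintype.card F + 1) - 1 : F[X]) = (X ^ k - 1) * (X ^ k + 1) := by
    rw [hk]; ring
  rw [h1] at h0
  have hc : (A ^ k).1 = A.1 ^ k := Matrix.SpecialLinearGroup.coe_pow A _
  rcases (irreducible_quad h).prime.dvd_or_dvd h0 with ⟨g, hg⟩ | ⟨g, hg⟩
  · have h1 := congrArg (aeval A.1) hg
    rw [map_mul, aeval_quad A hA, zero_mul, map_sub, map_pow, aeval_X, map_one, sub_eq_zero] at h1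
    apply mem_center_of_eq (r := 1) (by norm_num)
    rw [hc, h1, one_smul]
  · have h1 := congrArg (aeval A.1) hg
    rw [map_mul, aeval_quad A hA, zero_mul, map_add, map_pow, aeval_X, map_one] at h1
    apply mem_center_of_eq (r := -1) (by norm_num)
    rw [hc, eq_neg_of_add_eq_zero_left h1, neg_smul, one_smul]

/-- There is a trace value for which the characteristic polynomial is irreducible. -/
theorem exists_trace : ∃ τ : F, ∀ x : F, x ^ 2 - τ * x + 1 ≠ 0 := by
  classical
  have h1 : ¬ Function.Surjective (fun x : Fˣ => (x : F) + ((x⁻¹ : Fˣ) : F)) := by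
    intro hs
    have h2 := Fintype.card_le_of_surjective _ hs
    rw [Fintype.card_units] at h2
    have h3 : 0 < Fintype.card F := Fintype.card_pos
    omega
  unfold Function.Surjective at h1
  push Not at h1
  obtain ⟨τ, hτ⟩ := h1
  refine ⟨τ, fun x hx => ?_⟩
  have hx0 : x ≠ 0 := by
    rintro rfl
    simp at hx
  apply hτ (Units.mk0 x hx0)
  simp only [Units.val_mk0, Units.val_inv_eq_inv_val]
  field_simp
  linear_combination hx

theorem exists_unit (hF : 4 ≤ Fintype.card F) : ∃ l : Fˣ, (l : F) ^ 2 ≠ 1 := by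
  classical
  by_contra h
  push Not at h
  have h1 : ∀ l : Fˣ, l = 1 ∨ l = -1 := by
    intro l
    have h0 : ((l : F) - 1) * ((l : F) + 1) = 0 := by linear_combination h l
    rcases mul_eq_zero.mp h0 with h1 | h1
    · left; exact Units.ext (by rw [Units.val_one]; linear_combination h1)
    · right; exact Units.ext (by rw [Units.val_neg, Units.val_one]; linear_combination h1)
  have h2 : Fintype.card Fˣ ≤ 2 := by
    have : (Finset.univ : Finset Fˣ) ⊆ {1, -1} := by
      intro l _
      rcases h1 l with h | h <;> simp [h]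
    calc Fintype.card Fˣ = (Finset.univ : Finset Fˣ).card := rfl
      _ ≤ ({1, -1} : Finset Fˣ).card := Finset.card_le_card this
      _ ≤ 2 := Finset.card_le_two
  rw [Fintype.card_units] at h2
  omega

/-- `PSL₂(q)`, `q ≥ 4`, has three non-identity elements with pairwise coprime orders and product one. -/
theorem hasTriple (hF : 4 ≤ Fintype.card F) :
    HasTriple (Matrix.ProjectiveSpecialLinearGroup (Fin 2) F) := by
  classical
  obtain ⟨τ, hτ⟩ := exists_trace (F := F)
  obtain ⟨l, hl⟩ := exists_unit hF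
  obtain ⟨p, hp⟩ := CharP.exists F
  have hpp : p.Prime := (CharP.char_is_prime_or_zero F p).resolve_right (CharP.char_ne_zero_of_finite F p)
  have : Fact p.Prime := ⟨hpp⟩
  have hl0 : (l : F) ≠ 0 := l.ne_zero
  have hlinv : ((l⁻¹ : Fˣ) : F) = (l : F)⁻¹ := Units.val_inv_eq_inv_val l
  have hd : (l : F) - (l : F)⁻¹ ≠ 0 := by
    intro h
    apply hl
    field_simp at h
    linear_combination h
  set β : F := (τ - l - (l : F)⁻¹) / ((l : F) - (l : F)⁻¹) with hβ
  have hβ' : β * ((l : F) - (l : F)⁻¹) = τ - l - (l : F)⁻¹ := by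
    rw [hβ]; field_simp
  have htr : (sElt β * aElt l).1 0 0 + (sElt β * aElt l).1 1 1 = τ := by
    have h1 : (sElt β * aElt l).1 = (sElt β).1 * (aElt l).1 := rfl
    rw [h1]
    simp only [sElt, aElt, Matrix.mul_apply, Fin.sum_univ_two, Matrix.of_apply, Matrix.cons_val', Matrix.cons_val_zero,
      Matrix.cons_val_one, Matrix.cons_val_fin_one, hlinv]
    linear_combination hβ'
  have hs : sElt β ∉ Subgroup.center (SpecialLinearGroup (Fin 2) F) := by
    intro h
    obtain ⟨r, -, -, -, h1, -⟩ := center_eq h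
    simp [sElt] at h1
  have ha : aElt l ∉ Subgroup.center (SpecialLinearGroup (Fin 2) F) := by
    intro h
    obtain ⟨r, hr, h1, -, -, -⟩ := center_eq h
    apply hl
    have : (aElt l).1 0 0 = (l : F) := by simp [aElt]
    rw [← this, h1, hr]
  have hx : sElt β * aElt l ∉ Subgroup.center (SpecialLinearGroup (Fin 2) F) := by
    intro h
    obtain ⟨r, hr, h1, h2, -, -⟩ := center_eq h
    rw [h1, h2] at htr
    apply hτ r
    rw [← htr]
    linear_combination -hr
  have hsp : (sElt β) ^ p ∈ Subgroup.center (SpecialLinearGroup (Fin 2) F) := by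
    have : sElt β ^ p = 1 := by
      apply Subtype.ext
      rw [sElt_pow, CharP.cast_eq_zero F p]
      ext i j
      fin_cases i <;> fin_cases j <;> simp
    rw [this]; exact Subgroup.one_mem _
  obtain ⟨n, -, hcard⟩ := FiniteField.card F p
  have hpq : p ∣ Fintype.card F := by
    rw [hcard]; exact dvd_pow_self p n.ne_zero
  have hpow : l ^ (Fintype.card F - 1) = 1 := by
    rw [← Fintype.card_units]; exact pow_card_eq_one
  have hcop1 : p.Coprime (Fintype.card F - 1) := by
    rw [Nat.Prime.coprime_iff_not_dvd hpp]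
    intro h
    have h1 := (Nat.dvd_sub_iff_right (by omega) hpq).mp h
    exact hpp.one_lt.ne' (Nat.dvd_one.mp h1)
  have hcop2 : p.Coprime (Fintype.card F + 1) := by
    rw [Nat.Prime.coprime_iff_not_dvd hpp]
    intro h
    have h1 := (Nat.dvd_add_right hpq).mp h
    exact hpp.one_lt.ne' (Nat.dvd_one.mp h1)
  rcases Nat.even_or_odd' (Fintype.card F) with ⟨k, hk | hk⟩
  · refine hasTriple_quotient _ (sElt β) (aElt l) hs ha hx p (Fintype.card F - 1)
      (Fintype.card F + 1) hsp ?_ ?_ hcop1 ?_ hcop2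
    · have : aElt l ^ (Fintype.card F - 1) = 1 := by
        apply Subtype.ext
        rw [aElt_pow, hpow]
        ext i j
        fin_cases i <;> fin_cases j <;> simp
      rw [this]; exact Subgroup.one_mem _
    · rw [pow_card_add_one hτ _ htr]; exact Subgroup.one_mem _
    · have h1 : Fintype.card F + 1 = (Fintype.card F - 1) + 2 := by omega
      rw [h1, Nat.coprime_self_add_right]
      have h2 : Odd (Fintype.card F - 1) := by
        rw [hk]; exact ⟨k - 1, by omega⟩
      exact Nat.coprime_two_right.mpr h2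
  · have hk1 : Fintype.card F - 1 = 2 * k := by omega
    have hk2 : Fintype.card F + 1 = 2 * (k + 1) := by omega
    refine hasTriple_quotient _ (sElt β) (aElt l) hs ha hx p k (k + 1) hsp ?_ ?_ ?_ ?_ ?_
    · rw [hk1, mul_comm, pow_mul] at hpow
      have h1 : ((l ^ k : Fˣ) : F) ^ 2 = 1 := by
        rw [← Units.val_pow_eq_pow_val, hpow, Units.val_one]
      apply mem_center_of_eq (r := ((l ^ k : Fˣ) : F)) h1
      rw [aElt_pow]
      have h2 : (((l ^ k)⁻¹ : Fˣ) : F) = ((l ^ k : Fˣ) : F) := by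
        have h3 : (l ^ k)⁻¹ = l ^ k := by
          rw [inv_eq_iff_mul_eq_one, ← pow_two, hpow]
        rw [h3]
      rw [h2]
      ext i j
      fin_cases i <;> fin_cases j <;> simp
    · exact pow_half hτ _ htr (k + 1) hk2
    · exact Nat.Coprime.coprime_dvd_right ⟨2, by rw [hk1, mul_comm]⟩ hcop1
    · simp
    · exact Nat.Coprime.coprime_dvd_right ⟨2, by rw [hk2, mul_comm]⟩ hcop2

end PSL

end Cfsg.Agent.Classification.PSLTwoTriple
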