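import Mathlib
import Cfsg.Agent.Classification.PSLTwoTriple

/-!
# A coprime triple in `PSL₃(3)`
-/

set_option autoImplicit false
set_option linter.dupNamespace false

namespace Cfsg.Agent.Classification.PSLThreeTriple

open Cfsg
open Cfsg.Agent.Classification.CoprimeTriple (HasTriple)
open Cfsg.Agent.Classification.PSLTwoTriple (hasTriple_quotient)

open Matrix

/-- an involution -/
def A : SpecialLinearGroup (Fin 3) (ZMod 3) :=
  ⟨!![0, 0, 1; 0, 2, 0; 1, 0, 0], by decide⟩

/-- an element of order 3 -/
def B : SpecialLinearGroup (Fin 3) (ZMod 3) :=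
  ⟨!![0, 1, 0; 1, 0, 2; 2, 1, 0], by decide⟩

theorem A_sq : A ^ 2 = 1 := by decide

theorem B_cube : B ^ 3 = 1 := by decide

theorem AB_pow : (A * B) ^ 13 = 1 := by decide +kernel

theorem A_apply : A.1 0 2 = 1 := by decide

theorem B_apply : B.1 0 1 = 1 := by decide

theorem AB_apply : (A * B).1 0 1 = 1 := by decide

theorem apply_eq_zero_of_mem_center {F : Type*} [Field F] {M : SpecialLinearGroup (Fin 3) F}
    (h : M ∈ Subgroup.center (SpecialLinearGroup (Fin 3) F)) {i j : Fin 3} (hij : i ≠ j) :
    M.1 i j = 0 := by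
  rw [Matrix.SpecialLinearGroup.mem_center_iff] at h
  obtain ⟨r, -, h⟩ := h
  have h' : M.1 = scalar (Fin 3) r := h.symm
  rw [h', Matrix.scalar_apply, Matrix.diagonal_apply_ne _ hij]

/-- `PSL₃(3)` has three non-identity elements with pairwise coprime orders and product one. -/
theorem hasTriple {F : Type*} [Field F] [Fintype F] (hF : Fintype.card F = 3) :
    HasTriple (Matrix.ProjectiveSpecialLinearGroup (Fin 3) F) := by
  classical
  have : Fact (Nat.Prime 3) := ⟨Nat.prime_three⟩
  have hch : CharP F 3 := charP_of_card_eq_prime hF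
  set f : ZMod 3 →+* F := ZMod.castHom (dvd_refl 3) F with hf
  set φ : SpecialLinearGroup (Fin 3) (ZMod 3) →* SpecialLinearGroup (Fin 3) F :=
    Matrix.SpecialLinearGroup.map f with hφ
  have hval : ∀ (M : SpecialLinearGroup (Fin 3) (ZMod 3)) (i j : Fin 3), (φ M).1 i j = f (M.1 i j) := by
    intro M i j
    rfl
  refine hasTriple_quotient _ (φ A) (φ B) ?_ ?_ ?_ 2 3 13 ?_ ?_ ?_ (by norm_num) (by norm_num) (by norm_num)
  · intro h
    have h1 := apply_eq_zero_of_mem_center h (i := 0) (j := 2) (by decide)
    rw [hval] at h1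
    rw [A_apply, map_one] at h1
    exact one_ne_zero h1
  · intro h
    have h1 := apply_eq_zero_of_mem_center h (i := 0) (j := 1) (by decide)
    rw [hval] at h1
    rw [B_apply, map_one] at h1
    exact one_ne_zero h1
  · intro h
    rw [← map_mul] at h
    have h1 := apply_eq_zero_of_mem_center h (i := 0) (j := 1) (by decide)
    rw [hval] at h1
    rw [AB_apply, map_one] at h1
    exact one_ne_zero h1
  · rw [← map_pow, A_sq, map_one]; exact Subgroup.one_mem _
  · rw [← map_pow, B_cube, map_one]; exact Subgroup.one_mem _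
  · rw [← map_mul, ← map_pow, AB_pow, map_one]; exact Subgroup.one_mem _

end Cfsg.Agent.Classification.PSLThreeTriple
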