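import Mathlib
import Cfsg.Agent.Classification.RTwo.Final
import Cfsg.Agent.S0483
import Cfsg.Agent.S0486
import Cfsg.Agent.S0516

/-!
# Simple groups of 2-rank at most 2 with solvable centralizers of involutions

The conclusion of S0482 for groups with solvable centralizers of involutions, from S0516, S0483 (dihedral
Sylow 2-subgroups), S0486 (type `PSU₃(4)`) and `RTwo.Final.main` (quasi-dihedral and wreathed Sylow
2-subgroups, solvable centralizers of involutions): S0507 and S0523 are not used.
-/

set_option autoImplicit false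

namespace Cfsg.Agent.Classification.RankTwoCent

open Cfsg

/-- In a simple group of even order the odd core is trivial. -/
theorem oddCore_eq_bot {G : Type*} [Group G] [Finite G] [IsSimpleGroup G]
    (h2 : 2 ∣ Nat.card G) : Cfsg.oddCore G = ⊥ := by
  refine (sSup_eq_bot).2 ?_
  rintro N ⟨hN, hc⟩
  rcases hN.eq_bot_or_eq_top with h | h
  · exact h
  · exfalso
    subst h
    rw [Subgroup.card_top] at hc
    have := Nat.Coprime.eq_one_of_dvd (Nat.Coprime.symm hc) h2
    omega

/-- A non-abelian finite simple group of 2-rank at most 2 with solvable centralizers of involutions. -/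
theorem main {G : Type*} [Group G] [Finite G] [IsSimpleGroup G]
    (hG : ¬ IsMulCommutative G) (h2 : Cfsg.PRankLE 2 2 G)
    (hsol : ∀ x : G, orderOf x = 2 → Group.IsSolvable (Subgroup.centralizer ({x} : Set G))) :
    (∃ (F : Type) (_ : Field F) (_ : Fintype F), Odd (Fintype.card F) ∧ 5 ≤ Fintype.card F ∧
        Nonempty (G ≃* Matrix.ProjectiveSpecialLinearGroup (Fin 2) F)) ∨
      (∃ (F : Type) (_ : Field F) (_ : Fintype F), Fintype.card F = 3 ∧
        Nonempty (G ≃* Matrix.ProjectiveSpecialLinearGroup (Fin 3) F)) ∨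
      (∃ (F : Type) (_ : Field F) (_ : Fintype F), Fintype.card F = 9 ∧
        Nonempty (G ≃* Cfsg.PSU 3 F 3)) ∨
      (∃ (F : Type) (_ : Field F) (_ : Fintype F), Fintype.card F = 16 ∧ Nonempty (G ≃* Cfsg.PSU 3 F 4)) ∨
      Nonempty (G ≃* alternatingGroup (Fin 7)) ∨
      Cfsg.IsM11 G := by
  classical
  have : Fact (Nat.Prime 2) := ⟨Nat.prime_two⟩
  -- the field with 16 elements
  let instF : Fintype (GaloisField 2 4) := Fintype.ofFinite _
  have hF : Fintype.card (GaloisField 2 4) = 16 := by
    rw [← Nat.card_eq_fintype_card, GaloisField.card 2 4 (by norm_num)]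
    norm_num
  have S : Sylow 2 G := default
  have P : Sylow 2 (Cfsg.PSU 3 (GaloisField 2 4) 4) := default
  have hRT : ∀ h : Cfsg.IsQuasiDihedral (S : Subgroup G) ∨ Cfsg.IsWreathed (S : Subgroup G),
      (∃ (F : Type) (_ : Field F) (_ : Fintype F), Odd (Fintype.card F) ∧ 5 ≤ Fintype.card F ∧
        Nonempty (G ≃* Matrix.ProjectiveSpecialLinearGroup (Fin 2) F)) ∨
      (∃ (F : Type) (_ : Field F) (_ : Fintype F), Fintype.card F = 3 ∧
        Nonempty (G ≃* Matrix.ProjectiveSpecialLinearGroup (Fin 3) F)) ∨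
      (∃ (F : Type) (_ : Field F) (_ : Fintype F), Fintype.card F = 9 ∧
        Nonempty (G ≃* Cfsg.PSU 3 F 3)) ∨
      (∃ (F : Type) (_ : Field F) (_ : Fintype F), Fintype.card F = 16 ∧
        Nonempty (G ≃* Cfsg.PSU 3 F 4)) ∨
      Nonempty (G ≃* alternatingGroup (Fin 7)) ∨ Cfsg.IsM11 G := by
    intro h
    rcases RTwo.Final.main S h hsol with h | h | h
    · exact Or.inr (Or.inl h)
    · exact Or.inr (Or.inr (Or.inr (Or.inr (Or.inr h))))
    · exact Or.inr (Or.inr (Or.inl h))
  rcases Cfsg.Agent.S0516.result hG h2 S hF P with ⟨n, hn, hS⟩ | hS | hS | hS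
  · -- dihedral
    have : Group.IsPerfect G := by
      rw [Group.isPerfect_def]
      rcases (inferInstance : (commutator G).Normal).eq_bot_or_eq_top with h | h
      · exfalso
        apply hG
        rw [commutator_def, Subgroup.commutator_eq_bot_iff_le_centralizer] at h
        refine ⟨⟨fun a b => ?_⟩⟩
        exact (Subgroup.mem_centralizer_iff.1 (h (Subgroup.mem_top a)) b (Subgroup.mem_top b)).symm
      · exact h
    have h2G : 2 ∣ Nat.card G := by
      have h1 : Nat.card (S : Subgroup G) = 2 * n := by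
        obtain ⟨e⟩ := hS
        rw [Nat.card_congr e.toEquiv, DihedralGroup.nat_card]
      exact (Dvd.intro n h1.symm).trans (Subgroup.card_subgroup_dvd_card _)
    have hbot := oddCore_eq_bot (G := G) h2G
    have e : G ⧸ Cfsg.oddCore G ≃* G :=
      (QuotientGroup.quotientMulEquivOfEq hbot).trans QuotientGroup.quotientBot
    rcases Cfsg.Agent.S0483.result S n hn hS with ⟨F, i1, i2, ho, h3, ⟨f⟩⟩ | h7
    · refine Or.inl ⟨F, i1, i2, ho, ?_, ⟨e.symm.trans f⟩⟩
      rcases ho with ⟨k, hk⟩
      omega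
    · obtain ⟨f⟩ := h7
      exact Or.inr (Or.inr (Or.inr (Or.inr (Or.inl ⟨e.symm.trans f⟩))))
  · exact hRT (Or.inl hS)
  · exact hRT (Or.inr hS)
  · exact Or.inr (Or.inr (Or.inr (Or.inl ⟨GaloisField 2 4, inferInstance, instF, hF,
      Cfsg.Agent.S0486.result hF S P hS⟩)))

end Cfsg.Agent.Classification.RankTwoCent
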