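import Mathlib
import Cfsg.Prelude.Def_LieExceptional
import Cfsg.Agent.LieExceptional.ZassenhausKernel
import Cfsg.Agent.PermutationGroups.ZassenhausBasic
import Cfsg.Agent.PermutationGroups.ZassenhausInvolutions
import Cfsg.Agent.CharactersDeep.Zassenhaus
import Cfsg.Agent.CharactersDeep.ZassenhausTransfer
import Cfsg.Agent.CharactersDeep.ZassenhausCount
import Cfsg.Agent.Classification.CoprimeTriple

/-!
# Coprime triples in Zassenhaus groups of odd degree
-/

set_option autoImplicit false
set_option linter.dupNamespace false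

namespace Cfsg.Agent.Classification.ZassenhausTriple

open Cfsg
open Cfsg.Agent.Classification.CoprimeTriple (HasTriple)

section Count

variable {G Ω : Type*} [Group G] [MulAction G Ω] [Fintype G] [Fintype Ω]

open Classical in
/-- The nonidentity elements of the members of the family `S`, with their points. -/
noncomputable def tset (S : Ω → Subgroup G) : Finset (Ω × G) :=
  Finset.univ.filter (fun x => x.2 ∈ S x.1 ∧ x.2 ≠ 1)

variable (S : Ω → Subgroup G) (hfix : ∀ γ, ∀ s ∈ S γ, s • γ = γ)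
  (hreg : ∀ γ α β : Ω, α ≠ γ → β ≠ γ → ∃! s : G, s ∈ S γ ∧ s • α = β)

include hfix hreg

omit [Fintype Ω] in
theorem eq_one_of_fix {γ α : Ω} (h : α ≠ γ) {s : G} (hs : s ∈ S γ) (hsα : s • α = α) : s = 1 := by
  obtain ⟨t, -, ht⟩ := hreg γ α α h h
  rw [ht s ⟨hs, hsα⟩, ht 1 ⟨(S γ).one_mem, one_smul _ _⟩]

/-- Each member of the family has `|Ω| - 1` elements. -/
theorem card_filter_mem (h2 : 2 ≤ Fintype.card Ω) (γ : Ω) :
    (open Classical in (Finset.univ.filter (fun s : G => s ∈ S γ ∧ s ≠ 1)).card) =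
      Fintype.card Ω - 2 := by
  classical
  obtain ⟨α, hα⟩ : ∃ α : Ω, α ≠ γ := by
    have : 1 < Fintype.card Ω := by omega
    rw [Fintype.one_lt_card_iff] at this
    obtain ⟨a, b, hab⟩ := this
    by_cases h : a = γ
    · exact ⟨b, by rw [← h]; exact hab.symm⟩
    · exact ⟨a, h⟩
  have h1 : (Finset.univ.filter (fun s : G => s ∈ S γ ∧ s ≠ 1)).card =
      (((Finset.univ : Finset Ω).erase γ).erase α).card := by
    apply Finset.card_bij (fun s _ => s • α)
    · intro s hs
      rw [Finset.mem_filter] at hs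
      rw [Finset.mem_erase, Finset.mem_erase]
      refine ⟨?_, ?_, Finset.mem_univ _⟩
      · intro h
        exact hs.2.2 (eq_one_of_fix S hfix hreg hα hs.2.1 h)
      · intro h
        apply hα
        have := hfix γ s hs.2.1
        rw [← this] at h
        exact MulAction.injective s h
    · intro s hs t ht hst
      rw [Finset.mem_filter] at hs ht
      have hne : t • α ≠ γ := by
        intro h
        apply hα
        have := hfix γ t ht.2.1
        rw [← this] at h
        exact MulAction.injective t h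
      obtain ⟨r, -, hr⟩ := hreg γ α (t • α) hα hne
      rw [hr s ⟨hs.2.1, hst⟩, hr t ⟨ht.2.1, rfl⟩]
    · intro β hβ
      rw [Finset.mem_erase, Finset.mem_erase] at hβ
      obtain ⟨s, ⟨hs, hsα⟩, -⟩ := hreg γ α β hα hβ.2.1
      refine ⟨s, ?_, hsα⟩
      rw [Finset.mem_filter]
      refine ⟨Finset.mem_univ _, hs, ?_⟩
      rintro rfl
      rw [one_smul] at hsα
      exact hβ.1 hsα.symm
  rw [h1, Finset.card_erase_of_mem, Finset.card_erase_of_mem (Finset.mem_univ _), Finset.card_univ]
  · omega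
  · rw [Finset.mem_erase]
    exact ⟨hα, Finset.mem_univ _⟩

theorem card_tset (h2 : 2 ≤ Fintype.card Ω) :
    (tset S).card = Fintype.card Ω * (Fintype.card Ω - 2) := by
  classical
  have h1 : (tset S).card = ∑ γ : Ω, (Finset.univ.filter (fun s : G => s ∈ S γ ∧ s ≠ 1)).card := by
    rw [tset, Finset.card_eq_sum_card_fiberwise (f := Prod.fst) (t := Finset.univ)
      (fun x _ => Finset.mem_univ _)]
    apply Finset.sum_congr rfl
    intro γ _
    apply Finset.card_bij (fun x _ => x.2)
    · intro x hx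
      simp only [Finset.mem_filter, Finset.mem_univ, true_and] at hx ⊢
      rw [← hx.2]; exact hx.1
    · intro x hx y hy hxy
      simp only [Finset.mem_filter, Finset.mem_univ, true_and] at hx hy
      exact Prod.ext (hx.2.trans hy.2.symm) hxy
    · intro s hs
      simp only [Finset.mem_filter, Finset.mem_univ, true_and] at hs
      exact ⟨(γ, s), by simp only [Finset.mem_filter, Finset.mem_univ, true_and]; exact ⟨hs, trivial⟩, rfl⟩
  rw [h1, Finset.sum_congr rfl (fun γ _ => card_filter_mem S hfix hreg h2 γ), Finset.sum_const,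
    Finset.card_univ, smul_eq_mul]

/-- For each point `ω` there are exactly `|Ω| - 2` elements of `tset` with `s a ω = ω`. -/
theorem card_fiber (h2 : 2 ≤ Fintype.card Ω) (a : G) (ω : Ω) :
    (open Classical in ((tset S).filter (fun x => (x.2 * a) • ω = ω)).card) = Fintype.card Ω - 2 := by
  classical
  by_cases hω : a • ω = ω
  · rw [← card_filter_mem S hfix hreg h2 ω]
    apply Finset.card_bij (fun x _ => x.2)
    · intro x hx
      simp only [tset, Finset.mem_filter, Finset.mem_univ, true_and, mul_smul, hω] at hx ⊢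
      have h3 : x.1 = ω := by
        by_contra h
        exact hx.1.2 (eq_one_of_fix S hfix hreg (Ne.symm h) hx.1.1 hx.2)
      rw [← h3]; exact hx.1
    · intro x hx y hy hxy
      simp only [tset, Finset.mem_filter, Finset.mem_univ, true_and, mul_smul, hω] at hx hy
      have h3 : x.1 = ω := by
        by_contra h
        exact hx.1.2 (eq_one_of_fix S hfix hreg (Ne.symm h) hx.1.1 hx.2)
      have h4 : y.1 = ω := by
        by_contra h
        exact hy.1.2 (eq_one_of_fix S hfix hreg (Ne.symm h) hy.1.1 hy.2)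
      exact Prod.ext (h3.trans h4.symm) hxy
    · intro s hs
      simp only [Finset.mem_filter, Finset.mem_univ, true_and] at hs
      refine ⟨(ω, s), ?_, rfl⟩
      simp only [tset, Finset.mem_filter, Finset.mem_univ, true_and, mul_smul, hω]
      exact ⟨hs, hfix ω s hs.1⟩
  · have h1 : ((tset S).filter (fun x => (x.2 * a) • ω = ω)).card =
        (((Finset.univ : Finset Ω).erase ω).erase (a • ω)).card := by
      apply Finset.card_bij (fun x _ => x.1)
      · intro x hx
        simp only [tset, Finset.mem_filter, Finset.mem_univ, true_and, mul_smul] at hx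
        rw [Finset.mem_erase, Finset.mem_erase]
        refine ⟨?_, ?_, Finset.mem_univ _⟩
        · intro h
          have h3 := hfix _ _ hx.1.1
          rw [h, hx.2] at h3
          exact hω h3.symm
        · intro h
          have h3 := hfix _ _ hx.1.1
          rw [h] at h3
          rw [← hx.2] at h3
          have h4 : x.2 • (x.2 • a • ω) = x.2 • (a • ω) := h3
          have h5 := MulAction.injective x.2 h4
          rw [hx.2] at h5
          exact hω h5.symm
      · intro x hx y hy hxy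
        simp only [tset, Finset.mem_filter, Finset.mem_univ, true_and, mul_smul] at hx hy
        have hne1 : a • ω ≠ x.1 := by
          intro h
          have h3 := hfix _ _ hx.1.1
          rw [← h, hx.2] at h3
          exact hω h3.symm
        have hne2 : ω ≠ x.1 := by
          intro h
          have h3 := hfix _ _ hx.1.1
          rw [← h] at h3
          have h4 : x.2 • (a • ω) = x.2 • ω := by rw [hx.2, h3]
          exact hω (MulAction.injective x.2 h4)
        obtain ⟨r, -, hr⟩ := hreg x.1 (a • ω) ω hne1 hne2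
        have h5 := hr x.2 ⟨hx.1.1, hx.2⟩
        have h6 := hr y.2 ⟨by rw [hxy]; exact hy.1.1, hy.2⟩
        exact Prod.ext hxy (h5.trans h6.symm)
      · intro γ hγ
        rw [Finset.mem_erase, Finset.mem_erase] at hγ
        obtain ⟨s, ⟨hs, hsω⟩, -⟩ := hreg γ (a • ω) ω (Ne.symm hγ.1) (Ne.symm hγ.2.1)
        refine ⟨(γ, s), ?_, rfl⟩
        simp only [tset, Finset.mem_filter, Finset.mem_univ, true_and, mul_smul]
        refine ⟨⟨hs, ?_⟩, hsω⟩
        rintro rfl
        rw [one_smul] at hsω
        exact hω hsω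
    rw [h1, Finset.card_erase_of_mem, Finset.card_erase_of_mem (Finset.mem_univ _), Finset.card_univ]
    · omega
    · rw [Finset.mem_erase]
      exact ⟨hω, Finset.mem_univ _⟩

/-- If some `s a` has two fixed points then some `s a` has none. -/
theorem exists_free (a : G) {γ₀ : Ω} {s₀ : G} (hs₀ : s₀ ∈ S γ₀)
    (h1 : s₀ ≠ 1) {p₁ p₂ : Ω} (hp : p₁ ≠ p₂) (hp₁ : (s₀ * a) • p₁ = p₁) (hp₂ : (s₀ * a) • p₂ = p₂) :
    ∃ γ, ∃ s ∈ S γ, s ≠ 1 ∧ ∀ ω : Ω, (s * a) • ω ≠ ω := by
  classical
  have h2 : 2 ≤ Fintype.card Ω := by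
    have : 1 < Fintype.card Ω := Fintype.one_lt_card_iff.mpr ⟨p₁, p₂, hp⟩
    omega
  by_contra hcon
  push Not at hcon
  have hsum : ∑ x ∈ tset S, ((Finset.univ : Finset Ω).filter (fun ω => (x.2 * a) • ω = ω)).card =
      (tset S).card := by
    have h3 := Finset.sum_card_bipartiteAbove_eq_sum_card_bipartiteBelow (s := tset S)
      (t := (Finset.univ : Finset Ω)) (fun x ω => (x.2 * a) • ω = ω)
    simp only [Finset.bipartiteAbove, Finset.bipartiteBelow] at h3
    rw [h3, Finset.sum_congr rfl (fun ω _ => card_fiber S hfix hreg h2 a ω), Finset.sum_const,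
      Finset.card_univ, smul_eq_mul, card_tset S hfix hreg h2]
  have hlt : ∑ x ∈ tset S, 1 <
      ∑ x ∈ tset S, ((Finset.univ : Finset Ω).filter (fun ω => (x.2 * a) • ω = ω)).card := by
    apply Finset.sum_lt_sum
    · intro x hx
      simp only [tset, Finset.mem_filter, Finset.mem_univ, true_and] at hx
      obtain ⟨ω, hω⟩ := hcon x.1 x.2 hx.1 hx.2
      have : 0 < ((Finset.univ : Finset Ω).filter (fun ω => (x.2 * a) • ω = ω)).card :=
        Finset.card_pos.mpr ⟨ω, by simp [hω]⟩
      omega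
    · refine ⟨(γ₀, s₀), ?_, ?_⟩
      · simp only [tset, Finset.mem_filter, Finset.mem_univ, true_and]
        exact ⟨hs₀, h1⟩
      · rw [Finset.one_lt_card]
        exact ⟨p₁, by simpa using hp₁, p₂, by simpa using hp₂, hp⟩
  rw [hsum] at hlt
  simp at hlt

end Count

section Main

open MulAction

variable {G Ω : Type*} [Group G] [Finite G] [MulAction G Ω] [Finite Ω]

omit [Finite G] in
theorem exists_fix {y : G} {l : ℕ} (hl : l.Prime) (hy : orderOf y = l) (hc : ¬ l ∣ Nat.card Ω) :
    ∃ c : Ω, y • c = c := by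
  have : Fact l.Prime := ⟨hl⟩
  have hp : IsPGroup l (Subgroup.zpowers y) := by
    apply IsPGroup.of_card (n := 1)
    rw [Nat.card_zpowers, hy, pow_one]
  obtain ⟨c, hc⟩ := hp.nonempty_fixed_point_of_prime_not_dvd_card Ω hc
  exact ⟨c, hc ⟨y, Subgroup.mem_zpowers y⟩⟩

/-- An element without fixed points has order prime to the order of the point stabilisers. -/
theorem coprime_of_free (hZ : Cfsg.IsZassenhausGroup G Ω) (hodd : Odd (Nat.card Ω)) {x : G}
    (hx : ∀ c : Ω, x • c ≠ c) {l : ℕ} (hl : l.Prime) (hlΩ : ¬ l ∣ Nat.card Ω) : ¬ l ∣ orderOf x := by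
  classical
  have := Fintype.ofFinite Ω
  -- a nontrivial power of `x` with a fixed point has the pair `c, x c` as its fixed points
  have key : ∀ y : G, y ≠ 1 → Commute x y → ∀ c : Ω, y • c = c → x • x • c = c := by
    intro y hy hxy c hc
    have h1 : y • x • c = x • c := by
      rw [smul_smul, ← hxy.eq, mul_smul, hc]
    have h2 : y • x • x • c = x • x • c := by
      rw [smul_smul, ← hxy.eq, mul_smul, h1]
    by_contra h3
    apply hy
    refine Cfsg.Agent.PermutationGroups.ZassenhausBasic.eq_one_of_fix hZ (a := c) (b := x • c)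
      (c := x • x • c) ?_ ?_ ?_ hc h1 h2
    · exact (hx c).symm
    · exact (hx (x • c)).symm
    · exact fun h => h3 h.symm
  -- the order of `x` is odd
  have hox : ¬ 2 ∣ orderOf x := by
    intro h2
    obtain ⟨k, hk⟩ := h2
    have hx0 : 0 < orderOf x := orderOf_pos x
    have hy : orderOf (x ^ k) = 2 := by
      rw [orderOf_pow_of_dvd (by omega) ⟨2, by rw [hk, mul_comm]⟩, hk]
      exact Nat.mul_div_cancel _ (by omega)
    have hyy : x ^ k * x ^ k = 1 := by rw [← pow_two, ← hy, pow_orderOf_eq_one]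
    have hy1 : x ^ k ≠ 1 := by
      intro h
      rw [h, orderOf_one] at hy
      omega
    have h3 := Cfsg.Agent.PermutationGroups.ZassenhausInvolutions.card_fixedBy_le_two hZ hy1
    have h4 := Cfsg.Agent.PermutationGroups.ZassenhausInvolutions.card_fixedBy_modEq_two (Ω := Ω) hyy
    rw [Nat.card_eq_fintype_card] at hodd
    have h5 : Nat.card (MulAction.fixedBy Ω (x ^ k)) % 2 = 1 := by
      have : Fintype.card Ω % 2 = 1 := Nat.odd_iff.mp hodd
      rw [← this]
      exact h4.symm
    have h6 : Nat.card (MulAction.fixedBy Ω (x ^ k)) = 1 := by omega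
    rw [Nat.card_eq_one_iff_unique] at h6
    obtain ⟨h7, ⟨c, hc⟩⟩ := h6
    rw [MulAction.mem_fixedBy] at hc
    have h8 : x • c ∈ MulAction.fixedBy Ω (x ^ k) := by
      rw [MulAction.mem_fixedBy, smul_smul, ← pow_succ, pow_succ', mul_smul, hc]
    have h9 := h7.elim ⟨x • c, h8⟩ ⟨c, hc⟩
    exact hx c (congrArg Subtype.val h9)
  intro hlx
  obtain ⟨k, hk⟩ := hlx
  have hx0 : 0 < orderOf x := orderOf_pos x
  have hk0 : k ≠ 0 := by
    rintro rfl
    omega
  have hy : orderOf (x ^ k) = l := by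
    rw [orderOf_pow_of_dvd hk0 ⟨l, by rw [hk, mul_comm]⟩, hk]
    exact Nat.mul_div_cancel _ (by omega)
  have hy1 : x ^ k ≠ 1 := by
    intro h
    rw [h, orderOf_one] at hy
    exact hl.one_lt.ne hy
  obtain ⟨c, hc⟩ := exists_fix hl hy hlΩ
  have h1 := key (x ^ k) hy1 (Commute.self_pow x k) c hc
  -- `x` is a power of `x²`
  have h2 : ∀ n : ℕ, (x ^ (2 * n)) • c = c := by
    intro n
    induction n with
    | zero => simp
    | succ n ih =>
      have : x ^ (2 * (n + 1)) = x ^ (2 * n) * (x * x) := by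
        rw [mul_add, pow_add, mul_one, pow_two]
      rw [this, mul_smul, mul_smul, h1, ih]
  obtain ⟨j, hj⟩ : ∃ j, orderOf x = 2 * j + 1 := ⟨orderOf x / 2, by omega⟩
  have h3 := h2 (j + 1)
  have h4 : x ^ (2 * (j + 1)) = x := by
    have : 2 * (j + 1) = orderOf x + 1 := by omega
    rw [this, pow_succ, pow_orderOf_eq_one, one_mul]
  rw [h4] at h3
  exact hx c h3

/-- A Zassenhaus group of odd degree has three nonidentity elements with pairwise coprime orders and product
one. -/
theorem hasTriple (hZ : Cfsg.IsZassenhausGroup G Ω) (hodd : Odd (Nat.card Ω)) : HasTriple G := by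
  classical
  have := Fintype.ofFinite G
  have := Fintype.ofFinite Ω
  have hcardΩ : 3 ≤ Nat.card Ω := by
    rw [Nat.card_eq_fintype_card]
    exact Cfsg.Agent.CharactersDeep.Zassenhaus.three_le_card hZ
  obtain ⟨a, ha1, α, β, hαβ, haα, haβ⟩ := hZ.2.2.2.1
  choose S hSle hSn hScard hSfix hSreg using
    fun γ : Ω => Cfsg.Agent.LieExceptional.ZassenhausKernel.exists_kernel hZ γ
  have hfix : ∀ γ, ∀ s ∈ S γ, s • γ = γ := fun γ s hs => hSle γ hs
  have hreg : ∀ γ α β : Ω, α ≠ γ → β ≠ γ → ∃! s : G, s ∈ S γ ∧ s • α = β := by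
    intro γ α β h1 h2
    obtain ⟨u, hu, huniq⟩ := hSreg γ α β h1 h2
    refine ⟨u, ⟨u.2, hu⟩, ?_⟩
    rintro v ⟨hv, hv'⟩
    exact congrArg Subtype.val (huniq ⟨v, hv⟩ hv')
  -- a nontrivial element of `S α`
  obtain ⟨u, huS, hu1⟩ : ∃ u ∈ S α, u ≠ 1 := by
    have h1 : S α ≠ ⊥ := by
      intro h
      have := hScard α
      rw [h, Subgroup.card_bot] at this
      omega
    obtain ⟨u, hu, hu1⟩ := (Subgroup.ne_bot_iff_exists_ne_one (H := S α)).mp h1 |> fun ⟨u, hu⟩ =>
      (⟨u.1, u.2, fun h => hu (Subtype.ext h)⟩ : ∃ u : G, u ∈ S α ∧ u ≠ 1)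
    exact ⟨u, hu, hu1⟩
  have haS : a ∈ MulAction.stabilizer G α := haα
  have hconj : a * u⁻¹ * a⁻¹ ∈ S α := by
    have h1 := (hSn α).conj_mem ⟨u⁻¹, hSle α ((S α).inv_mem huS)⟩
      (by rw [Subgroup.mem_subgroupOf]; exact (S α).inv_mem huS) ⟨a, haS⟩
    rw [Subgroup.mem_subgroupOf] at h1
    exact h1
  set s₀ : G := u * (a * u⁻¹ * a⁻¹) with hs₀
  have hs₀S : s₀ ∈ S α := (S α).mul_mem huS hconj
  have hs₀a : s₀ * a = u * a * u⁻¹ := by rw [hs₀]; group
  have huα : u • α = α := hfix α u huS
  have huβ : u • β ≠ β := by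
    intro h
    exact hαβ (hSfix α u huS hu1 β h).symm
  have hp1 : (s₀ * a) • α = α := by
    rw [hs₀a, mul_smul, mul_smul]
    have : u⁻¹ • α = α := by rw [inv_smul_eq_iff, huα]
    rw [this, haα, huα]
  have hp2 : (s₀ * a) • (u • β) = u • β := by
    rw [hs₀a, mul_smul, mul_smul, inv_smul_smul, haβ]
  have hne : α ≠ u • β := by
    intro h
    have : u • α = u • β := by rw [huα]; exact h
    exact hαβ (MulAction.injective u this)
  have hs₀1 : s₀ ≠ 1 := by
    intro h
    rw [h, one_mul] at hp2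
    exact ha1 (Cfsg.Agent.PermutationGroups.ZassenhausBasic.eq_one_of_fix hZ hαβ huβ.symm hne haα haβ hp2)
  obtain ⟨γ, s, hsS, hs1, hfree⟩ := exists_free S hfix hreg a hs₀S hs₀1 hne hp1 hp2
  -- orders
  have hos : orderOf s ∣ Nat.card Ω - 1 := by
    have h1 : orderOf (⟨s, hsS⟩ : S γ) ∣ Nat.card (S γ) := orderOf_dvd_natCard _
    have h2 : Nat.card (S γ) = Nat.card Ω - 1 := by
      have := hScard γ
      omega
    rw [h2] at h1
    have h3 : orderOf s = orderOf (⟨s, hsS⟩ : S γ) := (Subgroup.orderOf_mk s hsS).symm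
    rw [h3]; exact h1
  have hoa : orderOf a ∣ Nat.card Ω - 2 := by
    have h1 := Cfsg.Agent.CharactersDeep.ZassenhausTransfer.two_point_card_dvd hZ hαβ
    have haE : a ∈ stabilizer G α ⊓ stabilizer G β := ⟨haα, haβ⟩
    have h2 : orderOf (⟨a, haE⟩ : (stabilizer G α ⊓ stabilizer G β : Subgroup G)) ∣
        Nat.card (stabilizer G α ⊓ stabilizer G β : Subgroup G) := orderOf_dvd_natCard _
    have h3 : orderOf a = orderOf (⟨a, haE⟩ : (stabilizer G α ⊓ stabilizer G β : Subgroup G)) :=
      (Subgroup.orderOf_mk a haE).symm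
    rw [h3]; exact h2.trans h1
  have hx1 : s * a ≠ 1 := by
    intro h
    apply hfree α
    rw [h, one_smul]
  have hmod : Nat.card Ω % 2 = 1 := Nat.odd_iff.mp hodd
  have hcop : ∀ m : ℕ, m ∣ (Nat.card Ω - 1) ∨ m ∣ (Nat.card Ω - 2) → m.Coprime (orderOf (s * a)) := by
    intro m hm
    by_contra hcon
    obtain ⟨l, hl, hlm, hlx⟩ := Nat.Prime.not_coprime_iff_dvd.mp hcon
    refine coprime_of_free hZ hodd hfree hl ?_ hlx
    intro hlΩ
    rcases hm with hm | hm
    · have h1 := Nat.dvd_sub hlΩ (hlm.trans hm)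
      have h2 : Nat.card Ω - (Nat.card Ω - 1) = 1 := by omega
      rw [h2] at h1
      exact hl.one_lt.ne' (Nat.dvd_one.mp h1)
    · have h1 := Nat.dvd_sub hlΩ (hlm.trans hm)
      have h2 : Nat.card Ω - (Nat.card Ω - 2) = 2 := by omega
      rw [h2] at h1
      have h3 := (Nat.prime_dvd_prime_iff_eq hl Nat.prime_two).mp h1
      subst h3
      omega
  refine ⟨s, a, (s * a)⁻¹, hs1, ha1, ?_, ?_, ?_, ?_, ?_⟩
  · rw [Ne, inv_eq_one]; exact hx1
  · apply Nat.Coprime.coprime_dvd_left hos
    apply Nat.Coprime.coprime_dvd_right hoa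
    have h1 : Nat.card Ω - 1 = (Nat.card Ω - 2) + 1 := by omega
    rw [h1]
    simp
  · rw [orderOf_inv]
    exact hcop _ (Or.inr hoa)
  · rw [orderOf_inv]
    exact hcop _ (Or.inl hos)
  · rw [mul_inv_cancel]

end Main

end Cfsg.Agent.Classification.ZassenhausTriple
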