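import Mathlib
import Cfsg.Prelude.Def_Sz
import Cfsg.Prelude.Def_LieExceptional
import Cfsg.Agent.LieRecognition.SzMatrix
import Cfsg.Agent.LieRecognition.RankOneAbstract
import Cfsg.Agent.S1162
import Cfsg.Agent.S1163
import Cfsg.Agent.Classification.ZassenhausTriple

/-!
# The Suzuki groups `Lie.Sz` are Zassenhaus groups; coprime triples
-/

set_option autoImplicit false
set_option linter.dupNamespace false

namespace Cfsg.Agent.Classification.SuzukiTriple

open Cfsg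
open Cfsg.Agent.LieRecognition.SzMatrix Cfsg.Agent.LieRecognition.RankOneAbstract
open Cfsg.Agent.Classification.CoprimeTriple (HasTriple)

theorem eq_one_of_field {F : Type*} [Field F] {θ : F →+* F} {e : ℕ} (H : Good F θ e) (k : Fˣ) (x y : F)
    (hxy : x ≠ 0 ∨ y ≠ 0) (h1 : x * k ^ 2 * (θ k)⁻¹ = x) (h2 : y * θ k = y) : k = 1 := by
  have hθk : θ (k : F) ≠ 0 := theta_ne_zero θ k
  have hsqinj : ∀ a b : F, a ^ 2 = b ^ 2 → a = b := by
    intro a b hab
    have h3 : (a - b) ^ 2 = 0 := by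
      linear_combination hab + (b * b - a * b) * H.two
    have := pow_eq_zero_iff (two_ne_zero) |>.mp h3
    exact sub_eq_zero.mp this
  apply Units.ext
  rw [Units.val_one]
  rcases hxy with hx | hy
  · have h3 : (k : F) ^ 2 = θ k := by
      have h4 : x * ((k : F) ^ 2) = x * θ k := by
        field_simp at h1
        linear_combination x * h1
      exact mul_left_cancel₀ hx h4
    have h5 := congrArg θ h3
    rw [map_pow, H.sq] at h5
    have h6 := hsqinj _ _ h5
    rw [h6] at h3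
    have h7 : (k : F) * ((k : F) - 1) = 0 := by linear_combination h3
    rcases mul_eq_zero.mp h7 with h8 | h8
    · exact absurd h8 k.ne_zero
    · exact sub_eq_zero.mp h8
  · have h3 : θ (k : F) = 1 := by
      have h4 : y * θ k = y * 1 := by rw [h2, mul_one]
      exact mul_left_cancel₀ hy h4
    have h5 := congrArg θ h3
    rw [H.sq, map_one] at h5
    apply hsqinj
    rw [h5, one_pow]

section

variable {F : Type*} [Field F] {θ : F →+* F} {e : ℕ} (H : Good F θ e)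

theorem smul_mk_eq {G : Type*} [Group G] {B : Subgroup G} (g x : G) :
    g • (QuotientGroup.mk x : G ⧸ B) = QuotientGroup.mk x ↔ x⁻¹ * g * x ∈ B := by
  have h1 : g • (QuotientGroup.mk x : G ⧸ B) = QuotientGroup.mk (g * x) := rfl
  rw [h1, eq_comm, QuotientGroup.eq]
  simp [mul_assoc]

include H in
/-- Elements fixing three points are trivial. -/
theorem three_points (g : ↥(Cfsg.Lie.Sz F e)) (a b c : ↥(Cfsg.Lie.Sz F e) ⧸ H.borel)
    (hab : a ≠ b) (hbc : b ≠ c) (hac : a ≠ c) (ha : g • a = a) (hb : g • b = b) (hc : g • c = c) :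
    g = 1 := by
  have D := Cfsg.Agent.S1163.data_sz H
  have hw : (QuotientGroup.mk 1 : ↥(Cfsg.Lie.Sz F e) ⧸ H.borel) ≠ QuotientGroup.mk H.w := by
    intro h
    rw [QuotientGroup.eq, inv_one, one_mul] at h
    exact D.w_not_mem h
  obtain ⟨x, hx1, hx2⟩ := MulAction.is_two_pretransitive_iff.mp D.two_pretransitive hab hw
  set y := x * g * x⁻¹ with hy
  have hy1 : y • (QuotientGroup.mk 1 : ↥(Cfsg.Lie.Sz F e) ⧸ H.borel) = QuotientGroup.mk 1 := by
    rw [← hx1, hy, mul_smul, mul_smul, inv_smul_smul, ha]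
  have hy2 : y • (QuotientGroup.mk H.w : ↥(Cfsg.Lie.Sz F e) ⧸ H.borel) = QuotientGroup.mk H.w := by
    rw [← hx2, hy, mul_smul, mul_smul, inv_smul_smul, hb]
  have hy3 : y • (x • c) = x • c := by
    rw [hy, mul_smul, mul_smul, inv_smul_smul, hc]
  suffices h : y = 1 by
    rw [hy] at h
    have : g = x⁻¹ * (x * g * x⁻¹) * x := by group
    rw [this, h]
    group
  have hyB : y ∈ H.borel := by
    have := (smul_mk_eq (B := H.borel) y 1).mp hy1
    simpa using this
  obtain ⟨p, q, k, hpq⟩ := (H.mem_borel_iff' y).1 hyB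
  have hyw := (smul_mk_eq (B := H.borel) y H.w).mp hy2
  have hdw : (H.w)⁻¹ * H.d k * H.w ∈ H.borel := by
    rw [H.w_inv, H.w_mul_d, mul_assoc, H.w_mul_w, mul_one]
    exact H.d_mem_borel _
  have huw : (H.w)⁻¹ * H.u p q * H.w ∈ H.borel := by
    have h3 : (H.w)⁻¹ * H.u p q * H.w = ((H.w)⁻¹ * y * H.w) * ((H.w)⁻¹ * H.d k * H.w)⁻¹ := by
      rw [hpq]; group
    rw [h3]
    exact H.borel.mul_mem hyw (H.borel.inv_mem hdw)
  have hu1 : H.u p q = 1 := D.inter _ (H.u_mem_unip p q) huw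
  rw [hu1, one_mul] at hpq
  -- the third point
  have hxc1 : x • c ≠ QuotientGroup.mk 1 := by
    rw [← hx1]
    intro h
    exact hac (MulAction.injective x h).symm
  have hxc2 : x • c ≠ QuotientGroup.mk H.w := by
    rw [← hx2]
    intro h
    exact hbc (MulAction.injective x h).symm
  obtain ⟨⟨s, hs⟩, hsc⟩ := D.exists_eq (x • c) hxc1
  obtain ⟨r, t, rfl⟩ := (H.mem_unip_iff s).1 hs
  change (H.u r t) • (QuotientGroup.mk H.w : ↥(Cfsg.Lie.Sz F e) ⧸ H.borel) = x • c at hsc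
  rw [← hsc, hpq] at hy3
  have hrt : r ≠ 0 ∨ t ≠ 0 := by
    by_contra hcon
    push Not at hcon
    rw [hcon.1, hcon.2, H.u_zero, one_smul] at hsc
    exact hxc2 hsc.symm
  have h4 : H.d k • (H.u r t) • (QuotientGroup.mk H.w : ↥(Cfsg.Lie.Sz F e) ⧸ H.borel) =
      (H.u (r * k ^ 2 * (θ k)⁻¹) (t * θ k)) • (QuotientGroup.mk H.w : ↥(Cfsg.Lie.Sz F e) ⧸ H.borel) := by
    rw [smul_smul, H.d_mul_u, mul_smul]
    congr 1
    rw [smul_mk_eq]
    exact hdw
  rw [h4] at hy3
  have h5 := D.smul_w_inj ⟨_, H.u_mem_unip (r * k ^ 2 * (θ k)⁻¹) (t * θ k)⟩ ⟨_, H.u_mem_unip r t⟩ hy3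
  obtain ⟨h6, h7⟩ := H.u_inj (congrArg Subtype.val h5)
  rw [hpq, eq_one_of_field H k r t hrt h6 h7, H.d_one]

end

section

variable {F : Type*} [Field F] [Fintype F] {m : ℕ}

/-- The Suzuki group is a Zassenhaus group on the cosets of a Borel subgroup. -/
theorem zassenhaus (hm : 1 ≤ m) (hF : Fintype.card F = 2 ^ (2 * m + 1)) :
    Cfsg.IsZassenhausGroup ↥(Cfsg.Lie.Sz F (2 ^ (m + 1)))
      (↥(Cfsg.Lie.Sz F (2 ^ (m + 1))) ⧸ (good hF).borel) := by
  have H := good hF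
  have D := Cfsg.Agent.S1163.data_sz H
  have hsimple := Cfsg.Agent.S1162.result hm hF
  have hidx : H.borel.index = Nat.card F ^ 2 + 1 := by rw [D.index, H.card_unip]
  have hcF : Nat.card F = 2 ^ (2 * m + 1) := by rw [Nat.card_eq_fintype_card, hF]
  have hcF8 : 8 ≤ Nat.card F := by
    rw [hcF]
    calc 8 = 2 ^ 3 := by norm_num
      _ ≤ 2 ^ (2 * m + 1) := Nat.pow_le_pow_right (by norm_num) (by omega)
  have hw : (QuotientGroup.mk 1 : ↥(Cfsg.Lie.Sz F (2 ^ (m + 1))) ⧸ H.borel) ≠ QuotientGroup.mk H.w := by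
    intro h
    rw [QuotientGroup.eq, inv_one, one_mul] at h
    exact D.w_not_mem h
  -- a nontrivial element of the torus
  obtain ⟨k, hk⟩ : ∃ k : Fˣ, k ≠ 1 := by
    have : Nontrivial Fˣ := by
      rw [← Finite.one_lt_card_iff_nontrivial, Nat.card_units]
      omega
    exact exists_ne 1
  have hd1 : H.d k ≠ 1 := by
    intro h
    rw [← H.d_one] at h
    exact hk (H.d_inj h)
  have hdfix1 : H.d k • (QuotientGroup.mk 1 : ↥(Cfsg.Lie.Sz F (2 ^ (m + 1))) ⧸ H.borel) = QuotientGroup.mk 1 := by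
    rw [smul_mk_eq]
    simpa using H.d_mem_borel k
  have hdfix2 : H.d k • (QuotientGroup.mk H.w : ↥(Cfsg.Lie.Sz F (2 ^ (m + 1))) ⧸ H.borel) =
      QuotientGroup.mk H.w := by
    rw [smul_mk_eq, H.w_inv, H.w_mul_d, mul_assoc, H.w_mul_w, mul_one]
    exact H.d_mem_borel _
  refine ⟨?_, D.two_pretransitive, fun g a b c hab hbc hac ha hb hc =>
    three_points H g a b c hab hbc hac ha hb hc, ?_, ?_⟩
  · -- faithful
    have hcardΩ : 2 < Nat.card (↥(Cfsg.Lie.Sz F (2 ^ (m + 1))) ⧸ H.borel) := by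
      have : Nat.card (↥(Cfsg.Lie.Sz F (2 ^ (m + 1))) ⧸ H.borel) = H.borel.index := rfl
      rw [this, hidx]
      nlinarith
    have := Fintype.ofFinite (↥(Cfsg.Lie.Sz F (2 ^ (m + 1))) ⧸ H.borel)
    rw [Nat.card_eq_fintype_card, Fintype.two_lt_card_iff] at hcardΩ
    obtain ⟨a, b, c, hab, hac, hbc⟩ := hcardΩ
    refine ⟨fun {g h} hgh => ?_⟩
    have h1 : h⁻¹ * g = 1 := three_points H (h⁻¹ * g) a b c hab hbc hac
      (by rw [mul_smul, hgh, inv_smul_smul]) (by rw [mul_smul, hgh, inv_smul_smul])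
      (by rw [mul_smul, hgh, inv_smul_smul])
    exact (inv_mul_eq_one.mp h1).symm
  · exact ⟨H.d k, hd1, _, _, hw, hdfix1, hdfix2⟩
  · intro N hN htr
    rcases hsimple.eq_bot_or_eq_top_of_normal N hN with h | h
    · exfalso
      subst h
      obtain ⟨n, hn⟩ := htr.exists_smul_eq (QuotientGroup.mk 1) (QuotientGroup.mk H.w)
      have h1 : (n : ↥(Cfsg.Lie.Sz F (2 ^ (m + 1)))) = 1 := Subgroup.mem_bot.mp n.2
      have h2 : (n : ↥(Cfsg.Lie.Sz F (2 ^ (m + 1)))) •
          (QuotientGroup.mk 1 : ↥(Cfsg.Lie.Sz F (2 ^ (m + 1))) ⧸ H.borel) = QuotientGroup.mk H.w := hn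
      rw [h1, one_smul] at h2
      exact hw h2
    · refine ⟨QuotientGroup.mk 1, ?_⟩
      intro hbot
      have h1 : (⟨H.d k, by rw [h]; trivial⟩ : N) ∈ (⊥ : Subgroup N) := by
        rw [← hbot]
        exact hdfix1
      rw [Subgroup.mem_bot] at h1
      exact hd1 (congrArg Subtype.val h1)

/-- The Suzuki groups have coprime triples. -/
theorem hasTriple_sz (hm : 1 ≤ m) (hF : Fintype.card F = 2 ^ (2 * m + 1)) :
    HasTriple ↥(Cfsg.Lie.Sz F (2 ^ (m + 1))) := by
  have H := good hF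
  have D := Cfsg.Agent.S1163.data_sz H
  refine Cfsg.Agent.Classification.ZassenhausTriple.hasTriple (zassenhaus hm hF) ?_
  have h1 : Nat.card (↥(Cfsg.Lie.Sz F (2 ^ (m + 1))) ⧸ (good hF).borel) = (good hF).borel.index := rfl
  have hcF : Nat.card F = 2 ^ (2 * m + 1) := by rw [Nat.card_eq_fintype_card, hF]
  rw [h1, D.index, H.card_unip, hcF, Nat.odd_add_one, Nat.not_odd_iff_even]
  exact (Nat.even_pow.mpr ⟨even_two, by omega⟩).pow_of_ne_zero (by norm_num)

end

theorem hasTriple {G : Type*} [Group G] (h : Cfsg.Lie.IsoSuzuki G) : HasTriple G := by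
  obtain ⟨F, _, _, m, hm, hF, ⟨e⟩⟩ := h
  exact (hasTriple_sz hm hF).of_mulEquiv e.symm

end Cfsg.Agent.Classification.SuzukiTriple
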