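import Mathlib
import Cfsg.Prelude.Def_CaseTheorems

/-!
# Minimal simple sections and prime divisors of the orders of the minimal simple groups
-/

set_option autoImplicit false
set_option linter.dupNamespace false

namespace Cfsg.Agent.Classification.ThreePrimes

open Cfsg

section Section

variable {G : Type*} [Group G] [Finite G]

/-- A finite insoluble group has a minimal simple section. -/
theorem exists_section (hG : ¬ Group.IsSolvable G) :
    ∃ (H : Subgroup G) (N : Subgroup H) (_ : N.Normal), IsMinimalSimple (H ⧸ N) := by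
  classical
  -- minimal insoluble subgroup
  obtain ⟨H, hH, hmin⟩ : ∃ H : Subgroup G, ¬ Group.IsSolvable H ∧
      ∀ K : Subgroup G, K < H → Group.IsSolvable K := by
    have hne : ({H : Subgroup G | ¬ Group.IsSolvable H}).Nonempty := by
      refine ⟨⊤, fun h => hG ?_⟩
      exact Group.isSolvable_of_surjective (f := (Subgroup.topEquiv (G := G)).toMonoidHom)
        (Subgroup.topEquiv (G := G)).surjective
    obtain ⟨H, hH⟩ := (Set.toFinite {H : Subgroup G | ¬ Group.IsSolvable H}).exists_minimal hne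
    refine ⟨H, hH.prop, fun K hK => ?_⟩
    by_contra h
    exact absurd (hH.le_of_le h hK.le) (not_le_of_gt hK)
  have hsub : ∀ K : Subgroup H, K ≠ ⊤ → Group.IsSolvable K := by
    intro K hK
    have h1 : K.map H.subtype < H := by
      refine lt_of_le_of_ne (Subgroup.map_subtype_le K) ?_
      intro h
      apply hK
      rw [eq_top_iff]
      intro x _
      have hx : (x : G) ∈ K.map H.subtype := by rw [h]; exact x.2
      obtain ⟨y, hy, hyx⟩ := hx
      have : y = x := Subtype.ext hyx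
      rwa [← this]
    have h2 := hmin _ h1
    let e := K.equivMapOfInjective H.subtype H.subtype_injective
    exact Group.isSolvable_of_surjective (f := e.symm.toMonoidHom) e.symm.surjective
  -- maximal normal subgroup
  obtain ⟨N, hN, hNt, hmax⟩ : ∃ N : Subgroup H, N.Normal ∧ N ≠ ⊤ ∧
      ∀ M : Subgroup H, M.Normal → N ≤ M → M = N ∨ M = ⊤ := by
    have hnt : Nontrivial H := by
      by_contra h
      rw [not_nontrivial_iff_subsingleton] at h
      exact hH inferInstance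
    have hne : ({N : Subgroup H | N.Normal ∧ N ≠ ⊤}).Nonempty :=
      ⟨⊥, inferInstance, bot_ne_top⟩
    obtain ⟨N, hN⟩ := (Set.toFinite {N : Subgroup H | N.Normal ∧ N ≠ ⊤}).exists_maximal hne
    refine ⟨N, hN.prop.1, hN.prop.2, fun M hM hNM => ?_⟩
    by_cases h : M = ⊤
    · exact Or.inr h
    · exact Or.inl (le_antisymm (hN.le_of_ge ⟨hM, h⟩ hNM) hNM)
  refine ⟨H, N, hN, ?_, ?_, ?_⟩
  · have hnt : Nontrivial (H ⧸ N) := QuotientGroup.nontrivial_iff.mpr hNt
    refine { exists_pair_ne := hnt.exists_pair_ne, eq_bot_or_eq_top_of_normal := ?_ }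
    intro K hK
    have h1 : (K.comap (QuotientGroup.mk' N)).Normal := inferInstance
    have h2 : N ≤ K.comap (QuotientGroup.mk' N) := by
      intro x hx
      rw [Subgroup.mem_comap]
      have : QuotientGroup.mk' N x = 1 := (QuotientGroup.eq_one_iff _).mpr hx
      rw [this]
      exact K.one_mem
    have h3 := Subgroup.map_comap_eq_self_of_surjective (QuotientGroup.mk'_surjective N) K
    rcases hmax _ h1 h2 with h | h
    · left
      rw [← h3, h]
      ext x
      simp only [Subgroup.mem_map, Subgroup.mem_bot]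
      constructor
      · rintro ⟨y, hy, rfl⟩
        exact (QuotientGroup.eq_one_iff _).mpr hy
      · rintro rfl
        exact ⟨1, N.one_mem, map_one _⟩
    · right
      rw [← h3, h]
      exact Subgroup.map_top_of_surjective _ (QuotientGroup.mk'_surjective N)
  · intro hc
    apply hH
    have h1 : Group.IsSolvable N := hsub N hNt
    have h2 : Group.IsSolvable (H ⧸ N) := Group.isSolvable_of_comm mul_comm'
    exact (Group.isSolvable_iff_subgroup_quotient N).mpr ⟨h1, h2⟩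
  · intro K hK
    have h3 := Subgroup.map_comap_eq_self_of_surjective (QuotientGroup.mk'_surjective N) K
    have h4 : K.comap (QuotientGroup.mk' N) ≠ ⊤ := by
      intro h
      apply hK
      rw [← h3, h]
      exact Subgroup.map_top_of_surjective _ (QuotientGroup.mk'_surjective N)
    have h5 := hsub _ h4
    have h6 : Group.IsSolvable ((K.comap (QuotientGroup.mk' N)).map (QuotientGroup.mk' N)) :=
      Group.isSolvable_of_surjective (MonoidHom.subgroupMap_surjective (QuotientGroup.mk' N) _)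
    rwa [h3] at h6

end Section

section Arith

/-- Four distinct prime divisors. -/
theorem four_le {n : ℕ} (hn : n ≠ 0) {a b c d : ℕ} (ha : a.Prime) (hb : b.Prime) (hc : c.Prime)
    (hd : d.Prime) (ha' : a ∣ n) (hb' : b ∣ n) (hc' : c ∣ n) (hd' : d ∣ n) (hab : a ≠ b)
    (hac : a ≠ c) (had : a ≠ d) (hbc : b ≠ c) (hbd : b ≠ d) (hcd : c ≠ d) :
    4 ≤ n.primeFactors.card := by
  have h : ({a, b, c, d} : Finset ℕ) ⊆ n.primeFactors := by
    intro x hx
    simp only [Finset.mem_insert, Finset.mem_singleton] at hx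
    rw [Nat.mem_primeFactors]
    rcases hx with rfl | rfl | rfl | rfl
    · exact ⟨ha, ha', hn⟩
    · exact ⟨hb, hb', hn⟩
    · exact ⟨hc, hc', hn⟩
    · exact ⟨hd, hd', hn⟩
  calc 4 = ({a, b, c, d} : Finset ℕ).card := by
        rw [Finset.card_insert_of_notMem, Finset.card_insert_of_notMem, Finset.card_insert_of_notMem,
          Finset.card_singleton] <;> simp_all
    _ ≤ _ := Finset.card_le_card h

/-- `2^a + 1` is a power of `3` only for `a ≤ 3`. -/
theorem two_pow_add_one {a j : ℕ} (h : 2 ^ a + 1 = 3 ^ j) : a < 4 := by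
  by_contra ha
  push Not at ha
  obtain ⟨b, rfl⟩ := Nat.exists_eq_add_of_le ha
  have h1 : 2 ^ (4 + b) = 16 * 2 ^ b := by rw [pow_add]; norm_num
  rw [h1] at h
  have h2 : ∀ k : ℕ, 3 ^ (4 * k) % 80 = 1 := by
    intro k
    rw [pow_mul, Nat.pow_mod]
    norm_num
  have h3 : 3 ^ j % 16 = 1 := by omega
  have hj := Nat.div_add_mod j 4
  have h4 : j % 4 = 0 := by
    have h5 : 3 ^ j % 16 = 3 ^ (j % 4) % 16 := by
      conv_lhs => rw [← hj]
      rw [pow_add, Nat.mul_mod]
      have := h2 (j / 4)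
      have h6 : 3 ^ (4 * (j / 4)) % 16 = 1 := by omega
      rw [h6, one_mul, Nat.mod_mod]
    rw [h5] at h3
    have h7 : j % 4 < 4 := Nat.mod_lt _ (by norm_num)
    interval_cases (j % 4) <;> simp_all
  have h5 : 3 ^ j % 80 = 1 := by
    have := h2 (j / 4)
    rw [h4, add_zero] at hj
    rwa [hj] at this
  have h6 : 16 * 2 ^ b % 5 = 0 := by omega
  have h7 : 5 ∣ 16 * 2 ^ b := Nat.dvd_of_mod_eq_zero h6
  have h8 : 5 ∣ 2 ^ (4 + b) := by rw [h1]; exact h7
  have h9 := (Nat.prime_five).dvd_of_dvd_pow h8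
  omega

/-- `2^a = 3^j + 1` only for `a ≤ 2`. -/
theorem two_pow_sub_one {a j : ℕ} (h : 2 ^ a = 3 ^ j + 1) : a < 3 := by
  by_contra ha
  push Not at ha
  obtain ⟨b, rfl⟩ := Nat.exists_eq_add_of_le ha
  have h1 : 2 ^ (3 + b) = 8 * 2 ^ b := by rw [pow_add]; norm_num
  have h2 : 3 ^ j % 8 = 1 ∨ 3 ^ j % 8 = 3 := by
    rcases Nat.even_or_odd' j with ⟨k, rfl | rfl⟩
    · left; rw [pow_mul, Nat.pow_mod]; norm_num
    · right; rw [pow_succ, pow_mul, Nat.mul_mod, Nat.pow_mod]; norm_num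
  omega

theorem eq_pow_of_forall {n p : ℕ} (hn : n ≠ 0) (h : ∀ d, Nat.Prime d → d ∣ n → d = p) :
    ∃ k, n = p ^ k :=
  ⟨_, Nat.eq_prime_pow_of_unique_prime_dvd hn (fun {d} hd hdn => h d hd hdn)⟩

/-- Four primes in the order of `PSL₂(2^p)`, `p ≥ 5` odd. -/
theorem four_le_two_pow {p n : ℕ} (hp : 5 ≤ p) (hodd : Odd p) (hn : n ≠ 0)
    (h : (2 ^ p + 1) * 2 ^ p * (2 ^ p - 1) ∣ n) : 4 ≤ n.primeFactors.card := by
  have hq : 32 ≤ 2 ^ p := by
    calc 32 = 2 ^ 5 := by norm_num
      _ ≤ 2 ^ p := Nat.pow_le_pow_right (by norm_num) hp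
  have h3 : 2 ^ p % 3 = 2 := by
    obtain ⟨k, rfl⟩ := hodd
    rw [pow_succ, pow_mul, Nat.mul_mod, Nat.pow_mod]
    norm_num
  have h2 : 2 ^ p % 2 = 0 := by
    obtain ⟨k, rfl⟩ := hodd
    rw [pow_succ]; omega
  obtain ⟨r, hr, hrd⟩ := Nat.exists_prime_and_dvd (n := 2 ^ p - 1) (by omega)
  obtain ⟨s, hs, hsd, hs3⟩ : ∃ s, Nat.Prime s ∧ s ∣ 2 ^ p + 1 ∧ s ≠ 3 := by
    by_contra hcon
    push Not at hcon
    obtain ⟨k, hk⟩ := eq_pow_of_forall (n := 2 ^ p + 1) (p := 3) (by omega) hcon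
    have := two_pow_add_one hk
    omega
  have hd1 : 2 ^ p + 1 ∣ n := dvd_trans (Dvd.intro _ (by rw [mul_assoc])) h
  have hd2 : 2 ^ p ∣ n := dvd_trans ⟨(2 ^ p + 1) * (2 ^ p - 1), by ring⟩ h
  have hd3 : 2 ^ p - 1 ∣ n := dvd_trans (Dvd.intro_left _ rfl) h
  have hr2 : r ≠ 2 := by
    rintro rfl
    omega
  have hr3 : r ≠ 3 := by
    rintro rfl
    omega
  have hs2 : s ≠ 2 := by
    rintro rfl
    omega
  have hrs : r ≠ s := by
    rintro rfl
    have h5 : r ∣ 2 := by
      have := Nat.dvd_sub hsd hrd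
      have h6 : 2 ^ p + 1 - (2 ^ p - 1) = 2 := by omega
      rwa [h6] at this
    exact hr2 ((Nat.prime_dvd_prime_iff_eq hr Nat.prime_two).mp h5)
  exact four_le hn Nat.prime_two Nat.prime_three hr hs
    (dvd_trans (dvd_pow_self 2 (by omega)) hd2)
    (dvd_trans (Nat.dvd_of_mod_eq_zero (by omega)) hd1) (dvd_trans hrd hd3) (dvd_trans hsd hd1)
    (by norm_num) hr2.symm hs2.symm hr3.symm hs3.symm hrs

/-- Four primes in the order of `PSL₂(3^p)`, `p ≥ 3` odd. -/
theorem four_le_three_pow {p n : ℕ} (hp : 3 ≤ p) (hodd : Odd p) (hn : n ≠ 0)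
    (h : (3 ^ p + 1) * 3 ^ p * (3 ^ p - 1) ∣ 2 * n) : 4 ≤ n.primeFactors.card := by
  have hq : 27 ≤ 3 ^ p := by
    calc 27 = 3 ^ 3 := by norm_num
      _ ≤ 3 ^ p := Nat.pow_le_pow_right (by norm_num) hp
  have h8 : 3 ^ p % 8 = 3 := by
    obtain ⟨k, rfl⟩ := hodd
    rw [pow_succ, pow_mul, Nat.mul_mod, Nat.pow_mod]
    norm_num
  have h3 : 3 ^ p % 3 = 0 := by
    obtain ⟨k, rfl⟩ := hodd
    rw [pow_succ]; omega
  obtain ⟨m1, hm1⟩ : ∃ m1, 3 ^ p - 1 = 2 * m1 := ⟨(3 ^ p - 1) / 2, by omega⟩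
  obtain ⟨m2, hm2⟩ : ∃ m2, 3 ^ p + 1 = 4 * m2 := ⟨(3 ^ p + 1) / 4, by omega⟩
  obtain ⟨r, hr, hrd⟩ := Nat.exists_prime_and_dvd (n := m1) (by omega)
  obtain ⟨s, hs, hsd⟩ := Nat.exists_prime_and_dvd (n := m2) (by omega)
  have hn2 : 4 * m2 * (3 ^ p) * m1 ∣ n := by
    have h1 : (3 ^ p + 1) * 3 ^ p * (3 ^ p - 1) = 2 * (4 * m2 * (3 ^ p) * m1) := by
      rw [hm1, hm2]; ring
    rw [h1] at h
    exact Nat.dvd_of_mul_dvd_mul_left (by norm_num) h
  have hr2 : r ≠ 2 := by
    rintro rfl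
    omega
  have hr3 : r ≠ 3 := by
    rintro rfl
    omega
  have hs2 : s ≠ 2 := by
    rintro rfl
    omega
  have hs3 : s ≠ 3 := by
    rintro rfl
    omega
  have hrs : r ≠ s := by
    rintro rfl
    have h4 : r ∣ 3 ^ p - 1 := by rw [hm1]; exact hrd.mul_left 2
    have h5 : r ∣ 3 ^ p + 1 := by rw [hm2]; exact hsd.mul_left 4
    have h6 : r ∣ 2 := by
      have := Nat.dvd_sub h5 h4
      have h6 : 3 ^ p + 1 - (3 ^ p - 1) = 2 := by omega
      rwa [h6] at this
    exact hr2 ((Nat.prime_dvd_prime_iff_eq hr Nat.prime_two).mp h6)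
  have hd1 : 2 ∣ n := dvd_trans ⟨2 * m2 * 3 ^ p * m1, by ring⟩ hn2
  have hd2 : 3 ∣ n := by
    refine dvd_trans (dvd_trans (dvd_pow_self 3 (by omega : p ≠ 0)) ⟨4 * m2 * m1, ?_⟩) hn2
    ring
  have hd3 : r ∣ n := dvd_trans (hrd.mul_left _) hn2
  have hd4 : s ∣ n := dvd_trans (hsd.trans ⟨4 * 3 ^ p * m1, by ring⟩) hn2
  exact four_le hn Nat.prime_two Nat.prime_three hr hs hd1 hd2 hd3 hd4
    (by norm_num) hr2.symm hs2.symm hr3.symm hs3.symm hrs

/-- Four primes in the Suzuki order. -/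
theorem four_le_suzuki {m n : ℕ} (hm : 1 ≤ m) (hn : n ≠ 0)
    (h : (2 ^ (2 * m + 1)) ^ 2 * ((2 ^ (2 * m + 1)) ^ 2 + 1) * (2 ^ (2 * m + 1) - 1) ∣ n) :
    4 ≤ n.primeFactors.card := by
  set q := 2 ^ (2 * m + 1) with hq
  set t := 2 ^ (m + 1) with ht
  have htt : t * t = 2 * q := by
    rw [ht, hq, ← pow_add, ← pow_succ']
    congr 1
    omega
  have ht4 : 4 ≤ t := by
    calc 4 = 2 ^ 2 := by norm_num
      _ ≤ 2 ^ (m + 1) := Nat.pow_le_pow_right (by norm_num) (by omega)
  have hq2 : 2 * t ≤ q := by nlinarith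
  have hqe : q % 2 = 0 := by rw [hq, pow_succ]; omega
  have hte : t % 2 = 0 := by rw [ht, pow_succ]; omega
  obtain ⟨A, hA⟩ : ∃ A, A + t = q + 1 := ⟨q + 1 - t, by omega⟩
  have hAB : A * (q + t + 1) = q ^ 2 + 1 := by
    have h1 : (A : ℤ) = q + 1 - t := by omega
    have h2 : (t : ℤ) * t = 2 * q := by exact_mod_cast htt
    have h3 : (A : ℤ) * (q + t + 1) = q ^ 2 + 1 := by
      rw [h1]; linear_combination -h2
    exact_mod_cast h3
  obtain ⟨r, hr, hrd⟩ := Nat.exists_prime_and_dvd (n := q - 1) (by omega)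
  obtain ⟨s, hs, hsd⟩ := Nat.exists_prime_and_dvd (n := A) (by omega)
  obtain ⟨u, hu, hud⟩ := Nat.exists_prime_and_dvd (n := q + t + 1) (by omega)
  have hr2 : r ≠ 2 := by
    rintro rfl
    omega
  have hs2 : s ≠ 2 := by
    rintro rfl
    omega
  have hu2 : u ≠ 2 := by
    rintro rfl
    omega
  have hsq : s ∣ q ^ 2 + 1 := by rw [← hAB]; exact hsd.mul_right _
  have huq : u ∣ q ^ 2 + 1 := by rw [← hAB]; exact hud.mul_left _
  have key : ∀ x : ℕ, x.Prime → x ∣ q - 1 → x ∣ q ^ 2 + 1 → x = 2 := by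
    intro x hx h1 h2
    have h3 : x ∣ (q - 1) * (q + 1) := h1.mul_right _
    have h4 : x ∣ 2 := by
      have h5 := Nat.dvd_sub h2 h3
      have h6 : q ^ 2 + 1 - (q - 1) * (q + 1) = 2 := by
        obtain ⟨c, hc⟩ : ∃ c, q = c + 1 := ⟨q - 1, by omega⟩
        rw [hc, Nat.add_sub_cancel]
        have : (c + 1) ^ 2 + 1 = c * (c + 1 + 1) + 2 := by ring
        omega
      rwa [h6] at h5
    exact (Nat.prime_dvd_prime_iff_eq hx Nat.prime_two).mp h4
  have hrs : r ≠ s := by
    rintro rfl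
    exact hr2 (key r hr hrd hsq)
  have hru : r ≠ u := by
    rintro rfl
    exact hr2 (key r hr hrd huq)
  have hsu : s ≠ u := by
    rintro rfl
    have h5 : s ∣ 2 * t := by
      have := Nat.dvd_sub hud hsd
      have h6 : q + t + 1 - A = 2 * t := by omega
      rwa [h6] at this
    have h6 : s ∣ 2 ^ (m + 2) := by
      rw [pow_succ', ← ht]; exact h5
    exact hs2 ((Nat.prime_dvd_prime_iff_eq hs Nat.prime_two).mp (hs.dvd_of_dvd_pow h6))
  have hd1 : 2 ∣ n := by
    refine dvd_trans ?_ h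
    refine Dvd.dvd.mul_right (Dvd.dvd.mul_right (dvd_pow ?_ (by norm_num)) _) _
    exact Nat.dvd_of_mod_eq_zero hqe
  have hd2 : r ∣ n := dvd_trans (hrd.mul_left _) h
  have hd3 : q ^ 2 + 1 ∣ n := dvd_trans ⟨q ^ 2 * (q - 1), by ring⟩ h
  exact four_le hn Nat.prime_two hr hs hu hd1 hd2 (hsq.trans hd3) (huq.trans hd3)
    hr2.symm hs2.symm hu2.symm hrs hru hsu

/-- Three primes in the order of `PSL₂(p)`. -/
theorem prime_case {p n : ℕ} (hp : p.Prime) (hp5 : 5 ≤ p) (hn : n ≠ 0)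
    (h : (p + 1) * p * (p - 1) ∣ 2 * n) (h3 : n.primeFactors.card ≤ 3) :
    p = 5 ∨ p = 7 ∨ p = 17 := by
  have hodd : p % 2 = 1 := (hp.eq_two_or_odd).resolve_left (by omega)
  obtain ⟨k, hk⟩ : ∃ k, p = 2 * k + 1 := ⟨p / 2, by omega⟩
  have hdiv : (2 * (k + 1)) * p * k ∣ n := by
    have h1 : (p + 1) * p * (p - 1) = 2 * ((2 * (k + 1)) * p * k) := by
      have h2 : p + 1 = 2 * (k + 1) := by omega
      have h3 : p - 1 = 2 * k := by omega
      rw [h2, h3]; ring
    rw [h1] at h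
    exact Nat.dvd_of_mul_dvd_mul_left (by norm_num) h
  have hd2 : 2 ∣ n := dvd_trans ⟨(k + 1) * p * k, by ring⟩ hdiv
  have hdp : p ∣ n := dvd_trans ⟨2 * (k + 1) * k, by ring⟩ hdiv
  have hdk : k ∣ n := dvd_trans ⟨2 * (k + 1) * p, by ring⟩ hdiv
  have hdk1 : k + 1 ∣ n := dvd_trans ⟨2 * p * k, by ring⟩ hdiv
  have hp3 : ¬ 3 ∣ p := by
    intro h4
    have := (Nat.prime_dvd_prime_iff_eq Nat.prime_three hp).mp h4
    omega
  have hd3 : 3 ∣ n := by
    have h4 : 3 ∣ k ∨ 3 ∣ k + 1 := by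
      have h5 : k % 3 = 0 ∨ k % 3 = 1 ∨ k % 3 = 2 := by omega
      rcases h5 with h5 | h5 | h5
      · left; exact Nat.dvd_of_mod_eq_zero h5
      · exact absurd (Nat.dvd_of_mod_eq_zero (by omega)) hp3
      · right; exact Nat.dvd_of_mod_eq_zero (by omega)
    rcases h4 with h4 | h4
    · exact h4.trans hdk
    · exact h4.trans hdk1
  -- every prime divisor of `k (k + 1)` is 2 or 3
  have hpr : ∀ x : ℕ, x.Prime → (x ∣ k ∨ x ∣ k + 1) → x = 2 ∨ x = 3 := by
    intro x hx hxk
    by_contra hcon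
    push Not at hcon
    have hxp : x ≠ p := by
      rintro rfl
      rcases hxk with h4 | h4
      · have := Nat.le_of_dvd (by omega) h4
        omega
      · have := Nat.le_of_dvd (by omega) h4
        omega
    have hxn : x ∣ n := by
      rcases hxk with h4 | h4
      · exact h4.trans hdk
      · exact h4.trans hdk1
    have := four_le hn Nat.prime_two Nat.prime_three hp hx hd2 hd3 hdp hxn (by norm_num)
      (by omega) hcon.1.symm (by omega) hcon.2.symm hxp.symm
    omega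
  have hk2 : 2 ≤ k := by omega
  -- one of `k`, `k + 1` is a power of 2, the other a power of 3
  rcases Nat.even_or_odd' k with ⟨l, hl | hl⟩
  · -- `k` even, `k + 1` odd
    obtain ⟨j, hj⟩ := eq_pow_of_forall (n := k + 1) (p := 3) (by omega) (by
      intro d hd hdk
      rcases hpr d hd (Or.inr hdk) with h4 | h4
      · subst h4; omega
      · exact h4)
    have hj0 : 0 < j := by
      rcases Nat.eq_zero_or_pos j with h4 | h4
      · rw [h4, pow_zero] at hj; omega
      · exact h4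
    have h3k : 3 ∣ k + 1 := by rw [hj]; exact dvd_pow_self 3 (by omega)
    obtain ⟨a, ha⟩ := eq_pow_of_forall (n := k) (p := 2) (by omega) (by
      intro d hd hdk
      rcases hpr d hd (Or.inl hdk) with h4 | h4
      · exact h4
      · subst h4; omega)
    have h5 := two_pow_add_one (a := a) (j := j) (by rw [← ha, hj])
    interval_cases a
    · omega
    · omega
    · exfalso
      have h6 : k + 1 = 5 := by omega
      rw [h6] at h3k
      omega
    · right; right; omega
  · obtain ⟨j, hj⟩ := eq_pow_of_forall (n := k) (p := 3) (by omega) (by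
      intro d hd hdk
      rcases hpr d hd (Or.inl hdk) with h4 | h4
      · subst h4; omega
      · exact h4)
    have hj0 : 0 < j := by
      rcases Nat.eq_zero_or_pos j with h4 | h4
      · rw [h4, pow_zero] at hj; omega
      · exact h4
    have h3k : 3 ∣ k := by rw [hj]; exact dvd_pow_self 3 (by omega)
    obtain ⟨a, ha⟩ := eq_pow_of_forall (n := k + 1) (p := 2) (by omega) (by
      intro d hd hdk
      rcases hpr d hd (Or.inr hdk) with h4 | h4
      · exact h4
      · subst h4; omega)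
    have h5 := two_pow_sub_one (a := a) (j := j) (by rw [← ha, hj])
    interval_cases a
    · omega
    · omega
    · right; left; omega

end Arith

end Cfsg.Agent.Classification.ThreePrimes
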