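import Mathlib
import Cfsg.Agent.S0024
import Cfsg.Agent.S0025
import Cfsg.Agent.Lib.CoprimeHyperplane
import Cfsg.Agent.SignalizersComponents.CoprimeBasic

/-!
# The induction behind Thompson's transitivity theorem

`B` is an abelian `p`-subgroup of a finite group `X` containing an elementary abelian subgroup `W` of order at
least `p ^ 3`, and for every `1 ≠ a ∈ W` all `B`-invariant `q`-subgroups of `C_X(a)` lie in one `B`-invariant
`p'`-subgroup `K a`. Then any two maximal `B`-invariant `q`-subgroups of `X` are conjugate under `C_X(B)`.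
-/

set_option autoImplicit false

namespace Cfsg.Agent.Classification.TransitivityCore

open Subgroup
open scoped Pointwise

/-- `Q` is maximal among the `q`-subgroups normalised by `B`. -/
def IsMaxInv {X : Type*} [Group X] (q : ℕ) (B Q : Subgroup X) : Prop :=
  IsPGroup q Q ∧ B ≤ normalizer (Q : Set X) ∧
    ∀ R : Subgroup X, IsPGroup q R → B ≤ normalizer (R : Set X) → Q ≤ R → R = Q

variable {X : Type*} [Group X]

theorem isMaxInv_def {q : ℕ} {B Q : Subgroup X} :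
    IsMaxInv q B Q ↔ IsPGroup q Q ∧ B ≤ normalizer (Q : Set X) ∧
      ∀ R : Subgroup X, IsPGroup q R → B ≤ normalizer (R : Set X) → Q ≤ R → R = Q := Iff.rfl

theorem exists_isMaxInv_ge [Finite X] {q : ℕ} {B R : Subgroup X} (hR : IsPGroup q R)
    (hB : B ≤ normalizer (R : Set X)) : ∃ Q, IsMaxInv q B Q ∧ R ≤ Q := by
  obtain ⟨M, hRM, hM⟩ := (Set.toFinite {V : Subgroup X | IsPGroup q V ∧
    B ≤ normalizer (V : Set X)}).exists_le_maximal ⟨hR, hB⟩
  exact ⟨M, ⟨hM.prop.1, hM.prop.2, fun S hS hBS hMS => le_antisymm (hM.le_of_ge ⟨hS, hBS⟩ hMS) hMS⟩, hRM⟩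

theorem map_conj_map_conj (Q : Subgroup X) (c d : X) :
    (Q.map (MulAut.conj c).toMonoidHom).map (MulAut.conj d).toMonoidHom =
      Q.map (MulAut.conj (d * c)).toMonoidHom := by
  rw [Subgroup.map_map]
  congr 1
  ext x
  simp [mul_assoc]

theorem map_conj_one (Q : Subgroup X) : Q.map (MulAut.conj (1 : X)).toMonoidHom = Q := by
  ext x
  simp

theorem mem_normalizer_iff_conj {H : Subgroup X} {g : X} :
    g ∈ normalizer (H : Set X) ↔ H.map (MulAut.conj g).toMonoidHom = H :=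
  mem_normalizer_iff_map_conj_eq

theorem le_normalizer_map_conj {B Q : Subgroup X} {c : X} (hc : c ∈ centralizer (B : Set X))
    (hB : B ≤ normalizer (Q : Set X)) :
    B ≤ normalizer ((Q.map (MulAut.conj c).toMonoidHom : Subgroup X) : Set X) := by
  intro b hb
  rw [mem_normalizer_iff_conj, map_conj_map_conj, (mem_centralizer_iff.1 hc b hb),
    ← map_conj_map_conj, mem_normalizer_iff_conj.1 (hB hb)]

theorem isMaxInv_map_conj {q : ℕ} {B Q : Subgroup X} {c : X} (hc : c ∈ centralizer (B : Set X))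
    (h : IsMaxInv q B Q) : IsMaxInv q B (Q.map (MulAut.conj c).toMonoidHom) := by
  refine ⟨h.1.map _, le_normalizer_map_conj hc h.2.1, fun R hR hBR hQR => ?_⟩
  have hc' : c⁻¹ ∈ centralizer (B : Set X) := inv_mem hc
  have h1 : Q ≤ R.map (MulAut.conj c⁻¹).toMonoidHom := by
    have := Subgroup.map_mono (f := (MulAut.conj c⁻¹).toMonoidHom) hQR
    rwa [map_conj_map_conj, inv_mul_cancel, map_conj_one] at this
  have h2 := h.2.2 _ (hR.map _) (le_normalizer_map_conj hc' hBR) h1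
  rw [← h2, map_conj_map_conj, mul_inv_cancel, map_conj_one]

theorem lt_inf_normalizer [Finite X] {q : ℕ} [Fact q.Prime] {D Q : Subgroup X} (hQ : IsPGroup q Q)
    (h : D < Q) : D < Q ⊓ normalizer (D : Set X) := by
  have : Group.IsNilpotent Q := hQ.isNilpotent
  have hlt : D.subgroupOf Q < ⊤ := by
    rw [lt_top_iff_ne_top]
    intro h1
    rw [subgroupOf_eq_top] at h1
    exact h.not_ge h1
  have h2 := Group.normalizerCondition_of_isNilpotent (G := Q) _ hlt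
  obtain ⟨x, hx, hxD⟩ := Set.exists_of_ssubset h2
  rw [← subgroupOf_normalizer_eq h.le] at hx
  refine lt_of_le_of_ne (le_inf h.le le_normalizer) fun he => hxD ?_
  have h3 : (x : X) ∈ Q ⊓ normalizer (D : Set X) := ⟨x.2, hx⟩
  rw [← he] at h3
  exact h3

theorem le_normalizer_inf {B H K : Subgroup X} (hH : B ≤ normalizer (H : Set X))
    (hK : B ≤ normalizer (K : Set X)) : B ≤ normalizer ((H ⊓ K : Subgroup X) : Set X) := by
  intro b hb
  rw [mem_normalizer_iff]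
  intro x
  rw [mem_inf, mem_inf, mem_normalizer_iff.1 (hH hb) x, mem_normalizer_iff.1 (hK hb) x]

theorem normalizer_le_normalizer_normalizer (D : Subgroup X) :
    normalizer (D : Set X) ≤ normalizer ((normalizer (D : Set X) : Subgroup X) : Set X) :=
  le_normalizer

theorem le_normalizer_centralizer {B W : Subgroup X} (h : B ≤ normalizer (W : Set X)) :
    B ≤ normalizer ((centralizer (W : Set X) : Subgroup X) : Set X) := by
  intro b hb
  rw [mem_normalizer_iff]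
  have key : ∀ b : X, b ∈ B → ∀ x ∈ centralizer (W : Set X), b * x * b⁻¹ ∈ centralizer (W : Set X) := by
    intro b hb x hx
    rw [mem_centralizer_iff] at hx ⊢
    intro w hw
    have h1 : b⁻¹ * w * b ∈ W := by
      have := (mem_normalizer_iff.1 (h (B.inv_mem hb)) w).1 hw
      simpa using this
    have h2 := hx _ h1
    have h3 : w * (b * x * b⁻¹) = b * ((b⁻¹ * w * b) * x) * b⁻¹ := by group
    rw [h3, h2]; group
  intro x
  refine ⟨key b hb x, fun hx => ?_⟩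
  have := key b⁻¹ (B.inv_mem hb) _ hx
  have h3 : b⁻¹ * (b * x * b⁻¹) * b⁻¹⁻¹ = x := by group
  rwa [h3] at this

/-- `B` normalises `D`, `K` and `K` normalises `D`: then `B` normalises `D ⊔ K`. -/
theorem le_normalizer_sup {B H K : Subgroup X} (hH : B ≤ normalizer (H : Set X))
    (hK : B ≤ normalizer (K : Set X)) : B ≤ normalizer ((H ⊔ K : Subgroup X) : Set X) := by
  intro b hb
  rw [mem_normalizer_iff_conj, Subgroup.map_sup, mem_normalizer_iff_conj.1 (hH hb),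
    mem_normalizer_iff_conj.1 (hK hb)]

/-- A proper `B`-invariant subgroup `D` of the `B`-invariant `q`-group `Q`: some hyperplane of `W` has fixed
points on `N_Q(D)` outside `D`. -/
theorem exists_hyperplane_not_le [Finite X] {p q : ℕ} [hp : Fact p.Prime] [hq : Fact q.Prime] (hqp : q ≠ p)
    {W D Q : Subgroup X} (hWe : Cfsg.IsElementaryAbelian p W) (hW1 : W ≠ ⊥) (hQ : IsPGroup q Q)
    (hD : D < Q) (hWD : W ≤ normalizer (D : Set X)) (hWQ : W ≤ normalizer (Q : Set X)) :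
    ∃ V : Subgroup X, V ≤ W ∧ V.relIndex W = p ∧
      ¬ (Q ⊓ normalizer (D : Set X) ⊓ centralizer (V : Set X) ≤ D) := by
  by_contra hcon
  push Not at hcon
  have hlt := lt_inf_normalizer hQ hD
  have hM : ¬ p ∣ Nat.card ↥(Q ⊓ normalizer (D : Set X)) := by
    have h1 : IsPGroup q ↥(Q ⊓ normalizer (D : Set X)) := hQ.to_le inf_le_left
    obtain ⟨n, hn⟩ := h1.exists_card_eq
    rw [hn]
    intro h
    exact hqp ((Nat.prime_dvd_prime_iff_eq hp.out hq.out).1 (hp.out.dvd_of_dvd_pow h)).symm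
  have hWM : W ≤ normalizer ((Q ⊓ normalizer (D : Set X) : Subgroup X) : Set X) :=
    le_normalizer_inf hWQ (hWD.trans le_normalizer)
  have h := Cfsg.Agent.Lib.CoprimeHyperplane.iSup_centralizer_hyperplane hWe hW1 hM hWM
  refine hlt.not_ge ?_
  rw [← h]
  exact iSup_le fun V => hcon V.1 V.2.1 V.2.2

theorem exists_ne_one_mem_inf [Finite X] {p : ℕ} [hp : Fact p.Prime] {W V₁ V₂ : Subgroup X}
    (hW : p ^ 3 ≤ Nat.card W) (hV₁ : V₁ ≤ W) (h₁ : V₁.relIndex W = p)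
    (h₂ : V₂.relIndex W = p) : ∃ a : X, a ∈ V₁ ∧ a ∈ V₂ ∧ a ≠ 1 := by
  have h3 : (V₁ ⊓ V₂).relIndex W ≤ p * p := by
    have := Subgroup.relIndex_inf_le (H := V₁) (K := V₂) (L := W)
    rwa [h₁, h₂] at this
  have h4 : Nat.card ↥(V₁ ⊓ V₂) * (V₁ ⊓ V₂).relIndex W = Nat.card W := by
    have hle : V₁ ⊓ V₂ ≤ W := inf_le_left.trans hV₁
    rw [← Subgroup.card_mul_index ((V₁ ⊓ V₂).subgroupOf W)]
    congr 1
    exact (Nat.card_congr (subgroupOfEquivOfLe hle).toEquiv).symm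
  have h5 : 1 < Nat.card ↥(V₁ ⊓ V₂) := by
    by_contra hle
    push Not at hle
    have h6 : Nat.card W ≤ 1 * (p * p) := h4 ▸ Nat.mul_le_mul hle h3
    have h7 : p * p < p ^ 3 := by
      have := hp.out.one_lt
      have h8 : p ^ 3 = p * (p * p) := by ring
      rw [h8]
      exact (Nat.lt_mul_iff_one_lt_left (Nat.mul_pos hp.out.pos hp.out.pos)).2 this
    omega
  have h6 : V₁ ⊓ V₂ ≠ ⊥ := by
    intro h
    rw [h, Subgroup.card_bot] at h5
    exact lt_irrefl _ h5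
  obtain ⟨a, ha, ha1⟩ := (Subgroup.ne_bot_iff_exists_ne_one).1 h6 |>.elim fun x hx =>
    (⟨(x : X), x.2, fun h => hx (Subtype.ext h)⟩ : ∃ a : X, a ∈ V₁ ⊓ V₂ ∧ a ≠ 1)
  exact ⟨a, ha.1, ha.2, ha1⟩

/-- **The induction of Thompson's transitivity theorem.** -/
theorem transitivity_core [Finite X] (p q : ℕ) [hp : Fact p.Prime] [hq : Fact q.Prime] (hqp : q ≠ p)
    (B W : Subgroup X) (hBp : IsPGroup p B) (hBc : IsMulCommutative B) (hWB : W ≤ B)
    (hW : ∀ w ∈ W, w ^ p = 1) (hW3 : p ^ 3 ≤ Nat.card W) (K : X → Subgroup X)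
    (hK1 : ∀ a ∈ W, a ≠ 1 → (Nat.card (K a)).Coprime p)
    (hK2 : ∀ a ∈ W, a ≠ 1 → B ≤ normalizer (K a : Set X))
    (hK3 : ∀ a ∈ W, a ≠ 1 → ∀ R : Subgroup X, IsPGroup q R → B ≤ normalizer (R : Set X) →
      R ≤ centralizer {a} → R ≤ K a)
    (N : Subgroup X) (hN : ∀ c ∈ centralizer (B : Set X), (orderOf c).Coprime p → c ∈ N)
    (Q₁ Q₂ : Subgroup X) (h₁ : IsMaxInv q B Q₁) (h₂ : IsMaxInv q B Q₂) :
    ∃ c ∈ N, Q₂ = Q₁.map (MulAut.conj c).toMonoidHom := by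
  have hcomm : ∀ x ∈ B, ∀ y ∈ B, x * y = y * x := fun x hx y hy =>
    congrArg Subtype.val (hBc.is_comm.comm (⟨x, hx⟩ : B) ⟨y, hy⟩)
  have hWe : Cfsg.IsElementaryAbelian p W :=
    ⟨⟨⟨fun x y => Subtype.ext (hcomm x (hWB x.2) y (hWB y.2))⟩⟩, hW⟩
  have hW1 : W ≠ ⊥ := by
    rintro rfl
    rw [Subgroup.card_bot] at hW3
    have : 1 < p ^ 3 := Nat.one_lt_pow (by norm_num) hp.out.one_lt
    omega
  have hsolvB : Group.IsSolvable B := Group.isSolvable_of_comm fun x y => hBc.is_comm.comm x y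
  obtain ⟨nB, hnB⟩ := hBp.exists_card_eq
  induction hn : Nat.card X - Nat.card ↥(Q₁ ⊓ Q₂) using Nat.strong_induction_on generalizing Q₁ Q₂ with
  | _ n ih =>
  subst hn
  by_cases hQ : Q₁ = Q₂
  · exact ⟨1, N.one_mem, by rw [hQ, map_conj_one]⟩
  set D : Subgroup X := Q₁ ⊓ Q₂ with hDdef
  have hD1 : D < Q₁ := by
    refine lt_of_le_of_ne inf_le_left fun h => hQ ?_
    exact (h₁.2.2 Q₂ h₂.1 h₂.2.1 (inf_eq_left.1 h)).symm
  have hD2 : D < Q₂ := by
    refine lt_of_le_of_ne inf_le_right fun h => hQ ?_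
    exact h₂.2.2 Q₁ h₁.1 h₁.2.1 (inf_eq_right.1 h)
  have hBD : B ≤ normalizer (D : Set X) := le_normalizer_inf h₁.2.1 h₂.2.1
  have hDq : IsPGroup q D := h₁.1.to_le inf_le_left
  obtain ⟨V₁, hV₁W, hV₁i, hV₁⟩ := exists_hyperplane_not_le hqp hWe hW1 h₁.1 hD1 (hWB.trans hBD)
    (hWB.trans h₁.2.1)
  obtain ⟨V₂, hV₂W, hV₂i, hV₂⟩ := exists_hyperplane_not_le hqp hWe hW1 h₂.1 hD2 (hWB.trans hBD)
    (hWB.trans h₂.2.1)
  obtain ⟨a, haV₁, haV₂, ha1⟩ := exists_ne_one_mem_inf hW3 hV₁W hV₁i hV₂i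
  have haW : a ∈ W := hV₁W haV₁
  have hBa : B ≤ centralizer ({a} : Set X) := by
    intro b hb
    rw [mem_centralizer_singleton_iff]
    exact hcomm b hb a (hWB haW)
  -- the two `q`-subgroups centralised by `a`
  have hR : ∀ (Q V : Subgroup X), IsMaxInv q B Q → a ∈ V →
      ¬ (Q ⊓ normalizer (D : Set X) ⊓ centralizer (V : Set X) ≤ D) →
      IsPGroup q ↥(Q ⊓ normalizer (D : Set X) ⊓ centralizer ({a} : Set X)) ∧
      B ≤ normalizer ((Q ⊓ normalizer (D : Set X) ⊓ centralizer ({a} : Set X) : Subgroup X) : Set X) ∧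
      ¬ (Q ⊓ normalizer (D : Set X) ⊓ centralizer ({a} : Set X) ≤ D) ∧
      Q ⊓ normalizer (D : Set X) ⊓ centralizer ({a} : Set X) ≤ K a := by
    intro Q V hQm haV hV
    have e1 : IsPGroup q ↥(Q ⊓ normalizer (D : Set X) ⊓ centralizer ({a} : Set X)) :=
      hQm.1.to_le (inf_le_left.trans inf_le_left)
    have e2 : B ≤ normalizer ((Q ⊓ normalizer (D : Set X) ⊓ centralizer ({a} : Set X) : Subgroup X) : Set X) :=
      le_normalizer_inf (le_normalizer_inf hQm.2.1 (hBD.trans le_normalizer)) (hBa.trans le_normalizer)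
    refine ⟨e1, e2, fun h => hV ((inf_le_inf_left _ ?_).trans h), hK3 a haW ha1 _ e1 e2 inf_le_right⟩
    exact centralizer_le (Set.singleton_subset_iff.2 haV)
  obtain ⟨hR₁q, hR₁B, hR₁D, hR₁K⟩ := hR Q₁ V₁ h₁ haV₁ hV₁
  obtain ⟨hR₂q, hR₂B, hR₂D, hR₂K⟩ := hR Q₂ V₂ h₂ haV₂ hV₂
  set R₁ : Subgroup X := Q₁ ⊓ normalizer (D : Set X) ⊓ centralizer ({a} : Set X) with hR₁
  set R₂ : Subgroup X := Q₂ ⊓ normalizer (D : Set X) ⊓ centralizer ({a} : Set X) with hR₂
  have hR₁N : R₁ ≤ normalizer (D : Set X) := inf_le_left.trans inf_le_right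
  have hR₂N : R₂ ≤ normalizer (D : Set X) := inf_le_left.trans inf_le_right
  set L : Subgroup X := K a ⊓ normalizer (D : Set X) with hL
  have hLN : L ≤ normalizer (D : Set X) := inf_le_right
  have hLB : B ≤ normalizer (L : Set X) := le_normalizer_inf (hK2 a haW ha1) (hBD.trans le_normalizer)
  set H : Subgroup X := D ⊔ L with hH
  have hHB : B ≤ normalizer (H : Set X) := le_normalizer_sup hBD hLB
  have hHp : (Nat.card H).Coprime p := by
    have h1 := Cfsg.Agent.SignalizersComponents.CoprimeBasic.card_sup_dvd hLN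
    refine Nat.Coprime.coprime_dvd_left h1 (Nat.Coprime.mul_left ?_ ?_)
    · obtain ⟨m, hm⟩ := hDq.exists_card_eq
      rw [hm]
      exact Nat.Coprime.pow_left m ((Nat.coprime_primes hq.out hp.out).2 hqp)
    · exact Nat.Coprime.coprime_dvd_left (card_dvd_of_le inf_le_left) (hK1 a haW ha1)
  have hcop : (Nat.card B).Coprime (Nat.card H) := by
    rw [hnB]
    exact Nat.Coprime.pow_left nB hHp.symm
  have hU₁H : D ⊔ R₁ ≤ H := sup_le_sup_left (le_inf hR₁K hR₁N) D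
  have hU₂H : D ⊔ R₂ ≤ H := sup_le_sup_left (le_inf hR₂K hR₂N) D
  have hU₁Q : D ⊔ R₁ ≤ Q₁ := sup_le inf_le_left (inf_le_left.trans inf_le_left)
  have hU₂Q : D ⊔ R₂ ≤ Q₂ := sup_le inf_le_right (inf_le_left.trans inf_le_left)
  have hDU₁ : D < D ⊔ R₁ := lt_of_le_of_ne le_sup_left fun h => hR₁D (h ▸ le_sup_right)
  have hDU₂ : D < D ⊔ R₂ := lt_of_le_of_ne le_sup_left fun h => hR₂D (h ▸ le_sup_right)
  obtain ⟨P₁, hU₁P, hP₁B⟩ := Cfsg.Agent.S0025.result B H hHB hcop (Or.inl hsolvB) q (D ⊔ R₁) hU₁H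
    (h₁.1.to_le hU₁Q) (le_normalizer_sup hBD hR₁B)
  obtain ⟨P₂, hU₂P, hP₂B⟩ := Cfsg.Agent.S0025.result B H hHB hcop (Or.inl hsolvB) q (D ⊔ R₂) hU₂H
    (h₂.1.to_le hU₂Q) (le_normalizer_sup hBD hR₂B)
  obtain ⟨c, hcB, hc⟩ := Cfsg.Agent.S0024.result B H hHB hcop (Or.inl hsolvB) q P₁ P₂ hP₁B hP₂B
  have hcN : (c : X) ∈ N := by
    refine hN _ hcB ?_
    rw [orderOf_coe]
    exact Nat.Coprime.coprime_dvd_left (orderOf_dvd_natCard c) hHp
  set S₁ : Subgroup X := (P₁ : Subgroup H).map H.subtype with hS₁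
  set S₂ : Subgroup X := (P₂ : Subgroup H).map H.subtype with hS₂
  have hS₁q : IsPGroup q S₁ := P₁.isPGroup'.map _
  have hS₂q : IsPGroup q S₂ := P₂.isPGroup'.map _
  have hS₂c : S₂ ≤ S₁.map (MulAut.conj (c : X)).toMonoidHom := by
    have h3 : ((MulAut.conj c • P₁ : Sylow q H) : Subgroup H) = P₂ := by rw [hc]
    rintro _ ⟨x, hx, rfl⟩
    rw [SetLike.mem_coe, ← h3, Sylow.pointwise_smul_def, Subgroup.mem_smul_pointwise_iff_exists] at hx
    obtain ⟨y, hy, rfl⟩ := hx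
    exact ⟨(y : X), ⟨y, hy, rfl⟩, rfl⟩
  obtain ⟨T₁, hT₁, hS₁T⟩ := exists_isMaxInv_ge hS₁q hP₁B
  obtain ⟨T₂, hT₂, hS₂T⟩ := exists_isMaxInv_ge hS₂q hP₂B
  have hlt : ∀ U E : Subgroup X, D < U → U ≤ E → Nat.card X - Nat.card E < Nat.card X - Nat.card D := by
    intro U E hU hUE
    have e1 : Nat.card D < Nat.card E := by
      have hDE : D < E := lt_of_lt_of_le hU hUE
      have : (D : Set X) ⊂ (E : Set X) := SetLike.coe_ssubset_coe.2 hDE
      exact Set.ncard_lt_ncard this (Set.toFinite _)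
    have e2 : Nat.card E ≤ Nat.card X := Subgroup.card_le_card_group E
    omega
  have hT₁c := isMaxInv_map_conj hcB hT₁
  obtain ⟨c₁, hc₁N, hc₁⟩ := ih _ (hlt (D ⊔ R₁) (Q₁ ⊓ T₁) hDU₁ (le_inf hU₁Q (hU₁P.trans hS₁T)))
    Q₁ T₁ h₁ hT₁ rfl
  obtain ⟨c₂, hc₂N, hc₂⟩ := ih _ (hlt (D ⊔ R₂) (T₁.map (MulAut.conj (c : X)).toMonoidHom ⊓ T₂) hDU₂
    (le_inf ((hU₂P.trans hS₂c).trans (map_mono hS₁T)) (hU₂P.trans hS₂T)))
    (T₁.map (MulAut.conj (c : X)).toMonoidHom) T₂ hT₁c hT₂ rfl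
  obtain ⟨c₃, hc₃N, hc₃⟩ := ih _ (hlt (D ⊔ R₂) (T₂ ⊓ Q₂) hDU₂ (le_inf (hU₂P.trans hS₂T) hU₂Q))
    T₂ Q₂ hT₂ h₂ rfl
  refine ⟨c₃ * (c₂ * (c * c₁)), N.mul_mem hc₃N (N.mul_mem hc₂N (N.mul_mem hcN hc₁N)), ?_⟩
  rw [hc₃, hc₂, hc₁, map_conj_map_conj, map_conj_map_conj, map_conj_map_conj]
  simp only [mul_assoc]

end Cfsg.Agent.Classification.TransitivityCore
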