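import Mathlib
import Cfsg.Prelude.Def_Solvable
import Cfsg.Prelude.Def_Transfer
import Cfsg.Agent.Lib.NormalAbelian
import Cfsg.Agent.Lib.CoprimeHyperplane
import Cfsg.Agent.PLocal.OffenderStep
import Cfsg.Agent.Classification.InvariantCore

/-!
# Set-up for the transitivity theorem: cores of centralisers relative to a self-centralising abelian subgroup
-/

set_option autoImplicit false

namespace Cfsg.Agent.Classification.TransitivitySetup

open Subgroup

variable {X : Type*} [Group X]

/-- `C` has a normal `p'`-subgroup `L` containing all `B`-invariant `p'`-subgroups of `C`. -/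
def HasCore (p : ℕ) (B C : Subgroup X) : Prop :=
  ∃ L : Subgroup X, L ≤ C ∧ (Nat.card L).Coprime p ∧ C ≤ normalizer (L : Set X) ∧
    ∀ R : Subgroup X, R ≤ C → (Nat.card R).Coprime p → B ≤ normalizer (R : Set X) → R ≤ L

theorem card_subgroupOf {R C : Subgroup X} (h : R ≤ C) : Nat.card (R.subgroupOf C) = Nat.card R :=
  Nat.card_congr (subgroupOfEquivOfLe h).toEquiv

theorem subgroupOf_le_normalizer {B R C : Subgroup X} (hR : R ≤ C)
    (h : B ≤ normalizer (R : Set X)) : B.subgroupOf C ≤ normalizer ((R.subgroupOf C : Subgroup C) : Set C) := by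
  rw [← subgroupOf_normalizer_eq hR]
  exact comap_mono h

theorem mem_centralizer_subgroupOf {Y C : Subgroup X} (hY : Y ≤ C) {x : C} :
    x ∈ centralizer ((Y.subgroupOf C : Subgroup C) : Set C) ↔ (x : X) ∈ centralizer (Y : Set X) := by
  rw [mem_centralizer_iff, mem_centralizer_iff]
  constructor
  · intro h y hy
    exact congrArg Subtype.val (h ⟨y, hY hy⟩ hy)
  · intro h y hy
    exact Subtype.ext (h y hy)

theorem isPGroup_subgroupOf {p : ℕ} {Y C : Subgroup X} (hY : IsPGroup p Y) :
    IsPGroup p (Y.subgroupOf C) := hY.comap_subtype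

/-- The core property from the corresponding property of the group `C`. -/
theorem hasCore_of_forall [Finite X] {p : ℕ} {B C : Subgroup X} {N : Subgroup C} (hNn : N.Normal)
    (hN : (Nat.card N).Coprime p)
    (h : ∀ R : Subgroup C, (Nat.card R).Coprime p → B.subgroupOf C ≤ normalizer (R : Set C) → R ≤ N) :
    HasCore p B C := by
  refine ⟨N.map C.subtype, map_subtype_le N, ?_, ?_, ?_⟩
  · rwa [card_map_of_injective C.subtype_injective]
  · intro c hc
    have h1 : (⟨c, hc⟩ : C) ∈ normalizer (N : Set C) := by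
      rw [Subgroup.normalizer_eq_top]; trivial
    exact le_normalizer_map C.subtype ⟨_, h1, rfl⟩
  · intro R hR hRp hBR
    have h1 := h (R.subgroupOf C) (by rwa [card_subgroupOf hR]) (subgroupOf_le_normalizer hR hBR)
    have h2 := Subgroup.map_mono (f := C.subtype) h1
    rwa [map_subgroupOf_eq_of_le hR] at h2

/-- The constraint condition of a finite solvable group. -/
theorem constraint_of_solvable {H : Type*} [Group H] [Finite H] (p : ℕ) [Fact p.Prime]
    (hs : Group.IsSolvable H) (N : Subgroup H) [hNn : N.Normal] (hN : N = Cfsg.pPrimeCore p H) :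
    centralizer (Cfsg.pCore p (H ⧸ N) : Set (H ⧸ N)) ≤ Cfsg.pCore p (H ⧸ N) :=
  Cfsg.Agent.Lib.HallHigman.centralizer_pCore_le_of_solvable p
    (Cfsg.Agent.Lib.HallHigman.pPrimeCore_quotient_eq_bot p N hN)

/-- First case: `B` normal in a Sylow subgroup of `C`. -/
theorem hasCore_of_sylow [Finite X] {p : ℕ} [hp : Fact p.Prime] {B C : Subgroup X}
    (hs : Group.IsSolvable C) (hBC : B ≤ C) (hBp : IsPGroup p B) (hBc : ∀ x ∈ B, ∀ y ∈ B, x * y = y * x)
    (hi : ∀ x ∈ centralizer (B : Set X), IsPGroup p (zpowers x) → x ∈ B)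
    (S : Sylow p C) (hS : (S : Subgroup C).map C.subtype ≤ normalizer (B : Set X)) :
    HasCore p B C := by
  have hNn : (Cfsg.pPrimeCore p C).Normal := Cfsg.Agent.Lib.HallHigman.pPrimeCore_normal p
  have hN : (Nat.card (Cfsg.pPrimeCore p C)).Coprime p := Cfsg.Agent.Lib.HallHigman.pPrimeCore_coprime p
  refine hasCore_of_forall hNn hN fun R hR hBR => ?_
  refine InvariantCore.le_of_sylow_le_normalizer hN (constraint_of_solvable p hs _ rfl)
    (B := B.subgroupOf C) (isPGroup_subgroupOf hBp) ?_ ?_ S ?_ hR hBR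
  · intro x hx y hy
    exact Subtype.ext (hBc x hx y hy)
  · intro x hx hxp
    refine hi x ((mem_centralizer_subgroupOf hBC).1 hx) ?_
    have h1 : (zpowers x).map C.subtype = zpowers (x : X) := MonoidHom.map_zpowers C.subtype x
    rw [← h1]
    exact hxp.map _
  · rw [← subgroupOf_normalizer_eq hBC]
    exact map_le_iff_le_comap.1 hS

/-- Second case: elements of `V` have centralisers of index at most `p` in a Sylow subgroup of `C`. -/
theorem hasCore_of_index_le [Finite X] (hodd : Odd (Nat.card X)) {p : ℕ} [hp : Fact p.Prime]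
    {V B C : Subgroup X} (hs : Group.IsSolvable C) (hBC : B ≤ C) (hBp : IsPGroup p B)
    (hBc : ∀ x ∈ B, ∀ y ∈ B, x * y = y * x) (hVB : V ≤ B)
    (S : Sylow p C) (hS : ∀ z ∈ V, (centralizer ({z} : Set X)).relIndex ((S : Subgroup C).map C.subtype) ≤ p)
    (hV : HasCore p B (C ⊓ centralizer (V : Set X))) : HasCore p B C := by
  have hNn : (Cfsg.pPrimeCore p C).Normal := Cfsg.Agent.Lib.HallHigman.pPrimeCore_normal p
  have hN : (Nat.card (Cfsg.pPrimeCore p C)).Coprime p := Cfsg.Agent.Lib.HallHigman.pPrimeCore_coprime p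
  obtain ⟨L, hLC, hLp, hLn, hL⟩ := hV
  have hLC' : L ≤ C := hLC.trans inf_le_left
  have hVC : V ≤ C := hVB.trans hBC
  refine hasCore_of_forall hNn hN fun R hR hBR => ?_
  refine InvariantCore.le_of_index_le (Odd.of_dvd_nat hodd (card_subgroup_dvd_card C)) hN
    (constraint_of_solvable p hs _ rfl) (V := V.subgroupOf C) (B := B.subgroupOf C) (L := L.subgroupOf C)
    (isPGroup_subgroupOf (hBp.to_le hVB)) (comap_mono hVB) S ?_ ?_ ?_ ?_ ?_ hR hBR
  · intro z hz
    have h1 := hS z hz
    rw [← Subgroup.relIndex_comap] at h1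
    refine le_trans (le_of_eq ?_) h1
    congr 1
    ext x
    rw [mem_centralizer_singleton_iff, mem_comap, mem_centralizer_singleton_iff]
    exact ⟨fun h => congrArg Subtype.val h, fun h => Subtype.ext h⟩
  · intro b hb
    rw [mem_centralizer_subgroupOf hVC, mem_centralizer_iff]
    exact fun v hv => hBc v (hVB hv) b hb
  · rwa [card_subgroupOf hLC']
  · intro c hc
    rw [mem_centralizer_subgroupOf hVC] at hc
    rw [← subgroupOf_normalizer_eq hLC']
    exact hLn ⟨c.2, hc⟩
  · intro R₁ hR₁ hR₁p hBR₁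
    have h1 : R₁.map C.subtype ≤ L := by
      refine hL _ ?_ ?_ ?_
      · rintro _ ⟨r, hr, rfl⟩
        exact ⟨r.2, (mem_centralizer_subgroupOf hVC).1 (hR₁ hr)⟩
      · rwa [card_map_of_injective C.subtype_injective]
      · intro b hb
        have h2 := hBR₁ (show (⟨b, hBC hb⟩ : C) ∈ B.subgroupOf C from hb)
        exact le_normalizer_map C.subtype ⟨_, h2, rfl⟩
    exact map_le_iff_le_comap.1 h1

/-- Third case: `C` solvable containing `B`, `V ≤ W ≤ B` elementary abelian, `|V| ≥ p ^ 2`, and the centralisers of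
the nonidentity elements of `V` have the core property. -/
theorem hasCore_of_forall_centralizer [Finite X] {p : ℕ} [hp : Fact p.Prime]
    {V W B C : Subgroup X} (hs : Group.IsSolvable C) (hBC : B ≤ C) (hBp : IsPGroup p B)
    (hBc : ∀ x ∈ B, ∀ y ∈ B, x * y = y * x) (hWB : W ≤ B) (hVW : V ≤ W) (hW : ∀ w ∈ W, w ^ p = 1)
    (hVcard : p ^ 2 ≤ Nat.card V)
    (hV : ∀ v ∈ V, v ≠ 1 → HasCore p B (centralizer ({v} : Set X))) : HasCore p B C := by
  have hNn : (Cfsg.pPrimeCore p C).Normal := Cfsg.Agent.Lib.HallHigman.pPrimeCore_normal p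
  have hN : (Nat.card (Cfsg.pPrimeCore p C)).Coprime p := Cfsg.Agent.Lib.HallHigman.pPrimeCore_coprime p
  refine hasCore_of_forall hNn hN fun R hR hBR => ?_
  -- pass to `X`
  have hWe : Cfsg.IsElementaryAbelian p W :=
    ⟨⟨⟨fun x y => Subtype.ext (hBc x (hWB x.2) y (hWB y.2))⟩⟩, hW⟩
  have hW1 : W ≠ ⊥ := by
    rintro rfl
    have h1 : Nat.card V ≤ 1 := by
      rw [← Subgroup.card_bot (G := X)]
      exact Subgroup.card_le_of_le hVW
    have : 1 < p ^ 2 := Nat.one_lt_pow (by norm_num) hp.out.one_lt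
    omega
  set R' : Subgroup X := R.map C.subtype with hR'
  have hR'C : R' ≤ C := map_subtype_le R
  have hR'p : (Nat.card R').Coprime p := by
    rwa [hR', card_map_of_injective C.subtype_injective]
  have hBR' : B ≤ normalizer (R' : Set X) := by
    intro b hb
    have h2 := hBR (show (⟨b, hBC hb⟩ : C) ∈ B.subgroupOf C from hb)
    exact le_normalizer_map C.subtype ⟨_, h2, rfl⟩
  have hpR : ¬ p ∣ Nat.card R' := fun h => hp.out.one_lt.ne'
    (Nat.dvd_one.1 (hR'p ▸ Nat.dvd_gcd h dvd_rfl))
  have hgen := Cfsg.Agent.Lib.CoprimeHyperplane.iSup_centralizer_hyperplane hWe hW1 hpR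
    (hWB.trans hBR')
  have key : R' ≤ (Cfsg.pPrimeCore p C).map C.subtype := by
    rw [← hgen]
    refine iSup_le ?_
    rintro ⟨W₀, hW₀, hidx⟩
    change R' ⊓ centralizer (W₀ : Set X) ≤ _
    -- an element of `W₀ ∩ V`
    obtain ⟨v, hvW₀, hvV, hv1⟩ : ∃ v, v ∈ W₀ ∧ v ∈ V ∧ v ≠ 1 := by
      by_contra hcon
      push Not at hcon
      have h1 : V ⊓ W₀ = ⊥ := by
        rw [eq_bot_iff]
        intro x hx
        exact mem_bot.2 (hcon x hx.2 hx.1)
      have h2 : W₀.relIndex V ≤ p := by
        rw [← hidx]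
        exact Subgroup.relIndex_le_of_le_right hVW (InvariantCore.relIndex_ne_zero_of_finite _ _)
      have h3 : Nat.card ↥(V ⊓ W₀) * W₀.relIndex V = Nat.card V := by
        rw [← Subgroup.card_mul_index (W₀.subgroupOf V)]
        congr 1
        rw [inf_comm, ← Subgroup.subgroupOf_map_subtype]
        exact (Subgroup.card_map_of_injective (Subgroup.subtype_injective _))
      rw [h1, Subgroup.card_bot, one_mul] at h3
      have h4 : p ^ 2 ≤ p := by omega
      have h5 : p < p ^ 2 := by
        rw [pow_two]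
        exact (Nat.lt_mul_iff_one_lt_left hp.out.pos).2 hp.out.one_lt
      omega
    obtain ⟨L, hLC, hLp, hLn, hL⟩ := hV v hvV hv1
    have hvB : v ∈ B := hWB (hVW hvV)
    have hvC : v ∈ C := hBC hvB
    have e1 : R' ⊓ centralizer (W₀ : Set X) ≤ L := by
      refine hL _ ?_ (Nat.Coprime.coprime_dvd_left (card_dvd_of_le inf_le_left) hR'p) ?_
      · exact inf_le_right.trans (centralizer_le (Set.singleton_subset_iff.2 hvW₀))
      · intro b hb
        have f1 : b ∈ normalizer (R' : Set X) := hBR' hb
        have f2 : b ∈ centralizer (W₀ : Set X) :=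
          mem_centralizer_iff.2 fun w hw => hBc w (hWB (hW₀ hw)) b hb
        have f3 := le_normalizer f2
        rw [mem_normalizer_iff] at f1 f3 ⊢
        intro x
        rw [mem_inf, mem_inf, f1 x, f3 x]
    -- in the group `C`
    have e2 : (R' ⊓ centralizer (W₀ : Set X)).subgroupOf C ≤ Cfsg.pPrimeCore p C := by
      have hle : R' ⊓ centralizer (W₀ : Set X) ≤ C := inf_le_left.trans hR'C
      refine InvariantCore.le_of_centralizer_le_normalizer hN (constraint_of_solvable p hs _ rfl)
        (Y := (zpowers v).subgroupOf C) (L := (L ⊓ C).subgroupOf C)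
        (isPGroup_subgroupOf (hBp.to_le (zpowers_le.2 hvB))) ?_ ?_ ?_ ?_
      · exact comap_mono (le_inf e1 hle)
      · rw [card_subgroupOf inf_le_right]
        exact Nat.Coprime.coprime_dvd_left (card_dvd_of_le inf_le_left) hLp
      · intro y hy
        rw [mem_centralizer_subgroupOf hle]
        obtain ⟨i, hi⟩ := mem_zpowers_iff.1 (show (y : X) ∈ zpowers v from hy)
        rw [← hi, mem_centralizer_iff]
        intro r hr
        have h1 : Commute r v := (mem_centralizer_iff.1 hr.2 v hvW₀).symm
        exact (h1.zpow_right i).eq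
      · intro c hc
        rw [mem_centralizer_subgroupOf (zpowers_le.2 hvC)] at hc
        rw [← subgroupOf_normalizer_eq (inf_le_right : L ⊓ C ≤ C)]
        have h1 : (c : X) ∈ centralizer ({v} : Set X) := by
          rw [mem_centralizer_singleton_iff]
          exact (mem_centralizer_iff.1 hc v (mem_zpowers v)).symm
        have f1 := hLn h1
        have f2 : (c : X) ∈ normalizer (C : Set X) := le_normalizer c.2
        rw [mem_subgroupOf]
        rw [mem_normalizer_iff] at f1 f2 ⊢
        intro x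
        rw [mem_inf, mem_inf, f1 x, f2 x]
    have h2 := Subgroup.map_mono (f := C.subtype) e2
    rwa [map_subgroupOf_eq_of_le (inf_le_left.trans hR'C)] at h2
  rw [hR'] at key
  exact (Subgroup.map_le_map_iff_of_injective C.subtype_injective).1 key

end Cfsg.Agent.Classification.TransitivitySetup
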