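import Mathlib

set_option autoImplicit false

/-!
Two "transvections" (elements of order a power of `p` whose commutator on an elementary abelian `p`-group `V` is cyclic)
in a group of odd order: if they are `x` and `h x h⁻¹`, their quotient has order dividing `p` on `V`.
-/

namespace Cfsg.Agent.Classification.Transvection

theorem one_add_pow_prime {A : Type*} [Ring A] {p : ℕ} (hp : p.Prime) (hp2 : p ≠ 2)
    (hchar : (p : A) = 0) {n : A} (hn : n ^ 3 = 0) : (1 + n) ^ p = 1 := by
  have hp3 : 3 ≤ p := by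
    have := hp.two_le
    omega
  rw [Commute.add_pow (Commute.one_left n)]
  rw [Finset.sum_eq_single_of_mem p (Finset.mem_range.mpr (Nat.lt_succ_self p))]
  · simp
  · intro m hm hmp
    have hmlt : m < p := lt_of_le_of_ne (Nat.lt_succ_iff.mp (Finset.mem_range.mp hm)) hmp
    rcases Nat.eq_zero_or_pos m with rfl | hpos
    · have : n ^ (p - 0) = 0 := by
        have h1 : p - 0 = 3 + (p - 3) := by omega
        rw [h1, pow_add, hn, zero_mul]
      rw [this]; simp
    · have hdvd : p ∣ p.choose m := hp.dvd_choose_self hpos.ne' hmlt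
      obtain ⟨c, hc⟩ := hdvd
      rw [hc, Nat.cast_mul, hchar, zero_mul, mul_zero]

section

variable {V : Type*} [AddCommGroup V] {G : Type*} [Group G]

theorem end_mul_apply (f g : AddMonoid.End V) (w : V) : (f * g) w = f (g w) := rfl

theorem zsmul_eq_zero_of_dvd {p : ℕ} (hV : ∀ v : V, p • v = 0) {a : ℤ} (h : (p : ℤ) ∣ a)
    (v : V) : a • v = 0 := by
  obtain ⟨c, rfl⟩ := h
  rw [mul_comm, mul_smul, natCast_zsmul, hV, smul_zero]

/-- Two opposite transvections generate a group of even order. -/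
theorem odd_pair [Finite G] (hodd : Odd (Nat.card G)) (ρ : G →* AddMonoid.End V) {p : ℕ}
    (hp : p.Prime) (hp2 : p ≠ 2) (hV : ∀ v : V, p • v = 0) (t t' : G) (u v : V) (a b : ℤ)
    (h1 : ρ t u = u) (h2 : ρ t v = v + a • u) (h3 : ρ t' u = u + b • v) (h4 : ρ t' v = v) :
    a • u = 0 ∨ b • v = 0 := by
  by_cases ha : (p : ℤ) ∣ a
  · exact Or.inl (zsmul_eq_zero_of_dvd hV ha u)
  by_cases hb : (p : ℤ) ∣ b
  · exact Or.inr (zsmul_eq_zero_of_dvd hV hb v)
  left
  -- find `j`
  have hab : ¬ (p : ℤ) ∣ b * a := by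
    intro h
    rcases (Nat.prime_iff_prime_int.mp hp).dvd_or_dvd h with h | h
    · exact hb h
    · exact ha h
  have hcop : IsCoprime (b * a) (p : ℤ) :=
    ((Nat.prime_iff_prime_int.mp hp).coprime_iff_not_dvd.mpr hab).symm
  obtain ⟨x, y, hxy⟩ := hcop
  -- `j ≡ -x`
  have hpz : (0 : ℤ) < p := by exact_mod_cast hp.pos
  obtain ⟨j, hj⟩ : ∃ j : ℕ, (p : ℤ) ∣ 1 + (j : ℤ) * b * a := by
    refine ⟨((-x) % p).toNat, ?_⟩
    have hnn : 0 ≤ (-x) % (p : ℤ) := Int.emod_nonneg _ hpz.ne'
    rw [Int.toNat_of_nonneg hnn]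
    have h5 : (-x) % (p : ℤ) = -x - p * ((-x) / p) := by
      have := Int.emod_add_mul_ediv (-x) (p : ℤ)
      linarith
    rw [h5]
    refine ⟨y - ((-x) / p) * b * a, ?_⟩
    have : (p : ℤ) * y = 1 - x * (b * a) := by linarith
    linear_combination (-1 : ℤ) * this
  have hj' : ∀ w : V, w + ((j : ℤ) * b * a) • w = 0 := by
    intro w
    have := zsmul_eq_zero_of_dvd hV hj w
    rwa [add_smul, one_smul] at this
  -- powers of `t'`
  have hpow_v : ∀ k : ℕ, ρ (t' ^ k) v = v := by
    intro k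
    induction k with
    | zero => simp
    | succ k ih => rw [pow_succ, map_mul, end_mul_apply, h4, ih]
  have hpow_u : ∀ k : ℕ, ρ (t' ^ k) u = u + ((k : ℤ) * b) • v := by
    intro k
    induction k with
    | zero => simp
    | succ k ih =>
      rw [pow_succ, map_mul, end_mul_apply, h3, map_add, map_zsmul, ih, hpow_v]
      push_cast
      rw [add_mul, add_smul, one_mul]
      abel
  set w : G := t * t' ^ j * t with hw
  have hwu : ρ w u = ((j : ℤ) * b) • v := by
    rw [hw, map_mul, map_mul, end_mul_apply, end_mul_apply, h1, hpow_u,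
      map_add, map_zsmul, h1, h2]
    have := hj' u
    rw [smul_add, smul_smul]
    calc u + (((j : ℤ) * b) • v + ((j : ℤ) * b * a) • u)
        = (u + ((j : ℤ) * b * a) • u) + ((j : ℤ) * b) • v := by abel
      _ = _ := by rw [this, zero_add]
  have hwv : ρ w v = a • u := by
    rw [hw, map_mul, map_mul, end_mul_apply, end_mul_apply, h2, map_add,
      map_zsmul, hpow_u, hpow_v, smul_add, smul_smul]
    have h6 := hj' v
    have h7 : v + (a • u + (a * ((j : ℤ) * b)) • v) = a • u := by
      calc v + (a • u + (a * ((j : ℤ) * b)) • v)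
          = a • u + (v + ((j : ℤ) * b * a) • v) := by
            rw [mul_comm a ((j : ℤ) * b)]; abel
        _ = _ := by rw [h6, add_zero]
    rw [h7, map_zsmul, h1]
  have hw2 : ρ (w ^ 2) u = -u := by
    rw [pow_two, map_mul, end_mul_apply, hwu, map_zsmul, hwv, smul_smul]
    exact eq_neg_of_add_eq_zero_right (hj' u)
  have hw2k : ∀ k : ℕ, ρ ((w ^ 2) ^ k) u = ((-1 : ℤ) ^ k) • u := by
    intro k
    induction k with
    | zero => simp
    | succ k ih =>
      rw [pow_succ, map_mul, end_mul_apply, hw2, map_neg, ih, pow_succ, mul_smul]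
      simp
  have hn := hw2k (Nat.card G)
  rw [← pow_mul, mul_comm, pow_mul, pow_card_eq_one', one_pow, map_one, hodd.neg_one_pow] at hn
  have hu : u = -u := by simpa using hn
  have h2u : (2 : ℕ) • u = 0 := by
    rw [two_smul]
    nth_rewrite 1 [hu]
    simp
  have hcop2 : Nat.Coprime 2 p := by
    rw [Nat.coprime_primes Nat.prime_two hp]
    exact hp2.symm
  have hu0 : u = 0 := by
    have h8 : addOrderOf u ∣ 1 := by
      have := Nat.dvd_gcd (addOrderOf_dvd_of_nsmul_eq_zero h2u)
        (addOrderOf_dvd_of_nsmul_eq_zero (hV u))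
      rwa [hcop2] at this
    rw [Nat.dvd_one, AddMonoid.addOrderOf_eq_one_iff] at h8
    exact h8
  rw [hu0, smul_zero]

/-- A `p`-element whose commutator with `V` lies in `⟨u⟩` fixes `u`. -/
theorem fix_of_pow (ρ : G →* AddMonoid.End V) {p : ℕ}
    (hp : p.Prime) (hV : ∀ v : V, p • v = 0) (t : G) (u : V) (c : ℤ) (m : ℕ)
    (ht : t ^ (p ^ m) = 1) (h : ρ t u = u + c • u) : ρ t u = u := by
  have hfact : Fact p.Prime := ⟨hp⟩
  have h1 : ρ t u = (1 + c) • u := by rw [h, add_smul, one_smul]
  have h2 : ∀ k : ℕ, ρ (t ^ k) u = ((1 + c) ^ k) • u := by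
    intro k
    induction k with
    | zero => simp
    | succ k ih =>
      rw [pow_succ, map_mul, end_mul_apply, h1, map_zsmul, ih, smul_smul, pow_succ,
        mul_comm]
  have h3 := h2 (p ^ m)
  rw [ht, map_one, AddMonoid.End.coe_one, id] at h3
  have h4 : ((1 + c) ^ (p ^ m) - 1) • u = 0 := by
    rw [sub_smul, one_smul, ← h3, sub_self]
  have h5 : (p : ℤ) ∣ ((1 + c) ^ (p ^ m) - 1) - c := by
    rw [← ZMod.intCast_zmod_eq_zero_iff_dvd]
    push_cast
    have : ((1 : ZMod p) + (c : ZMod p)) ^ (p ^ m) = 1 + c := ZMod.pow_card_pow _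
    rw [this]; ring
  have h6 := zsmul_eq_zero_of_dvd hV h5 u
  rw [sub_smul, h4, zero_sub, neg_eq_zero] at h6
  rw [h, h6, add_zero]

/-- The quotient of two transvections in a group of odd order has order dividing `p` on `V`. -/
theorem quotient_pow [Finite G] (hodd : Odd (Nat.card G)) (ρ : G →* AddMonoid.End V) {p : ℕ}
    (hp : p.Prime) (hp2 : p ≠ 2) (hV : ∀ v : V, p • v = 0) (t t' : G) (u v : V) (m : ℕ)
    (ht : t ^ (p ^ m) = 1) (ht' : t' ^ (p ^ m) = 1)
    (hu : ∀ w : V, ∃ c : ℤ, ρ t w = w + c • u) (hv : ∀ w : V, ∃ c : ℤ, ρ t' w = w + c • v) :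
    ρ ((t⁻¹ * t') ^ p) = 1 := by
  have hchar : ((p : ℕ) : AddMonoid.End V) = 0 := by
    ext w
    simpa using hV w
  have hfu : ρ t u = u := by
    obtain ⟨c, hc⟩ := hu u
    exact fix_of_pow ρ hp hV t u c m ht hc
  have hfv : ρ t' v = v := by
    obtain ⟨c, hc⟩ := hv v
    exact fix_of_pow ρ hp hV t' v c m ht' hc
  set T : AddMonoid.End V := ρ t - 1 with hT
  set T' : AddMonoid.End V := ρ t' - 1 with hT'
  have hTapp : ∀ w, T w = ρ t w - w := fun w => rfl
  have hT'app : ∀ w, T' w = ρ t' w - w := fun w => rfl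
  have hTu : ∀ w, ∃ c : ℤ, T w = c • u := by
    intro w
    obtain ⟨c, hc⟩ := hu w
    exact ⟨c, by rw [hTapp, hc]; abel⟩
  have hTv : ∀ w, ∃ c : ℤ, T' w = c • v := by
    intro w
    obtain ⟨c, hc⟩ := hv w
    exact ⟨c, by rw [hT'app, hc]; abel⟩
  have hTu0 : T u = 0 := by rw [hTapp, hfu, sub_self]
  have hTv0 : T' v = 0 := by rw [hT'app, hfv, sub_self]
  have hTT : T * T = 0 := by
    ext w
    obtain ⟨c, hc⟩ := hTu w
    rw [end_mul_apply, hc, map_zsmul, hTu0, smul_zero]
    rfl
  have hTT' : T' * T' = 0 := by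
    ext w
    obtain ⟨c, hc⟩ := hTv w
    rw [end_mul_apply, hc, map_zsmul, hTv0, smul_zero]
    rfl
  have ht1 : ρ t = 1 + T := by rw [hT]; abel
  have ht1' : ρ t' = 1 + T' := by rw [hT']; abel
  have htinv : ρ t⁻¹ = 1 - T := by
    have h1 : ρ t⁻¹ * ρ t = 1 := by rw [← map_mul, inv_mul_cancel, map_one]
    have h2 : ρ t * (1 - T) = 1 := by
      rw [ht1]
      have : (1 + T) * (1 - T) = 1 - T * T := by noncomm_ring
      rw [this, hTT, sub_zero]
    calc ρ t⁻¹ = ρ t⁻¹ * (ρ t * (1 - T)) := by rw [h2, mul_one]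
      _ = 1 - T := by rw [← mul_assoc, h1, one_mul]
  have hkey : T * T' = 0 ∨ T' * T = 0 := by
    obtain ⟨a, ha⟩ := hTu v
    obtain ⟨b, hb⟩ := hTv u
    have h2 : ρ t v = v + a • u := by rw [← ha, hTapp]; abel
    have h3 : ρ t' u = u + b • v := by rw [← hb, hT'app]; abel
    rcases odd_pair hodd ρ hp hp2 hV t t' u v a b hfu h2 h3 hfv with h | h
    · left
      ext w
      obtain ⟨c, hc⟩ := hTv w
      rw [end_mul_apply, hc, map_zsmul, ha, h, smul_zero]
      rfl
    · right
      ext w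
      obtain ⟨c, hc⟩ := hTu w
      rw [end_mul_apply, hc, map_zsmul, hb, h, smul_zero]
      rfl
  have hn : ρ (t⁻¹ * t') = 1 + (T' - T - T * T') := by
    rw [map_mul, htinv, ht1']
    noncomm_ring
  have hn3 : (T' - T - T * T') ^ 3 = 0 := by
    rcases hkey with h | h
    · rw [h, sub_zero]
      have e : (T' - T) ^ 3 = T' * T' * T' - T' * T' * T - T' * (T * T') + T' * (T * T)
          - T * T' * T' + T * T' * T + T * T * T' - T * T * T := by noncomm_ring
      rw [e, h, hTT, hTT']
      simp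
    · have e : (T' - T - T * T') ^ 3 = 0 := by
        have e1 : T' * (T' - T - T * T') = 0 := by
          have : T' * (T' - T - T * T') = T' * T' - T' * T - T' * T * T' := by noncomm_ring
          rw [this, hTT', h]; simp
        have e2 : (T' - T - T * T') ^ 2 = - (T * T') := by
          have : (T' - T - T * T') ^ 2 = T' * (T' - T - T * T') - T * (T' - T - T * T')
              - T * (T' * (T' - T - T * T')) := by noncomm_ring
          rw [this, e1]
          have : T * (T' - T - T * T') = T * T' - T * T - T * T * T' := by noncomm_ring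
          rw [this, hTT]
          simp
        rw [pow_succ, e2]
        have : -(T * T') * (T' - T - T * T') = - (T * (T' * (T' - T - T * T'))) := by
          noncomm_ring
        rw [this, e1]; simp
      exact e
  rw [map_pow, hn]
  exact one_add_pow_prime hp hp2 hchar hn3

end

end Cfsg.Agent.Classification.Transvection
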