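import Mathlib
import Cfsg.Prelude.Def_CaseTheorems
import Cfsg.Agent.S1012
import Cfsg.Agent.Transfer.FusionBasic
import Cfsg.Agent.Transfer.ThompsonReduction

/-!
# Two self-centralizing four-subgroups with normalizers of order 24

Used for S0518: if `W₁ ≠ W₂` are four-subgroups of `H` normalizing each other, with `C_H(Wᵢ) = Wᵢ` and
`|N_H(Wᵢ)| = 24`, then the `N_H(Wᵢ)` are maximal 2-local subgroups isomorphic to the symmetric group
of degree 4 with intersection of order 8.
-/

set_option autoImplicit false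
open Cfsg

namespace Cfsg.Agent.Classification.ZNEndA

open Subgroup Cfsg.Agent.Transfer.FusionBasic

variable {G : Type*} [Group G]

theorem isPGroup_of_elem {W : Subgroup G} (hE : ∀ a ∈ W, a * a = 1) : IsPGroup 2 W := by
  intro a
  refine ⟨1, ?_⟩
  apply Subtype.ext
  rw [pow_one, pow_two]
  exact hE a a.2

theorem comm_of_elem {W : Subgroup G} (hE : ∀ a ∈ W, a * a = 1) {a b : G} (ha : a ∈ W) (hb : b ∈ W) :
    a * b = b * a := by
  have h1 : (a * b) * (a * b) = 1 := hE _ (W.mul_mem ha hb)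
  have h2 : a⁻¹ = a := inv_eq_of_mul_eq_one_left (hE a ha)
  have h3 : b⁻¹ = b := inv_eq_of_mul_eq_one_left (hE b hb)
  have h4 : (a * b)⁻¹ = a * b := inv_eq_of_mul_eq_one_left h1
  rw [mul_inv_rev, h2, h3] at h4
  exact h4.symm

theorem le_centralizer_of_elem {W : Subgroup G} (hE : ∀ a ∈ W, a * a = 1) :
    W ≤ centralizer (W : Set G) := by
  intro a ha
  rw [mem_centralizer_iff]
  intro b hb
  exact comm_of_elem hE hb ha

/-- A nontrivial `p`-group normalized by a `p`-group contains nontrivial fixed points. -/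
theorem exists_fixed [Finite G] {p : ℕ} [Fact p.Prime] {W Q : Subgroup G} (hW : IsPGroup p W)
    (hW1 : W ≠ ⊥) (hQ : IsPGroup p Q) (hQW : Q ≤ normalizer (W : Set G)) :
    ∃ w ∈ W, w ≠ 1 ∧ ∀ q ∈ Q, q * w = w * q := by
  have hnt : Nontrivial W := (Subgroup.nontrivial_iff_ne_bot W).mpr hW1
  obtain ⟨n, hn, hcard⟩ := hW.nontrivial_iff_card.mp hnt
  have hdvd : p ∣ Nat.card W := hcard ▸ dvd_pow_self p hn.ne'
  let act : MulAction Q W :=
    { smul := fun q w => ⟨(q : G) * w * (q : G)⁻¹, by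
        have := hQW q.2
        rw [mem_normalizer_iff] at this
        exact (this _).1 w.2⟩
      one_smul := by
        intro w
        apply Subtype.ext
        change ((1 : Q) : G) * (w : G) * ((1 : Q) : G)⁻¹ = w
        simp
      mul_smul := by
        intro a b w
        apply Subtype.ext
        change ((a * b : Q) : G) * (w : G) * ((a * b : Q) : G)⁻¹ = (a : G) * ((b : G) * w * (b : G)⁻¹) * (a : G)⁻¹
        simp only [Subgroup.coe_mul, mul_inv_rev]
        group }
  have h1 : (1 : W) ∈ MulAction.fixedPoints Q W := by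
    intro q
    apply Subtype.ext
    change (q : G) * ((1 : W) : G) * (q : G)⁻¹ = ((1 : W) : G)
    simp
  obtain ⟨b, hb, hb1⟩ := hQ.exists_fixed_point_of_prime_dvd_card_of_fixed_point W hdvd h1
  refine ⟨b, b.2, fun h => hb1 (Subtype.ext h.symm), ?_⟩
  intro q hq
  have h2 : (q : G) * (b : G) * (q : G)⁻¹ = b := congrArg Subtype.val (hb ⟨q, hq⟩)
  calc q * b = (q * b * q⁻¹) * q := by group
    _ = b * q := by rw [h2]

/-- The elements of a four-group. -/
theorem mem_four [Finite G] {W : Subgroup G} (hc : Nat.card W = 4) (hE : ∀ a ∈ W, a * a = 1)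
    {t w : G} (ht : t ∈ W) (hw : w ∈ W) (ht1 : t ≠ 1) (hw1 : w ≠ 1) (htw : t ≠ w) {x : G}
    (hx : x ∈ W) : x = 1 ∨ x = t ∨ x = w ∨ x = t * w := by
  classical
  have hti : t⁻¹ = t := inv_eq_of_mul_eq_one_left (hE t ht)
  have h1 : ({1, t, w, t * w} : Set G) ⊆ (W : Set G) := by
    intro y hy
    simp only [Set.mem_insert_iff, Set.mem_singleton_iff] at hy
    rcases hy with rfl | rfl | rfl | rfl
    · exact W.one_mem
    · exact ht
    · exact hw
    · exact W.mul_mem ht hw
  have htw1 : t * w ≠ 1 := by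
    intro h
    apply htw
    have := eq_inv_of_mul_eq_one_right h
    rw [this, hti]
  have htw2 : t * w ≠ t := by
    intro h
    apply hw1
    exact mul_eq_left.mp h
  have htw3 : t * w ≠ w := by
    intro h
    apply ht1
    exact mul_eq_right.mp h
  have h2 : ({1, t, w, t * w} : Set G).ncard = 4 := by
    rw [Set.ncard_insert_of_notMem, Set.ncard_insert_of_notMem, Set.ncard_pair]
    · exact htw3.symm
    · simp only [Set.mem_insert_iff, Set.mem_singleton_iff, not_or]
      exact ⟨htw, htw2.symm⟩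
    · simp only [Set.mem_insert_iff, Set.mem_singleton_iff, not_or]
      exact ⟨ht1.symm, hw1.symm, htw1.symm⟩
  have h3 : ({1, t, w, t * w} : Set G) = (W : Set G) := by
    apply Set.eq_of_subset_of_ncard_le h1
    rw [h2, ← hc]
    exact le_of_eq (Nat.card_coe_set_eq _).symm
  have h4 : x ∈ ({1, t, w, t * w} : Set G) := by rw [h3]; exact hx
  simpa only [Set.mem_insert_iff, Set.mem_singleton_iff] using h4

/-- An element of odd order normalizing a four-group and fixing an involution of it centralizes it. -/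
theorem mem_centralizer_of_fix [Finite G] {W : Subgroup G} (hc : Nat.card W = 4)
    (hE : ∀ a ∈ W, a * a = 1) {x t : G} (hx : Odd (orderOf x)) (hxW : x ∈ normalizer (W : Set G))
    (ht : t ∈ W) (ht1 : t ≠ 1) (hxt : x * t = t * x) : x ∈ centralizer (W : Set G) := by
  rw [mem_centralizer_iff]
  intro w hw
  change w ∈ W at hw
  by_cases hw1 : w = 1
  · subst hw1; simp
  by_cases htw : t = w
  · subst htw; exact hxt.symm
  have hcx : x * w * x⁻¹ ∈ W := ((mem_normalizer_iff.mp hxW) w).1 hw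
  -- the square of x commutes with w
  have hsq : x * (x * w * x⁻¹) * x⁻¹ = w := by
    rcases mem_four hc hE ht hw ht1 hw1 htw hcx with h | h | h | h
    · exact absurd (by
        have h2 : w = x⁻¹ * (x * w * x⁻¹) * x := by group
        rw [h2, h]; group) hw1
    · exfalso
      apply htw
      have h2 : w = x⁻¹ * (x * w * x⁻¹) * x := by group
      rw [h2, h, mul_assoc, ← hxt]; group
    · rw [h, h]
    · rw [h]
      have h5 : x * (t * w) * x⁻¹ = (x * t * x⁻¹) * (x * w * x⁻¹) := by group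
      rw [h5, h, hxt]
      have h6 : t * x * x⁻¹ * (t * w) = (t * t) * w := by group
      rw [h6, hE t ht, one_mul]
  have hsq2 : x ^ 2 * w = w * x ^ 2 := by
    have h7 : x ^ 2 * w = (x * (x * w * x⁻¹) * x⁻¹) * x ^ 2 := by
      rw [pow_two]; group
    rw [h7, hsq]
  obtain ⟨k, hk⟩ := hx
  have hxk : x = (x ^ 2) ^ (k + 1) := by
    rw [← pow_mul]
    have h8 : 2 * (k + 1) = orderOf x + 1 := by omega
    rw [h8, pow_succ, pow_orderOf_eq_one, one_mul]
  have h9 : Commute w ((x ^ 2) ^ (k + 1)) := by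
    apply Commute.pow_right
    exact hsq2.symm
  rw [← hxk] at h9
  exact h9

/-- Irreducible action on a four-group. -/
theorem eq_of_invariant [Finite G] {W D : Subgroup G} (hc : Nat.card W = 4)
    (hE : ∀ a ∈ W, a * a = 1) {x : G} (hx : Odd (orderOf x)) (hxW : x ∈ normalizer (W : Set G))
    (hxC : x ∉ centralizer (W : Set G)) (hDW : D ≤ W) (hD : D ≠ ⊥)
    (hxD : ∀ d ∈ D, x * d * x⁻¹ ∈ D) : D = W := by
  obtain ⟨⟨t, htD⟩, ht1'⟩ := Subgroup.ne_bot_iff_exists_ne_one.mp hD
  have ht1 : t ≠ 1 := fun h => ht1' (Subtype.ext h)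
  have htW : t ∈ W := hDW htD
  have hs : x * t * x⁻¹ ∈ D := hxD t htD
  have hst : t ≠ x * t * x⁻¹ := by
    intro h
    apply hxC
    apply mem_centralizer_of_fix hc hE hx hxW htW ht1
    calc x * t = (x * t * x⁻¹) * x := by group
      _ = t * x := by rw [← h]
  have hs1 : x * t * x⁻¹ ≠ 1 := by
    intro h
    apply ht1
    have : t = x⁻¹ * (x * t * x⁻¹) * x := by group
    rw [this, h]; group
  apply le_antisymm hDW
  intro y hy
  rcases mem_four hc hE htW (hDW hs) ht1 hs1 hst hy with rfl | rfl | rfl | rfl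
  · exact D.one_mem
  · exact htD
  · exact hs
  · exact D.mul_mem htD hs

/-- Data: a self-centralizing four-group with normalizer of order 24. -/
structure Good24 (W : Subgroup G) : Prop where
  card : Nat.card W = 4
  elem : ∀ a ∈ W, a * a = 1
  cent : centralizer (W : Set G) ≤ W
  norm : Nat.card (normalizer (W : Set G)) = 24

namespace Good24

variable {W : Subgroup G}

theorem ne_bot (h : Good24 W) : W ≠ ⊥ := by
  intro h0
  have := h.card
  rw [h0] at this
  simp at this

theorem isPGroup (h : Good24 W) : IsPGroup 2 W := isPGroup_of_elem h.elem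

theorem exists_three [Finite G] (h : Good24 W) :
    ∃ x ∈ normalizer (W : Set G), orderOf x = 3 ∧ x ∉ centralizer (W : Set G) := by
  have f3 : Fact (Nat.Prime 3) := ⟨by norm_num⟩
  obtain ⟨x, hx⟩ := exists_prime_orderOf_dvd_card' (G := normalizer (W : Set G)) 3
    (by rw [h.norm]; norm_num)
  refine ⟨x, x.2, (Subgroup.orderOf_coe x).trans hx, ?_⟩
  intro hC
  have h1 : (x : G) ∈ W := h.cent hC
  have h2 : (x : G) * x = 1 := h.elem _ h1
  have h3 : orderOf (x : G) = 3 := (Subgroup.orderOf_coe x).trans hx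
  have h4 : orderOf (x : G) ∣ 2 := orderOf_dvd_of_pow_eq_one (by rw [pow_two]; exact h2)
  rw [h3] at h4
  norm_num at h4

theorem eq_of_invariant [Finite G] (h : Good24 W) {D : Subgroup G} (hDW : D ≤ W) (hD : D ≠ ⊥)
    (hN : normalizer (W : Set G) ≤ normalizer (D : Set G)) : D = W := by
  obtain ⟨x, hx, hx3, hxC⟩ := h.exists_three
  refine ZNEndA.eq_of_invariant h.card h.elem (x := x) (by rw [hx3]; decide) hx hxC hDW hD ?_
  intro d hd
  exact ((mem_normalizer_iff.mp (hN hx)) d).1 hd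

/-- `O_2(N(W)) = W`. -/
theorem le_of_normal [Finite G] (h : Good24 W) {Q : Subgroup G} (hQ : IsPGroup 2 Q)
    (hQN : Q ≤ normalizer (W : Set G)) (hN : normalizer (W : Set G) ≤ normalizer (Q : Set G)) :
    Q ≤ W := by
  have f2 : Fact (Nat.Prime 2) := ⟨by norm_num⟩
  obtain ⟨w, hw, hw1, hwQ⟩ := exists_fixed h.isPGroup h.ne_bot hQ hQN
  have hD : W ⊓ centralizer (Q : Set G) = W := by
    apply h.eq_of_invariant inf_le_left
    · intro h0
      apply hw1
      have h2 : w ∈ W ⊓ centralizer (Q : Set G) :=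
        mem_inf.mpr ⟨hw, mem_centralizer_iff.mpr (fun q hq => hwQ q hq)⟩
      rw [h0] at h2
      exact Subgroup.mem_bot.mp h2
    · intro x hx
      apply mem_normalizer_of_conj_mem
      intro a ha
      refine mem_inf.mpr ⟨((mem_normalizer_iff.mp hx) a).1 ha.1, mem_centralizer_iff.mpr ?_⟩
      intro q hq
      have h3 : x⁻¹ * q * x ∈ Q := by
        have := ((mem_normalizer_iff.mp (inv_mem (hN hx))) q).1 hq
        simpa using this
      have h4 := (mem_centralizer_iff.mp ha.2) _ h3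
      calc q * (x * a * x⁻¹) = x * ((x⁻¹ * q * x) * a) * x⁻¹ := by group
        _ = x * (a * (x⁻¹ * q * x)) * x⁻¹ := by rw [h4]
        _ = x * a * x⁻¹ * q := by group
  intro q hq
  apply h.cent
  rw [mem_centralizer_iff]
  intro w hw
  rw [← hD] at hw
  exact ((mem_centralizer_iff.mp hw.2) q hq).symm

theorem isTwoLocal (h : Good24 W) : IsTwoLocal (normalizer (W : Set G)) :=
  ⟨W, h.isPGroup, h.ne_bot, rfl⟩

theorem isMaximalTwoLocal [Finite G] (h : Good24 W) : IsMaximalTwoLocal (normalizer (W : Set G)) := by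
  have f2 : Fact (Nat.Prime 2) := ⟨by norm_num⟩
  refine ⟨h.isTwoLocal, ?_⟩
  rintro N ⟨R, hR, hR1, rfl⟩ hle
  have hWR : W ≤ normalizer (R : Set G) := le_trans le_normalizer hle
  obtain ⟨w, hw, hw1, hwR⟩ := exists_fixed hR hR1 h.isPGroup hWR
  have hwW : w ∈ W := h.cent (by rw [mem_centralizer_iff]; intro a ha; exact hwR a ha)
  have hD : W ⊓ R = W := by
    apply h.eq_of_invariant inf_le_left
    · intro h0
      apply hw1
      have h2 : w ∈ W ⊓ R := ⟨hwW, hw⟩
      rw [h0] at h2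
      exact Subgroup.mem_bot.mp h2
    · intro x hx
      apply mem_normalizer_of_conj_mem
      intro a ha
      exact ⟨((mem_normalizer_iff.mp hx) a).1 ha.1, ((mem_normalizer_iff.mp (hle hx)) a).1 ha.2⟩
  have hWR' : W ≤ R := inf_eq_left.mp hD
  have hRN : R ⊓ normalizer (W : Set G) ≤ W := by
    apply h.le_of_normal (hR.to_le inf_le_left) inf_le_right
    intro x hx
    apply mem_normalizer_of_conj_mem
    intro a ha
    refine ⟨((mem_normalizer_iff.mp (hle hx)) a).1 ha.1, ?_⟩
    exact (normalizer (W : Set G)).mul_mem ((normalizer (W : Set G)).mul_mem hx ha.2) (inv_mem hx)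
  have hWR2 : W = R := by
    by_contra hne
    have hlt : W < R := lt_of_le_of_ne hWR' hne
    have := Cfsg.Agent.Transfer.ThompsonReduction.exists_normalizer_gt W R hR hlt
    exact absurd hRN (not_le_of_gt this)
  rw [hWR2]

theorem equiv_perm [Finite G] (h : Good24 W) :
    Nonempty (normalizer (W : Set G) ≃* Equiv.Perm (Fin 4)) := by
  have f2 : Fact (Nat.Prime 2) := ⟨by norm_num⟩
  apply Cfsg.Agent.S1012.result h.norm
  intro g hg
  -- x = g^2 of order 3, t = g^3 of order 2
  have hx3 : orderOf (g ^ 2) = 3 := by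
    rw [orderOf_pow, hg]; rfl
  have ht2 : orderOf (g ^ 3) = 2 := by
    rw [orderOf_pow, hg]; rfl
  have hxG : orderOf ((g : G) ^ 2) = 3 := by
    rw [← hx3, ← Subgroup.orderOf_coe]; rfl
  have htG : orderOf ((g : G) ^ 3) = 2 := by
    rw [← ht2, ← Subgroup.orderOf_coe]; rfl
  have hxN : (g : G) ^ 2 ∈ normalizer (W : Set G) := pow_mem g.2 2
  have htN : (g : G) ^ 3 ∈ normalizer (W : Set G) := pow_mem g.2 3
  have hxC : (g : G) ^ 2 ∉ centralizer (W : Set G) := by
    intro hC
    have h1 := h.cent hC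
    have h2 := h.elem _ h1
    have h4 : orderOf ((g : G) ^ 2) ∣ 2 := orderOf_dvd_of_pow_eq_one (by rw [pow_two]; exact h2)
    rw [hxG] at h4
    norm_num at h4
  -- the subgroup generated by t fixes a point of W
  have hQ : IsPGroup 2 (zpowers ((g : G) ^ 3)) := by
    apply IsPGroup.of_card (n := 1)
    rw [Nat.card_zpowers, htG, pow_one]
  obtain ⟨w, hw, hw1, hwQ⟩ := exists_fixed h.isPGroup h.ne_bot hQ
    (by rw [zpowers_le]; exact htN)
  have hwt : (g : G) ^ 3 * w = w * (g : G) ^ 3 := hwQ _ (mem_zpowers _)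
  have hD : W ⊓ centralizer ({(g : G) ^ 3} : Set G) = W := by
    refine ZNEndA.eq_of_invariant h.card h.elem (x := (g : G) ^ 2) (by rw [hxG]; decide) hxN hxC
      inf_le_left ?_ ?_
    · intro h0
      apply hw1
      have h2 : w ∈ W ⊓ centralizer ({(g : G) ^ 3} : Set G) :=
        mem_inf.mpr ⟨hw, mem_centralizer_singleton_iff.mpr hwt.symm⟩
      rw [h0] at h2
      exact Subgroup.mem_bot.mp h2
    · intro d hd
      refine mem_inf.mpr ⟨((mem_normalizer_iff.mp hxN) d).1 hd.1, mem_centralizer_singleton_iff.mpr ?_⟩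
      have h5 := mem_centralizer_singleton_iff.mp (mem_inf.mp hd).2
      have hc1 : Commute ((g : G) ^ 2) ((g : G) ^ 3) := (Commute.refl (g : G)).pow_pow 2 3
      have hc2 : Commute d ((g : G) ^ 3) := h5
      exact ((hc1.mul_left hc2).mul_left hc1.inv_left)
  have htC : (g : G) ^ 3 ∈ centralizer (W : Set G) := by
    rw [mem_centralizer_iff]
    intro w hw
    have hw' : w ∈ W ⊓ centralizer ({(g : G) ^ 3} : Set G) := by rw [hD]; exact hw
    have := mem_centralizer_singleton_iff.mp (mem_inf.mp hw').2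
    exact this
  have htW : (g : G) ^ 3 ∈ W := h.cent htC
  apply hxC
  apply mem_centralizer_of_fix h.card h.elem (by rw [hxG]; decide) hxN htW
  · intro h1
    rw [h1, orderOf_one] at htG
    norm_num at htG
  · exact ((Commute.refl (g : G)).pow_pow 2 3)

end Good24

/-- The end of the proof: two such four-groups normalizing each other. -/
theorem two_S4 [Finite G] {W₁ W₂ : Subgroup G} (h₁ : Good24 W₁) (h₂ : Good24 W₂)
    (hne : W₁ ≠ W₂) (h12 : W₁ ≤ normalizer (W₂ : Set G)) (h21 : W₂ ≤ normalizer (W₁ : Set G)) :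
    ∃ M₁ M₂ : Subgroup G, M₁ ≠ M₂ ∧ Cfsg.IsMaximalTwoLocal M₁ ∧ Cfsg.IsMaximalTwoLocal M₂ ∧
        Nonempty (M₁ ≃* Equiv.Perm (Fin 4)) ∧ Nonempty (M₂ ≃* Equiv.Perm (Fin 4)) ∧
        Nat.card ↥(M₁ ⊓ M₂) = 8 := by
  have f2 : Fact (Nat.Prime 2) := ⟨by norm_num⟩
  have hNne : normalizer (W₁ : Set G) ≠ normalizer (W₂ : Set G) := by
    intro h
    apply hne
    apply le_antisymm
    · exact h₂.le_of_normal h₁.isPGroup h12 (by rw [← h])
    · exact h₁.le_of_normal h₂.isPGroup h21 (by rw [h])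
  refine ⟨normalizer (W₁ : Set G), normalizer (W₂ : Set G), hNne, h₁.isMaximalTwoLocal,
    h₂.isMaximalTwoLocal, h₁.equiv_perm, h₂.equiv_perm, ?_⟩
  -- the intersection contains `W₁ W₂`
  have hle1 : W₁ ⊔ W₂ ≤ normalizer (W₁ : Set G) ⊓ normalizer (W₂ : Set G) :=
    sup_le (le_inf le_normalizer h12) (le_inf h21 le_normalizer)
  have hBp : IsPGroup 2 ↥(W₁ ⊔ W₂) := by
    exact IsPGroup.to_sup_of_normal_right' h₁.isPGroup h₂.isPGroup h12
  obtain ⟨n, hn⟩ := hBp.exists_card_eq
  have hlt : 4 < Nat.card ↥(W₁ ⊔ W₂) := by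
    have h1 : Nat.card W₁ ≤ Nat.card ↥(W₁ ⊔ W₂) := Subgroup.card_le_of_le le_sup_left
    rcases h1.lt_or_eq with h2 | h2
    · rw [h₁.card] at h2; exact h2
    · exfalso
      have h3 : W₁ = W₁ ⊔ W₂ := Subgroup.eq_of_le_of_card_ge le_sup_left h2.ge
      have h4 : W₂ ≤ W₁ := by rw [h3]; exact le_sup_right
      have h5 : W₂ = W₁ := Subgroup.eq_of_le_of_card_ge h4 (by rw [h₁.card, h₂.card])
      exact hne h5.symm
  have hd1 : Nat.card ↥(W₁ ⊔ W₂) ∣ Nat.card ↥(normalizer (W₁ : Set G) ⊓ normalizer (W₂ : Set G)) :=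
    Subgroup.card_dvd_of_le hle1
  have hd2 : Nat.card ↥(normalizer (W₁ : Set G) ⊓ normalizer (W₂ : Set G)) ∣ 24 := by
    rw [← h₁.norm]; exact Subgroup.card_dvd_of_le inf_le_left
  have hne24 : Nat.card ↥(normalizer (W₁ : Set G) ⊓ normalizer (W₂ : Set G)) ≠ 24 := by
    intro h
    apply hNne
    have e1 : normalizer (W₁ : Set G) ⊓ normalizer (W₂ : Set G) = normalizer (W₁ : Set G) :=
      Subgroup.eq_of_le_of_card_ge inf_le_left (by rw [h, h₁.norm])
    have e2 : normalizer (W₁ : Set G) ⊓ normalizer (W₂ : Set G) = normalizer (W₂ : Set G) :=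
      Subgroup.eq_of_le_of_card_ge inf_le_right (by rw [h, h₂.norm])
    rw [← e1, e2]
  rw [hn] at hlt hd1
  generalize Nat.card ↥(normalizer (W₁ : Set G) ⊓ normalizer (W₂ : Set G)) = m at *
  have hn3 : 3 ≤ n := by
    by_contra h
    have : n ≤ 2 := by omega
    have : 2 ^ n ≤ 2 ^ 2 := Nat.pow_le_pow_right (by norm_num) this
    omega
  have h8 : 8 ∣ m := dvd_trans (by
    have : (2 : ℕ) ^ 3 ∣ 2 ^ n := Nat.pow_dvd_pow 2 hn3
    simpa using this) hd1
  obtain ⟨k, rfl⟩ := h8
  have h24 : 8 * k ∣ 8 * 3 := hd2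
  have hk : k ∣ 3 := Nat.dvd_of_mul_dvd_mul_left (by norm_num) h24
  rcases (Nat.dvd_prime (by norm_num)).mp hk with rfl | rfl
  · rfl
  · exact absurd rfl hne24

end Cfsg.Agent.Classification.ZNEndA
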