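import Mathlib
import Cfsg.Agent.Classification.ZNEndA
import Cfsg.Agent.Lib.Cores

/-!
# Self-centralizing elementary abelian subgroups of order 8 with normalizer `S₄ × C₂`

Used for S0518.
-/

set_option autoImplicit false
open Cfsg

namespace Cfsg.Agent.Classification.ZNEndB

open Subgroup Cfsg.Agent.Transfer.FusionBasic Cfsg.Agent.Classification.ZNEndA

variable {G : Type*} [Group G]

/-- `U` is elementary abelian of order 8, `C_G(U) = U`, `|N_G(U)| = 48` and `c ∈ U` is a nontrivial
central element of `N_G(U)`. -/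
structure Good48 (U : Subgroup G) (c : G) : Prop where
  card : Nat.card U = 8
  elem : ∀ a ∈ U, a * a = 1
  cent : centralizer (U : Set G) ≤ U
  norm : Nat.card (normalizer (U : Set G)) = 48
  mem : c ∈ U
  ne_one : c ≠ 1
  comm : ∀ x ∈ normalizer (U : Set G), x * c = c * x

theorem card_mul_relIndex {H K : Subgroup G} (h : H ≤ K) :
    Nat.card H * H.relIndex K = Nat.card K := by
  rw [← relIndex_bot_left, ← relIndex_bot_left]
  exact relIndex_mul_relIndex _ _ _ bot_le h

theorem mul_mem_of_relIndex_two {H K : Subgroup G} (h : H.relIndex K = 2) {a b : G} (ha : a ∈ K)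
    (hb : b ∈ K) (ha' : a ∉ H) (hb' : b ∉ H) : a * b ∈ H := by
  have h1 : (⟨a, ha⟩ : K) * ⟨b, hb⟩ ∈ H.subgroupOf K := by
    rw [mul_mem_iff_of_index_two h]
    exact ⟨fun h2 => absurd h2 ha', fun h2 => absurd h2 hb'⟩
  exact h1

/-- the commutator map `u ↦ x u x⁻¹ u⁻¹` on an elementary abelian group. -/
def comMap (U : Subgroup G) (hE : ∀ a ∈ U, a * a = 1) (x : G) (hx : x ∈ normalizer (U : Set G)) :
    U →* G where
  toFun u := x * u * x⁻¹ * (u : G)⁻¹
  map_one' := by simp
  map_mul' := by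
    intro u v
    have h1 : x * (v : G) * x⁻¹ ∈ U := ((mem_normalizer_iff.mp hx) _).1 v.2
    have h2 : (u : G)⁻¹ ∈ U := inv_mem u.2
    have h3 : (x * (v : G) * x⁻¹) * (u : G)⁻¹ = (u : G)⁻¹ * (x * (v : G) * x⁻¹) :=
      comm_of_elem hE h1 h2
    have h4 : (v : G)⁻¹ * (u : G)⁻¹ = (u : G)⁻¹ * (v : G)⁻¹ := comm_of_elem hE (inv_mem v.2) h2
    rw [Subgroup.coe_mul, mul_inv_rev, h4]
    calc x * (↑u * ↑v) * x⁻¹ * ((↑u)⁻¹ * (↑v)⁻¹)
        = x * ↑u * x⁻¹ * ((x * ↑v * x⁻¹) * (↑u)⁻¹) * (↑v)⁻¹ := by group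
      _ = x * ↑u * x⁻¹ * ((↑u)⁻¹ * (x * ↑v * x⁻¹)) * (↑v)⁻¹ := by rw [h3]
      _ = x * ↑u * x⁻¹ * (↑u)⁻¹ * (x * ↑v * x⁻¹ * (↑v)⁻¹) := by group

theorem comMap_apply (U : Subgroup G) (hE : ∀ a ∈ U, a * a = 1) (x : G)
    (hx : x ∈ normalizer (U : Set G)) (u : U) : comMap U hE x hx u = x * u * x⁻¹ * (u : G)⁻¹ := rfl

theorem comMap_mem (U : Subgroup G) (hE : ∀ a ∈ U, a * a = 1) (x : G)
    (hx : x ∈ normalizer (U : Set G)) (u : U) : comMap U hE x hx u ∈ U := by
  rw [comMap_apply]
  exact mul_mem (((mem_normalizer_iff.mp hx) _).1 u.2) (inv_mem u.2)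

/-- If `[x, u]` commutes with the element `x` of order 3 then it is trivial. -/
theorem com_eq_one {U : Subgroup G} (hE : ∀ a ∈ U, a * a = 1) {x : G} (hx3 : x ^ 3 = 1)
    (hx : x ∈ normalizer (U : Set G)) {u : G} (hu : u ∈ U)
    (h : x * (x * u * x⁻¹ * u⁻¹) = (x * u * x⁻¹ * u⁻¹) * x) : x * u * x⁻¹ * u⁻¹ = 1 := by
  set r := x * u * x⁻¹ * u⁻¹ with hr
  have hrU : r ∈ U := mul_mem (((mem_normalizer_iff.mp hx) _).1 hu) (inv_mem hu)
  have h1 : x * u * x⁻¹ = r * u := by rw [hr]; group
  have h2 : x * (x * u * x⁻¹) * x⁻¹ = u := by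
    rw [h1]
    calc x * (r * u) * x⁻¹ = (x * r) * u * x⁻¹ := by group
      _ = r * x * u * x⁻¹ := by rw [h]
      _ = r * (x * u * x⁻¹) := by group
      _ = r * (r * u) := by rw [h1]
      _ = (r * r) * u := by group
      _ = u := by rw [hE r hrU, one_mul]
  have h3 : x * x * u = u * (x * x) := by
    calc x * x * u = (x * (x * u * x⁻¹) * x⁻¹) * (x * x) := by group
      _ = u * (x * x) := by rw [h2]
  have hc : Commute (x ^ 2) u := by rw [pow_two]; exact h3
  have h4 : x = (x ^ 2) ^ 2 := by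
    calc x = x ^ 3 * x := by rw [hx3, one_mul]
      _ = (x ^ 2) ^ 2 := by group
  have h5 : Commute x u := by
    rw [h4]; exact hc.pow_left 2
  have h6 : x * u = u * x := h5
  rw [hr, h6]; group

/-- In a group whose quotient `N(U)/U` has order 6, elements of order 3 of `N(U)` generate a normal
subgroup modulo `U`. -/
theorem conj_mem_coset [Finite G] {U : Subgroup G} (hU : IsPGroup 2 U)
    (hcard : Nat.card (normalizer (U : Set G)) = 6 * Nat.card U) {x g : G}
    (hx : x ∈ normalizer (U : Set G)) (hx3 : orderOf x = 3) (hg : g ∈ normalizer (U : Set G)) :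
    x⁻¹ * (g * x * g⁻¹) ∈ U ∨ x * (g * x * g⁻¹) ∈ U := by
  classical
  have f2 : Fact (Nat.Prime 2) := ⟨by norm_num⟩
  have f3 : Fact (Nat.Prime 3) := ⟨by norm_num⟩
  set N := normalizer (U : Set G) with hN
  let U' : Subgroup N := U.subgroupOf N
  have hU'n : U'.Normal := Subgroup.normal_in_normalizer
  have hcardU' : Nat.card U' = Nat.card U :=
    Nat.card_congr (Subgroup.subgroupOfEquivOfLe le_normalizer).toEquiv
  have hq : Nat.card (N ⧸ U') = 6 := by
    have h1 := Subgroup.card_eq_card_quotient_mul_card_subgroup U'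
    rw [hcard, hcardU'] at h1
    have h2 : 0 < Nat.card U := Nat.card_pos
    exact (Nat.eq_of_mul_eq_mul_right h2 h1).symm
  let x' : N := ⟨x, hx⟩
  let g' : N := ⟨g, hg⟩
  let π := QuotientGroup.mk' U'
  have hmem : ∀ y : N, π y = 1 ↔ (y : G) ∈ U := by
    intro y
    rw [QuotientGroup.mk'_apply, QuotientGroup.eq_one_iff]
    exact Subgroup.mem_subgroupOf
  have hx1 : x ∉ U := by
    intro h
    obtain ⟨k, hk⟩ := hU ⟨x, h⟩
    have h1 : x ^ 2 ^ k = 1 := congrArg Subtype.val hk
    have h2 : orderOf x ∣ 2 ^ k := orderOf_dvd_of_pow_eq_one h1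
    rw [hx3] at h2
    have h3 := Nat.Prime.dvd_of_dvd_pow Nat.prime_three h2
    norm_num at h3
  have hπx : orderOf (π x') = 3 := by
    have h1 : orderOf (π x') ∣ 3 := by
      have : orderOf x' = 3 := by rw [← hx3, ← Subgroup.orderOf_coe]
      rw [← this]
      exact orderOf_map_dvd π x'
    rcases (Nat.dvd_prime Nat.prime_three).mp h1 with h2 | h2
    · exfalso
      rw [orderOf_eq_one_iff] at h2
      exact hx1 ((hmem x').1 h2)
    · exact h2
  have hind : (zpowers (π x')).index = 2 := by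
    have h1 := Subgroup.card_mul_index (zpowers (π x'))
    rw [Nat.card_zpowers, hπx, hq] at h1
    omega
  have hnorm : (zpowers (π x')).Normal := Subgroup.normal_of_index_eq_two hind
  have h5 : π g' * π x' * (π g')⁻¹ ∈ zpowers (π x') :=
    hnorm.conj_mem _ (mem_zpowers _) _
  have h6 : (π g' * π x' * (π g')⁻¹) ≠ 1 := by
    intro h
    have : π x' = 1 := by
      have h7 : π x' = (π g')⁻¹ * (π g' * π x' * (π g')⁻¹) * π g' := by group
      rw [h7, h]; group
    exact hx1 ((hmem x').1 this)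
  -- elements of the subgroup of order 3
  have h8 : ∀ y ∈ zpowers (π x'), y = 1 ∨ y = π x' ∨ y = (π x')⁻¹ := by
    intro y hy
    obtain ⟨k, hk⟩ := mem_zpowers_iff.mp hy
    have h9 : (π x') ^ (k % 3) = y := by
      rw [← hk]
      have := zpow_mod_orderOf (π x') k
      rw [hπx] at this
      exact_mod_cast this
    have h10 : k % 3 = 0 ∨ k % 3 = 1 ∨ k % 3 = 2 := by omega
    rcases h10 with h | h | h
    · left; rw [← h9, h, zpow_zero]
    · right; left; rw [← h9, h, zpow_one]
    · right; right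
      rw [← h9, h]
      have h11 : (π x') ^ (3 : ℕ) = 1 := by rw [← hπx]; exact pow_orderOf_eq_one _
      rw [eq_inv_iff_mul_eq_one]
      calc (π x') ^ (2 : ℤ) * π x' = (π x') ^ (3 : ℕ) := by
            rw [← zpow_natCast, ← zpow_add_one]; norm_num
        _ = 1 := h11
  rcases h8 _ h5 with h | h | h
  · exact absurd h h6
  · left
    have : π (x'⁻¹ * (g' * x' * g'⁻¹)) = 1 := by
      rw [map_mul, map_mul, map_mul, map_inv, map_inv, h]; group
    exact (hmem _).1 this
  · right
    have : π (x' * (g' * x' * g'⁻¹)) = 1 := by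
      rw [map_mul, map_mul, map_mul, map_inv, h]; group
    exact (hmem _).1 this

/-- The four-group `W = [U, x]`. -/
structure WData (U : Subgroup G) (c : G) (W : Subgroup G) (x : G) : Prop where
  le : W ≤ U
  card : Nat.card W = 4
  norm : normalizer (U : Set G) ≤ normalizer (W : Set G)
  notMem : c ∉ W
  memN : x ∈ normalizer (U : Set G)
  order : orderOf x = 3
  fpf : ∀ w ∈ W, x * w = w * x → w = 1
  com : ∀ w ∈ W, ∃ u ∈ U, w = x * u * x⁻¹ * u⁻¹

theorem Good48.isPGroup {U : Subgroup G} {c : G} (h : Good48 U c) : IsPGroup 2 U :=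
  isPGroup_of_elem h.elem

theorem Good48.exists_W [Finite G] {U : Subgroup G} {c : G} (h : Good48 U c) :
    ∃ (W : Subgroup G) (x : G), WData U c W x := by
  classical
  have f2 : Fact (Nat.Prime 2) := ⟨by norm_num⟩
  have f3 : Fact (Nat.Prime 3) := ⟨by norm_num⟩
  obtain ⟨x0, hx0⟩ := exists_prime_orderOf_dvd_card' (G := normalizer (U : Set G)) 3
    (by rw [h.norm]; norm_num)
  obtain ⟨x, hxdef⟩ : ∃ x : G, x = (x0 : G) := ⟨_, rfl⟩
  have hx : x ∈ normalizer (U : Set G) := by rw [hxdef]; exact x0.2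
  have hx3 : orderOf x = 3 := by rw [hxdef]; exact (Subgroup.orderOf_coe x0).trans hx0
  have hx3' : x ^ 3 = 1 := by rw [← hx3]; exact pow_orderOf_eq_one x
  let φ := comMap U h.elem x hx
  let W : Subgroup G := φ.range
  have hWU : W ≤ U := by
    rintro _ ⟨u, rfl⟩
    exact comMap_mem U h.elem x hx u
  have hcom : ∀ w ∈ W, ∃ u ∈ U, w = x * u * x⁻¹ * u⁻¹ := by
    rintro _ ⟨u, rfl⟩
    exact ⟨u, u.2, rfl⟩
  have hmemW : ∀ u ∈ U, x * u * x⁻¹ * u⁻¹ ∈ W := fun u hu => ⟨⟨u, hu⟩, rfl⟩
  have hfpf : ∀ w ∈ W, x * w = w * x → w = 1 := by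
    intro w hw hwx
    obtain ⟨u, hu, rfl⟩ := hcom w hw
    exact com_eq_one h.elem hx3' hx hu hwx
  have hxC : x ∉ centralizer (U : Set G) := by
    intro hC
    have h1 := h.elem _ (h.cent hC)
    have h4 : orderOf x ∣ 2 := orderOf_dvd_of_pow_eq_one (by rw [pow_two]; exact h1)
    rw [hx3] at h4
    norm_num at h4
  have hcW : c ∉ W := fun hc => h.ne_one (hfpf c hc (h.comm x hx))
  have hWx : ∀ w ∈ W, x * w * x⁻¹ ∈ W := by
    intro w hw
    obtain ⟨u, hu, rfl⟩ := hcom w hw
    have h1 : x * (x * u * x⁻¹ * u⁻¹) * x⁻¹ = x * (x * u * x⁻¹) * x⁻¹ * (x * u * x⁻¹)⁻¹ := by group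
    rw [h1]
    exact hmemW _ (((mem_normalizer_iff.mp hx) _).1 hu)
  have hcard : Nat.card W = 4 := by
    have h1 : Nat.card W ∣ 2 ^ 3 := by
      have := Subgroup.card_dvd_of_le hWU
      rw [h.card] at this
      exact this
    obtain ⟨k, hk3, hk⟩ := (Nat.dvd_prime_pow Nat.prime_two).mp h1
    have hker : Nat.card φ.ker ∣ 4 ∨ Nat.card φ.ker ∣ 4 := by
      left
      -- `W` is nontrivial, so the kernel is not everything
      have h2 : Nat.card φ.ker ∣ 8 := by rw [← h.card]; exact Subgroup.card_subgroup_dvd_card _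
      have h3 : Nat.card φ.ker ≠ 8 := by
        intro h4
        have h5 : φ.ker = ⊤ := by
          apply Subgroup.eq_top_of_card_eq
          rw [h4, h.card]
        apply hxC
        rw [mem_centralizer_iff]
        intro u hu
        have h6 : (⟨u, hu⟩ : U) ∈ φ.ker := by rw [h5]; trivial
        have h7 : x * u * x⁻¹ * u⁻¹ = 1 := h6
        have h8 : x * u * x⁻¹ = u := mul_inv_eq_one.mp h7
        have h9 : x * u = u * x := mul_inv_eq_iff_eq_mul.mp h8
        exact h9.symm
      have h8 : (8 : ℕ) = 2 ^ 3 := by norm_num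
      rw [h8] at h2
      obtain ⟨j, hj, hjk⟩ := (Nat.dvd_prime_pow Nat.prime_two).mp h2
      rw [hjk] at h3 ⊢
      have : j ≠ 3 := by rintro rfl; exact h3 rfl
      have hj2 : j ≤ 2 := by omega
      exact (Nat.pow_dvd_pow 2 hj2)
    have hmul : Nat.card W * Nat.card φ.ker = 8 := by
      have h1 := Subgroup.card_eq_card_quotient_mul_card_subgroup φ.ker
      rw [h.card, Nat.card_congr (QuotientGroup.quotientKerEquivRange φ).toEquiv] at h1
      exact h1.symm
    have hk0 : k ≠ 0 := by
      rintro rfl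
      rw [hk, pow_zero, one_mul] at hmul
      rw [hmul] at hker
      norm_num at hker
    have hk3' : k ≠ 3 := by
      rintro rfl
      have h2 : W = U := Subgroup.eq_of_le_of_card_ge hWU (by rw [hk, h.card]; norm_num)
      exact hcW (h2 ▸ h.mem)
    have hk1 : k ≠ 1 := by
      rintro rfl
      rw [pow_one] at hk
      -- W = {1, r}
      have hWne : W ≠ ⊥ := by
        intro h0
        rw [h0] at hk
        simp at hk
      obtain ⟨⟨r, hrW⟩, hr1'⟩ := Subgroup.ne_bot_iff_exists_ne_one.mp hWne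
      have hr1 : r ≠ 1 := fun h => hr1' (Subtype.ext h)
      have hrr : zpowers r = W := by
        apply Subgroup.eq_of_le_of_card_ge (by rw [zpowers_le]; exact hrW)
        rw [Nat.card_zpowers, hk]
        have h3 : orderOf r ≠ 1 := by rw [Ne, orderOf_eq_one_iff]; exact hr1
        have h4 : 0 < orderOf r := orderOf_pos r
        omega
      have h5 : x * r * x⁻¹ ∈ zpowers r := by rw [hrr]; exact hWx r hrW
      have hr2 : orderOf r = 2 := by
        rw [← Nat.card_zpowers, hrr, hk]
      obtain ⟨m, hm⟩ := mem_zpowers_iff.mp h5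
      have h6 : r ^ (m % 2) = x * r * x⁻¹ := by
        rw [← hm]
        have := zpow_mod_orderOf r m
        rw [hr2] at this
        exact_mod_cast this
      have h7 : m % 2 = 0 ∨ m % 2 = 1 := by omega
      rcases h7 with h8 | h8
      · rw [h8, zpow_zero] at h6
        apply hr1
        have : r = x⁻¹ * (x * r * x⁻¹) * x := by group
        rw [this, ← h6]; group
      · rw [h8, zpow_one] at h6
        apply hr1
        apply hfpf r hrW
        calc x * r = (x * r * x⁻¹) * x := by group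
          _ = r * x := by rw [← h6]
    have hk2 : k = 2 := by omega
    rw [hk, hk2]; norm_num
  refine ⟨W, x, hWU, hcard, ?_, hcW, hx, hx3, hfpf, hcom⟩
  -- invariance
  intro g hg
  apply mem_normalizer_of_conj_mem
  intro w hw
  obtain ⟨u, hu, rfl⟩ := hcom w hw
  set u' := g * u * g⁻¹ with hu'
  have hu'U : u' ∈ U := ((mem_normalizer_iff.mp hg) _).1 hu
  set y := g * x * g⁻¹ with hy
  have hyN : y ∈ normalizer (U : Set G) := mul_mem (mul_mem hg hx) (inv_mem hg)
  have h1 : g * (x * u * x⁻¹ * u⁻¹) * g⁻¹ = y * u' * y⁻¹ * u'⁻¹ := by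
    rw [hy, hu']; group
  rw [h1]
  rcases conj_mem_coset h.isPGroup (by rw [h.norm, h.card]) hx hx3 hg with h2 | h2
  · -- y = x v
    set v := x⁻¹ * y with hv
    have hvU : v ∈ U := h2
    have hyv : y = x * v := by rw [hv]; group
    have h3 : v * u' = u' * v := comm_of_elem h.elem hvU hu'U
    have h4 : y * u' * y⁻¹ = x * u' * x⁻¹ := by
      rw [hyv]
      calc x * v * u' * (x * v)⁻¹ = x * (v * u') * v⁻¹ * x⁻¹ := by group
        _ = x * (u' * v) * v⁻¹ * x⁻¹ := by rw [h3]
        _ = x * u' * x⁻¹ := by group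
    rw [h4]
    exact hmemW u' hu'U
  · -- y = x⁻¹ v
    set v := x * y with hv
    have hvU : v ∈ U := h2
    have hyv : y = x⁻¹ * v := by rw [hv]; group
    have h3 : v * u' = u' * v := comm_of_elem h.elem hvU hu'U
    have h4 : y * u' * y⁻¹ = x⁻¹ * u' * x := by
      rw [hyv]
      calc x⁻¹ * v * u' * (x⁻¹ * v)⁻¹ = x⁻¹ * (v * u') * v⁻¹ * x := by group
        _ = x⁻¹ * (u' * v) * v⁻¹ * x := by rw [h3]
        _ = x⁻¹ * u' * x := by group
    rw [h4]
    set t := x⁻¹ * u' * x with ht
    have htU : t ∈ U := by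
      have := ((mem_normalizer_iff.mp (inv_mem hx)) u').1 hu'U
      simpa [ht] using this
    have h5 : t * u'⁻¹ = (x * t * x⁻¹ * t⁻¹)⁻¹ := by
      rw [ht]; group
    rw [h5]
    exact inv_mem (hmemW t htU)

/-- Uniqueness of `W`. -/
theorem WData.unique [Finite G] {U : Subgroup G} {c : G} (h : Good48 U c) {W : Subgroup G} {x : G}
    (hW : WData U c W x) {D : Subgroup G} (hDU : D ≤ U) (hD : Nat.card D = 4)
    (hDN : normalizer (U : Set G) ≤ normalizer (D : Set G)) : D = W := by
  symm
  apply Subgroup.eq_of_le_of_card_ge ?_ (by rw [hD, hW.card])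
  intro w hw
  obtain ⟨u, hu, rfl⟩ := hW.com w hw
  have hxD := hDN hW.memN
  by_cases huD : u ∈ D
  · exact mul_mem (((mem_normalizer_iff.mp hxD) u).1 huD) (inv_mem huD)
  · -- index 2
    have h1 : x * u * x⁻¹ ∉ D := fun h2 => huD (((mem_normalizer_iff.mp hxD) u).2 h2)
    have h2 : x * u * x⁻¹ ∈ U := ((mem_normalizer_iff.mp hW.memN) u).1 hu
    have hrel : D.relIndex U = 2 := by
      have := card_mul_relIndex hDU
      rw [hD, h.card] at this
      omega
    exact mul_mem_of_relIndex_two hrel h2 (inv_mem hu) h1 (fun h3 => huD (inv_mem_iff.mp h3))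

/-- The normalizer of `Q` normalizes every characteristic subgroup of `Q`. -/
theorem normalizer_le_of_characteristic {Q : Subgroup G} (K : Subgroup Q) (hK : K.Characteristic) :
    normalizer (Q : Set G) ≤ normalizer (K.map Q.subtype : Set G) := by
  have key : ∀ g ∈ normalizer (Q : Set G), ∀ y ∈ K.map Q.subtype,
      g * y * g⁻¹ ∈ K.map Q.subtype := by
    rintro g hg _ ⟨y, hy, rfl⟩
    have h1 := Subgroup.characteristic_iff_map_le.mp hK (Q.normalizerMonoidHom ⟨g, hg⟩)
    have h2 : (Q.normalizerMonoidHom ⟨g, hg⟩) y ∈ K := h1 ⟨y, hy, rfl⟩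
    exact ⟨_, h2, rfl⟩
  intro g hg
  rw [mem_normalizer_iff]
  intro y
  refine ⟨key g hg y, fun hy => ?_⟩
  have h1 := key g⁻¹ (inv_mem hg) _ hy
  have h2 : g⁻¹ * (g * y * g⁻¹) * g⁻¹⁻¹ = y := by group
  rwa [h2] at h1

/-- The normalizer of `A` normalizes its centralizer. -/
theorem normalizer_le_normalizer_centralizer (A : Subgroup G) :
    normalizer (A : Set G) ≤ normalizer ((centralizer (A : Set G) : Subgroup G) : Set G) := by
  have key : ∀ g ∈ normalizer (A : Set G), ∀ y ∈ centralizer (A : Set G),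
      g * y * g⁻¹ ∈ centralizer (A : Set G) := by
    intro g hg y hy
    rw [mem_centralizer_iff] at hy ⊢
    intro a ha
    have h3 : g⁻¹ * a * g ∈ A := by
      have := ((mem_normalizer_iff.mp (inv_mem hg)) a).1 ha
      simpa using this
    have h4 := hy _ h3
    calc a * (g * y * g⁻¹) = g * ((g⁻¹ * a * g) * y) * g⁻¹ := by group
      _ = g * (y * (g⁻¹ * a * g)) * g⁻¹ := by rw [h4]
      _ = g * y * g⁻¹ * a := by group
  intro g hg
  rw [mem_normalizer_iff]
  intro y
  refine ⟨key g hg y, fun hy => ?_⟩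
  have h1 := key g⁻¹ (inv_mem hg) _ hy
  have h2 : g⁻¹ * (g * y * g⁻¹) * g⁻¹⁻¹ = y := by group
  rwa [h2] at h1

/-- In a group of characteristic 2 type, the normalizer of a nontrivial 2-subgroup has no
nontrivial normal subgroup of odd order. -/
theorem odd_normal_trivial [Finite G] (hL : Cfsg.IsCharacteristicTwoType G) {T K : Subgroup G}
    (hT : IsPGroup 2 T) (hT1 : T ≠ ⊥) (hKT : K ≤ normalizer (T : Set G))
    (hTK : normalizer (T : Set G) ≤ normalizer (K : Set G)) (hK : (Nat.card K).Coprime 2) :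
    K = ⊥ := by
  have f2 : Fact (Nat.Prime 2) := ⟨by norm_num⟩
  set X := normalizer (T : Set G) with hX
  have hchar : centralizer ((pCore 2 X : Subgroup X) : Set X) ≤ pCore 2 X := hL.2 T hT hT1
  let K' : Subgroup X := K.subgroupOf X
  have hK'n : K'.Normal := by
    refine ⟨fun k hk g => ?_⟩
    rw [mem_subgroupOf] at hk ⊢
    exact ((mem_normalizer_iff.mp (hTK g.2)) _).1 hk
  have hcard : Nat.card K' = Nat.card K :=
    Nat.card_congr (Subgroup.subgroupOfEquivOfLe hKT).toEquiv
  have hdis : Disjoint K' (pCore 2 X) := by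
    rw [disjoint_iff, eq_bot_iff]
    intro y hy
    rw [Subgroup.mem_bot]
    refine eq_one_of_mem_of_coprime (p := 2) (A := pCore 2 X) (K := K')
      (Cfsg.Agent.Lib.Cores.pCore_isPGroup 2) (by rw [hcard]; exact hK) hy.2 hy.1
  have hcomm : K' ≤ centralizer ((pCore 2 X : Subgroup X) : Set X) := by
    intro k hk
    rw [mem_centralizer_iff]
    intro y hy
    exact (Subgroup.commute_of_normal_of_disjoint K' (pCore 2 X) hK'n
      (Cfsg.Agent.Lib.Cores.pCore_normal 2) hdis k y hk hy).symm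
  have h1 : K' ≤ pCore 2 X := hcomm.trans hchar
  have h2 : K' = ⊥ := by
    rw [← inf_eq_left.mpr h1]
    exact disjoint_iff.mp hdis
  have h3 : Nat.card K = 1 := by rw [← hcard, h2]; simp
  exact Subgroup.card_eq_one.mp h3

/-- elements of `U` are in `W` or `c W`. -/
theorem WData.mem_or [Finite G] {U : Subgroup G} {c : G} (h : Good48 U c) {W : Subgroup G} {x : G}
    (hW : WData U c W x) {u : G} (hu : u ∈ U) : u ∈ W ∨ c * u ∈ W := by
  have hrel : W.relIndex U = 2 := by
    have := card_mul_relIndex hW.le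
    rw [hW.card, h.card] at this
    omega
  by_cases hu' : u ∈ W
  · exact Or.inl hu'
  · exact Or.inr (mul_mem_of_relIndex_two hrel h.mem hu hW.notMem hu')

theorem WData.elem {U : Subgroup G} {c : G} (h : Good48 U c) {W : Subgroup G} {x : G}
    (hW : WData U c W x) : ∀ a ∈ W, a * a = 1 := fun a ha => h.elem a (hW.le ha)

theorem WData.ne_bot {U : Subgroup G} {c : G} {W : Subgroup G} {x : G}
    (hW : WData U c W x) : W ≠ ⊥ := by
  intro h0
  have := hW.card
  rw [h0] at this
  simp at this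

theorem WData.centralizer_inf [Finite G] {U : Subgroup G} {c : G} (h : Good48 U c)
    {W : Subgroup G} {x : G} (hW : WData U c W x) :
    centralizer (W : Set G) ⊓ normalizer (U : Set G) ≤ U := by
  intro g hg
  obtain ⟨hgC, hgN⟩ := mem_inf.mp hg
  apply h.cent
  rw [mem_centralizer_iff] at hgC ⊢
  intro u hu
  have hgc : Commute c g := (h.comm g hgN).symm
  rcases hW.mem_or h hu with h1 | h1
  · exact hgC u h1
  · have h2 : Commute (c * u) g := hgC _ h1
    have h3 : u = c⁻¹ * (c * u) := by group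
    rw [h3]
    exact hgc.inv_left.mul_left h2

/-- `C_G(W) = U` (Burnside's theorem and characteristic 2 type). -/
theorem WData.centralizer_le [Finite G] (hL : Cfsg.IsCharacteristicTwoType G) {U : Subgroup G}
    {c : G} (h : Good48 U c) {W : Subgroup G} {x : G} (hW : WData U c W x) :
    centralizer (W : Set G) ≤ U := by
  classical
  have f2 : Fact (Nat.Prime 2) := ⟨by norm_num⟩
  set C := centralizer (W : Set G) with hC
  have hUC : U ≤ C := (le_centralizer_of_elem h.elem).trans (Subgroup.centralizer_le hW.le)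
  have hsyl : SylIn 2 U C := by
    refine ⟨hUC, h.isPGroup, ?_⟩
    intro R hUR hRC hR
    by_contra hne
    have hlt : U < R := lt_of_le_of_ne hUR (fun h => hne h.symm)
    have h1 := Cfsg.Agent.Transfer.ThompsonReduction.exists_normalizer_gt U R hR hlt
    exact absurd ((inf_le_inf_right _ hRC).trans (hW.centralizer_inf h)) (not_le_of_gt h1)
  obtain ⟨T, hT⟩ := hsyl.exists_sylow
  have hTmem : ∀ y : C, y ∈ (T : Subgroup C) ↔ (y : G) ∈ U := by
    intro y
    rw [← hT]
    constructor
    · intro hy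
      exact ⟨y, hy, rfl⟩
    · rintro ⟨y', hy', hyy⟩
      have : y' = y := Subtype.ext hyy
      rw [← this]; exact hy'
  have hNT : normalizer ((T : Subgroup C) : Set C) ≤ centralizer ((T : Subgroup C) : Set C) := by
    intro y hy
    have hyN : (y : G) ∈ normalizer (U : Set G) := by
      apply mem_normalizer_of_conj_mem
      intro u hu
      have h1 : (⟨u, hUC hu⟩ : C) ∈ (T : Subgroup C) := (hTmem _).2 hu
      have h2 := ((mem_normalizer_iff.mp hy) _).1 h1
      exact (hTmem _).1 h2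
    have hyU : (y : G) ∈ U := hW.centralizer_inf h (mem_inf.mpr ⟨y.2, hyN⟩)
    rw [mem_centralizer_iff]
    intro t ht
    apply Subtype.ext
    exact comm_of_elem h.elem ((hTmem t).1 ht) hyU
  set K := (MonoidHom.transferSylow T hNT).ker with hK
  have hKodd : (Nat.card K).Coprime 2 := by
    rw [Nat.coprime_comm]
    exact (Nat.Prime.coprime_iff_not_dvd Nat.prime_two).mpr
      (MonoidHom.not_dvd_card_ker_transferSylow T hNT)
  have hKn : K.Normal := MonoidHom.normal_ker _
  have hKle : K ≤ pPrimeCore 2 C := Cfsg.Agent.Lib.Cores.le_pPrimeCore hKn hKodd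
  have hK0 : (pPrimeCore 2 C).map C.subtype = ⊥ := by
    apply odd_normal_trivial hL (T := W) (isPGroup_of_elem (hW.elem h)) hW.ne_bot
    · exact (map_subtype_le _).trans (centralizer_le_normalizer _)
    · exact (normalizer_le_normalizer_centralizer W).trans
        (normalizer_le_of_characteristic _ (Cfsg.Agent.Lib.Cores.pPrimeCore_characteristic 2))
    · rw [card_map_of_injective C.subtype_injective]
      exact Cfsg.Agent.Lib.Cores.pPrimeCore_coprime 2
  have hKbot : K = ⊥ := by
    have h1 : pPrimeCore 2 C = ⊥ := by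
      rw [Subgroup.map_eq_bot_iff_of_injective _ C.subtype_injective] at hK0
      exact hK0
    exact le_bot_iff.mp (h1 ▸ hKle)
  have hcompl := MonoidHom.ker_transferSylow_isComplement' T hNT
  rw [← hK, hKbot, Subgroup.isComplement'_bot_left] at hcompl
  intro y hy
  have : (⟨y, hy⟩ : C) ∈ (T : Subgroup C) := by rw [hcompl]; trivial
  exact (hTmem _).1 this

theorem WData.centralizer_eq [Finite G] (hL : Cfsg.IsCharacteristicTwoType G) {U : Subgroup G}
    {c : G} (h : Good48 U c) {W : Subgroup G} {x : G} (hW : WData U c W x) :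
    centralizer (W : Set G) = U :=
  le_antisymm (hW.centralizer_le hL h)
    ((le_centralizer_of_elem h.elem).trans (Subgroup.centralizer_le hW.le))

theorem WData.normalizer_eq [Finite G] (hL : Cfsg.IsCharacteristicTwoType G) {U : Subgroup G}
    {c : G} (h : Good48 U c) {W : Subgroup G} {x : G} (hW : WData U c W x) :
    normalizer (W : Set G) = normalizer (U : Set G) := by
  apply le_antisymm ?_ hW.norm
  have := normalizer_le_normalizer_centralizer W
  rwa [hW.centralizer_eq hL h] at this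

/-- The nontrivial elements of `W` are conjugate. -/
theorem WData.conj [Finite G] {U : Subgroup G} {c : G} (h : Good48 U c)
    {W : Subgroup G} {x : G} (hW : WData U c W x) {z w : G} (hz : z ∈ W) (hz1 : z ≠ 1)
    (hw : w ∈ W) (hw1 : w ≠ 1) : ∃ g : G, g * w * g⁻¹ = z := by
  have hxN : x ∈ normalizer (W : Set G) := hW.norm hW.memN
  have hx1 : x * z * x⁻¹ ∈ W := ((mem_normalizer_iff.mp hxN) z).1 hz
  have hx11 : x * z * x⁻¹ ≠ 1 := by
    intro h0
    apply hz1
    have : z = x⁻¹ * (x * z * x⁻¹) * x := by group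
    rw [this, h0]; group
  have hzx : z ≠ x * z * x⁻¹ := by
    intro h0
    apply hz1
    apply hW.fpf z hz
    calc x * z = (x * z * x⁻¹) * x := by group
      _ = z * x := by rw [← h0]
  rcases mem_four hW.card (hW.elem h) hz hx1 hz1 hx11 hzx hw with h1 | h1 | h1 | h1
  · exact absurd h1 hw1
  · exact ⟨1, by rw [h1]; group⟩
  · exact ⟨x⁻¹, by rw [h1]; group⟩
  · -- w = z * (x z x⁻¹); x² z x⁻² is the third involution
    have hx2 : x * (x * z * x⁻¹) * x⁻¹ ∈ W := ((mem_normalizer_iff.mp hxN) _).1 hx1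
    rcases mem_four hW.card (hW.elem h) hz hx1 hz1 hx11 hzx hx2 with h2 | h2 | h2 | h2
    · exfalso
      apply hx11
      have : x * z * x⁻¹ = x⁻¹ * (x * (x * z * x⁻¹) * x⁻¹) * x := by group
      rw [this, h2]; group
    · exfalso
      -- x² z x⁻² = z, so x commutes with z
      apply hz1
      apply hW.fpf z hz
      have hc : Commute (x ^ 2) z := by
        change x ^ 2 * z = z * x ^ 2
        calc x ^ 2 * z = (x * (x * z * x⁻¹) * x⁻¹) * x ^ 2 := by rw [pow_two]; group
          _ = z * x ^ 2 := by rw [h2]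
      have hx3 : x ^ 3 = 1 := by rw [← hW.order]; exact pow_orderOf_eq_one x
      have h4 : x = (x ^ 2) ^ 2 := by
        calc x = x ^ 3 * x := by rw [hx3, one_mul]
          _ = (x ^ 2) ^ 2 := by group
      have h5 : Commute x z := by
        rw [h4]; exact hc.pow_left 2
      exact h5
    · exfalso
      apply hzx
      have : x * z * x⁻¹ = x⁻¹ * (x * (x * z * x⁻¹) * x⁻¹) * x := by group
      rw [this, h2]; group
    · refine ⟨x⁻¹ * x⁻¹, ?_⟩
      rw [h1, ← h2]; group

end Cfsg.Agent.Classification.ZNEndB
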