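import Cfsg.Statements.S0518
import Cfsg.Agent.Classification.ZNEndA
import Cfsg.Agent.Classification.ZNEndB
import Cfsg.Agent.Lib.Cores
import Cfsg.Agent.ZN.EndTransfer

/-!
# Final step of S0518
-/

set_option autoImplicit false
open Cfsg

namespace Cfsg.Agent.Classification.ZNFinal

open Subgroup Cfsg.Agent.Transfer.FusionBasic Cfsg.Agent.Classification.ZNEndA
  Cfsg.Agent.Classification.ZNEndB

variable {G : Type*} [Group G]

theorem good24_subgroupOf [Finite G] {H W : Subgroup G} (hWH : W ≤ H) (hc : Nat.card W = 4)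
    (hE : ∀ a ∈ W, a * a = 1) (hC : centralizer (W : Set G) ⊓ H ≤ W)
    (hN : Nat.card ↥(normalizer (W : Set G) ⊓ H) = 24) : Good24 (W.subgroupOf H) := by
  refine ⟨?_, ?_, ?_, ?_⟩
  · rw [← hc]
    exact Nat.card_congr (Subgroup.subgroupOfEquivOfLe hWH).toEquiv
  · intro a ha
    apply Subtype.ext
    exact hE a ha
  · intro y hy
    rw [mem_subgroupOf]
    apply hC
    refine mem_inf.mpr ⟨?_, y.2⟩
    rw [mem_centralizer_iff] at hy ⊢
    intro w hw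
    have := hy ⟨w, hWH hw⟩ (by exact hw)
    exact congrArg Subtype.val this
  · have h1 : normalizer ((W.subgroupOf H : Subgroup H) : Set H) =
        (normalizer (W : Set G)).subgroupOf H := by
      ext y
      rw [mem_subgroupOf]
      constructor
      · intro hy
        apply mem_normalizer_of_conj_mem
        intro w hw
        have := ((mem_normalizer_iff.mp hy) ⟨w, hWH hw⟩).1 hw
        exact this
      · intro hy
        rw [mem_normalizer_iff]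
        intro w
        exact (mem_normalizer_iff.mp hy) w
    rw [h1, ← hN, ← inf_subgroupOf_right]
    exact Nat.card_congr (Subgroup.subgroupOfEquivOfLe inf_le_right).toEquiv

theorem dvd_card [Finite G] {W₁ W₂ D : Subgroup G} (hE₁ : ∀ a ∈ W₁, a * a = 1)
    (hE₂ : ∀ a ∈ W₂, a * a = 1) (hc₁ : Nat.card W₁ = 4) (hc₂ : Nat.card W₂ = 4) (hne : W₁ ≠ W₂)
    (h12 : W₁ ≤ normalizer (W₂ : Set G)) (hD₁ : W₁ ≤ D) (hD₂ : W₂ ≤ D) {x : G} (hx : x ∈ D)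
    (hx3 : orderOf x = 3) : 24 ∣ Nat.card D := by
  have f2 : Fact (Nat.Prime 2) := ⟨by norm_num⟩
  have hBp : IsPGroup 2 ↥(W₁ ⊔ W₂) :=
    IsPGroup.to_sup_of_normal_right' (isPGroup_of_elem hE₁) (isPGroup_of_elem hE₂) h12
  obtain ⟨n, hn⟩ := hBp.exists_card_eq
  have hlt : 4 < Nat.card ↥(W₁ ⊔ W₂) := by
    have h1 : Nat.card W₁ ≤ Nat.card ↥(W₁ ⊔ W₂) := Subgroup.card_le_of_le le_sup_left
    rcases h1.lt_or_eq with h2 | h2
    · rw [hc₁] at h2; exact h2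
    · exfalso
      have h3 : W₁ = W₁ ⊔ W₂ := Subgroup.eq_of_le_of_card_ge le_sup_left h2.ge
      have h4 : W₂ ≤ W₁ := by rw [h3]; exact le_sup_right
      have h5 : W₂ = W₁ := Subgroup.eq_of_le_of_card_ge h4 (by rw [hc₁, hc₂])
      exact hne h5.symm
  have hn3 : 3 ≤ n := by
    by_contra h
    have h1 : n ≤ 2 := by omega
    have h2 : 2 ^ n ≤ 2 ^ 2 := Nat.pow_le_pow_right (by norm_num) h1
    omega
  have h8 : 8 ∣ Nat.card D := by
    refine dvd_trans ?_ (Subgroup.card_dvd_of_le (sup_le hD₁ hD₂))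
    rw [hn]
    have : (2 : ℕ) ^ 3 ∣ 2 ^ n := Nat.pow_dvd_pow 2 hn3
    simpa using this
  have h3 : 3 ∣ Nat.card D := by
    rw [← hx3, ← Nat.card_zpowers]
    exact Subgroup.card_dvd_of_le (by rw [zpowers_le]; exact hx)
  have : 8 * 3 ∣ Nat.card D := Nat.Coprime.mul_dvd_of_dvd_of_dvd (by norm_num) h8 h3
  exact this

theorem closure_odd_conj (g y : G) (hy : y ∈ closure {g : G | Odd (orderOf g)}) :
    g * y * g⁻¹ ∈ closure {g : G | Odd (orderOf g)} := by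
  have h1 : (closure {g : G | Odd (orderOf g)}).map (MulAut.conj g).toMonoidHom ≤
      closure {g : G | Odd (orderOf g)} := by
    rw [MonoidHom.map_closure, closure_le]
    rintro _ ⟨a, ha, rfl⟩
    apply Subgroup.subset_closure
    have h2 : orderOf ((MulAut.conj g).toMonoidHom a) = orderOf a := by
      change orderOf ((MulAut.conj g) a) = orderOf a
      exact MulEquiv.orderOf_eq _ _
    change Odd _
    rw [h2]
    exact ha
  exact h1 ⟨y, hy, rfl⟩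

theorem com_mem_closure_odd {x u : G} (hx : Odd (orderOf x)) :
    x * u * x⁻¹ * u⁻¹ ∈ closure {g : G | Odd (orderOf g)} := by
  have h1 : x ∈ closure {g : G | Odd (orderOf g)} := Subgroup.subset_closure hx
  have h2 : u * x⁻¹ * u⁻¹ ∈ closure {g : G | Odd (orderOf g)} := closure_odd_conj u _ (inv_mem h1)
  have h3 : x * u * x⁻¹ * u⁻¹ = x * (u * x⁻¹ * u⁻¹) := by group
  rw [h3]
  exact mul_mem h1 h2

theorem good24_le [Finite G] {U : Subgroup G} (h : Good24 U) :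
    U ≤ closure {g : G | Odd (orderOf g)} := by
  obtain ⟨x, hx, hx3, hxC⟩ := h.exists_three
  have hD : U ⊓ closure {g : G | Odd (orderOf g)} = U := by
    apply h.eq_of_invariant inf_le_left
    · intro h0
      apply hxC
      rw [mem_centralizer_iff]
      intro u hu
      have h1 : x * u * x⁻¹ * u⁻¹ ∈ U ⊓ closure {g : G | Odd (orderOf g)} := by
        refine mem_inf.mpr ⟨?_, com_mem_closure_odd (by rw [hx3]; decide)⟩
        exact mul_mem (((mem_normalizer_iff.mp hx) _).1 hu) (inv_mem hu)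
      rw [h0, Subgroup.mem_bot] at h1
      have h8 : x * u * x⁻¹ = u := mul_inv_eq_one.mp h1
      exact (mul_inv_eq_iff_eq_mul.mp h8).symm
    · intro g hg
      apply mem_normalizer_of_conj_mem
      intro a ha
      exact mem_inf.mpr ⟨((mem_normalizer_iff.mp hg) _).1 (mem_inf.mp ha).1,
        closure_odd_conj g a (mem_inf.mp ha).2⟩
  exact inf_eq_left.mp hD

theorem case_one [Finite G] {U₁ U₂ : Subgroup G} (h₁ : Good24 U₁) (h₂ : Good24 U₂)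
    (hne : U₁ ≠ U₂) (h12 : U₁ ≤ normalizer (U₂ : Set G)) (h21 : U₂ ≤ normalizer (U₁ : Set G))
    (H : Subgroup G) (hH : H = closure {g : G | Odd (orderOf g)}) :
    ∃ M₁ M₂ : Subgroup H, M₁ ≠ M₂ ∧ Cfsg.IsMaximalTwoLocal M₁ ∧ Cfsg.IsMaximalTwoLocal M₂ ∧
        Nonempty (M₁ ≃* Equiv.Perm (Fin 4)) ∧ Nonempty (M₂ ≃* Equiv.Perm (Fin 4)) ∧
        Nat.card ↥(M₁ ⊓ M₂) = 8 := by
  have hU₁ : U₁ ≤ H := hH ▸ good24_le h₁
  have hU₂ : U₂ ≤ H := hH ▸ good24_le h₂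
  have key : ∀ {A B : Subgroup G}, Good24 A → Good24 B → A ≠ B → A ≤ normalizer (B : Set G) →
      B ≤ normalizer (A : Set G) → A ≤ H → B ≤ H → Good24 (A.subgroupOf H) := by
    intro A B hA hB hAB hAB1 hBA1 hAH hBH
    refine good24_subgroupOf hAH hA.card hA.elem (inf_le_left.trans hA.cent) ?_
    obtain ⟨x, hx, hx3, hxC⟩ := hA.exists_three
    have h24 : 24 ∣ Nat.card ↥(normalizer (A : Set G) ⊓ H) := by
      refine dvd_card hA.elem hB.elem hA.card hB.card hAB hAB1 (le_inf le_normalizer hAH)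
        (le_inf hBA1 hBH) (x := x) ?_ hx3
      refine mem_inf.mpr ⟨hx, ?_⟩
      rw [hH]
      exact Subgroup.subset_closure (by change Odd _; rw [hx3]; decide)
    have hle : Nat.card ↥(normalizer (A : Set G) ⊓ H) ∣ 24 := by
      rw [← hA.norm]; exact Subgroup.card_dvd_of_le inf_le_left
    exact Nat.dvd_antisymm hle h24
  have g₁ := key h₁ h₂ hne h12 h21 hU₁ hU₂
  have g₂ := key h₂ h₁ hne.symm h21 h12 hU₂ hU₁
  refine two_S4 g₁ g₂ ?_ ?_ ?_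
  · intro h0
    apply hne
    have := congrArg (Subgroup.map H.subtype) h0
    rwa [subgroupOf_map_subtype, subgroupOf_map_subtype, inf_eq_left.mpr hU₁,
      inf_eq_left.mpr hU₂] at this
  · intro y hy
    rw [mem_normalizer_iff]
    intro w
    exact (mem_normalizer_iff.mp (h12 hy)) w
  · intro y hy
    rw [mem_normalizer_iff]
    intro w
    exact (mem_normalizer_iff.mp (h21 hy)) w

theorem case_two [Finite G]
    (hL : Cfsg.IsCharacteristicTwoType G)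
    (hZ : ∀ S : Sylow 2 G,
      Subgroup.centralizer {z : G | z ∈ (S : Subgroup G) ∧ z ^ 2 = 1 ∧ ∀ s ∈ (S : Subgroup G), s * z = z * s} ≤
        Subgroup.normalizer ((S : Subgroup G) : Set G))
    {U₁ U₂ : Subgroup G} {c₁ c₂ : G} (h₁ : Good48 U₁ c₁) (h₂ : Good48 U₂ c₂) (hc : c₁ ≠ c₂)
    (h12 : U₁ ≤ normalizer (U₂ : Set G)) (h21 : U₂ ≤ normalizer (U₁ : Set G))
    (hinf : Nat.card ↥(U₁ ⊓ U₂) = 4)
    (H : Subgroup G) (hH : H = closure {g : G | Odd (orderOf g)}) :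
    ∃ M₁ M₂ : Subgroup H, M₁ ≠ M₂ ∧ Cfsg.IsMaximalTwoLocal M₁ ∧ Cfsg.IsMaximalTwoLocal M₂ ∧
        Nonempty (M₁ ≃* Equiv.Perm (Fin 4)) ∧ Nonempty (M₂ ≃* Equiv.Perm (Fin 4)) ∧
        Nat.card ↥(M₁ ⊓ M₂) = 8 := by
  classical
  obtain ⟨W₁, x₁, d₁⟩ := h₁.exists_W
  obtain ⟨W₂, x₂, d₂⟩ := h₂.exists_W
  -- `c₁, c₂ ∈ U₁ ∩ U₂`
  have hc₁U₂ : c₁ ∈ U₂ := by
    apply h₂.cent
    rw [mem_centralizer_iff]
    intro u hu
    exact h₁.comm u (h21 hu)
  have hc₂U₁ : c₂ ∈ U₁ := by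
    apply h₁.cent
    rw [mem_centralizer_iff]
    intro u hu
    exact h₂.comm u (h12 hu)
  have hUne : U₁ ≠ U₂ := by
    rintro rfl
    rw [inf_idem, h₁.card] at hinf
    norm_num at hinf
  -- a nontrivial commutator
  have hex : ∃ u₁ ∈ U₁, ∃ u₂ ∈ U₂, u₁ * u₂ * u₁⁻¹ * u₂⁻¹ ≠ 1 := by
    by_contra hcon
    push Not at hcon
    have h3 : U₂ ≤ U₁ := by
      refine le_trans ?_ h₁.cent
      intro u₂ hu₂
      rw [mem_centralizer_iff]
      intro u₁ hu₁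
      have h8 := hcon u₁ hu₁ u₂ hu₂
      have h9 : u₁ * u₂ * u₁⁻¹ = u₂ := mul_inv_eq_one.mp h8
      exact mul_inv_eq_iff_eq_mul.mp h9
    exact hUne (Subgroup.eq_of_le_of_card_ge h3 (by rw [h₁.card, h₂.card])).symm
  obtain ⟨u₁, hu₁, u₂, hu₂, hw1⟩ := hex
  set w := u₁ * u₂ * u₁⁻¹ * u₂⁻¹ with hw
  have hwW₁ : w ∈ W₁ := by
    have hN : u₂ ∈ normalizer (W₁ : Set G) := d₁.norm (h21 hu₂)
    rcases d₁.mem_or h₁ hu₁ with h3 | h3
    · have h4 : w = u₁ * (u₂ * u₁⁻¹ * u₂⁻¹) := by rw [hw]; group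
      rw [h4]
      exact mul_mem h3 (((mem_normalizer_iff.mp hN) _).1 (inv_mem h3))
    · have h4 : w = (c₁ * u₁) * (u₂ * (c₁ * u₁)⁻¹ * u₂⁻¹) := by
        have h5 : c₁ * u₁ = u₁ * c₁ := (h₁.comm u₁ (le_normalizer hu₁)).symm
        have h6 : u₂ * c₁ = c₁ * u₂ := h₁.comm u₂ (h21 hu₂)
        have h7 : u₂ * c₁⁻¹ = c₁⁻¹ * u₂ := by
          rw [← mul_inv_eq_iff_eq_mul] at h6
          have : u₂ * c₁⁻¹ = c₁⁻¹ * (c₁ * u₂) * c₁⁻¹ := by group
          rw [this, ← h₁.comm u₂ (h21 hu₂)]; group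
        rw [h5, mul_inv_rev, hw]
        calc u₁ * u₂ * u₁⁻¹ * u₂⁻¹ = u₁ * c₁ * (c₁⁻¹ * u₂) * u₁⁻¹ * u₂⁻¹ := by group
          _ = u₁ * c₁ * (u₂ * c₁⁻¹) * u₁⁻¹ * u₂⁻¹ := by rw [h7]
          _ = u₁ * c₁ * (u₂ * (c₁⁻¹ * u₁⁻¹) * u₂⁻¹) := by group
      rw [h4]
      exact mul_mem h3 (((mem_normalizer_iff.mp hN) _).1 (inv_mem h3))
  have hwW₂ : w ∈ W₂ := by
    have hN : u₁ ∈ normalizer (W₂ : Set G) := d₂.norm (h12 hu₁)
    rcases d₂.mem_or h₂ hu₂ with h3 | h3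
    · have h4 : w = (u₁ * u₂ * u₁⁻¹) * u₂⁻¹ := by rw [hw]
      rw [h4]
      exact mul_mem (((mem_normalizer_iff.mp hN) _).1 h3) (inv_mem h3)
    · have h4 : w = (u₁ * (c₂ * u₂) * u₁⁻¹) * (c₂ * u₂)⁻¹ := by
        have h6 : u₁ * c₂ = c₂ * u₁ := h₂.comm u₁ (h12 hu₁)
        have h7 : u₂ * c₂ = c₂ * u₂ := h₂.comm u₂ (le_normalizer hu₂)
        have h8 : (c₂ * u₂)⁻¹ = c₂⁻¹ * u₂⁻¹ := by rw [← h7, mul_inv_rev]
        rw [h8, hw]
        have h9 : u₁ * (c₂ * u₂) * u₁⁻¹ * (c₂⁻¹ * u₂⁻¹) =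
            (u₁ * c₂) * u₂ * u₁⁻¹ * (c₂⁻¹ * u₂⁻¹) := by group
        rw [h9, h6]
        have h10 : c₂ * u₁ * u₂ * u₁⁻¹ * (c₂⁻¹ * u₂⁻¹) =
            c₂ * (u₁ * u₂ * u₁⁻¹) * c₂⁻¹ * u₂⁻¹ := by group
        rw [h10]
        have h11 : (u₁ * u₂ * u₁⁻¹) * c₂ = c₂ * (u₁ * u₂ * u₁⁻¹) := by
          have : u₁ * u₂ * u₁⁻¹ ∈ U₂ := ((mem_normalizer_iff.mp (h12 hu₁)) _).1 hu₂
          exact h₂.comm _ (le_normalizer this)
        rw [← h11]; group
      rw [h4]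
      exact mul_mem (((mem_normalizer_iff.mp hN) _).1 h3) (inv_mem h3)
  -- it is `z = c₁ c₂`
  have hwz : w = c₁ * c₂ := by
    have hE : ∀ a ∈ U₁ ⊓ U₂, a * a = 1 := fun a ha => h₁.elem a (mem_inf.mp ha).1
    rcases mem_four hinf hE (mem_inf.mpr ⟨h₁.mem, hc₁U₂⟩) (mem_inf.mpr ⟨hc₂U₁, h₂.mem⟩)
      h₁.ne_one h₂.ne_one hc (mem_inf.mpr ⟨d₁.le hwW₁, d₂.le hwW₂⟩) with h3 | h3 | h3 | h3
    · exact absurd h3 hw1
    · exact absurd (h3 ▸ hwW₁) d₁.notMem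
    · exact absurd (h3 ▸ hwW₂) d₂.notMem
    · exact h3
  have hzW₁ : c₁ * c₂ ∈ W₁ := hwz ▸ hwW₁
  have hzW₂ : c₁ * c₂ ∈ W₂ := hwz ▸ hwW₂
  have hz1 : c₁ * c₂ ≠ 1 := hwz ▸ hw1
  -- the transfer step
  have hc₁H : c₁ ∉ H := by
    rw [hH]
    refine Cfsg.Agent.ZN.EndTransfer.transfer_step hZ U₁ U₂ W₁ W₂ h₁.elem h₂.elem h₁.card h₂.card
      h₁.cent h₂.cent h₁.norm h₂.norm h12 h21 hinf c₁ c₂ h₁.mem h₂.mem h₁.ne_one h₂.ne_one hc
      h₁.comm h₂.comm d₁.le d₂.le d₁.card d₂.card d₁.norm d₂.norm d₁.notMem d₂.notMem hzW₁ hzW₂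
      (fun w hw hw1 => d₁.conj h₁ hzW₁ hz1 hw hw1) (fun w hw hw1 => d₂.conj h₂ hzW₂ hz1 hw hw1)
      ?_ ?_
    · intro g hg
      refine d₂.unique h₂ ?_ ?_ ?_
      · rw [← hg]; exact Subgroup.map_mono d₁.le
      · rw [card_map_conj]; exact d₁.card
      · rw [← hg, normalizer_map_conj, normalizer_map_conj]
        exact Subgroup.map_mono d₁.norm
    · intro g hg
      refine d₁.unique h₁ ?_ ?_ ?_
      · rw [← hg]; exact Subgroup.map_mono d₂.le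
      · rw [card_map_conj]; exact d₂.card
      · rw [← hg, normalizer_map_conj, normalizer_map_conj]
        exact Subgroup.map_mono d₂.norm
  -- the `Wᵢ` in `H`
  have hWH : ∀ {U : Subgroup G} {c : G} {W : Subgroup G} {x : G}, WData U c W x → W ≤ H := by
    intro U c W x d w hw
    obtain ⟨u, _, rfl⟩ := d.com w hw
    rw [hH]
    exact com_mem_closure_odd (by rw [d.order]; decide)
  have hc₂H : c₂ ∉ H := by
    intro h3
    apply hc₁H
    have h4 : c₁ * c₂ ∈ H := hWH d₁ hzW₁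
    have h5 : c₁ = (c₁ * c₂) * c₂⁻¹ := by group
    rw [h5]
    exact mul_mem h4 (inv_mem h3)
  have hWne : W₁ ≠ W₂ := by
    rintro rfl
    have h3 : W₁ = U₁ ⊓ U₂ :=
      Subgroup.eq_of_le_of_card_ge (le_inf d₁.le d₂.le) (by rw [hinf, d₁.card])
    apply d₁.notMem
    rw [h3]
    exact mem_inf.mpr ⟨h₁.mem, hc₁U₂⟩
  have key : ∀ {U₁ U₂ : Subgroup G} {c₁ c₂ : G} {W₁ W₂ : Subgroup G} {x₁ x₂ : G},
      Good48 U₁ c₁ → Good48 U₂ c₂ → WData U₁ c₁ W₁ x₁ → WData U₂ c₂ W₂ x₂ → c₁ ∉ H → W₁ ≠ W₂ →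
      W₁ ≤ normalizer (W₂ : Set G) → W₂ ≤ normalizer (W₁ : Set G) → Good24 (W₁.subgroupOf H) := by
    intro U₁ U₂ c₁ c₂ W₁ W₂ x₁ x₂ h₁ h₂ d₁ d₂ hcH hWne hW12 hW21
    have hx₁H : x₁ ∈ H := by
      rw [hH]
      exact Subgroup.subset_closure (by change Odd _; rw [d₁.order]; decide)
    refine good24_subgroupOf (hWH d₁) d₁.card (d₁.elem h₁) ?_ ?_
    · rw [d₁.centralizer_eq hL h₁]
      intro u hu
      obtain ⟨huU, huH⟩ := mem_inf.mp hu
      rcases d₁.mem_or h₁ huU with h3 | h3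
      · exact h3
      · exfalso
        apply hcH
        have h4 : c₁ = (c₁ * u) * u⁻¹ := by group
        rw [h4]
        exact mul_mem (hWH d₁ h3) (inv_mem huH)
    · have h24 : 24 ∣ Nat.card ↥(normalizer (W₁ : Set G) ⊓ H) := by
        exact dvd_card (d₁.elem h₁) (d₂.elem h₂) d₁.card d₂.card hWne hW12
          (le_inf le_normalizer (hWH d₁)) (le_inf hW21 (hWH d₂)) (x := x₁)
          (mem_inf.mpr ⟨d₁.norm d₁.memN, hx₁H⟩) d₁.order
      have h48 : Nat.card ↥(normalizer (W₁ : Set G) ⊓ H) ∣ 48 := by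
        rw [← h₁.norm, ← d₁.normalizer_eq hL h₁]
        exact Subgroup.card_dvd_of_le inf_le_left
      have hne : Nat.card ↥(normalizer (W₁ : Set G) ⊓ H) ≠ 48 := by
        intro h3
        have h4 : normalizer (W₁ : Set G) ⊓ H = normalizer (W₁ : Set G) := by
          apply Subgroup.eq_of_le_of_card_ge inf_le_left
          rw [h3, d₁.normalizer_eq hL h₁, h₁.norm]
        have h5 : c₁ ∈ normalizer (W₁ : Set G) := d₁.norm (le_normalizer h₁.mem)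
        rw [← h4] at h5
        exact hcH (mem_inf.mp h5).2
      obtain ⟨k, hk⟩ := h24
      rw [hk] at h48 hne ⊢
      have h6 : 24 * k ∣ 24 * 2 := h48
      have h7 : k ∣ 2 := Nat.dvd_of_mul_dvd_mul_left (by norm_num) h6
      rcases (Nat.dvd_prime (by norm_num)).mp h7 with rfl | rfl
      · rfl
      · exact absurd rfl hne
  have hW12 : W₁ ≤ normalizer (W₂ : Set G) := (d₁.le.trans h12).trans d₂.norm
  have hW21 : W₂ ≤ normalizer (W₁ : Set G) := (d₂.le.trans h21).trans d₁.norm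
  have g₁ := key h₁ h₂ d₁ d₂ hc₁H hWne hW12 hW21
  have g₂ := key h₂ h₁ d₂ d₁ hc₂H hWne.symm hW21 hW12
  refine two_S4 g₁ g₂ ?_ ?_ ?_
  · intro h0
    apply hWne
    have := congrArg (Subgroup.map H.subtype) h0
    rwa [subgroupOf_map_subtype, subgroupOf_map_subtype, inf_eq_left.mpr (hWH d₁),
      inf_eq_left.mpr (hWH d₂)] at this
  · intro y hy
    rw [mem_normalizer_iff]
    intro w
    exact (mem_normalizer_iff.mp (hW12 hy)) w
  · intro y hy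
    rw [mem_normalizer_iff]
    intro w
    exact (mem_normalizer_iff.mp (hW21 hy)) w

/-- Final step of S0518: from the two self-centralizing elementary abelian 2-subgroups `U₁, U₂` of order
`4e` (`e = 1, 2`) to the conclusion about the subgroup generated by the elements of odd order. -/
theorem final_step {G : Type*} [Group G] [Finite G]
    (hL : Cfsg.IsCharacteristicTwoType G)
    (hZ : ∀ S : Sylow 2 G,
      Subgroup.centralizer {z : G | z ∈ (S : Subgroup G) ∧ z ^ 2 = 1 ∧ ∀ s ∈ (S : Subgroup G), s * z = z * s} ≤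
        Subgroup.normalizer ((S : Subgroup G) : Set G))
    (e : ℕ) (he : e = 1 ∨ e = 2) (U₁ U₂ : Subgroup G)
    (hE₁ : ∀ a ∈ U₁, a * a = 1) (hE₂ : ∀ a ∈ U₂, a * a = 1)
    (hcard₁ : Nat.card U₁ = 4 * e) (hcard₂ : Nat.card U₂ = 4 * e)
    (hC₁ : Subgroup.centralizer (U₁ : Set G) ≤ U₁) (hC₂ : Subgroup.centralizer (U₂ : Set G) ≤ U₂)
    (hN₁ : Nat.card (Subgroup.normalizer (U₁ : Set G)) = 24 * e)
    (hN₂ : Nat.card (Subgroup.normalizer (U₂ : Set G)) = 24 * e)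
    (h12 : U₁ ≤ Subgroup.normalizer (U₂ : Set G)) (h21 : U₂ ≤ Subgroup.normalizer (U₁ : Set G))
    (hinf : Nat.card ↥(U₁ ⊓ U₂) = 2 * e)
    (hc : e = 2 → ∃ c₁ ∈ U₁, ∃ c₂ ∈ U₂, c₁ ≠ 1 ∧ c₂ ≠ 1 ∧ c₁ ≠ c₂ ∧
      (∀ x ∈ Subgroup.normalizer (U₁ : Set G), x * c₁ = c₁ * x) ∧
      (∀ x ∈ Subgroup.normalizer (U₂ : Set G), x * c₂ = c₂ * x))
    (H : Subgroup G) (hH : H = Subgroup.closure {g : G | Odd (orderOf g)}) :
    ∃ M₁ M₂ : Subgroup H, M₁ ≠ M₂ ∧ Cfsg.IsMaximalTwoLocal M₁ ∧ Cfsg.IsMaximalTwoLocal M₂ ∧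
        Nonempty (M₁ ≃* Equiv.Perm (Fin 4)) ∧ Nonempty (M₂ ≃* Equiv.Perm (Fin 4)) ∧ Nat.card ↥(M₁ ⊓ M₂) = 8 := by
  rcases he with rfl | rfl
  · have hne : U₁ ≠ U₂ := by
      rintro rfl
      rw [inf_idem, hcard₁] at hinf
      norm_num at hinf
    exact case_one ⟨hcard₁, hE₁, hC₁, hN₁⟩ ⟨hcard₂, hE₂, hC₂, hN₂⟩ hne h12 h21 H hH
  · obtain ⟨c₁, hc₁, c₂, hc₂, hc₁1, hc₂1, hcne, hcen₁, hcen₂⟩ := hc rfl
    exact case_two hL hZ ⟨hcard₁, hE₁, hC₁, hN₁, hc₁, hc₁1, hcen₁⟩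
      ⟨hcard₂, hE₂, hC₂, hN₂, hc₂, hc₂1, hcen₂⟩ hcne h12 h21 hinf H hH

end Cfsg.Agent.Classification.ZNFinal
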